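import Mathlib

/-!
# Linear groups: orders, centres, transvection generation, derived subgroups, simplicity

Everything is stated for an arbitrary finite index type `n`.
-/

namespace Cfsg.Agent.Classical.Linear

set_option linter.unusedSectionVars false
set_option linter.unusedSimpArgs false

open Matrix
open scoped MatrixGroups commutatorElement

/-! ### Cyclic unit group of a finite field -/

section units

variable {F : Type*} [Field F] [Fintype F]

theorem natCard_units_eq : Nat.card Fˣ = Fintype.card F - 1 := by
  rw [Nat.card_units, Nat.card_eq_fintype_card]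

theorem natCard_rootsOfUnity_eq_gcd (k : ℕ) :
    Nat.card (rootsOfUnity k F) = Nat.gcd k (Fintype.card F - 1) := by
  have h : rootsOfUnity k F = (powMonoidHom k : Fˣ →* Fˣ).ker := by
    ext x; simp [mem_rootsOfUnity]
  rw [h, IsCyclic.card_powMonoidHom_ker, natCard_units_eq, Nat.gcd_comm]

theorem one_lt_card_field : 1 < Fintype.card F := Fintype.one_lt_card

end units

/-! ### Orders -/

section orders

variable {n : Type*} [Fintype n] [DecidableEq n]

theorem range_toGL_eq_ker_det {R : Type*} [CommRing R] :
    (SpecialLinearGroup.toGL : SpecialLinearGroup n R →* GL n R).range =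
      (GeneralLinearGroup.det : GL n R →* Rˣ).ker := by
  ext g
  constructor
  · rintro ⟨s, rfl⟩
    exact Units.ext (by simp)
  · intro hg
    exact ⟨⟨g.1, by simpa using congrArg Units.val hg⟩, Units.ext rfl⟩

theorem natCard_SL_eq_ker {R : Type*} [CommRing R] :
    Nat.card (SpecialLinearGroup n R) = Nat.card (GeneralLinearGroup.det : GL n R →* Rˣ).ker := by
  rw [← range_toGL_eq_ker_det]
  exact Nat.card_congr (MonoidHom.ofInjective SpecialLinearGroup.toGL_injective).toEquiv

variable {F : Type*} [Field F] [Fintype F]

theorem det_surjective_of_nonempty [Nonempty n] :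
    Function.Surjective (GeneralLinearGroup.det : GL n F →* Fˣ) :=
  GeneralLinearGroup.det_surjective

theorem natCard_GL_eq_mul [Nonempty n] :
    Nat.card (GL n F) = (Fintype.card F - 1) * Nat.card (SpecialLinearGroup n F) := by
  rw [natCard_SL_eq_ker, ← (GeneralLinearGroup.det : GL n F →* Fˣ).ker.index_mul_card,
    Subgroup.index_ker, MonoidHom.range_eq_top.2 det_surjective_of_nonempty, Subgroup.card_top,
    natCard_units_eq]

theorem natCard_center_SL (n : Type*) [Fintype n] [DecidableEq n] [Nonempty n] :
    Nat.card (Subgroup.center (SpecialLinearGroup n F)) =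
      Nat.gcd (Fintype.card n) (Fintype.card F - 1) := by
  rw [Nat.card_congr (SpecialLinearGroup.center_equiv_rootsOfUnity (n := n) (R := F)).toEquiv,
    natCard_rootsOfUnity_eq_gcd, max_eq_left (NeZero.one_le : 1 ≤ Fintype.card n)]

theorem natCard_PSL_mul_center :
    Nat.card (Subgroup.center (SpecialLinearGroup n F)) * Nat.card (ProjectiveSpecialLinearGroup n F) =
      Nat.card (SpecialLinearGroup n F) :=
  Subgroup.card_mul_index _

theorem natCard_center_GL [Nonempty n] :
    Nat.card (Subgroup.center (GL n F)) = Fintype.card F - 1 := by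
  rw [GeneralLinearGroup.center_eq_range_scalar, ← natCard_units_eq]
  refine (Nat.card_congr (MonoidHom.ofInjective ?_).toEquiv).symm
  intro u v h
  obtain ⟨i⟩ := ‹Nonempty n›
  have := congrArg (fun g : GL n F => (g : Matrix n n F) i i) h
  simpa [Units.ext_iff] using this

theorem natCard_PGL [Nonempty n] :
    Nat.card (ProjGenLinGroup n F) = Nat.card (SpecialLinearGroup n F) := by
  have h : (Subgroup.center (GL n F)).index * Nat.card (Subgroup.center (GL n F)) =
      Nat.card (GL n F) := Subgroup.index_mul_card _
  rw [natCard_GL_eq_mul, natCard_center_GL, mul_comm (Fintype.card F - 1)] at h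
  have hpos : 0 < Fintype.card F - 1 := by
    have := one_lt_card_field (F := F); omega
  exact Nat.eq_of_mul_eq_mul_right hpos h

theorem natCard_GL_fin (k : ℕ) :
    Nat.card (GL (Fin k) F) = ∏ i : Fin k, (Fintype.card F ^ k - Fintype.card F ^ (i : ℕ)) :=
  Matrix.card_GL_field k

theorem mul_natCard_SL_fin {k : ℕ} (hk : 1 ≤ k) :
    (Fintype.card F - 1) * Nat.card (SpecialLinearGroup (Fin k) F) =
      ∏ i : Fin k, (Fintype.card F ^ k - Fintype.card F ^ (i : ℕ)) := by
  have : Nonempty (Fin k) := ⟨⟨0, hk⟩⟩
  rw [← natCard_GL_eq_mul, natCard_GL_fin]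

theorem gcd_mul_natCard_PSL_fin {k : ℕ} (hk : 1 ≤ k) :
    Nat.gcd k (Fintype.card F - 1) * Nat.card (ProjectiveSpecialLinearGroup (Fin k) F) =
      Nat.card (SpecialLinearGroup (Fin k) F) := by
  have : Nonempty (Fin k) := ⟨⟨0, hk⟩⟩
  conv_rhs => rw [← natCard_PSL_mul_center, natCard_center_SL, Fintype.card_fin]

end orders

/-! ### Transvections generate `SL`, derived subgroups -/

section generation

variable {n : Type*} [Fintype n] [DecidableEq n]

/-- The set of elementary transvections of `SL n R`. -/
def transvectionSet (n R : Type*) [Fintype n] [DecidableEq n] [CommRing R] :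
    Set (SpecialLinearGroup n R) :=
  {g | ∃ (i j : n) (h : i ≠ j) (c : R), g = SpecialLinearGroup.transvection h c}

theorem transvection_smul_apply {R : Type*} [CommRing R] {i j : n} (h : i ≠ j) (c : R)
    (v : n → R) (k : n) :
    ((SpecialLinearGroup.transvection h c : SpecialLinearGroup n R) • v) k =
      v k + if k = i then c * v j else 0 := by
  rw [Matrix.SpecialLinearGroup.smul_def, Matrix.smul_eq_mulVec, SpecialLinearGroup.transvection_coe, Matrix.add_mulVec, Matrix.one_mulVec, Pi.add_apply,
    Matrix.single_mulVec, Function.update_apply]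
  split_ifs <;> simp

theorem transvection_mulVec_apply {R : Type*} [CommRing R] (i j : n) (c : R) (v : n → R) (k : n) :
    (Matrix.transvection i j c *ᵥ v) k = v k + if k = i then c * v j else 0 := by
  rw [Matrix.transvection, Matrix.add_mulVec, Matrix.one_mulVec, Pi.add_apply,
    Matrix.single_mulVec, Function.update_apply]
  split_ifs <;> simp

theorem eq_of_mulVec {R : Type*} [CommRing R] {g h : SpecialLinearGroup n R}
    (H : ∀ (v : n → R) k, (g • v) k = (h • v) k) : g = h :=
  Subtype.ext (Matrix.ext_iff_mulVec.2 fun v => funext (H v))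

variable {F : Type*} [Field F]

theorem diag2n_eq_transvections {i j : n} (hij : i ≠ j) (a : F) (ha : a ≠ 0) :
    SpecialLinearGroup.diag2n hij a ha =
      SpecialLinearGroup.transvection hij a *
      SpecialLinearGroup.transvection hij.symm (-a⁻¹) *
      SpecialLinearGroup.transvection hij a *
      SpecialLinearGroup.transvection hij (-1) *
      SpecialLinearGroup.transvection hij.symm 1 *
      SpecialLinearGroup.transvection hij (-1) := by
  refine eq_of_mulVec fun v k => ?_
  rw [Matrix.SpecialLinearGroup.smul_def (SpecialLinearGroup.diag2n hij a ha)]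
  simp only [mul_smul, transvection_smul_apply, Matrix.smul_eq_mulVec,
    SpecialLinearGroup.diag2n_coe, Matrix.mulVec_diagonal]
  rcases eq_or_ne k i with rfl | hki
  · simp [hij, hij.symm]; field_simp; ring
  rcases eq_or_ne k j with rfl | hkj
  · simp [hij, hij.symm, hki]; field_simp; ring
  · simp [hki, hkj]

theorem closure_transvectionSet : Subgroup.closure (transvectionSet n F) = ⊤ := by
  refine eq_top_iff.2 fun g _ => ?_
  rcases subsingleton_or_nontrivial n with hn | hn
  · rw [Subsingleton.elim g 1]; exact one_mem _
  have ht : ∀ (i j : n) (h : i ≠ j) (c : F),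
      SpecialLinearGroup.transvection h c ∈ Subgroup.closure (transvectionSet n F) :=
    fun i j h c => Subgroup.subset_closure ⟨i, j, h, c, rfl⟩
  refine SpecialLinearGroup.diagonal_transvection_induction'
    (fun g => g ∈ Subgroup.closure (transvectionSet n F)) g ?_ ht fun _ _ => mul_mem
  intro i j hij c hc
  rw [diag2n_eq_transvections hij c hc]
  refine mul_mem (mul_mem (mul_mem (mul_mem (mul_mem ?_ ?_) ?_) ?_) ?_) ?_
  all_goals exact ht _ _ _ _

theorem eq_top_of_transvection_mem (H : Subgroup (SpecialLinearGroup n F))
    (h : ∀ (i j : n) (hij : i ≠ j) (c : F), SpecialLinearGroup.transvection hij c ∈ H) : H = ⊤ := by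
  rw [eq_top_iff, ← closure_transvectionSet, Subgroup.closure_le]
  rintro g ⟨i, j, hij, c, rfl⟩
  exact h i j hij c

/-- The Steinberg relation. -/
theorem commutator_transvection {R : Type*} [CommRing R] {i j k : n} (hij : i ≠ j) (hik : i ≠ k)
    (hkj : k ≠ j) (a b : R) :
    ⁅SpecialLinearGroup.transvection hik a, SpecialLinearGroup.transvection hkj b⁆ =
      (SpecialLinearGroup.transvection hij (a * b) : SpecialLinearGroup n R) := by
  refine eq_of_mulVec fun v l => ?_
  simp only [commutatorElement_def, SpecialLinearGroup.transvection_inv,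
    mul_smul, transvection_smul_apply]
  rcases eq_or_ne l i with rfl | hli
  · simp [hij, hik, hij.symm, hik.symm, hkj, hkj.symm]; ring
  rcases eq_or_ne l k with rfl | hlk
  · simp [hij, hik, hij.symm, hik.symm, hkj, hkj.symm]
  · simp [hli, hlk]

theorem exists_third (h3 : 3 ≤ Fintype.card n) (i j : n) : ∃ k, k ≠ i ∧ k ≠ j := by
  obtain ⟨k, hk⟩ : ∃ k, k ∉ ({i, j} : Finset n) := by
    by_contra hc
    push Not at hc
    have h2 : Fintype.card n ≤ ({i, j} : Finset n).card := Finset.card_le_card fun x _ => hc x
    have := Finset.card_le_two (a := i) (b := j)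
    omega
  simp only [Finset.mem_insert, Finset.mem_singleton, not_or] at hk
  exact ⟨k, hk⟩

theorem commutator_SL_eq_top (h3 : 3 ≤ Fintype.card n) :
    commutator (SpecialLinearGroup n F) = ⊤ := by
  refine eq_top_of_transvection_mem _ fun i j hij c => ?_
  obtain ⟨k, hki, hkj⟩ := exists_third h3 i j
  rw [← mul_one c, ← commutator_transvection hij hki.symm hkj c 1]
  exact Subgroup.commutator_mem_commutator (Subgroup.mem_top _) (Subgroup.mem_top _)

theorem commutator_GL_le : commutator (GL n F) ≤ (GeneralLinearGroup.det : GL n F →* Fˣ).ker :=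
  Abelianization.commutator_subset_ker _

theorem commutator_GL_eq_ker (h : Fintype.card n = 2 → ∃ a : F, a ≠ 0 ∧ a ≠ 1) :
    commutator (GL n F) = (GeneralLinearGroup.det : GL n F →* Fˣ).ker := by
  refine le_antisymm commutator_GL_le ?_
  rw [← range_toGL_eq_ker_det, MonoidHom.range_eq_map]
  rcases le_or_gt 3 (Fintype.card n) with h3 | h3
  · rw [← commutator_SL_eq_top h3, map_commutator_eq]
    exact Subgroup.commutator_mono le_top le_top
  rcases subsingleton_or_nontrivial n with hn | hn
  · rw [Subgroup.map_le_iff_le_comap]
    intro g _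
    rw [Subsingleton.elim g 1]; exact one_mem _
  have h2 : Fintype.card n = 2 := by
    have := Fintype.one_lt_card (α := n); omega
  obtain ⟨a, ha0, ha1⟩ := h h2
  rw [← closure_transvectionSet, MonoidHom.map_closure, Subgroup.closure_le]
  rintro _ ⟨g, ⟨i, j, hij, c, rfl⟩, rfl⟩
  set d : GL n F := GeneralLinearGroup.mkOfDetNeZero (diagonal fun k => if k = i then a else 1)
    (by simp [Finset.prod_ite, ha0]) with hd
  set t : GL n F := SpecialLinearGroup.toGL (SpecialLinearGroup.transvection hij (c / (a - 1)))
    with ht
  have key : d * t = SpecialLinearGroup.toGL (SpecialLinearGroup.transvection hij c) * t * d := by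
    refine Units.ext ?_
    have ha : a - 1 ≠ 0 := sub_ne_zero.2 ha1
    change (diagonal fun k => if k = i then a else 1) * Matrix.transvection i j (c / (a - 1)) =
      Matrix.transvection i j c * Matrix.transvection i j (c / (a - 1)) *
        (diagonal fun k => if k = i then a else 1)
    refine Matrix.ext_iff_mulVec.2 fun v => funext fun k => ?_
    simp only [← Matrix.mulVec_mulVec, Matrix.mulVec_diagonal, transvection_mulVec_apply]
    rcases eq_or_ne k i with rfl | hki
    · simp [hij.symm]; field_simp; ring
    · simp [hki]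
  have heq : SpecialLinearGroup.toGL (SpecialLinearGroup.transvection hij c) = ⁅d, t⁆ := by
    rw [commutatorElement_def, key]; group
  rw [SetLike.mem_coe, heq]
  exact Subgroup.commutator_mem_commutator (Subgroup.mem_top _) (Subgroup.mem_top _)

end generation

/-! ### Simplicity -/

section simple

open scoped LinearAlgebra.Projectivization
open MulAction Matrix.SpecialLinearGroup

variable {n : Type*} [Fintype n] [DecidableEq n] {F : Type*} [Field F]

theorem iSup_lineStab_eq_top :
    (⨆ p : ℙ F (n → F), lineStab p.submodule) = (⊤ : Subgroup (SpecialLinearGroup n F)) := by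
  refine eq_top_of_transvection_mem _ fun i j hij c => ?_
  have h0 : (Pi.single i 1 : n → F) ≠ 0 := Pi.single_ne_zero_iff.2 one_ne_zero
  refine Subgroup.mem_iSup_of_mem (Projectivization.mk F _ h0) ?_
  rw [Projectivization.submodule_mk]
  exact SL2Gen.transvection_mem_lineStab hij c

theorem iSup_iwasawaT_eq_top : iSup (PSL.iwasawaT (F := F) (ι := n)) = ⊤ := by
  have step : iSup (PSL.iwasawaT (F := F) (ι := n)) =
      Subgroup.map (QuotientGroup.mk' (Subgroup.center (SpecialLinearGroup n F)))
        (⨆ p : ℙ F (n → F), lineStab p.submodule) := by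
    rw [Subgroup.map_iSup]
  rw [step, iSup_lineStab_eq_top]
  exact Subgroup.map_top_of_surjective _ (QuotientGroup.mk'_surjective _)

/-- The Iwasawa structure of `PSL n F` on projective space. -/
noncomputable def pslIwasawa (n F : Type*) [Fintype n] [DecidableEq n] [Field F] :
    IwasawaStructure (ProjectiveSpecialLinearGroup n F) (ℙ F (n → F)) where
  T := PSL.iwasawaT
  is_comm p := by
    have hSL : IsMulCommutative (lineStab (F := F) (ι := n) p.submodule) := by
      rw [← Projectivization.mk_rep p, Projectivization.submodule_mk]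
      exact lineStab_isMulCommutative_of_span p.rep p.rep_nonzero
    exact Subgroup.map_isMulCommutative _ _
  is_conj g p := by
    obtain ⟨g_SL, rfl⟩ := QuotientGroup.mk_surjective g
    rw [Matrix.ProjectiveSpecialLinearGroup.smul_proj_mk]
    change Subgroup.map _ _ = _
    rw [PSL.smul_submodule, Matrix.SpecialLinearGroup.lineStab_smul, PSL.iwasawaT_map_conj]
  is_generator := iSup_iwasawaT_eq_top

theorem isSimpleGroup_PSL_of_perfect [Nontrivial n]
    (h : commutator (SpecialLinearGroup n F) = ⊤) :
    IsSimpleGroup (ProjectiveSpecialLinearGroup n F) := by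
  have : Group.IsPerfect (SpecialLinearGroup n F) := ⟨h⟩
  have hp : commutator (ProjectiveSpecialLinearGroup n F) = ⊤ :=
    (inferInstance : Group.IsPerfect (ProjectiveSpecialLinearGroup n F)).commutator_eq_top
  have := SL2Simple.PSL_nontrivial (ι := n) (F := F)
  exact IwasawaStructure.isSimpleGroup hp (pslIwasawa n F) inferInstance

theorem isSimpleGroup_PSL (h3 : 3 ≤ Fintype.card n) :
    IsSimpleGroup (ProjectiveSpecialLinearGroup n F) := by
  have : Nontrivial n := Fintype.one_lt_card_iff_nontrivial.1 (by omega)
  exact isSimpleGroup_PSL_of_perfect (commutator_SL_eq_top h3)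

/-- `PSL₂` over a finite field with at least four elements, and `PSL_n` for `n ≥ 3`. -/
theorem isSimpleGroup_PSL_fin {n : ℕ} [Fintype F] (hn : 2 ≤ n)
    (h : n = 2 → 4 ≤ Fintype.card F) :
    IsSimpleGroup (ProjectiveSpecialLinearGroup (Fin n) F) := by
  rcases eq_or_ne n 2 with rfl | hne
  · exact ProjectiveSpecialLinearGroup.rank_two_simple
      (by rw [Nat.card_eq_fintype_card]; exact h rfl)
  · exact isSimpleGroup_PSL (by rw [Fintype.card_fin]; omega)

end simple

end Cfsg.Agent.Classical.Linear
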