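import Mathlib
import Cfsg.Agent.Lib.Classical.Linear

/-!
# Unipotent Sylow subgroups of `GL₂` and `SL₂` over a finite field
-/

namespace Cfsg.Agent.Classical.GL2

open Matrix
open scoped MatrixGroups Pointwise

set_option linter.unusedSectionVars false
set_option linter.unusedSimpArgs false

variable {F : Type*} [Field F]

/-- The matrix `[[1, c], [0, 1]]` in `SL₂`. -/
def uniSL (c : F) : SL(2, F) := ⟨!![1, c; 0, 1], by simp [det_fin_two]⟩

/-- The matrix `[[1, 0], [c, 1]]` in `SL₂`. -/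
def lowSL (c : F) : SL(2, F) := ⟨!![1, 0; c, 1], by simp [det_fin_two]⟩

theorem coe_uniSL (c : F) : (uniSL c : Matrix (Fin 2) (Fin 2) F) = !![1, c; 0, 1] := rfl

theorem coe_lowSL (c : F) : (lowSL c : Matrix (Fin 2) (Fin 2) F) = !![1, 0; c, 1] := rfl

theorem sl_ext {n : Type*} [Fintype n] [DecidableEq n] {R : Type*} [CommRing R]
    {g h : SpecialLinearGroup n R} (H : (g : Matrix n n R) = (h : Matrix n n R)) : g = h :=
  Subtype.ext H

theorem uniSL_zero : uniSL (0 : F) = 1 := by
  refine sl_ext ?_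
  rw [coe_uniSL, Matrix.SpecialLinearGroup.coe_one, one_fin_two]

theorem uniSL_mul (a b : F) : uniSL a * uniSL b = uniSL (a + b) := by
  refine sl_ext ?_
  rw [Matrix.SpecialLinearGroup.coe_mul, coe_uniSL, coe_uniSL, coe_uniSL]
  simp [add_comm]

theorem uniSL_inv (a : F) : (uniSL a)⁻¹ = uniSL (-a) :=
  inv_eq_of_mul_eq_one_right (by rw [uniSL_mul, add_neg_cancel, uniSL_zero])

/-- The upper unitriangular homomorphism. -/
def uniHom (F : Type*) [Field F] : Multiplicative F →* SL(2, F) where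
  toFun c := uniSL c.toAdd
  map_one' := uniSL_zero
  map_mul' _ _ := (uniSL_mul _ _).symm

/-- The upper unitriangular homomorphism into `GL₂`. -/
def uniHomGL (F : Type*) [Field F] : Multiplicative F →* GL (Fin 2) F :=
  Matrix.SpecialLinearGroup.toGL.comp (uniHom F)

theorem coe_uniHom (c : Multiplicative F) :
    (uniHom F c : Matrix (Fin 2) (Fin 2) F) = !![1, c.toAdd; 0, 1] := rfl

theorem coe_uniHomGL (c : Multiplicative F) :
    (uniHomGL F c : Matrix (Fin 2) (Fin 2) F) = !![1, c.toAdd; 0, 1] := rfl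

theorem uniHom_injective : Function.Injective (uniHom F) := by
  intro a b h
  have := congrArg (fun g : SL(2, F) => (g : Matrix (Fin 2) (Fin 2) F) 0 1) h
  simpa [coe_uniHom] using this

theorem uniHomGL_injective : Function.Injective (uniHomGL F) :=
  Matrix.SpecialLinearGroup.toGL_injective.comp uniHom_injective

/-- The unitriangular subgroup of `SL₂`. -/
abbrev U (F : Type*) [Field F] : Subgroup SL(2, F) := (uniHom F).range

/-- The unitriangular subgroup of `GL₂`. -/
abbrev UGL (F : Type*) [Field F] : Subgroup (GL (Fin 2) F) := (uniHomGL F).range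

theorem natCard_U : Nat.card (U F) = Nat.card F :=
  (Nat.card_congr (MonoidHom.ofInjective uniHom_injective).toEquiv).symm

theorem natCard_UGL : Nat.card (UGL F) = Nat.card F :=
  (Nat.card_congr (MonoidHom.ofInjective uniHomGL_injective).toEquiv).symm

theorem apply_one_zero_of_commute {g : Matrix (Fin 2) (Fin 2) F} {c d : F} (hc : c ≠ 0)
    (h : !![1, c; 0, 1] * g = g * !![1, d; 0, 1]) : g 1 0 = 0 := by
  have h00 := congrFun (congrFun h 0) 0
  simpa [Matrix.mul_apply, Fin.sum_univ_two, hc] using h00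

theorem commute_of_apply_one_zero {g : Matrix (Fin 2) (Fin 2) F} (h10 : g 1 0 = 0)
    {c d : F} (hd : c * g 1 1 = g 0 0 * d) : !![1, c; 0, 1] * g = g * !![1, d; 0, 1] := by
  ext i j
  fin_cases i <;> fin_cases j <;>
    simp [Matrix.mul_apply, Fin.sum_univ_two, h10]
  rw [hd, add_comm]

theorem GL_apply_zero_zero_ne_zero (g : GL (Fin 2) F) (h10 : g 1 0 = 0) :
    g 0 0 ≠ 0 ∧ g 1 1 ≠ 0 := by
  have hd : (g : Matrix (Fin 2) (Fin 2) F).det ≠ 0 := (Matrix.GeneralLinearGroup.det g).ne_zero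
  rw [det_fin_two] at hd
  constructor <;> intro h <;> simp [h, h10] at hd

/-- The core computation for `GL₂`. -/
theorem apply_one_zero_of_conj_mem (g : GL (Fin 2) F) {y : GL (Fin 2) F} (hy : y ∈ UGL F)
    (hy1 : y ≠ 1) (h : g⁻¹ * y * g ∈ UGL F) : g 1 0 = 0 := by
  obtain ⟨c, rfl⟩ := hy
  obtain ⟨d, hd⟩ := h
  have hc : c.toAdd ≠ 0 := by
    intro h0
    exact hy1 (by rw [show c = 1 from h0, map_one])
  refine apply_one_zero_of_commute (d := d.toAdd) hc ?_
  have := congrArg (fun z : GL (Fin 2) F => ((g * z : GL (Fin 2) F) : Matrix (Fin 2) (Fin 2) F)) hd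
  simp only [mul_assoc, mul_inv_cancel_left, Units.val_mul, coe_uniHomGL] at this
  exact this.symm

theorem conj_mem_UGL {g : GL (Fin 2) F} (h10 : g 1 0 = 0) {y : GL (Fin 2) F} (hy : y ∈ UGL F) :
    g * y * g⁻¹ ∈ UGL F := by
  obtain ⟨d, rfl⟩ := hy
  obtain ⟨h0, h1⟩ := GL_apply_zero_zero_ne_zero g h10
  refine ⟨Multiplicative.ofAdd (g 0 0 * d.toAdd / g 1 1), ?_⟩
  rw [eq_mul_inv_iff_mul_eq]
  refine Units.ext ?_
  simp only [Units.val_mul, coe_uniHomGL, toAdd_ofAdd]
  exact commute_of_apply_one_zero h10 (div_mul_cancel₀ _ h1)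

theorem mem_normalizer_UGL_iff [Finite F] (g : GL (Fin 2) F) :
    g ∈ Subgroup.normalizer (UGL F : Set (GL (Fin 2) F)) ↔ g 1 0 = 0 := by
  constructor
  · intro h
    have hu : uniHomGL F (Multiplicative.ofAdd 1) ≠ 1 := by
      intro h1
      have := uniHomGL_injective (h1.trans (map_one _).symm)
      exact one_ne_zero (α := F) (congrArg Multiplicative.toAdd this)
    refine apply_one_zero_of_conj_mem g ⟨_, rfl⟩ hu ?_
    have := (Subgroup.mem_normalizer_iff.1 (inv_mem h) (uniHomGL F (Multiplicative.ofAdd 1))).1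
      ⟨_, rfl⟩
    simpa using this
  · intro h10
    rw [Subgroup.mem_normalizer_iff]
    intro y
    refine ⟨fun hy => conj_mem_UGL h10 hy, fun hy => ?_⟩
    have hi : (g⁻¹ : GL (Fin 2) F) 1 0 = 0 := by
      rw [Matrix.coe_units_inv, Matrix.inv_def, adjugate_fin_two]
      simp [h10]
    have := conj_mem_UGL hi hy
    simpa [mul_assoc] using this

section finite

variable [Fintype F]

/-- `{g ∈ GL₂ | g₁₀ = 0}` as triples. -/
def borelEquiv : {g : GL (Fin 2) F // g 1 0 = 0} ≃ Fˣ × Fˣ × F where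
  toFun g := ⟨Units.mk0 _ (GL_apply_zero_zero_ne_zero g.1 g.2).1,
    Units.mk0 _ (GL_apply_zero_zero_ne_zero g.1 g.2).2, g.1 0 1⟩
  invFun t := ⟨GeneralLinearGroup.mkOfDetNeZero !![(t.1 : F), t.2.2; 0, (t.2.1 : F)]
    (by simp [det_fin_two]), by simp⟩
  left_inv g := by
    refine Subtype.ext (Units.ext ?_)
    ext i j
    fin_cases i <;> fin_cases j <;> simp [g.2]
  right_inv t := by
    obtain ⟨a, b, c⟩ := t
    simp

/-- `{g ∈ GL₂ | g₁₀ = 0, g₀₀ = g₁₁}` as pairs. -/
def centralizerEquiv : {g : GL (Fin 2) F // g 1 0 = 0 ∧ g 0 0 = g 1 1} ≃ Fˣ × F where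
  toFun g := ⟨Units.mk0 _ (GL_apply_zero_zero_ne_zero g.1 g.2.1).1, g.1 0 1⟩
  invFun t := ⟨GeneralLinearGroup.mkOfDetNeZero !![(t.1 : F), t.2; 0, (t.1 : F)]
    (by simp [det_fin_two]), by simp⟩
  left_inv g := by
    refine Subtype.ext (Units.ext ?_)
    ext i j
    fin_cases i <;> fin_cases j <;> simp [g.2.1, g.2.2]
  right_inv t := by
    obtain ⟨a, c⟩ := t
    simp

theorem natCard_normalizer_UGL :
    Nat.card (Subgroup.normalizer (UGL F : Set (GL (Fin 2) F))) =
      Fintype.card F * (Fintype.card F - 1) ^ 2 := by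
  rw [Nat.card_congr ((Equiv.subtypeEquivRight fun g => mem_normalizer_UGL_iff g).trans borelEquiv)]
  simp only [Nat.card_prod, Linear.natCard_units_eq, Nat.card_eq_fintype_card (α := F)]
  ring

theorem natCard_centralizer_uniHomGL {c : F} (hc : c ≠ 0) :
    Nat.card (Subgroup.centralizer ({uniHomGL F (Multiplicative.ofAdd c)} : Set (GL (Fin 2) F))) =
      Fintype.card F * (Fintype.card F - 1) := by
  have key : ∀ g : GL (Fin 2) F,
      g ∈ Subgroup.centralizer ({uniHomGL F (Multiplicative.ofAdd c)} : Set (GL (Fin 2) F)) ↔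
        g 1 0 = 0 ∧ g 0 0 = g 1 1 := by
    intro g
    rw [Subgroup.mem_centralizer_singleton_iff]
    constructor
    · intro h
      have h' := congrArg Units.val h
      simp only [Units.val_mul, coe_uniHomGL, toAdd_ofAdd] at h'
      have h10 := apply_one_zero_of_commute hc h'.symm
      refine ⟨h10, ?_⟩
      have h01 := congrFun (congrFun h' 0) 1
      simp [Matrix.mul_apply, Fin.sum_univ_two] at h01
      have : c * g 0 0 = c * g 1 1 := by linear_combination h01
      exact mul_left_cancel₀ hc this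
    · rintro ⟨h10, h00⟩
      refine Units.ext ?_
      simp only [Units.val_mul, coe_uniHomGL, toAdd_ofAdd]
      exact (commute_of_apply_one_zero h10 (by rw [h00, mul_comm])).symm
  rw [Nat.card_congr ((Equiv.subtypeEquivRight key).trans centralizerEquiv), Nat.card_prod,
    Linear.natCard_units_eq, Nat.card_eq_fintype_card]
  ring

theorem natCard_GL_two :
    Nat.card (GL (Fin 2) F) =
      Fintype.card F * ((Fintype.card F - 1) ^ 2 * (Fintype.card F + 1)) := by
  rw [Linear.natCard_GL_fin, Fin.prod_univ_two]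
  simp only [Fin.val_zero, Fin.val_one, pow_zero, pow_one]
  obtain ⟨r, hr⟩ : ∃ r, Fintype.card F = r + 1 :=
    ⟨Fintype.card F - 1, by have := Fintype.card_pos (α := F); omega⟩
  rw [hr, Nat.add_sub_cancel, show (r + 1) ^ 2 = r * (r + 2) + 1 by ring, Nat.add_sub_cancel,
    show r * (r + 2) + 1 - (r + 1) = r * (r + 1) by
      rw [show r * (r + 2) + 1 = r * (r + 1) + (r + 1) by ring, Nat.add_sub_cancel]]
  ring

theorem natCard_SL_two :
    Nat.card SL(2, F) = Fintype.card F * ((Fintype.card F - 1) * (Fintype.card F + 1)) := by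
  have h := Linear.natCard_GL_eq_mul (n := Fin 2) (F := F)
  rw [natCard_GL_two] at h
  have hpos : 0 < Fintype.card F - 1 := by
    have := Fintype.one_lt_card (α := F); omega
  refine Nat.eq_of_mul_eq_mul_left hpos ?_
  rw [← h]; ring

variable (p : ℕ) [Fact p.Prime] [CharP F p]

theorem dvd_card : p ∣ Fintype.card F := by
  obtain ⟨n, hp, hq⟩ := FiniteField.card F p
  exact hq ▸ dvd_pow_self p n.ne_zero

theorem isPGroup_of_card_eq {G : Type*} [Group G] (H : Subgroup G)
    (h : Nat.card H = Fintype.card F) : IsPGroup p H := by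
  obtain ⟨n, hp, hq⟩ := FiniteField.card F p
  exact IsPGroup.of_card (h.trans hq)

theorem not_dvd_sub_one {k : ℕ} (hk : k ≠ 0) : ¬ p ∣ Fintype.card F ^ k - 1 := by
  intro h
  have h1 : 1 ≤ Fintype.card F ^ k := Nat.one_le_pow _ _ Fintype.card_pos
  have h2 : p ∣ Fintype.card F ^ k := dvd_pow (dvd_card p) hk
  have h3 := Nat.dvd_sub h2 h
  rw [Nat.sub_sub_self h1] at h3
  exact (Fact.out : p.Prime).one_lt.ne' (Nat.dvd_one.1 h3)

theorem not_dvd_pred : ¬ p ∣ Fintype.card F - 1 := by
  simpa using not_dvd_sub_one (F := F) p one_ne_zero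

theorem not_dvd_succ : ¬ p ∣ Fintype.card F + 1 := by
  intro h
  exact (Fact.out : p.Prime).one_lt.ne' (Nat.dvd_one.1 ((Nat.dvd_add_right (dvd_card p)).1 h))

theorem not_dvd_index_UGL : ¬ p ∣ (UGL F).index := by
  have h := Subgroup.card_mul_index (UGL F)
  rw [natCard_UGL, Nat.card_eq_fintype_card, natCard_GL_two] at h
  rw [Nat.eq_of_mul_eq_mul_left Fintype.card_pos h, (Fact.out : p.Prime).dvd_mul]
  rintro (h' | h')
  · exact not_dvd_pred p ((Fact.out : p.Prime).dvd_of_dvd_pow h')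
  · exact not_dvd_succ p h'

theorem not_dvd_index_U : ¬ p ∣ (U F).index := by
  have h := Subgroup.card_mul_index (U F)
  rw [natCard_U, Nat.card_eq_fintype_card, natCard_SL_two] at h
  rw [Nat.eq_of_mul_eq_mul_left Fintype.card_pos h, (Fact.out : p.Prime).dvd_mul]
  rintro (h' | h')
  · exact not_dvd_pred p h'
  · exact not_dvd_succ p h'

/-- The unitriangular Sylow subgroup of `GL₂`. -/
noncomputable def sylowGL : Sylow p (GL (Fin 2) F) :=
  (isPGroup_of_card_eq (F := F) p (UGL F)
    (natCard_UGL.trans Nat.card_eq_fintype_card)).toSylow (not_dvd_index_UGL p)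

/-- The unitriangular Sylow subgroup of `SL₂`. -/
noncomputable def sylowSL : Sylow p SL(2, F) :=
  (isPGroup_of_card_eq (F := F) p (U F)
    (natCard_U.trans Nat.card_eq_fintype_card)).toSylow (not_dvd_index_U p)

theorem coe_sylowGL : ((sylowGL p : Sylow p (GL (Fin 2) F)) : Subgroup (GL (Fin 2) F)) = UGL F :=
  rfl

theorem coe_sylowSL : ((sylowSL p : Sylow p SL(2, F)) : Subgroup SL(2, F)) = U F := rfl

/-- Every Sylow `p`-subgroup of `GL₂` is a conjugate of `UGL`. -/
theorem exists_eq_conj_UGL (P : Sylow p (GL (Fin 2) F)) :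
    ∃ g : GL (Fin 2) F, P = g • sylowGL p := by
  obtain ⟨g, hg⟩ := MulAction.exists_smul_eq (GL (Fin 2) F) (sylowGL p) P
  exact ⟨g, hg.symm⟩

/-- Every Sylow `p`-subgroup of `SL₂` is a conjugate of `U`. -/
theorem exists_eq_conj_U (P : Sylow p SL(2, F)) :
    ∃ g : SL(2, F), P = g • sylowSL p := by
  obtain ⟨g, hg⟩ := MulAction.exists_smul_eq SL(2, F) (sylowSL p) P
  exact ⟨g, hg.symm⟩

theorem mem_smul_sylowGL {g x : GL (Fin 2) F} :
    x ∈ ((g • sylowGL p : Sylow p (GL (Fin 2) F)) : Subgroup (GL (Fin 2) F)) ↔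
      g⁻¹ * x * g ∈ UGL F := by
  rw [Sylow.coe_subgroup_smul, Subgroup.mem_pointwise_smul_iff_inv_smul_mem, coe_sylowGL]
  simp [MulAut.smul_def]

theorem sylow_inf_eq_bot (P Q : Sylow p (GL (Fin 2) F)) (h : P ≠ Q) :
    (P : Subgroup (GL (Fin 2) F)) ⊓ (Q : Subgroup (GL (Fin 2) F)) = ⊥ := by
  obtain ⟨a, rfl⟩ := exists_eq_conj_UGL p P
  obtain ⟨b, rfl⟩ := exists_eq_conj_UGL p Q
  rw [Subgroup.eq_bot_iff_forall]
  intro x hx
  obtain ⟨hxa, hxb⟩ := Subgroup.mem_inf.1 hx
  rw [mem_smul_sylowGL] at hxa hxb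
  by_contra hx1
  have hy1 : a⁻¹ * x * a ≠ 1 := fun h1 =>
    hx1 (by simpa using (conj_eq_one_iff (a := a⁻¹)).1 (by simpa using h1))
  have h10 : (a⁻¹ * b : GL (Fin 2) F) 1 0 = 0 :=
    apply_one_zero_of_conj_mem (a⁻¹ * b) hxa hy1 (by simpa [mul_assoc] using hxb)
  refine h ?_
  have hN := (mem_normalizer_UGL_iff _).2 h10
  rw [← coe_sylowGL p] at hN
  have h2 := (Sylow.smul_eq_iff_mem_normalizer (P := sylowGL p)).2 hN
  rw [mul_smul, inv_smul_eq_iff] at h2
  exact h2.symm

theorem natCard_normalizer_sylow (P : Sylow p (GL (Fin 2) F)) :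
    Nat.card (Subgroup.normalizer ((P : Subgroup (GL (Fin 2) F)) : Set (GL (Fin 2) F))) =
      Fintype.card F * (Fintype.card F - 1) ^ 2 := by
  have e : ∀ Q : Sylow p (GL (Fin 2) F), Nat.card (Sylow p (GL (Fin 2) F)) *
      Nat.card (Subgroup.normalizer ((Q : Subgroup (GL (Fin 2) F)) : Set (GL (Fin 2) F))) =
      Nat.card (GL (Fin 2) F) := fun Q => by
    rw [Sylow.card_eq_index_normalizer Q]; exact Subgroup.index_mul_card _
  have h1 := e P
  have h2 := e (sylowGL p)
  rw [← h2, coe_sylowGL, natCard_normalizer_UGL] at h1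
  exact Nat.eq_of_mul_eq_mul_left Nat.card_pos h1

theorem natCard_sylow : Nat.card (Sylow p (GL (Fin 2) F)) = Fintype.card F + 1 := by
  have h2 : Nat.card (Sylow p (GL (Fin 2) F)) *
      Nat.card (Subgroup.normalizer (UGL F : Set (GL (Fin 2) F))) = Nat.card (GL (Fin 2) F) := by
    rw [← coe_sylowGL p, Sylow.card_eq_index_normalizer (sylowGL p)]
    exact Subgroup.index_mul_card _
  rw [natCard_normalizer_UGL, natCard_GL_two] at h2
  have hpos : 0 < Fintype.card F - 1 := by
    have := Fintype.one_lt_card (α := F); omega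
  have hq : 0 < Fintype.card F := Fintype.card_pos
  refine Nat.eq_of_mul_eq_mul_right (Nat.mul_pos hq (pow_pos hpos 2)) ?_
  rw [h2]; ring

theorem natCard_centralizer (P : Sylow p (GL (Fin 2) F)) (a : GL (Fin 2) F)
    (ha : a ∈ P) (ha1 : a ≠ 1) :
    Nat.card (Subgroup.centralizer ({a} : Set (GL (Fin 2) F))) =
      Fintype.card F * (Fintype.card F - 1) := by
  obtain ⟨g, rfl⟩ := exists_eq_conj_UGL p P
  obtain ⟨c, hc⟩ := (mem_smul_sylowGL p).1 ha
  have hc0 : c.toAdd ≠ 0 := by
    intro h0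
    have h1 : g⁻¹ * a * g = 1 := by rw [← hc, show c = 1 from h0, map_one]
    exact ha1 (by simpa using (conj_eq_one_iff (a := g⁻¹)).1 (by simpa using h1))
  rw [← natCard_centralizer_uniHomGL hc0]
  refine Nat.card_congr ((MulAut.conj g⁻¹).toEquiv.subtypeEquiv fun x => ?_)
  simp only [Subgroup.mem_centralizer_singleton_iff, ofAdd_toAdd, MulEquiv.toEquiv_eq_coe,
    EquivLike.coe_coe, hc]
  rw [← (MulAut.conj g⁻¹).injective.eq_iff, map_mul, map_mul]
  simp

/-- Two distinct Sylow `p`-subgroups generate `SL₂`. -/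
theorem sylow_sup_eq_top (P Q : Sylow p SL(2, F)) (h : P ≠ Q) :
    (P : Subgroup SL(2, F)) ⊔ (Q : Subgroup SL(2, F)) = ⊤ := by
  obtain ⟨a, rfl⟩ := exists_eq_conj_U p P
  obtain ⟨b, rfl⟩ := exists_eq_conj_U p Q
  obtain ⟨g, hg⟩ : ∃ g : SL(2, F), g = a⁻¹ * b := ⟨_, rfl⟩
  by_cases h10 : (g : Matrix (Fin 2) (Fin 2) F) 1 0 = 0
  · exfalso
    refine h ?_
    have hN : g ∈ Subgroup.normalizer (U F : Set SL(2, F)) := by
      rw [Subgroup.mem_normalizer_iff]
      intro y
      have hGL := Subgroup.mem_normalizer_iff.1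
        ((mem_normalizer_UGL_iff (Matrix.SpecialLinearGroup.toGL g)).2 h10) (Matrix.SpecialLinearGroup.toGL y)
      have hmap : ∀ z : SL(2, F), Matrix.SpecialLinearGroup.toGL z ∈ UGL F ↔ z ∈ U F := by
        intro z
        refine ⟨?_, ?_⟩ <;> rintro ⟨c, hc⟩ <;> refine ⟨c, ?_⟩
        · exact Matrix.SpecialLinearGroup.toGL_injective hc
        · exact congrArg Matrix.SpecialLinearGroup.toGL hc
      rw [← hmap, ← hmap]
      simpa using hGL
    rw [← coe_sylowSL p] at hN
    have h2 := (Sylow.smul_eq_iff_mem_normalizer (P := sylowSL p)).2 hN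
    rw [hg, mul_smul, inv_smul_eq_iff] at h2
    exact h2.symm
  · set H : Subgroup SL(2, F) :=
      ((a • sylowSL p : Sylow p SL(2, F)) : Subgroup SL(2, F)) ⊔
        ((b • sylowSL p : Sylow p SL(2, F)) : Subgroup SL(2, F)) with hH
    set r : F := (g : Matrix (Fin 2) (Fin 2) F) 0 0 with hr
    set s : F := (g : Matrix (Fin 2) (Fin 2) F) 1 0 with hs
    set x : F := r / s with hx
    set k : SL(2, F) := a * uniSL x with hk
    have hUa : ∀ t : F, a * uniSL t * a⁻¹ ∈ H := by
      intro t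
      refine Subgroup.mem_sup_left ?_
      rw [Sylow.coe_subgroup_smul]
      exact Subgroup.smul_mem_pointwise_smul _ _ _ ⟨Multiplicative.ofAdd t, rfl⟩
    have hUb : ∀ t : F, b * uniSL t * b⁻¹ ∈ H := by
      intro t
      refine Subgroup.mem_sup_right ?_
      rw [Sylow.coe_subgroup_smul]
      exact Subgroup.smul_mem_pointwise_smul _ _ _ ⟨Multiplicative.ofAdd t, rfl⟩
    have hlow : ∀ t : F, k * lowSL t * k⁻¹ ∈ H := by
      intro t
      have e : uniSL x * lowSL t * (uniSL x)⁻¹ = g * uniSL (-t / s ^ 2) * g⁻¹ := by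
        rw [eq_mul_inv_iff_mul_eq, uniSL_inv]
        refine sl_ext ?_
        rw [Matrix.SpecialLinearGroup.coe_mul, Matrix.SpecialLinearGroup.coe_mul, Matrix.SpecialLinearGroup.coe_mul,
          Matrix.SpecialLinearGroup.coe_mul, coe_uniSL, coe_lowSL, coe_uniSL, coe_uniSL]
        have hd : (g : Matrix (Fin 2) (Fin 2) F) 0 0 * (g : Matrix (Fin 2) (Fin 2) F) 1 1 -
            (g : Matrix (Fin 2) (Fin 2) F) 0 1 * (g : Matrix (Fin 2) (Fin 2) F) 1 0 = 1 :=
          (det_fin_two _).symm.trans g.2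
        rw [← hr, ← hs] at hd
        rw [eta_fin_two (g : Matrix (Fin 2) (Fin 2) F), ← hr, ← hs]
        ext i j
        fin_cases i <;> fin_cases j <;>
          simp [Matrix.mul_apply, Fin.sum_univ_two, hx] <;>
          field_simp
        · ring
        · linear_combination (-(r * t)) * hd
        · ring
        · linear_combination (-t) * hd
      have : k * lowSL t * k⁻¹ = b * uniSL (-t / s ^ 2) * b⁻¹ := by
        calc k * lowSL t * k⁻¹ = a * (uniSL x * lowSL t * (uniSL x)⁻¹) * a⁻¹ := by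
              rw [hk]; group
          _ = _ := by rw [e, hg]; group
      rw [this]; exact hUb _
    have hup : ∀ t : F, k * uniSL t * k⁻¹ ∈ H := by
      intro t
      have e : uniSL x * uniSL t = uniSL t * uniSL (x : F) := by
        rw [uniSL_mul, uniSL_mul, add_comm]
      have : k * uniSL t * k⁻¹ = a * uniSL t * a⁻¹ := by
        rw [hk, mul_assoc a, e]; group
      rw [this]; exact hUa _
    have htop : Subgroup.comap (MulAut.conj k).toMonoidHom H = ⊤ := by
      refine Linear.eq_top_of_transvection_mem _ fun i j hij c => ?_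
      rw [Subgroup.mem_comap]
      fin_cases i <;> fin_cases j <;> try exact absurd rfl hij
      · convert hup c using 1
        simp only [MulEquiv.coe_toMonoidHom, MulAut.conj_apply]
        congr 2
        ext i j
        fin_cases i <;> fin_cases j <;> simp [Matrix.SpecialLinearGroup.transvection_coe, uniSL]
      · convert hlow c using 1
        simp only [MulEquiv.coe_toMonoidHom, MulAut.conj_apply]
        congr 2
        ext i j
        fin_cases i <;> fin_cases j <;> simp [Matrix.SpecialLinearGroup.transvection_coe, lowSL]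
    rw [eq_top_iff]
    intro y _
    have : (MulAut.conj k).symm y ∈ Subgroup.comap (MulAut.conj k).toMonoidHom H := by
      rw [htop]; trivial
    simpa [mul_assoc] using this

end finite

end Cfsg.Agent.Classical.GL2
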