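import Mathlib

/-!
# Dihedral and generalized quaternion subgroups from generators
-/

namespace Cfsg.Agent.Classical.CyclicExt

variable {G : Type*} [Group G] {m : ℕ}

/-- Powers of `x` indexed by `ZMod m`, when `x ^ m = 1`. -/
def pw (x : G) (hx : x ^ m = 1) (i : ZMod m) : G :=
  Additive.toMul (ZMod.lift m ⟨zmultiplesHom (Additive G) (Additive.ofMul x), by
    simp [← ofMul_pow, hx]⟩ i)

theorem pw_intCast (x : G) (hx : x ^ m = 1) (k : ℤ) : pw x hx k = x ^ k := by
  simp [pw, ← ofMul_zpow]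

theorem pw_add (x : G) (hx : x ^ m = 1) (i j : ZMod m) :
    pw x hx (i + j) = pw x hx i * pw x hx j := by
  simp [pw, map_add, toMul_add]

theorem pw_zero (x : G) (hx : x ^ m = 1) : pw x hx 0 = 1 := by
  simp [pw]

theorem pw_one (x : G) (hx : x ^ m = 1) : pw x hx 1 = x := by
  simpa using pw_intCast x hx 1

theorem pw_natCast (x : G) (hx : x ^ m = 1) (k : ℕ) : pw x hx k = x ^ k := by
  simpa using pw_intCast x hx k

theorem pw_mem (x : G) (hx : x ^ m = 1) (i : ZMod m) : pw x hx i ∈ Subgroup.zpowers x := by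
  obtain ⟨k, rfl⟩ := ZMod.intCast_surjective i
  exact ⟨k, (pw_intCast x hx k).symm⟩

theorem pw_injective (x : G) (hx : x ^ m = 1) (ho : orderOf x = m) :
    Function.Injective (pw x hx) := by
  intro i j h
  obtain ⟨a, rfl⟩ := ZMod.intCast_surjective i
  obtain ⟨b, rfl⟩ := ZMod.intCast_surjective j
  rw [pw_intCast, pw_intCast, zpow_eq_zpow_iff_modEq, ho] at h
  exact (ZMod.intCast_eq_intCast_iff _ _ _).2 h

theorem conj_pw (x y : G) (hx : x ^ m = 1) (hxy : y * x * y⁻¹ = x⁻¹) (i : ZMod m) :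
    y * pw x hx i = pw x hx (-i) * y := by
  obtain ⟨k, rfl⟩ := ZMod.intCast_surjective i
  rw [← Int.cast_neg, pw_intCast, pw_intCast]
  have h : y * x ^ k * y⁻¹ = x ^ (-k) := by
    rw [zpow_neg, ← inv_zpow, ← hxy, conj_zpow]
  rw [← h]; group

/-- The homomorphism from a dihedral group given by a rotation and a reflection. -/
theorem exists_dihedral_hom {n : ℕ} (x y : G) (ho : orderOf x = n) (hy : y * y = 1)
    (hxy : y * x * y⁻¹ = x⁻¹) (hyx : y ∉ Subgroup.zpowers x) :
    ∃ f : DihedralGroup n →* G, Function.Injective f ∧ x ∈ f.range ∧ y ∈ f.range := by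
  have hx : x ^ n = 1 := ho ▸ pow_orderOf_eq_one x
  let g : DihedralGroup n → G
    | .r i => pw x hx i
    | .sr i => y * pw x hx i
  have hc := conj_pw x y hx hxy
  have hr : ∀ i j : ZMod n, pw x hx i * (y * pw x hx j) = y * pw x hx (j - i) := by
    intro i j
    have : pw x hx i * y = y * pw x hx (-i) := by rw [hc, neg_neg]
    rw [← mul_assoc, this, mul_assoc, ← pw_add, neg_add_eq_sub]
  refine ⟨MonoidHom.mk' g ?_, ?_, ⟨.r 1, pw_one x hx⟩, ⟨.sr 0, ?_⟩⟩
  · rintro (i | i) (j | j)
    · simp [g, pw_add]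
    · simp [g, hr]
    · simp [g, pw_add, mul_assoc]
    · show pw x hx (j - i) = y * pw x hx i * (y * pw x hx j)
      rw [mul_assoc, hr, ← mul_assoc, hy, one_mul]
  · intro a b h
    rcases a with i | i <;> rcases b with j | j
    · exact congrArg _ (pw_injective x hx ho h)
    · refine absurd ?_ hyx
      have h' : y = pw x hx i * (pw x hx j)⁻¹ := eq_mul_inv_of_mul_eq h.symm
      rw [h']; exact mul_mem (pw_mem x hx i) (inv_mem (pw_mem x hx j))
    · refine absurd ?_ hyx
      have h' : y = pw x hx j * (pw x hx i)⁻¹ := eq_mul_inv_of_mul_eq h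
      rw [h']; exact mul_mem (pw_mem x hx j) (inv_mem (pw_mem x hx i))
    · exact congrArg _ (pw_injective x hx ho (mul_left_cancel h))
  · show y * pw x hx 0 = y
    rw [pw_zero, mul_one]

/-- The homomorphism from a generalized quaternion group. -/
theorem exists_quaternion_hom {n : ℕ} (x y : G) (ho : orderOf x = 2 * n) (hy : y * y = x ^ n)
    (hxy : y * x * y⁻¹ = x⁻¹) (hyx : y ∉ Subgroup.zpowers x) :
    ∃ f : QuaternionGroup n →* G, Function.Injective f := by
  have hx : x ^ (2 * n) = 1 := ho ▸ pow_orderOf_eq_one x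
  let g : QuaternionGroup n → G
    | .a i => pw x hx i
    | .xa i => y * pw x hx i
  have hc := conj_pw x y hx hxy
  have hr : ∀ i j : ZMod (2 * n), pw x hx i * (y * pw x hx j) = y * pw x hx (j - i) := by
    intro i j
    have : pw x hx i * y = y * pw x hx (-i) := by rw [hc, neg_neg]
    rw [← mul_assoc, this, mul_assoc, ← pw_add, neg_add_eq_sub]
  refine ⟨MonoidHom.mk' g ?_, ?_⟩
  · rintro (i | i) (j | j)
    · simp [g, QuaternionGroup.a_mul_a, pw_add]
    · simp [g, QuaternionGroup.a_mul_xa, hr]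
    · simp [g, QuaternionGroup.xa_mul_a, pw_add, mul_assoc]
    · show pw x hx ((n : ZMod (2 * n)) + j - i) = y * pw x hx i * (y * pw x hx j)
      rw [mul_assoc, hr, ← mul_assoc, hy, ← pw_natCast x hx n, ← pw_add, add_sub_assoc]
  · intro a b h
    rcases a with i | i <;> rcases b with j | j
    · exact congrArg _ (pw_injective x hx ho h)
    · refine absurd ?_ hyx
      have h' : y = pw x hx i * (pw x hx j)⁻¹ := eq_mul_inv_of_mul_eq h.symm
      rw [h']; exact mul_mem (pw_mem x hx i) (inv_mem (pw_mem x hx j))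
    · refine absurd ?_ hyx
      have h' : y = pw x hx j * (pw x hx i)⁻¹ := eq_mul_inv_of_mul_eq h
      rw [h']; exact mul_mem (pw_mem x hx j) (inv_mem (pw_mem x hx i))
    · exact congrArg _ (pw_injective x hx ho (mul_left_cancel h))

end Cfsg.Agent.Classical.CyclicExt
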