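import Mathlib
import Cfsg.Agent.Lib.Classical.GL2
import Cfsg.Agent.Lib.Classical.CyclicExt

/-!
# Tori of `SL₂` over a finite field
-/

namespace Cfsg.Agent.Classical.Torus

open Matrix QuadraticAlgebra
open scoped MatrixGroups

set_option linter.unusedSectionVars false
set_option linter.unusedSimpArgs false

variable {F : Type*} [Field F] {A B : F}

local notation "K" => QuadraticAlgebra F A B

/-- The matrix of multiplication by `z` in the basis `1, ω`. -/
def mulMat : QuadraticAlgebra F A B →* Matrix (Fin 2) (Fin 2) F where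
  toFun z := !![z.re, A * z.im; z.im, z.re + B * z.im]
  map_one' := by simp [one_fin_two]
  map_mul' z w := by
    ext i j
    fin_cases i <;> fin_cases j <;> simp [Matrix.mul_apply, Fin.sum_univ_two] <;> ring

theorem mulMat_apply (z : K) : mulMat z = !![z.re, A * z.im; z.im, z.re + B * z.im] := rfl

/-- The matrix of the conjugation in the basis `1, ω`. -/
def starMat (B : F) : Matrix (Fin 2) (Fin 2) F := !![1, B; 0, -1]

theorem det_mulMat (z : K) : (mulMat z).det = QuadraticAlgebra.norm z := by
  rw [mulMat_apply, det_fin_two_of, QuadraticAlgebra.norm_def]; ring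

theorem det_starMat (B : F) : (starMat B).det = -1 := by
  simp [starMat, det_fin_two_of]

theorem starMat_mul_mulMat (z : K) : starMat B * mulMat z = mulMat (star z) * starMat B := by
  ext i j
  fin_cases i <;> fin_cases j <;>
    simp [starMat, mulMat_apply, Matrix.mul_apply, Fin.sum_univ_two] <;> ring

theorem starMat_mul_starMat (B : F) : starMat B * starMat B = 1 := by
  ext i j
  fin_cases i <;> fin_cases j <;> simp [starMat, Matrix.mul_apply, Fin.sum_univ_two]

/-- The unit group of the quadratic algebra inside `GL₂`. -/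
def unitMat : (QuadraticAlgebra F A B)ˣ →* GL (Fin 2) F := Units.map mulMat

/-- The norm one subgroup. -/
def normOne (F : Type*) [Field F] (A B : F) : Subgroup (QuadraticAlgebra F A B)ˣ :=
  (Units.map (QuadraticAlgebra.norm : QuadraticAlgebra F A B →* F)).ker

theorem mem_normOne {z : (QuadraticAlgebra F A B)ˣ} :
    z ∈ normOne F A B ↔ QuadraticAlgebra.norm (z : K) = 1 := by
  simp [normOne, Units.ext_iff]

/-- The norm one group inside `SL₂`. -/
def torusHom : normOne F A B →* SL(2, F) where
  toFun z := ⟨mulMat (z.1 : K), (det_mulMat _).trans (mem_normOne.1 z.2)⟩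
  map_one' := GL2.sl_ext (by
    rw [Matrix.SpecialLinearGroup.coe_one]
    show mulMat _ = 1
    rw [Subgroup.coe_one, Units.val_one, map_one])
  map_mul' a b := GL2.sl_ext (by
    show mulMat _ = mulMat _ * mulMat _
    rw [Subgroup.coe_mul, Units.val_mul, map_mul])

theorem coe_torusHom (z : normOne F A B) :
    (torusHom z : Matrix (Fin 2) (Fin 2) F) = mulMat (z.1 : K) := rfl

theorem mulMat_injective : Function.Injective (mulMat : K → Matrix (Fin 2) (Fin 2) F) := by
  intro z w h
  have h0 := congrFun (congrFun h 0) 0
  have h1 := congrFun (congrFun h 1) 0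
  simp [mulMat_apply] at h0 h1
  ext <;> assumption

theorem torusHom_injective : Function.Injective (torusHom : normOne F A B → SL(2, F)) := by
  intro z w h
  refine Subtype.ext (Units.ext (mulMat_injective ?_))
  rw [← coe_torusHom, ← coe_torusHom, h]

section finite

variable [Fintype F] [Fact (∀ r, r ^ 2 ≠ A + B * r)]

theorem natCard_quad : Nat.card K = Fintype.card F ^ 2 := by
  rw [Nat.card_congr (QuadraticAlgebra.equivProd A B), Nat.card_prod, Nat.card_eq_fintype_card, sq]

instance finite_quad : Finite (QuadraticAlgebra F A B) :=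
  Finite.of_equiv _ (QuadraticAlgebra.equivProd A B).symm

theorem natCard_quad_units : Nat.card Kˣ = Fintype.card F ^ 2 - 1 := by
  rw [Nat.card_units, natCard_quad]

theorem omega_pow_card :
    (ω : K) ^ Fintype.card F = star (ω : K) := by
  classical
  set q := Fintype.card F with hq
  set f := FiniteField.frobeniusAlgHom F K with hf
  have hfx : ∀ x, f x = x ^ q := fun x => by simp [hf, hq]
  have hroot : (f ω) * (f ω) = A • (1 : K) + B • f ω := by
    rw [← map_mul, omega_mul_omega_eq_add, map_add, map_smul, map_smul, map_one]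
  have hfac : (f ω - ω) * (f ω - star ω) = 0 := by
    have e1 : (ω : K) + star (ω : K) = B • (1 : K) := by ext <;> simp
    have e2 : (ω : K) * star (ω : K) = -(A • (1 : K)) := by ext <;> simp
    calc (f ω - ω) * (f ω - star ω)
        = f ω * f ω - f ω * (ω + star ω) + ω * star ω := by ring
      _ = 0 := by rw [hroot, e1, e2, mul_smul_comm, mul_one]; abel
  rcases mul_eq_zero.1 hfac with h | h
  · exfalso
    have hω : (ω : K) ^ q = ω := by rw [← hfx]; exact sub_eq_zero.1 h
    have hall : ∀ x : K, x ^ q = x := by
      intro x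
      have hx : x = algebraMap F K x.re + x.im • (ω : K) := by ext <;> simp
      rw [hx, ← hfx, map_add, AlgHom.commutes, map_smul, hfx, hω]
    let _ : Fintype K := Fintype.ofFinite K
    have hle : (Finset.univ : Finset K).card ≤
        ((Polynomial.X ^ q - Polynomial.X : Polynomial K)).natDegree := by
      refine Polynomial.card_le_degree_of_subset_roots ?_
      intro x _
      rw [Polynomial.mem_roots
        (FiniteField.X_pow_card_sub_X_ne_zero K Fintype.one_lt_card)]
      simp [← hq, hall x]
    rw [FiniteField.X_pow_card_sub_X_natDegree_eq K Fintype.one_lt_card, Finset.card_univ,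
      ← Nat.card_eq_fintype_card, natCard_quad] at hle
    have := Fintype.one_lt_card (α := F)
    nlinarith
  · rw [← hfx]; exact sub_eq_zero.1 h

theorem pow_card_eq_star (x : K) : x ^ Fintype.card F = star x := by
  have hfx : ∀ x : K, FiniteField.frobeniusAlgHom F K x = x ^ Fintype.card F := fun x => by simp
  have hx : x = algebraMap F K x.re + x.im • (ω : K) := by ext <;> simp
  conv_lhs => rw [hx, ← hfx, map_add, AlgHom.commutes, map_smul, hfx, omega_pow_card]
  ext <;> simp [mul_comm]

theorem pow_card_succ (x : K) : x ^ (Fintype.card F + 1) = algebraMap F K (norm x) := by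
  rw [pow_succ', pow_card_eq_star, algebraMap_norm_eq_mul_star]

theorem natCard_normOne : Nat.card (normOne F A B) = Fintype.card F + 1 := by
  have h : normOne F A B = (powMonoidHom (Fintype.card F + 1) : Kˣ →* Kˣ).ker := by
    ext z
    rw [mem_normOne, MonoidHom.mem_ker, powMonoidHom_apply, Units.ext_iff, Units.val_pow_eq_pow_val,
      pow_card_succ, Units.val_one]
    constructor
    · intro h; rw [h, map_one]
    · intro h
      exact (algebraMap F K).injective (h.trans (map_one _).symm)
  rw [h, IsCyclic.card_powMonoidHom_ker, natCard_quad_units]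
  refine Nat.gcd_eq_right ⟨Fintype.card F - 1, ?_⟩
  have := Fintype.card_pos (α := F)
  rw [← Nat.sq_sub_sq, one_pow]

theorem norm_surjective (r : F) (hr : r ≠ 0) : ∃ z : K, norm z = r := by
  have hi : (normOne F A B).index = Fintype.card F - 1 := by
    have h := (normOne F A B).card_mul_index
    rw [natCard_normOne, natCard_quad_units] at h
    have e : Fintype.card F ^ 2 - 1 = (Fintype.card F + 1) * (Fintype.card F - 1) := by
      rw [← Nat.sq_sub_sq, one_pow]
    rw [e] at h
    exact Nat.eq_of_mul_eq_mul_left (by omega) h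
  rw [normOne, Subgroup.index_ker, ← Linear.natCard_units_eq, Subgroup.card_eq_iff_eq_top] at hi
  obtain ⟨z, hz⟩ : Units.mk0 r hr ∈ (Units.map (norm : K →* F)).range := hi ▸ Subgroup.mem_top _
  exact ⟨z, congrArg Units.val hz⟩

end finite

theorem exists_irreducible (F : Type*) [Field F] [Finite F] :
    ∃ A : F, ∀ r : F, r ^ 2 ≠ A + 1 * r := by
  have h : ¬ Function.Injective (fun r : F => r ^ 2 - r) := fun h =>
    zero_ne_one (α := F) (h (by simp))
  rw [Finite.injective_iff_surjective, Function.Surjective] at h
  push Not at h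
  obtain ⟨A, hA⟩ := h
  exact ⟨A, fun r hr => hA r (by rw [hr]; ring)⟩

/-- The split torus. -/
def diagHom : Fˣ →* SL(2, F) where
  toFun a := ⟨!![(a : F), 0; 0, (a⁻¹ : Fˣ)], by simp [det_fin_two]⟩
  map_one' := GL2.sl_ext (by simp [one_fin_two])
  map_mul' a b := GL2.sl_ext (by
    show !![((a * b : Fˣ) : F), 0; 0, ((a * b)⁻¹ : Fˣ)] =
      !![(a : F), 0; 0, (a⁻¹ : Fˣ)] * !![(b : F), 0; 0, (b⁻¹ : Fˣ)]
    simp [mul_comm])

theorem diagHom_injective : Function.Injective (diagHom : Fˣ → SL(2, F)) := by
  intro a b h
  exact Units.ext (congrFun (congrFun (congrArg (fun g : SL(2, F) => g.1) h) 0) 0)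

end Cfsg.Agent.Classical.Torus
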