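import Mathlib
import Cfsg.Agent.Lib.Classical.Torus

/-!
# Sylow `r`-subgroups of `SL₂` over a finite field, `r` different from the characteristic
-/

namespace Cfsg.Agent.Classical.SylowSL2

open Matrix
open scoped MatrixGroups

set_option linter.unusedSectionVars false
set_option linter.unusedSimpArgs false

variable {G C : Type*} [Group G] [Finite G] [Group C] [IsCyclic C] [Finite C]

/-- If a cyclic subgroup has full `r`-part, Sylow `r`-subgroups are cyclic. -/
theorem isCyclic_sylow_of_hom (r : ℕ) [Fact r.Prime] (T : C →* G) (hT : Function.Injective T)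
    (h : (Nat.card C).factorization r = (Nat.card G).factorization r) (R : Sylow r G) :
    IsCyclic (R : Subgroup G) := by
  obtain ⟨D⟩ : Nonempty (Sylow r C) := inferInstance
  let H : Subgroup G := (D : Subgroup C).map T
  have hcard : Nat.card H = r ^ (Nat.card G).factorization r := by
    rw [Subgroup.card_map_of_injective hT, Sylow.card_eq_multiplicity, h]
  have e1 := ((D : Subgroup C).equivMapOfInjective T hT)
  have hc : IsCyclic H := isCyclic_of_surjective e1 e1.surjective
  have e2 := R.equiv (Sylow.ofCard H hcard)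
  have hc' : IsCyclic (Sylow.ofCard H hcard : Subgroup G) := hc
  exact isCyclic_of_surjective e2.symm e2.symm.surjective

section SL2

variable {F : Type*} [Field F] [Fintype F]

theorem two_ne_zero_of_odd (hF : Odd (Fintype.card F)) : (2 : F) ≠ 0 := by
  refine Ring.two_ne_zero ?_
  intro hc
  have := FiniteField.even_card_iff_char_two.1 hc
  rw [Nat.odd_iff] at hF
  omega

theorem eq_neg_one_of_sq (h2 : (2 : F) ≠ 0) (g : SL(2, F)) (h1 : g ≠ 1) (hg : g * g = 1) :
    (g : Matrix (Fin 2) (Fin 2) F) = -1 := by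
  have hd := Matrix.SpecialLinearGroup.det_coe g
  rw [det_fin_two] at hd
  have hm : (g : Matrix (Fin 2) (Fin 2) F) * (g : Matrix (Fin 2) (Fin 2) F) = 1 := by
    rw [← Matrix.SpecialLinearGroup.coe_mul, hg, Matrix.SpecialLinearGroup.coe_one]
  have h00 := congrFun (congrFun hm 0) 0
  have h01 := congrFun (congrFun hm 0) 1
  have h10 := congrFun (congrFun hm 1) 0
  have h11 := congrFun (congrFun hm 1) 1
  simp [Matrix.mul_apply, Fin.sum_univ_two] at h00 h01 h10 h11
  have hne : g.1 ≠ 1 := fun h => h1 (Subtype.ext h)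
  set M : Matrix (Fin 2) (Fin 2) F := (g : Matrix (Fin 2) (Fin 2) F) with hM
  have ht : M 0 0 + M 1 1 ≠ 0 := by
    intro ht
    exact h2 (by linear_combination (-1 : F) * h00 - hd + (M 0 0) * ht)
  have hb : M 0 1 = 0 :=
    (mul_eq_zero.1 (by linear_combination h01 : M 0 1 * (M 0 0 + M 1 1) = 0)).resolve_right ht
  have hc : M 1 0 = 0 :=
    (mul_eq_zero.1 (by linear_combination h10 : M 1 0 * (M 0 0 + M 1 1) = 0)).resolve_right ht
  have had : M 0 0 = M 1 1 := by
    have : (M 0 0 - M 1 1) * (M 0 0 + M 1 1) = 0 := by linear_combination h00 - h11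
    exact sub_eq_zero.1 ((mul_eq_zero.1 this).resolve_right ht)
  rcases mul_self_eq_one_iff.1 (by linear_combination h00 - M 1 0 * hb : M 0 0 * M 0 0 = 1) with h | h
  · exfalso
    refine hne ?_
    ext i j
    fin_cases i <;> fin_cases j <;> simp [← hM, hb, hc, h, ← had]
  · ext i j
    fin_cases i <;> fin_cases j <;> simp [hb, hc, h, ← had]

theorem odd_cases (hF : Odd (Fintype.card F)) :
    Fintype.card F % 4 = 1 ∨ Fintype.card F % 4 = 3 := by
  rw [Nat.odd_iff] at hF
  omega

theorem factorization_natCard_SL_two {r : ℕ} (hr : r.Prime) (h : ¬ r ∣ Fintype.card F) :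
    (Nat.card SL(2, F)).factorization r =
      (Fintype.card F - 1).factorization r + (Fintype.card F + 1).factorization r := by
  have h1 := Fintype.one_lt_card (α := F)
  rw [GL2.natCard_SL_two, Nat.factorization_mul (by omega)
    (mul_ne_zero (by omega) (by omega)), Finsupp.add_apply,
    Nat.factorization_eq_zero_of_not_dvd h, zero_add,
    Nat.factorization_mul (by omega) (by omega), Finsupp.add_apply]

theorem not_dvd_card {r : ℕ} (hr : r.Prime) (p : ℕ) [Fact p.Prime] [CharP F p] (hrp : r ≠ p) :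
    ¬ r ∣ Fintype.card F := by
  obtain ⟨f, hp, hq⟩ := FiniteField.card F p
  rw [hq]
  intro h
  exact hrp ((Nat.prime_dvd_prime_iff_eq hr hp).1 (hr.dvd_of_dvd_pow h))

theorem isCyclic_sylow (p : ℕ) [Fact p.Prime] [CharP F p] (r : ℕ) [Fact r.Prime] (hr : r ≠ 2)
    (hrp : r ≠ p) (R : Sylow r SL(2, F)) : IsCyclic (R : Subgroup SL(2, F)) := by
  have hr' : r.Prime := Fact.out
  have hv := factorization_natCard_SL_two (F := F) hr' (not_dvd_card hr' p hrp)
  by_cases h : r ∣ Fintype.card F + 1
  · have h' : ¬ r ∣ Fintype.card F - 1 := fun h' => by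
      have h3 := Nat.dvd_sub h h'
      have h1 := Fintype.one_lt_card (α := F)
      rw [show Fintype.card F + 1 - (Fintype.card F - 1) = 2 by omega] at h3
      exact hr ((Nat.prime_dvd_prime_iff_eq hr' Nat.prime_two).1 h3)
    obtain ⟨A, hA⟩ := Torus.exists_irreducible F
    have : Fact (∀ r : F, r ^ 2 ≠ A + 1 * r) := ⟨hA⟩
    refine isCyclic_sylow_of_hom r (Torus.torusHom (A := A) (B := 1)) Torus.torusHom_injective ?_ R
    rw [Torus.natCard_normOne, hv, Nat.factorization_eq_zero_of_not_dvd h', zero_add]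
  · refine isCyclic_sylow_of_hom r (Torus.diagHom (F := F)) Torus.diagHom_injective ?_ R
    rw [Linear.natCard_units_eq, hv, Nat.factorization_eq_zero_of_not_dvd h, add_zero]

theorem quaternion_sylow_of_hom {C : Type*} [Group C] [IsCyclic C] [Finite C]
    (h2 : (2 : F) ≠ 0) (T : C →* SL(2, F)) (hT : Function.Injective T) (y : SL(2, F))
    (hy : (y : Matrix (Fin 2) (Fin 2) F) * (y : Matrix (Fin 2) (Fin 2) F) = -1)
    (hconj : ∀ c, y * T c * y⁻¹ = T c⁻¹) (h4 : 4 ∣ Nat.card C)
    (h : (Nat.card SL(2, F)).factorization 2 = (Nat.card C).factorization 2 + 1)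
    (P : Sylow 2 SL(2, F)) :
    Nonempty ((P : Subgroup SL(2, F)) ≃*
      QuaternionGroup (2 ^ ((Nat.card C).factorization 2 - 1))) := by
  set s := (Nat.card C).factorization 2 with hs
  have hs2 : 2 ≤ s := (Nat.Prime.pow_dvd_iff_le_factorization Nat.prime_two Nat.card_pos.ne').1 h4
  set n := 2 ^ (s - 1) with hn
  have h2n : 2 * n = 2 ^ s := by
    rw [hn, ← pow_succ', Nat.sub_add_cancel (by omega)]
  obtain ⟨g, hg⟩ := IsCyclic.exists_ofOrder_eq_natCard (α := C)
  obtain ⟨e, he⟩ : 2 ^ s ∣ Nat.card C := Nat.ordProj_dvd _ 2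
  have hox : orderOf (T (g ^ e)) = 2 * n := by
    have he0 : e ≠ 0 := by
      intro h0
      rw [h0, mul_zero] at he
      exact Nat.card_pos.ne' he
    rw [orderOf_injective T hT, orderOf_pow_of_dvd he0 (hg ▸ he ▸ Dvd.intro_left _ rfl), hg, he,
      Nat.mul_div_cancel _ (Nat.pos_of_ne_zero he0), h2n]
  set x := T (g ^ e) with hx
  have hxn : (x ^ n) * (x ^ n) = 1 := by
    rw [← pow_add, ← two_mul, ← hox, pow_orderOf_eq_one]
  have hxn1 : x ^ n ≠ 1 := by
    refine pow_ne_one_of_lt_orderOf (by positivity) ?_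
    rw [hox]; have : 0 < n := by positivity
    omega
  have hyx : y * y = x ^ n := by
    refine GL2.sl_ext ?_
    rw [Matrix.SpecialLinearGroup.coe_mul, hy, eq_neg_one_of_sq h2 _ hxn1 hxn]
  have hxy : y * x * y⁻¹ = x⁻¹ := by rw [hx, hconj, map_inv]
  have hnot : y ∉ Subgroup.zpowers x := by
    intro hmem
    obtain ⟨k, hk⟩ := hmem
    have hc : y * x * y⁻¹ = x := by rw [← hk]; group
    rw [hxy] at hc
    have hx2 : x ^ 2 = 1 := by
      rw [sq]
      conv_lhs => arg 1; rw [← hc]
      exact inv_mul_cancel x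
    have := Nat.le_of_dvd two_pos (orderOf_dvd_of_pow_eq_one hx2)
    rw [hox, h2n] at this
    have : 2 ^ 2 ≤ 2 ^ s := Nat.pow_le_pow_right two_pos hs2
    omega
  obtain ⟨f, hf⟩ := CyclicExt.exists_quaternion_hom x y hox hyx hxy hnot
  have : NeZero n := ⟨by positivity⟩
  have hcard : Nat.card f.range = 2 ^ (Nat.card SL(2, F)).factorization 2 := by
    rw [← Nat.card_congr (MonoidHom.ofInjective hf).toEquiv, Nat.card_eq_fintype_card,
      QuaternionGroup.card, h, pow_succ, ← h2n]
    ring
  exact ⟨(P.equiv (Sylow.ofCard f.range hcard)).trans (MonoidHom.ofInjective hf).symm⟩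

theorem star_coe_normOne {A B : F} (z : Torus.normOne F A B) :
    star ((z.1 : (QuadraticAlgebra F A B)ˣ) : QuadraticAlgebra F A B) =
      (((z⁻¹ : Torus.normOne F A B) : (QuadraticAlgebra F A B)ˣ) : QuadraticAlgebra F A B) := by
  have hz := congrArg (algebraMap F (QuadraticAlgebra F A B)) (Torus.mem_normOne.1 z.2)
  rw [QuadraticAlgebra.algebraMap_norm_eq_mul_star, map_one] at hz
  rw [Subgroup.coe_inv]
  exact (Units.inv_eq_of_mul_eq_one_right hz).symm

theorem torus_conj {A B : F} (c : QuadraticAlgebra F A B) (z : Torus.normOne F A B) :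
    Torus.mulMat c * Torus.starMat B *
        Torus.mulMat ((z.1 : (QuadraticAlgebra F A B)ˣ) : QuadraticAlgebra F A B) =
      Torus.mulMat (((z⁻¹ : Torus.normOne F A B) : (QuadraticAlgebra F A B)ˣ) :
          QuadraticAlgebra F A B) * (Torus.mulMat c * Torus.starMat B) := by
  rw [mul_assoc, Torus.starMat_mul_mulMat, ← mul_assoc, ← map_mul, ← mul_assoc, ← map_mul,
    mul_comm c, star_coe_normOne]

/-- The Sylow 2-subgroups of `SL₂` in odd characteristic. -/
theorem sylow_two (hF : Odd (Fintype.card F)) (P : Sylow 2 SL(2, F)) :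
    Nonempty ((P : Subgroup SL(2, F)) ≃*
      QuaternionGroup (2 ^ ((Nat.card SL(2, F)).factorization 2 - 2))) ∧
    3 ≤ (Nat.card SL(2, F)).factorization 2 := by
  have h2 := two_ne_zero_of_odd hF
  have hq : ¬ 2 ∣ Fintype.card F := by rw [Nat.odd_iff] at hF; omega
  have hv := factorization_natCard_SL_two (F := F) Nat.prime_two hq
  have h1 := Fintype.one_lt_card (α := F)
  have one_of : ∀ m, 2 ∣ m → ¬ 4 ∣ m → m ≠ 0 → m.factorization 2 = 1 := by
    intro m h2m h4m hm
    have a : 1 ≤ m.factorization 2 :=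
      (Nat.Prime.pow_dvd_iff_le_factorization Nat.prime_two hm).1 (by simpa using h2m)
    by_contra hne
    exact h4m ((Nat.Prime.pow_dvd_iff_le_factorization Nat.prime_two hm).2 (by omega : 2 ≤ _))
  rcases odd_cases hF with hq4 | hq4
  · have e1 := one_of (Fintype.card F + 1) (by omega) (by omega) (by omega)
    have hv' : (Nat.card SL(2, F)).factorization 2 = (Fintype.card F - 1).factorization 2 + 1 := by
      rw [hv, e1]
    have hs : 2 ≤ (Fintype.card F - 1).factorization 2 :=
      (Nat.Prime.pow_dvd_iff_le_factorization Nat.prime_two (by omega)).1 (by omega)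
    refine ⟨?_, by omega⟩
    let y : SL(2, F) := ⟨!![0, 1; -1, 0], by simp [det_fin_two]⟩
    have := quaternion_sylow_of_hom h2 (Torus.diagHom (F := F)) Torus.diagHom_injective y
      (by
        show !![(0 : F), 1; -1, 0] * !![0, 1; -1, 0] = -1
        ext i j; fin_cases i <;> fin_cases j <;> simp)
      (by
        intro c
        rw [mul_inv_eq_iff_eq_mul]
        refine GL2.sl_ext ?_
        show !![(0 : F), 1; -1, 0] * !![(c : F), 0; 0, (c⁻¹ : Fˣ)] =
          !![((c⁻¹ : Fˣ) : F), 0; 0, ((c⁻¹)⁻¹ : Fˣ)] * !![0, 1; -1, 0]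
        simp)
      (by rw [Linear.natCard_units_eq]; omega) (by rw [Linear.natCard_units_eq]; exact hv') P
    rw [Linear.natCard_units_eq] at this
    rw [hv']
    exact this
  · obtain ⟨A, hA⟩ := Torus.exists_irreducible F
    have : Fact (∀ r : F, r ^ 2 ≠ A + 1 * r) := ⟨hA⟩
    have e1 := one_of (Fintype.card F - 1) (by omega) (by omega) (by omega)
    have hv' : (Nat.card SL(2, F)).factorization 2 = (Fintype.card F + 1).factorization 2 + 1 := by
      rw [hv, e1, add_comm]
    have hs : 2 ≤ (Fintype.card F + 1).factorization 2 :=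
      (Nat.Prime.pow_dvd_iff_le_factorization Nat.prime_two (by omega)).1 (by omega)
    refine ⟨?_, by omega⟩
    obtain ⟨c, hc⟩ := Torus.norm_surjective (A := A) (B := 1) (-1 : F) (by norm_num)
    let y : SL(2, F) := ⟨Torus.mulMat c * Torus.starMat 1, by
      rw [det_mul, Torus.det_mulMat, Torus.det_starMat, hc]; norm_num⟩
    have := quaternion_sylow_of_hom h2 (Torus.torusHom (A := A) (B := 1)) Torus.torusHom_injective y
      (by
        show Torus.mulMat c * Torus.starMat 1 * (Torus.mulMat c * Torus.starMat 1) = -1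
        rw [mul_assoc, ← mul_assoc (Torus.starMat 1), Torus.starMat_mul_mulMat, mul_assoc,
          Torus.starMat_mul_starMat, mul_one, ← map_mul, ← QuadraticAlgebra.algebraMap_norm_eq_mul_star,
          hc, Torus.mulMat_apply]
        ext i j; fin_cases i <;> fin_cases j <;>
          simp [QuadraticAlgebra.re_one, QuadraticAlgebra.im_one])
      (by
        intro z
        rw [mul_inv_eq_iff_eq_mul]
        refine GL2.sl_ext ?_
        exact torus_conj c z)
      (by rw [Torus.natCard_normOne]; omega) (by rw [Torus.natCard_normOne]; exact hv') P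
    rw [Torus.natCard_normOne] at this
    rw [hv']
    exact this

end SL2

end Cfsg.Agent.Classical.SylowSL2
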