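import Mathlib

/-!
# Simplicity of central quotients by Iwasawa's criterion, primitivity of rank three actions
-/

namespace Cfsg.Agent.Classical.Iwasawa

open MulAction
open scoped Pointwise

variable {G X : Type*} [Group G] [MulAction G X]

/-- Iwasawa's criterion for the central quotient of a perfect group acting with central kernel. -/
theorem isSimpleGroup_center_quotient [IsPreprimitive G X] (I : IwasawaStructure G X)
    (hperf : commutator G = ⊤)
    (hker : ∀ g : G, (∀ x : X, g • x = x) → g ∈ Subgroup.center G)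
    (hnt : ∃ g : G, g ∉ Subgroup.center G) :
    IsSimpleGroup (G ⧸ Subgroup.center G) := by
  have : Nontrivial (G ⧸ Subgroup.center G) := by
    obtain ⟨g, hg⟩ := hnt
    exact ⟨⟨(g : G ⧸ Subgroup.center G), 1, fun h => hg ((QuotientGroup.eq_one_iff g).1 h)⟩⟩
  constructor
  intro N hN
  set H := N.comap (QuotientGroup.mk' (Subgroup.center G)) with hH
  by_cases h : fixedPoints H X = Set.univ
  · left
    rw [Subgroup.eq_bot_iff_forall]
    intro z hz
    obtain ⟨g, rfl⟩ := QuotientGroup.mk'_surjective _ z
    refine (QuotientGroup.eq_one_iff g).2 (hker g fun x => ?_)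
    have hx : x ∈ fixedPoints H X := h ▸ Set.mem_univ x
    exact hx ⟨g, hz⟩
  · right
    have hle := I.commutator_le H h
    rw [hperf, top_le_iff] at hle
    rw [← Subgroup.map_comap_eq_self_of_surjective (QuotientGroup.mk'_surjective _) N, ← hH, hle]
    exact Subgroup.map_top_of_surjective _ (QuotientGroup.mk'_surjective _)

/-- A transitive group is primitive if, for an invariant relation `R`, each point stabiliser is
transitive on the `R`-related and on the other points, and both graphs have diameter at most two. -/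
theorem isPreprimitive_of_rel [IsPretransitive G X] (R : X → X → Prop)
    (hR : ∀ (g : G) a b, R a b → R (g • a) (g • b))
    (htr : ∀ a b b', a ≠ b → a ≠ b' → (R a b ↔ R a b') → ∃ g : G, g • a = a ∧ g • b = b')
    (h1 : ∀ x y, x ≠ y → R x y ∨ ∃ z, z ≠ x ∧ z ≠ y ∧ R x z ∧ R z y)
    (h2 : ∀ x y, x ≠ y → ¬ R x y ∨ ∃ z, z ≠ x ∧ z ≠ y ∧ ¬ R x z ∧ ¬ R z y) :
    IsPreprimitive G X where
  isTrivialBlock_of_isBlock {B} hB := by
    by_cases hs : B.Subsingleton
    · exact Or.inl hs
    right
    rw [Set.not_subsingleton_iff] at hs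
    obtain ⟨a, ha, b, hb, hab⟩ := hs
    have mv : ∀ (g : G) (c : X), c ∈ B → g • c ∈ B → g • B = B := by
      intro g c hc hgc
      by_contra hne
      have hd := hB (g₁ := g) (g₂ := 1) (by rwa [one_smul])
      rw [one_smul] at hd
      exact Set.disjoint_left.1 hd (Set.smul_mem_smul_set hc) hgc
    have spread : ∀ c ∈ B, ∀ d, d ≠ c → (R c d ↔ R a b) → d ∈ B := by
      intro c hc d hdc hiff
      obtain ⟨g, rfl⟩ := exists_smul_eq G a c
      have hgB := mv g a ha hc
      have hd' : g⁻¹ • d ≠ a := by
        rwa [Ne, inv_smul_eq_iff]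
      have hiff' : R a b ↔ R a (g⁻¹ • d) := by
        rw [← hiff]
        constructor
        · intro h
          simpa using hR g⁻¹ _ _ h
        · intro h
          simpa using hR g _ _ h
      obtain ⟨k, hka, hkb⟩ := htr a b _ hab hd'.symm hiff'
      have hkB := mv k a ha (by rwa [hka])
      have h1' : g⁻¹ • d ∈ B := by rw [← hkb, ← hkB]; exact Set.smul_mem_smul_set hb
      have := Set.smul_mem_smul_set (a := g) h1'
      rwa [smul_inv_smul, hgB] at this
    refine Set.eq_univ_of_forall fun y => ?_
    by_cases hy : y = a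
    · exact hy ▸ ha
    by_cases hRab : R a b
    · rcases h1 a y (Ne.symm hy) with h | ⟨z, hza, hzy, haz, hzy'⟩
      · exact spread a ha y hy (iff_of_true h hRab)
      · exact spread z (spread a ha z hza (iff_of_true haz hRab)) y (Ne.symm hzy)
          (iff_of_true hzy' hRab)
    · rcases h2 a y (Ne.symm hy) with h | ⟨z, hza, hzy, haz, hzy'⟩
      · exact spread a ha y hy (iff_of_false h hRab)
      · exact spread z (spread a ha z hza (iff_of_false haz hRab)) y (Ne.symm hzy)
          (iff_of_false hzy' hRab)

/-- A finite affine hyperplane count. -/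
theorem natCard_mul_fiber {F W : Type*} [Field F] [AddCommGroup W] [Module F W]
    (φ : W →ₗ[F] F) (hφ : φ ≠ 0) (c : F) :
    Nat.card {w : W // φ w = c} * Nat.card F = Nat.card W := by
  obtain ⟨u, hu⟩ : ∃ u, φ u ≠ 0 := by
    by_contra h
    push Not at h
    exact hφ (LinearMap.ext h)
  rw [← Nat.card_prod]
  refine Nat.card_congr
    { toFun := fun p => p.1.1 + ((p.2 - c) / φ u) • u
      invFun := fun w => (⟨w - ((φ w - c) / φ u) • u, by simp [hu]⟩, φ w)
      left_inv := fun p => ?_
      right_inv := fun w => by simp }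
  obtain ⟨⟨v, hv⟩, d⟩ := p
  have : φ (v + ((d - c) / φ u) • u) = d := by simp [hv, hu]
  simp [this, hv]

end Cfsg.Agent.Classical.Iwasawa
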