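import Mathlib
import Cfsg.Prelude.Def_Classical
import Cfsg.Agent.Lib.Forms.Reflections
import Cfsg.Agent.Lib.Forms.Spinor

/-!
# Eichler transformations: they generate `Ω`, and `Ω` is perfect (dimension at least five, Witt index
at least two)
-/

set_option autoImplicit false
set_option linter.unusedSectionVars false
set_option linter.unusedSimpArgs false

namespace Cfsg.Agent.Classical.Orth

open Matrix Cfsg.Agent.Forms Cfsg.Agent.Forms.QuadStd Cfsg.Agent.Forms.Reflections
open scoped commutatorElement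

variable {F : Type*} [Field F] {ι : Type} [Fintype ι] [DecidableEq ι]
variable {Q : QuadraticForm F (ι → F)}

local notation "Vec" => (ι → F)
local notation "B" => QuadraticMap.polar Q

theorem polar_self' (x : Vec) : B x x = 2 * Q x := by
  simp [QuadraticMap.polar_self]

theorem polar_self_zero {u : Vec} (hu : Q u = 0) : B u u = 0 := by
  rw [polar_self', hu, mul_zero]

theorem map_add' (x y : Vec) : Q (x + y) = Q x + Q y + B x y := by
  simp [QuadraticMap.polar]

theorem map_smul' (t : F) (x : Vec) : Q (t • x) = t * t * Q x := by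
  simp [QuadraticMap.map_smul]

/-- Expansion of all values of `Q` and of its polar form on linear combinations. -/
theorem map_sub' (x y : Vec) : Q (x - y) = Q x + Q y - B x y := by
  rw [sub_eq_add_neg, map_add', QuadraticMap.map_neg, QuadraticMap.polar_neg_right]; ring

/-! ### Eichler transformations -/

/-- The linear map `x ↦ x + f(x,u) w - f(x,w) u - Q(w) f(x,u) u`. -/
noncomputable def eichLin (Q : QuadraticForm F (ι → F)) (u w : ι → F) : (ι → F) →ₗ[F] (ι → F) :=
  LinearMap.id + (polB Q u).smulRight w - (polB Q w).smulRight u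
    - (Q w • polB Q u).smulRight u

theorem eichLin_apply (u w x : Vec) :
    eichLin Q u w x = x + B x u • w - B x w • u - (Q w * B x u) • u := by
  simp [eichLin, polB_apply, QuadraticMap.polar_comm _ u x, QuadraticMap.polar_comm _ w x]

theorem eichLin_map {u w : Vec} (hu : Q u = 0) (huw : B u w = 0) (x : Vec) :
    Q (eichLin Q u w x) = Q x := by
  simp only [eichLin_apply, map_sub', map_add', map_smul', QuadraticMap.polar_add_left,
    QuadraticMap.polar_add_right, QuadraticMap.polar_sub_left, QuadraticMap.polar_smul_left,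
    QuadraticMap.polar_smul_right, smul_eq_mul, hu, polar_self' w, QuadraticMap.polar_comm _ w u,
    huw, polar_self_zero hu]
  ring

theorem eichLin_add {u w w' : Vec} (hu : Q u = 0) (huw : B u w = 0) (huw' : B u w' = 0) (x : Vec) :
    eichLin Q u w (eichLin Q u w' x) = eichLin Q u (w + w') x := by
  simp only [eichLin_apply, map_add', QuadraticMap.polar_add_left, QuadraticMap.polar_add_right,
    QuadraticMap.polar_sub_left, QuadraticMap.polar_smul_left, smul_eq_mul, polar_self_zero hu,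
    huw, QuadraticMap.polar_comm _ w' u, huw', QuadraticMap.polar_comm _ w' w]
  module

theorem eichLin_zero (u x : Vec) : eichLin Q u 0 x = x := by
  simp [eichLin_apply]

/-- An Eichler transformation as an isometry. -/
noncomputable def eich (u w : Vec) (hu : Q u = 0) (huw : B u w = 0) :
    Cfsg.isometryGroup F ⇑Q :=
  isoOfEquiv ⇑Q
    (LinearEquiv.ofLinearMap (eichLin Q u w) (eichLin Q u (-w))
      (LinearMap.ext fun x => by
        rw [LinearMap.comp_apply, eichLin_add hu huw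
          (by rw [QuadraticMap.polar_neg_right, huw, neg_zero]), add_neg_cancel, eichLin_zero]
        rfl)
      (LinearMap.ext fun x => by
        rw [LinearMap.comp_apply, eichLin_add hu
          (by rw [QuadraticMap.polar_neg_right, huw, neg_zero]) huw, neg_add_cancel, eichLin_zero]
        rfl))
    (fun x => eichLin_map hu huw x)

theorem act_eich {u w : Vec} (hu : Q u = 0) (huw : B u w = 0) (x : Vec) :
    act (eich u w hu huw) x = x + B x u • w - B x w • u - (Q w * B x u) • u := by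
  rw [act_apply]
  exact (isoOfEquiv_mulVec _ _ _ x).trans (eichLin_apply u w x)

theorem act_ext {g h : Cfsg.isometryGroup F ⇑Q} (H : ∀ x, act g x = act h x) : g = h :=
  iso_ext fun x => by rw [← act_apply, ← act_apply, H]

theorem eich_congr {u w w' : Vec} (h : w = w') (hu : Q u = 0) (huw : B u w = 0) :
    eich u w hu huw = eich u w' hu (h ▸ huw) := by subst h; rfl

theorem eich_mul {u w w' : Vec} (hu : Q u = 0) (huw : B u w = 0) (huw' : B u w' = 0) :
    eich u w hu huw * eich u w' hu huw' =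
      eich u (w + w') hu (by rw [QuadraticMap.polar_add_right, huw, huw', add_zero]) := by
  refine act_ext fun x => ?_
  rw [act_mul, act_eich, act_eich, act_eich]
  have := eichLin_add hu huw huw' x
  rwa [eichLin_apply, eichLin_apply, eichLin_apply] at this

theorem eich_zero_right {u : Vec} (hu : Q u = 0) (h : B u 0 = 0) : eich u 0 hu h = 1 :=
  act_ext fun x => by rw [act_eich, act_one]; simp

theorem eich_zero_left {w : Vec} (h0 : Q (0 : Vec) = 0) (h : B 0 w = 0) :
    eich 0 w h0 h = 1 :=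
  act_ext fun x => by rw [act_eich, act_one]; simp

theorem eich_inv {u w : Vec} (hu : Q u = 0) (huw : B u w = 0) :
    (eich u w hu huw)⁻¹ = eich u (-w) hu (by rw [QuadraticMap.polar_neg_right, huw, neg_zero]) := by
  rw [inv_eq_iff_mul_eq_one, eich_mul, eich_congr (add_neg_cancel w), eich_zero_right]

theorem eich_conj (g : Cfsg.isometryGroup F ⇑Q) {u w : Vec} (hu : Q u = 0) (huw : B u w = 0) :
    g * eich u w hu huw * g⁻¹ =
      eich (act g u) (act g w) (by rw [act_map]; exact hu) (by rw [act_polar]; exact huw) := by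
  rw [mul_inv_eq_iff_eq_mul]
  refine act_ext fun x => ?_
  rw [act_mul, act_mul, act_eich, act_eich, map_sub, map_sub, map_add, map_smul, map_smul,
    map_smul, act_map, act_polar, act_polar]

theorem eich_smul {u w : Vec} (t : F) (hu : Q (t • u) = 0) (huw : B (t • u) w = 0)
    (hu' : Q u = 0) (huw' : B u (t • w) = 0) :
    eich (t • u) w hu huw = eich u (t • w) hu' huw' :=
  act_ext fun x => by
    simp only [act_eich, QuadraticMap.polar_smul_right, smul_eq_mul, map_smul']
    module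

theorem eich_add_self {u w : Vec} (s : F) (hu : Q u = 0) (huw : B u w = 0)
    (h : B u (w + s • u) = 0) : eich u (w + s • u) hu h = eich u w hu huw :=
  act_ext fun x => by
    simp only [act_eich, map_add', map_smul', QuadraticMap.polar_add_right,
      QuadraticMap.polar_smul_right, smul_eq_mul, hu, QuadraticMap.polar_comm _ w u, huw]
    module

theorem act_eich_self {u w : Vec} (hu : Q u = 0) (huw : B u w = 0) :
    act (eich u w hu huw) u = u := by
  rw [act_eich, polar_self_zero hu, huw]; simp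

theorem act_eich_fix {u w x : Vec} (hu : Q u = 0) (huw : B u w = 0) (hxu : B x u = 0)
    (hxw : B x w = 0) : act (eich u w hu huw) x = x := by
  rw [act_eich, hxu, hxw]; simp

/-- The Eichler transformations with both vectors in `S`. -/
def eSet (Q : QuadraticForm F (ι → F)) (S : Submodule F (ι → F)) :
    Set (Cfsg.isometryGroup F ⇑Q) :=
  {g | ∃ (u w : ι → F) (hu : Q u = 0) (huw : QuadraticMap.polar Q u w = 0),
    u ∈ S ∧ w ∈ S ∧ g = eich u w hu huw}

/-- The subgroup generated by the Eichler transformations inside `S`. -/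
def eGroup (Q : QuadraticForm F (ι → F)) (S : Submodule F (ι → F)) :
    Subgroup (Cfsg.isometryGroup F ⇑Q) :=
  Subgroup.closure (eSet Q S)

theorem eich_mem {S : Submodule F Vec} {u w : Vec} (hu : Q u = 0) (huw : B u w = 0) (h1 : u ∈ S)
    (h2 : w ∈ S) : eich u w hu huw ∈ eGroup Q S :=
  Subgroup.subset_closure ⟨u, w, hu, huw, h1, h2, rfl⟩

theorem eGroup_le_top (S : Submodule F Vec) : eGroup Q S ≤ eGroup Q ⊤ := by
  refine (Subgroup.closure_le _).2 ?_
  rintro g ⟨u, w, hu, huw, -, -, rfl⟩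
  exact eich_mem hu huw trivial trivial

theorem eGroup_fix {S : Submodule F Vec} {g : Cfsg.isometryGroup F ⇑Q} (hg : g ∈ eGroup Q S)
    {x : Vec} (hx : ∀ s ∈ S, B x s = 0) : act g x = x := by
  induction hg using Subgroup.closure_induction with
  | mem g hg =>
    obtain ⟨u, w, hu, huw, h1, h2, rfl⟩ := hg
    exact act_eich_fix hu huw (hx _ h1) (hx _ h2)
  | one => exact act_one x
  | mul a b _ _ iha ihb => rw [act_mul, ihb, iha]
  | inv a _ iha =>
    conv_lhs => rw [← iha]
    exact Spinor.act_inv_cancel a x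

theorem eGroup_top_normal : (eGroup Q ⊤).Normal := by
  refine ⟨fun n hn g => ?_⟩
  suffices h : eGroup Q ⊤ ≤ (eGroup Q ⊤).comap (MulAut.conj g).toMonoidHom from h hn
  refine (Subgroup.closure_le _).2 ?_
  rintro _ ⟨u, w, hu, huw, -, -, rfl⟩
  show g * eich u w hu huw * g⁻¹ ∈ eGroup Q ⊤
  rw [eich_conj]
  exact eich_mem _ _ trivial trivial

/-! ### Hyperbolic pairs and the basic moves -/

/-- A hyperbolic pair. -/
structure IsPair (Q : QuadraticForm F (ι → F)) (u v : ι → F) : Prop where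
  hu : Q u = 0
  hv : Q v = 0
  huv : QuadraticMap.polar Q u v = 1

theorem IsPair.symm {u v : Vec} (h : IsPair Q u v) : IsPair Q v u :=
  ⟨h.hv, h.hu, by rw [QuadraticMap.polar_comm]; exact h.huv⟩

theorem IsPair.hvu {u v : Vec} (h : IsPair Q u v) : B v u = 1 := by
  rw [QuadraticMap.polar_comm]; exact h.huv

/-- The component orthogonal to a pair. -/
def proj (Q : QuadraticForm F (ι → F)) (u v x : ι → F) : ι → F :=
  x - QuadraticMap.polar Q x v • u - QuadraticMap.polar Q x u • v

theorem proj_add (u v x : Vec) : x = B x v • u + B x u • v + proj Q u v x := by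
  rw [proj]; module

theorem proj_perp {u v : Vec} (h : IsPair Q u v) (x : Vec) :
    B (proj Q u v x) u = 0 ∧ B (proj Q u v x) v = 0 := by
  constructor <;>
    simp [proj, QuadraticMap.polar_sub_left, QuadraticMap.polar_smul_left, polar_self_zero h.hu,
      polar_self_zero h.hv, h.huv, h.hvu]

theorem proj_mem {S : Submodule F Vec} {u v x : Vec} (hu : u ∈ S) (hv : v ∈ S) (hx : x ∈ S) :
    proj Q u v x ∈ S :=
  S.sub_mem (S.sub_mem hx (S.smul_mem _ hu)) (S.smul_mem _ hv)

theorem pair_value {u v : Vec} (h : IsPair Q u v) (a b : F) : Q (a • u + b • v) = a * b := by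
  simp only [map_add', map_smul', QuadraticMap.polar_smul_left, QuadraticMap.polar_smul_right,
    h.hu, h.hv, h.huv, smul_eq_mul]
  ring

theorem kill_u {S : Submodule F Vec} {u v : Vec} (hp : IsPair Q u v) (hu : u ∈ S) (hv : v ∈ S)
    {z : Vec} (hz : z ∈ S) (h : B z u ≠ 0) :
    ∃ g ∈ eGroup Q S, act g u = u ∧ ∃ a, act g z = a • u + B z u • v ∧ a * B z u = Q z := by
  set w := (-(B z u)⁻¹) • proj Q u v z with hw
  have huw : B u w = 0 := by
    rw [QuadraticMap.polar_comm, hw, QuadraticMap.polar_smul_left, (proj_perp hp z).1, smul_zero]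
  refine ⟨eich u w hp.hu huw, eich_mem _ _ hu (S.smul_mem _ (proj_mem hu hv hz)),
    act_eich_self _ _, B z v - B z w - Q w * B z u, ?_, ?_⟩
  · rw [act_eich]
    nth_rw 1 [proj_add (Q := Q) u v z]
    rw [hw, smul_smul, mul_neg, mul_inv_cancel₀ h]
    module
  · have he : act (eich u w hp.hu huw) z = (B z v - B z w - Q w * B z u) • u + B z u • v := by
      rw [act_eich]
      nth_rw 1 [proj_add (Q := Q) u v z]
      rw [hw, smul_smul, mul_neg, mul_inv_cancel₀ h]
      module
    rw [← pair_value hp, ← he, act_map]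

theorem kill_v {S : Submodule F Vec} {u v : Vec} (hp : IsPair Q u v) (hu : u ∈ S) (hv : v ∈ S)
    {z : Vec} (hz : z ∈ S) (h : B z v ≠ 0) :
    ∃ g ∈ eGroup Q S, act g v = v ∧ ∃ b, act g z = B z v • u + b • v ∧ b * B z v = Q z := by
  obtain ⟨g, hg, hgv, b, hb, hb'⟩ := kill_u hp.symm hv hu hz h
  exact ⟨g, hg, hgv, b, by rw [hb, add_comm], hb'⟩

theorem act_mem {S : Submodule F Vec} {g : Cfsg.isometryGroup F ⇑Q} (hg : g ∈ eGroup Q S)
    {x : Vec} (hx : x ∈ S) : act g x ∈ S := by
  induction hg using Subgroup.closure_induction_left generalizing x with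
  | one => rwa [act_one]
  | mul_left y hy z _ ih =>
    obtain ⟨u, w, hu, huw, h1, h2, rfl⟩ := hy
    rw [act_mul, act_eich]
    exact S.sub_mem (S.sub_mem (S.add_mem (ih hx) (S.smul_mem _ h2)) (S.smul_mem _ h1))
      (S.smul_mem _ h1)
  | inv_mul_cancel y hy z _ ih =>
    obtain ⟨u, w, hu, huw, h1, h2, rfl⟩ := hy
    rw [act_mul, eich_inv, act_eich]
    exact S.sub_mem (S.sub_mem (S.add_mem (ih hx) (S.smul_mem _ (S.neg_mem h2))) (S.smul_mem _ h1))
      (S.smul_mem _ h1)

theorem exists_off_pair {S : Submodule F Vec} {u v : Vec} (hp : IsPair Q u v) (hu : u ∈ S)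
    (hv : v ∈ S) (hS : ∀ z ∈ S, (∀ s ∈ S, B z s = 0) → z = 0) {z : Vec} (hz : z ∈ S) (hz0 : z ≠ 0) :
    ∃ g ∈ eGroup Q S, B (act g z) u ≠ 0 ∨ B (act g z) v ≠ 0 := by
  by_cases h : B z u ≠ 0 ∨ B z v ≠ 0
  · exact ⟨1, one_mem _, by rwa [act_one]⟩
  push Not at h
  obtain ⟨s, hs, hzs⟩ : ∃ s ∈ S, B z s ≠ 0 := by
    by_contra hcon
    push Not at hcon
    exact hz0 (hS z hz hcon)
  set w := proj Q u v s with hw
  have hzw : B z w = B z s := by
    simp [hw, proj, QuadraticMap.polar_sub_right, QuadraticMap.polar_smul_right, h.1, h.2]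
  have hvw : B v w = 0 := by rw [hw, QuadraticMap.polar_comm]; exact (proj_perp hp s).2
  refine ⟨eich v w hp.hv hvw, eich_mem _ _ hv (proj_mem hu hv hs), Or.inl ?_⟩
  simp [act_eich, h.1, h.2, QuadraticMap.polar_sub_left, QuadraticMap.polar_smul_left, hp.hvu,
    hzw, hzs]

/-- All vectors of a given non-zero value are conjugate. -/
theorem level_move {S : Submodule F Vec} {u v : Vec} (hp : IsPair Q u v) (hu : u ∈ S) (hv : v ∈ S)
    (hS : ∀ z ∈ S, (∀ s ∈ S, B z s = 0) → z = 0)
    (hval : ∀ t : F, ∃ w ∈ S, B u w = 0 ∧ B v w = 0 ∧ Q w = t)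
    {z : Vec} (hz : z ∈ S) (hc : Q z ≠ 0) :
    ∃ g ∈ eGroup Q S, act g z = Q z • u + v := by
  have hz0 : z ≠ 0 := fun h => hc (by rw [h, QuadraticMap.map_zero])
  obtain ⟨g₀, hg₀, hoff⟩ := exists_off_pair hp hu hv hS hz hz0
  -- a vector in the plane of the pair
  obtain ⟨g₁, hg₁, a, b, hab, habc⟩ : ∃ g ∈ eGroup Q S, ∃ a b,
      act g z = a • u + b • v ∧ a * b = Q z := by
    rcases hoff with h | h
    · obtain ⟨g, hg, -, a, ha, ha'⟩ := kill_u hp hu hv (act_mem hg₀ hz) h
      exact ⟨g * g₀, mul_mem hg hg₀, a, _, by rw [act_mul, ha], by rw [ha', act_map]⟩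
    · obtain ⟨g, hg, -, b, hb, hb'⟩ := kill_v hp hu hv (act_mem hg₀ hz) h
      exact ⟨g * g₀, mul_mem hg hg₀, _, b, by rw [act_mul, hb], by rw [mul_comm, hb', act_map]⟩
  have ha0 : a ≠ 0 := fun h => hc (by rw [← habc, h, zero_mul])
  obtain ⟨w, hwS, huw, hvw, hQw⟩ := hval ((b - 1) / a)
  set z₂ := act (eich v w hp.hv hvw) (a • u + b • v) with hz₂
  have hz₂' : z₂ = a • u + a • w + v := by
    simp only [hz₂, act_eich, QuadraticMap.polar_add_left, QuadraticMap.polar_smul_left,
      smul_eq_mul, hp.huv, polar_self_zero hp.hv, huw, hvw, hQw]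
    match_scalars <;> field_simp <;> ring
  have hz₂S : z₂ ∈ S := act_mem (eich_mem _ _ hv hwS) (S.add_mem (S.smul_mem _ hu) (S.smul_mem _ hv))
  have hβ : B z₂ u = 1 := by
    simp [hz₂', QuadraticMap.polar_add_left, QuadraticMap.polar_smul_left, polar_self_zero hp.hu,
      hp.hvu, QuadraticMap.polar_comm _ w u, huw]
  obtain ⟨g, hg, -, a', ha', ha''⟩ := kill_u hp hu hv hz₂S (by rw [hβ]; exact one_ne_zero)
  refine ⟨g * eich v w hp.hv hvw * g₁, mul_mem (mul_mem hg (eich_mem _ _ hv hwS)) hg₁, ?_⟩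
  rw [act_mul, act_mul, hab, ← hz₂, ha', hβ, one_smul]
  congr 2
  rw [hβ, mul_one, hz₂, act_map, pair_value hp, habc] at ha''
  exact ha''

/-- All singular points of `S` are conjugate. -/
theorem point_move {S : Submodule F Vec} {u v : Vec} (hp : IsPair Q u v) (hu : u ∈ S) (hv : v ∈ S)
    (hS : ∀ z ∈ S, (∀ s ∈ S, B z s = 0) → z = 0)
    {w : Vec} (hw : w ∈ S) (huw : B u w = 0) (hvw : B v w = 0) (hQw : Q w ≠ 0)
    {z : Vec} (hz : z ∈ S) (hz0 : z ≠ 0) (hQz : Q z = 0) :
    ∃ g ∈ eGroup Q S, ∃ a : F, a ≠ 0 ∧ act g z = a • u := by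
  have fromv : ∀ y ∈ S, Q y = 0 → B y v ≠ 0 → ∃ g ∈ eGroup Q S, ∃ a : F, a ≠ 0 ∧ act g y = a • u := by
    intro y hy hQy h
    obtain ⟨g, hg, -, b, hb, hb'⟩ := kill_v hp hu hv hy h
    rw [hQy, mul_eq_zero, or_iff_left h] at hb'
    exact ⟨g, hg, _, h, by rw [hb, hb', zero_smul, add_zero]⟩
  obtain ⟨g₀, hg₀, hoff⟩ := exists_off_pair hp hu hv hS hz hz0
  have hy := act_mem hg₀ hz
  by_cases h : B (act g₀ z) v ≠ 0
  · obtain ⟨g, hg, a, ha0, ha⟩ := fromv _ hy (by rw [act_map]; exact hQz) h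
    exact ⟨g * g₀, mul_mem hg hg₀, a, ha0, by rw [act_mul, ha]⟩
  push Not at h
  have hβ : B (act g₀ z) u ≠ 0 := hoff.resolve_right (fun h' => h' h)
  obtain ⟨g₁, hg₁, -, a, ha, ha'⟩ := kill_u hp hu hv hy hβ
  rw [act_map, hQz, mul_eq_zero, or_iff_left hβ] at ha'
  rw [ha', zero_smul, zero_add] at ha
  set y := act (eich u w hp.hu huw) (B (act g₀ z) u • v) with hy'
  have hyv : B y v ≠ 0 := by
    simp [hy', act_eich, QuadraticMap.polar_add_left, QuadraticMap.polar_sub_left,
      QuadraticMap.polar_smul_left, polar_self_zero hp.hv, hp.huv, hp.hvu,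
      QuadraticMap.polar_comm _ w v, hvw, hβ, hQw]
  obtain ⟨g, hg, a', ha0, hga⟩ := fromv y (act_mem (eich_mem _ _ hu hw) (S.smul_mem _ hv))
    (by rw [hy', act_map, map_smul', hp.hv, mul_zero]) hyv
  refine ⟨g * eich u w hp.hu huw * g₁ * g₀,
    mul_mem (mul_mem (mul_mem hg (eich_mem _ _ hu hw)) hg₁) hg₀, a', ha0, ?_⟩
  rw [act_mul, act_mul, act_mul, ha, ← hy', hga]

/-! ### Frames -/

/-- Two orthogonal hyperbolic pairs and a non-singular vector orthogonal to both. -/
structure Frame (Q : QuadraticForm F (ι → F)) where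
  u : ι → F
  v : ι → F
  u' : ι → F
  v' : ι → F
  x₀ : ι → F
  p : IsPair Q u v
  p' : IsPair Q u' v'
  uu' : QuadraticMap.polar Q u u' = 0
  uv' : QuadraticMap.polar Q u v' = 0
  vu' : QuadraticMap.polar Q v u' = 0
  vv' : QuadraticMap.polar Q v v' = 0
  ux : QuadraticMap.polar Q u x₀ = 0
  vx : QuadraticMap.polar Q v x₀ = 0
  u'x : QuadraticMap.polar Q u' x₀ = 0
  v'x : QuadraticMap.polar Q v' x₀ = 0
  hx : Q x₀ ≠ 0

/-- Exchange the two vectors of the second pair. -/
def Frame.swap' (f : Frame Q) : Frame Q where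
  u := f.u
  v := f.v
  u' := f.v'
  v' := f.u'
  x₀ := f.x₀
  p := f.p
  p' := f.p'.symm
  uu' := f.uv'
  uv' := f.uu'
  vu' := f.vv'
  vv' := f.vu'
  ux := f.ux
  vx := f.vx
  u'x := f.v'x
  v'x := f.u'x
  hx := f.hx

variable (hQ : (QuadraticMap.polarBilin Q).Nondegenerate) (f : Frame Q)

include hQ in
theorem nondeg_top : ∀ z ∈ (⊤ : Submodule F Vec), (∀ s ∈ (⊤ : Submodule F Vec), B z s = 0) → z = 0 :=
  fun z _ h => hQ.1 z fun s => h s trivial

/-- The orthogonal complement of the first pair. -/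
noncomputable def Frame.W : Submodule F (ι → F) :=
  LinearMap.ker (polB Q f.u) ⊓ LinearMap.ker (polB Q f.v)

theorem Frame.mem_W {x : Vec} : x ∈ f.W ↔ B f.u x = 0 ∧ B f.v x = 0 := by
  simp [Frame.W, polB_apply]

include hQ in
theorem Frame.W_nondeg : ∀ z ∈ f.W, (∀ s ∈ f.W, B z s = 0) → z = 0 := by
  intro z hz h
  obtain ⟨hzu, hzv⟩ := f.mem_W.1 hz
  refine hQ.1 z fun s => ?_
  show B z s = 0
  have hp := proj_perp f.p s
  have hs : proj Q f.u f.v s ∈ f.W := f.mem_W.2
    ⟨by rw [QuadraticMap.polar_comm]; exact hp.1, by rw [QuadraticMap.polar_comm]; exact hp.2⟩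
  rw [proj_add (Q := Q) f.u f.v s]
  simp [QuadraticMap.polar_add_right, QuadraticMap.polar_smul_right,
    QuadraticMap.polar_comm _ z f.u, hzu, QuadraticMap.polar_comm _ z f.v, hzv, h _ hs]

theorem Frame.exists_value_W (t : F) :
    ∃ w, B f.u w = 0 ∧ B f.v w = 0 ∧ Q w = t :=
  ⟨t • f.u' + (1 : F) • f.v',
    by simp [QuadraticMap.polar_add_right, QuadraticMap.polar_smul_right, f.uu', f.uv'],
    by simp [QuadraticMap.polar_add_right, QuadraticMap.polar_smul_right, f.vu', f.vv'],
    by rw [pair_value f.p', mul_one]⟩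

include hQ f in
theorem reflect_mk_eq {z z' : Vec} (hz : Q z ≠ 0) (h : Q z' = Q z) :
    (QuotientGroup.mk (reflect Q z) : Cfsg.isometryGroup F ⇑Q ⧸ eGroup Q ⊤) =
      QuotientGroup.mk (reflect Q z') := by
  have := eGroup_top_normal (Q := Q)
  have key : ∀ y : Vec, Q y ≠ 0 →
      (QuotientGroup.mk (reflect Q y) : Cfsg.isometryGroup F ⇑Q ⧸ eGroup Q ⊤) =
        QuotientGroup.mk (reflect Q (Q y • f.u + f.v)) := by
    intro y hy
    obtain ⟨g, hg, hgy⟩ := level_move (S := ⊤) f.p trivial trivial (nondeg_top hQ)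
      (fun t => by
        obtain ⟨w, h1, h2, h3⟩ := f.exists_value_W t
        exact ⟨w, trivial, h1, h2, h3⟩) (z := y) trivial hy
    rw [← hgy, ← Spinor.reflect_conj g y]
    rw [QuotientGroup.mk_mul, QuotientGroup.mk_mul, QuotientGroup.mk_inv,
      (QuotientGroup.eq_one_iff g).2 hg, one_mul, inv_one, mul_one]
  rw [key z hz, key z' (by rw [h]; exact hz), h]

include hQ f in
theorem quotient_comm [Fintype F] (hn : 5 ≤ Fintype.card ι)
    (a b : Cfsg.isometryGroup F ⇑Q) : ⁅a, b⁆ ∈ eGroup Q ⊤ := by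
  have := eGroup_top_normal (Q := Q)
  set π := QuotientGroup.mk' (eGroup Q ⊤) with hπ
  have htop := refGroup_eq_top hQ (Or.inr (by omega))
  have hgen : ∀ g : Cfsg.isometryGroup F ⇑Q, π g ∈ Subgroup.closure
      {x | ∃ z, Q z ≠ 0 ∧ x = π (reflect Q z)} := by
    intro g
    have h : refGroup Q ≤ (Subgroup.closure {x | ∃ z, Q z ≠ 0 ∧ x = π (reflect Q z)}).comap π := by
      refine (Subgroup.closure_le _).2 ?_
      rintro _ ⟨z, hz, rfl⟩
      exact Subgroup.subset_closure ⟨z, hz, rfl⟩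
    exact h (htop ▸ Subgroup.mem_top g)
  have hcomm : ∀ x ∈ {x | ∃ z, Q z ≠ 0 ∧ x = π (reflect Q z)},
      ∀ y ∈ {x | ∃ z, Q z ≠ 0 ∧ x = π (reflect Q z)}, x * y = y * x := by
    rintro _ ⟨z, hz, rfl⟩ _ ⟨z', hz', rfl⟩
    set a := Q z • f.u + (1 : F) • f.v with ha
    set b := Q z' • f.u' + (1 : F) • f.v' with hb
    have hQa : Q a = Q z := by rw [ha, pair_value f.p, mul_one]
    have hQb : Q b = Q z' := by rw [hb, pair_value f.p', mul_one]
    have hab : B a b = 0 := by
      simp [ha, hb, QuadraticMap.polar_add_left, QuadraticMap.polar_smul_left,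
        QuadraticMap.polar_add_right, QuadraticMap.polar_smul_right, f.uu', f.uv', f.vu', f.vv']
    have hfix : act (reflect Q b) a = a := by
      rw [act_reflect, QuadraticMap.polar_comm, hab]; simp
    have hc : reflect Q b * reflect Q a = reflect Q a * reflect Q b := by
      have := Spinor.reflect_conj (reflect Q b) a
      rw [hfix, mul_inv_eq_iff_eq_mul] at this
      exact this
    rw [QuotientGroup.mk'_apply, QuotientGroup.mk'_apply, reflect_mk_eq hQ f hz hQa,
      reflect_mk_eq hQ f hz' hQb, ← QuotientGroup.mk_mul, ← QuotientGroup.mk_mul, hc]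
  rw [← QuotientGroup.eq_one_iff]
  show π ⁅a, b⁆ = 1
  rw [map_commutatorElement, commutatorElement_eq_one_iff_mul_comm]
  have hK := Subgroup.isMulCommutative_closure hcomm
  exact congrArg Subtype.val (hK.is_comm.comm ⟨π a, hgen a⟩ ⟨π b, hgen b⟩)

include hQ f in
theorem eich_mem_commutator (u₁ w₁ : Vec) (hu₁ : Q u₁ = 0) (huw₁ : B u₁ w₁ = 0) :
    eich u₁ w₁ hu₁ huw₁ ∈ ⁅eGroup Q ⊤, eGroup Q ⊤⁆ := by
  have := eGroup_top_normal (Q := Q)
  set C := ⁅eGroup Q ⊤, eGroup Q ⊤⁆ with hC
  have hCn : C.Normal := Subgroup.commutator_normal _ _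
  set M : Set Vec := {w | ∃ h : B f.u w = 0, eich f.u w f.p.hu h ∈ C} with hM
  have M_add : ∀ a ∈ M, ∀ b ∈ M, a + b ∈ M := by
    rintro a ⟨ha, ha'⟩ b ⟨hb, hb'⟩
    exact ⟨_, eich_mul f.p.hu ha hb ▸ C.mul_mem ha' hb'⟩
  have key : ∀ (g : Cfsg.isometryGroup F ⇑Q) (w : Vec), g ∈ eGroup Q ⊤ → act g f.u = f.u →
      B f.u w = 0 → act g w - w ∈ M := by
    intro g w hg hgu hw
    have hgw : B f.u (act g w) = 0 := by
      conv_lhs => rw [← hgu]
      rw [act_polar, hw]
    refine ⟨by rw [QuadraticMap.polar_sub_right, hgw, hw, sub_zero], ?_⟩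
    have e : eich f.u (act g w - w) f.p.hu (by rw [QuadraticMap.polar_sub_right, hgw, hw, sub_zero])
        = ⁅g, eich f.u w f.p.hu hw⁆ := by
      rw [commutatorElement_def, eich_conj, eich_inv]
      simp only [hgu]
      rw [eich_mul, eich_congr (sub_eq_add_neg _ _)]
    rw [e]
    exact Subgroup.commutator_mem_commutator hg (eich_mem _ _ trivial trivial)
  have M_pairs : ∀ (f : Frame Q) (t : F), ∃ (x y : Vec), B f.u x = 0 ∧ B f.v' x = 0 ∧
      B f.u y = 0 ∧ B f.v' y = 0 ∧ B y x = t := by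
    intro f t
    obtain ⟨s, hs⟩ : ∃ s, B f.x₀ s ≠ 0 := by
      by_contra hcon
      push Not at hcon
      exact f.hx (by rw [hQ.1 f.x₀ hcon, QuadraticMap.map_zero])
    set y := proj Q f.u' f.v' (proj Q f.u f.v s) with hy
    have hy1 := proj_perp f.p s
    have hy2 := proj_perp f.p' (proj Q f.u f.v s)
    have huy : B f.u y = 0 := by
      simp [hy, proj, QuadraticMap.polar_sub_right, QuadraticMap.polar_smul_right, f.uu', f.uv',
        polar_self_zero f.p.hu, f.p.huv, QuadraticMap.polar_comm _ f.u s]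
    have hyx : B y f.x₀ = B f.x₀ s := by
      simp [hy, proj, QuadraticMap.polar_sub_left, QuadraticMap.polar_smul_left, f.ux, f.vx,
        f.u'x, f.v'x, QuadraticMap.polar_comm _ s f.x₀]
    refine ⟨(t / B f.x₀ s) • f.x₀, y, by simp [QuadraticMap.polar_smul_right, f.ux],
      by simp [QuadraticMap.polar_smul_right, f.v'x], huy,
      by rw [QuadraticMap.polar_comm]; exact hy2.2, ?_⟩
    rw [QuadraticMap.polar_smul_right, hyx, smul_eq_mul, div_mul_cancel₀ _ hs]
  have M_line : ∀ t : F, t • f.v' ∈ M ∧ t • f.u' ∈ M := by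
    intro t
    constructor
    · obtain ⟨x, y, hux, hv'x, huy, hv'y, hyx⟩ := M_pairs f (-t)
      have h := key (eich f.v' x f.p'.hv hv'x) y (eich_mem _ _ trivial trivial)
        (act_eich_fix _ _ f.uv' hux) huy
      rwa [act_eich, QuadraticMap.polar_comm _ y f.v', hv'y, hyx, show y + (0 : F) • x - (-t) • f.v'
        - (Q x * 0) • f.v' - y = t • f.v' by module] at h
    · obtain ⟨x, y, hux, hv'x, huy, hv'y, hyx⟩ : ∃ x y : Vec, B f.u x = 0 ∧ B f.u' x = 0 ∧
          B f.u y = 0 ∧ B f.u' y = 0 ∧ B y x = -t := M_pairs f.swap' (-t)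
      have h := key (eich f.u' x f.p'.hu hv'x) y (eich_mem _ _ trivial trivial)
        (act_eich_fix _ _ f.uu' hux) huy
      rwa [act_eich, QuadraticMap.polar_comm _ y f.u', hv'y, hyx,
        show y + (0 : F) • x - (-t) • f.u' - (Q x * 0) • f.u' - y = t • f.u' by module] at h
  have M_rest : ∀ x, B f.u x = 0 → B f.u' x = 0 → B f.v' x = 0 → x ∈ M := by
    intro x hux hu'x hv'x
    have h := key (eich f.v' x f.p'.hv hv'x) f.u' (eich_mem _ _ trivial trivial)
      (act_eich_fix _ _ f.uv' hux) f.uu'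
    rw [act_eich, f.p'.huv, hu'x,
      show f.u' + (1 : F) • x - (0 : F) • f.v' - (Q x * 1) • f.v' - f.u' =
        x + (-Q x) • f.v' by module] at h
    have := M_add _ h _ (M_line (Q x)).1
    rwa [show x + (-Q x) • f.v' + Q x • f.v' = x by module] at this
  have M_all : ∀ w, B f.u w = 0 → w ∈ M := by
    intro w hw
    set x := proj Q f.u' f.v' w with hx
    have hxM : x ∈ M := M_rest x
      (by simp [hx, proj, QuadraticMap.polar_sub_right, QuadraticMap.polar_smul_right, f.uu', f.uv', hw])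
      (by rw [QuadraticMap.polar_comm]; exact (proj_perp f.p' w).1)
      (by rw [QuadraticMap.polar_comm]; exact (proj_perp f.p' w).2)
    rw [proj_add (Q := Q) f.u' f.v' w]
    exact M_add _ (M_add _ (M_line _).2 _ (M_line _).1) _ hxM
  by_cases h0 : u₁ = 0
  · subst h0
    rw [eich_zero_left]
    exact one_mem _
  obtain ⟨g, hg, a, -, hga⟩ := point_move f.p (S := ⊤) trivial trivial (nondeg_top hQ)
    (w := f.x₀) trivial f.ux f.vx f.hx trivial h0 hu₁
  have hconj : g * eich u₁ w₁ hu₁ huw₁ * g⁻¹ ∈ C := by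
    rw [eich_conj]
    have h1 : B (a • f.u) (act g w₁) = 0 := by rw [← hga, act_polar, huw₁]
    have h2 : B f.u (a • act g w₁) = 0 := by
      rw [QuadraticMap.polar_smul_right]
      rwa [QuadraticMap.polar_smul_left] at h1
    obtain ⟨_, hm⟩ := M_all _ h2
    simp only [hga]
    rw [eich_smul a _ _ f.p.hu h2]
    exact hm
  have := hCn.conj_mem _ hconj g⁻¹
  rwa [show g⁻¹ * (g * eich u₁ w₁ hu₁ huw₁ * g⁻¹) * g⁻¹⁻¹ = eich u₁ w₁ hu₁ huw₁ by group] at this

include hQ f in
theorem omega_eq_eGroup [Fintype F] (hn : 5 ≤ Fintype.card ι) :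
    Cfsg.Omega F ⇑Q = eGroup Q ⊤ := by
  refine le_antisymm ?_ ?_
  · rw [Cfsg.Omega, commutator_eq_closure, Subgroup.closure_le]
    rintro _ ⟨a, b, rfl⟩
    exact quotient_comm hQ f hn a b
  · refine (Subgroup.closure_le _).2 ?_
    rintro _ ⟨u, w, hu, huw, -, -, rfl⟩
    exact Subgroup.commutator_mono le_top le_top (eich_mem_commutator hQ f u w hu huw)

include hQ f in
theorem commutator_omega_eq_top [Fintype F] (hn : 5 ≤ Fintype.card ι) :
    commutator (Cfsg.Omega F ⇑Q) = ⊤ := by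
  have hle : Cfsg.Omega F ⇑Q ≤ ⁅Cfsg.Omega F ⇑Q, Cfsg.Omega F ⇑Q⁆ := by
    rw [omega_eq_eGroup hQ f hn]
    refine (Subgroup.closure_le _).2 ?_
    rintro _ ⟨u, w, hu, huw, -, -, rfl⟩
    exact eich_mem_commutator hQ f u w hu huw
  rw [eq_top_iff]
  intro x _
  have := hle x.2
  rw [← Subgroup.map_subtype_commutator] at this
  obtain ⟨y, hy, hyx⟩ := Subgroup.mem_map.1 this
  rwa [← Subtype.ext hyx]

end Cfsg.Agent.Classical.Orth
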