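import Mathlib
import Cfsg.Agent.Lib.Classical.OrthEichler
import Cfsg.Agent.Lib.Classical.Iwasawa

/-!
# Adjoining a hyperbolic pair: numbers of singular vectors, orders of isometry groups
-/

set_option autoImplicit false
set_option linter.unusedSectionVars false
set_option linter.unusedSimpArgs false

namespace Cfsg.Agent.Classical.OrthCount

open Matrix Cfsg.Agent.Forms Cfsg.Agent.Forms.QuadStd Cfsg.Agent.Forms.Reflections
open Cfsg.Agent.Classical.Orth

variable {F : Type*} [Field F] {ι : Type} [Fintype ι] [DecidableEq ι]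

/-- The number of zeros of a form. -/
noncomputable def zeros (Q : (ι → F) → F) : ℕ := Nat.card {v : ι → F // Q v = 0}

theorem zeros_congr {κ : Type} [Fintype κ] [DecidableEq κ] (e : κ ≃ ι) (P : (κ → F) → F)
    (R : (ι → F) → F) (h : ∀ v : ι → F, P (v ∘ e) = R v) : zeros P = zeros R := by
  refine Nat.card_congr ((Equiv.arrowCongr e (Equiv.refl F)).subtypeEquiv fun v => ?_)
  show P v = 0 ↔ R (v ∘ e.symm) = 0
  rw [← h, Function.comp_assoc, Equiv.symm_comp_self, Function.comp_id]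

theorem natCard_isometry_congr {κ : Type} [Fintype κ] [DecidableEq κ] (e : κ ≃ ι)
    (P : (κ → F) → F) (R : (ι → F) → F) (h : ∀ v : ι → F, P (v ∘ e) = R v) :
    Nat.card (Cfsg.isometryGroup F P) = Nat.card (Cfsg.isometryGroup F R) := by
  let φ : Matrix.GeneralLinearGroup κ F ≃* Matrix.GeneralLinearGroup ι F :=
    Units.mapEquiv (Matrix.reindexAlgEquiv F F e).toMulEquiv
  have happ : ∀ (g : Matrix.GeneralLinearGroup κ F) (w : ι → F),
      ((φ g : Matrix ι ι F) *ᵥ w) ∘ e = (g : Matrix κ κ F) *ᵥ (w ∘ e) := by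
    intro g w
    show (((g : Matrix κ κ F).submatrix e.symm e.symm) *ᵥ w) ∘ e = _
    rw [Matrix.submatrix_mulVec_equiv]
    funext i
    simp
  refine Nat.card_congr
    { toFun := fun g => ⟨φ g.1, (mem_isometry_iff R _).2 fun w => by
        rw [← h, happ, iso_mulVec g, h]⟩
      invFun := fun g => ⟨φ.symm g.1, (mem_isometry_iff P _).2 fun w => by
        have h1 := iso_mulVec g (w ∘ e.symm)
        rw [← h, ← h] at h1
        have h2 := happ (φ.symm g.1) (w ∘ e.symm)
        rw [MulEquiv.apply_symm_apply] at h2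
        rw [h2] at h1
        simpa [Function.comp_assoc] using h1⟩
      left_inv := fun g => Subtype.ext (φ.symm_apply_apply _)
      right_inv := fun g => Subtype.ext (φ.apply_symm_apply _) }

/-- The orthogonal sum of a hyperbolic plane and `Q`. -/
noncomputable def hypQ (Q : QuadraticForm F (ι → F)) : QuadraticForm F (Fin 2 ⊕ ι → F) :=
  QuadraticMap.linMulLin (LinearMap.proj (R := F) (φ := fun _ : Fin 2 ⊕ ι => F) (Sum.inl 0))
      (LinearMap.proj (R := F) (φ := fun _ : Fin 2 ⊕ ι => F) (Sum.inl 1))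
    + Q.comp (LinearMap.funLeft F F Sum.inr)

variable (Q : QuadraticForm F (ι → F))

theorem hypQ_apply (x : Fin 2 ⊕ ι → F) :
    hypQ Q x = x (Sum.inl 0) * x (Sum.inl 1) + Q (x ∘ Sum.inr) := rfl

theorem hypQ_polar (x y : Fin 2 ⊕ ι → F) :
    QuadraticMap.polar (hypQ Q) x y = x (Sum.inl 0) * y (Sum.inl 1) + x (Sum.inl 1) * y (Sum.inl 0)
      + QuadraticMap.polar Q (x ∘ Sum.inr) (y ∘ Sum.inr) := by
  simp only [QuadraticMap.polar, hypQ_apply, Pi.add_apply]
  rw [show (x + y) ∘ Sum.inr = x ∘ Sum.inr + y ∘ Sum.inr from rfl]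
  ring

theorem hypQ_nondeg (hQ : (QuadraticMap.polarBilin Q).Nondegenerate) :
    (QuadraticMap.polarBilin (hypQ Q)).Nondegenerate := by
  have h : ∀ x : Fin 2 ⊕ ι → F,
      (∀ y, QuadraticMap.polar (hypQ Q) x y = 0) → x = 0 := by
    intro x hx
    have h0 := hx (Sum.elim ![0, 1] 0)
    have h1 := hx (Sum.elim ![1, 0] 0)
    have hz : ∀ y, QuadraticMap.polar Q y 0 = 0 := fun y => by simp [QuadraticMap.polar]
    simp [hypQ_polar, Sum.elim_comp_inr, hz] at h0 h1
    have h2 : x ∘ Sum.inr = 0 := hQ.1 _ fun z => by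
      have := hx (Sum.elim (0 : Fin 2 → F) z)
      simpa [hypQ_polar, Sum.elim_comp_inr] using this
    funext i
    rcases i with i | i
    · fin_cases i <;> assumption
    · exact congrFun h2 i
  exact ⟨fun x hx => h x hx, fun x hx => h x fun y => (QuadraticMap.polar_comm _ x y).trans (hx y)⟩

variable [Fintype F] {q : ℕ} (hF : Fintype.card F = q)

open scoped _root_.Classical in
include hF in
theorem card_mul_eq (c : F) :
    Nat.card {p : F × F // p.1 * p.2 = c} = if c = 0 then 2 * q - 1 else q - 1 := by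
  classical
  have e : {p : F × F // p.1 * p.2 = c} ≃ Σ x : F, {y : F // x * y = c} :=
    { toFun := fun p => ⟨p.1.1, p.1.2, p.2⟩
      invFun := fun s => ⟨(s.1, s.2.1), s.2.2⟩
      left_inv := fun p => rfl
      right_inv := fun s => rfl }
  rw [Nat.card_congr e, Nat.card_sigma]
  have h0 : Nat.card {y : F // (0 : F) * y = c} = if c = 0 then q else 0 := by
    split_ifs with hc
    · rw [Nat.card_congr (Equiv.subtypeUnivEquiv (fun y => by rw [zero_mul, hc])),
        Nat.card_eq_fintype_card, hF]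
    · rw [Nat.card_eq_zero]
      exact Or.inl ⟨fun y => hc (y.2 ▸ zero_mul _)⟩
  have h1 : ∀ x : F, x ≠ 0 → Nat.card {y : F // x * y = c} = 1 := by
    intro x hx
    rw [Nat.card_eq_one_iff_unique]
    exact ⟨⟨fun y z => Subtype.ext (mul_left_cancel₀ hx (y.2.trans z.2.symm))⟩,
      ⟨⟨x⁻¹ * c, by rw [mul_inv_cancel_left₀ hx]⟩⟩⟩
  rw [← Finset.add_sum_erase _ _ (Finset.mem_univ (0 : F)), h0,
    Finset.sum_congr rfl (fun x hx => h1 x (Finset.ne_of_mem_erase hx)), Finset.sum_const,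
    Finset.card_erase_of_mem (Finset.mem_univ _), Finset.card_univ, hF, smul_eq_mul, mul_one]
  have : 1 < q := hF ▸ Fintype.one_lt_card
  split_ifs <;> omega

include hF in
theorem zeros_hypQ :
    zeros (hypQ Q) + q ^ Fintype.card ι = q * zeros Q + q ^ (Fintype.card ι + 1) := by
  classical
  have e : {v : Fin 2 ⊕ ι → F // hypQ Q v = 0} ≃ Σ w : ι → F, {p : F × F // p.1 * p.2 = -Q w} :=
    { toFun := fun v => ⟨v.1 ∘ Sum.inr, (v.1 (Sum.inl 0), v.1 (Sum.inl 1)),
        eq_neg_of_add_eq_zero_left v.2⟩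
      invFun := fun s => ⟨Sum.elim ![s.2.1.1, s.2.1.2] s.1, by
        rw [hypQ_apply]; simp [Sum.elim_comp_inr, s.2.2]⟩
      left_inv := fun v => by
        refine Subtype.ext (funext fun i => ?_)
        rcases i with i | i
        · fin_cases i <;> rfl
        · rfl
      right_inv := fun s => rfl }
  rw [zeros, Nat.card_congr e, Nat.card_sigma,
    Finset.sum_congr rfl (fun w _ => card_mul_eq hF (-Q w))]
  simp only [neg_eq_zero]
  rw [Finset.sum_ite, Finset.sum_const, Finset.sum_const, smul_eq_mul, smul_eq_mul]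
  have hz : (Finset.univ.filter fun w : ι → F => Q w = 0).card = zeros Q := by
    rw [zeros, Nat.card_eq_fintype_card, Fintype.card_subtype]
  have hsum : (Finset.univ.filter fun w : ι → F => Q w = 0).card +
      (Finset.univ.filter fun w : ι → F => ¬ Q w = 0).card = q ^ Fintype.card ι := by
    rw [Finset.card_filter_add_card_filter_not, Finset.card_univ, Fintype.card_fun, hF]
  rw [hz] at hsum ⊢
  have : 1 < q := hF ▸ Fintype.one_lt_card
  obtain ⟨r, rfl⟩ : ∃ r, q = r + 1 := ⟨q - 1, by omega⟩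
  rw [show 2 * (r + 1) - 1 = 2 * r + 1 by omega, Nat.add_sub_cancel, pow_succ (r + 1), ← hsum]
  ring

/-- The first vector of the new pair. -/
def e₀ (F : Type*) [Field F] (ι : Type) : Fin 2 ⊕ ι → F := Sum.elim ![1, 0] 0

/-- The second vector of the new pair. -/
def e₁ (F : Type*) [Field F] (ι : Type) : Fin 2 ⊕ ι → F := Sum.elim ![0, 1] 0

theorem pair_e : IsPair (hypQ Q) (e₀ F ι) (e₁ F ι) := by
  have hz : QuadraticMap.polar Q 0 0 = 0 := by simp [QuadraticMap.polar]
  refine ⟨?_, ?_, ?_⟩ <;>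
    simp [e₀, e₁, hypQ_apply, hypQ_polar, Sum.elim_comp_inr, hz]

variable (hQ : (QuadraticMap.polarBilin Q).Nondegenerate)

include hQ in
theorem exists_move_pair {u v : Fin 2 ⊕ ι → F} (h : IsPair (hypQ Q) u v) :
    ∃ g : Cfsg.isometryGroup F ⇑(hypQ Q), act g (e₀ F ι) = u ∧ act g (e₁ F ι) = v := by
  set X : Submodule F (Fin 2 ⊕ ι → F) :=
    { carrier := {x | x ∘ Sum.inr = 0}
      zero_mem' := rfl
      add_mem' := fun {a b} ha hb => by
        show (a + b) ∘ Sum.inr = 0
        rw [show (a + b) ∘ Sum.inr = a ∘ Sum.inr + b ∘ Sum.inr from rfl, ha, hb, add_zero]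
      smul_mem' := fun c a ha => by
        show (c • a) ∘ Sum.inr = 0
        rw [show (c • a) ∘ Sum.inr = c • (a ∘ Sum.inr) from rfl, ha, smul_zero] } with hX
  let f : X →ₗ[F] (Fin 2 ⊕ ι → F) :=
    { toFun := fun x => x.1 (Sum.inl 0) • u + x.1 (Sum.inl 1) • v
      map_add' := fun a b => by simp only [Submodule.coe_add, Pi.add_apply]; module
      map_smul' := fun c a => by
        simp only [Submodule.coe_smul, Pi.smul_apply, smul_eq_mul, RingHom.id_apply]; module }
  have hval : ∀ x : X, hypQ Q (f x) = hypQ Q (x : Fin 2 ⊕ ι → F) := fun x => by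
    show hypQ Q (x.1 (Sum.inl 0) • u + x.1 (Sum.inl 1) • v) = _
    rw [pair_value h, hypQ_apply, show (x : Fin 2 ⊕ ι → F) ∘ Sum.inr = 0 from x.2,
      QuadraticMap.map_zero, add_zero]
  have hinj : Function.Injective f := by
    rw [← LinearMap.ker_eq_bot, LinearMap.ker_eq_bot']
    intro x hx
    change x.1 (Sum.inl 0) • u + x.1 (Sum.inl 1) • v = 0 at hx
    have h0 := congrArg (fun y => QuadraticMap.polar (hypQ Q) y u) hx
    have h1 := congrArg (fun y => QuadraticMap.polar (hypQ Q) y v) hx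
    simp [QuadraticMap.polar_add_left, QuadraticMap.polar_smul_left, polar_self_zero h.hu,
      polar_self_zero h.hv, h.huv, h.hvu] at h0 h1
    refine Subtype.ext (funext fun i => ?_)
    rcases i with i | i
    · fin_cases i <;> assumption
    · exact congrFun x.2 i
  obtain ⟨g, hg, hgx⟩ := Witt.witt_quad (hypQ Q) (hypQ_nondeg Q hQ) X f hinj hval
  refine ⟨isoOfEquiv ⇑(hypQ Q) g hg, ?_, ?_⟩ <;> rw [act_apply, isoOfEquiv_mulVec]
  · refine (hgx ⟨e₀ F ι, rfl⟩).trans ?_
    show (1 : F) • u + (0 : F) • v = u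
    simp
  · refine (hgx ⟨e₁ F ι, rfl⟩).trans ?_
    show (0 : F) • u + (1 : F) • v = v
    simp

/-- Isometries of `Q` as isometries fixing the new pair. -/
noncomputable def embGL : Matrix.GeneralLinearGroup ι F →* Matrix.GeneralLinearGroup (Fin 2 ⊕ ι) F :=
  Units.map
    { toFun := fun M => Matrix.fromBlocks 1 0 0 M
      map_one' := Matrix.fromBlocks_one
      map_mul' := fun A C => by rw [Matrix.fromBlocks_multiply]; simp }

theorem embGL_mulVec (g : Matrix.GeneralLinearGroup ι F) (x : Fin 2 ⊕ ι → F) :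
    (embGL g : Matrix (Fin 2 ⊕ ι) (Fin 2 ⊕ ι) F) *ᵥ x =
      Sum.elim (x ∘ Sum.inl) ((g : Matrix ι ι F) *ᵥ (x ∘ Sum.inr)) := by
  show Matrix.fromBlocks 1 0 0 (g : Matrix ι ι F) *ᵥ x = _
  rw [Matrix.fromBlocks_mulVec]
  simp

include hQ in
theorem natCard_stab :
    Nat.card {g : Cfsg.isometryGroup F ⇑(hypQ Q) //
      act g (e₀ F ι) = e₀ F ι ∧ act g (e₁ F ι) = e₁ F ι} =
      Nat.card (Cfsg.isometryGroup F ⇑Q) := by
  have hmem : ∀ g : Cfsg.isometryGroup F ⇑Q, embGL g.1 ∈ Cfsg.isometryGroup F ⇑(hypQ Q) := by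
    intro g
    refine (mem_isometry_iff _ _).2 fun x => ?_
    rw [embGL_mulVec, hypQ_apply, hypQ_apply, Sum.elim_comp_inr, iso_mulVec g]
    rfl
  let φ : Cfsg.isometryGroup F ⇑Q → {g : Cfsg.isometryGroup F ⇑(hypQ Q) //
      act g (e₀ F ι) = e₀ F ι ∧ act g (e₁ F ι) = e₁ F ι} := fun g => ⟨⟨_, hmem g⟩, by
    constructor <;> rw [act_apply] <;> show ((embGL g.1 : Matrix.GeneralLinearGroup (Fin 2 ⊕ ι) F) : Matrix (Fin 2 ⊕ ι) (Fin 2 ⊕ ι) F) *ᵥ _ = _ <;>
      rw [embGL_mulVec] <;>
      simp [e₀, e₁, Sum.elim_comp_inr]⟩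
  refine (Nat.card_congr (Equiv.ofBijective φ ⟨fun g g' h => ?_, fun g => ?_⟩)).symm
  · refine Subtype.ext (Units.ext (Matrix.ext fun i j => ?_))
    have h1 := congrArg (fun k : {g : Cfsg.isometryGroup F ⇑(hypQ Q) //
      act g (e₀ F ι) = e₀ F ι ∧ act g (e₁ F ι) = e₁ F ι} =>
        (k.1.1 : Matrix (Fin 2 ⊕ ι) (Fin 2 ⊕ ι) F) (Sum.inr i) (Sum.inr j)) h
    exact h1
  · obtain ⟨⟨g, hg⟩, h0, h1⟩ := g
    set g' : Cfsg.isometryGroup F ⇑(hypQ Q) := ⟨g, hg⟩ with hg'
    set M : Matrix ι ι F := (g : Matrix (Fin 2 ⊕ ι) (Fin 2 ⊕ ι) F).submatrix Sum.inr Sum.inr with hM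
    have hperp : ∀ y : ι → F, act g' (Sum.elim (0 : Fin 2 → F) y) = Sum.elim (0 : Fin 2 → F) (M *ᵥ y) := by
      intro y
      have a0 := act_polar g' (Sum.elim (0 : Fin 2 → F) y) (e₀ F ι)
      have a1 := act_polar g' (Sum.elim (0 : Fin 2 → F) y) (e₁ F ι)
      rw [h0] at a0
      rw [h1] at a1
      have hz : ∀ y, QuadraticMap.polar Q y 0 = 0 := fun y => by simp [QuadraticMap.polar]
      simp [hypQ_polar, e₀, e₁, Sum.elim_comp_inr, hz] at a0 a1
      funext i
      rcases i with i | i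
      · fin_cases i
        · simpa using a1
        · simpa using a0
      · rw [act_apply]
        simp [hg', hM, Matrix.mulVec, dotProduct]
    have hMQ : ∀ y, Q (M *ᵥ y) = Q y := fun y => by
      have := act_map g' (Sum.elim (0 : Fin 2 → F) y)
      rw [hperp, hypQ_apply, hypQ_apply] at this
      simpa [Sum.elim_comp_inr] using this
    have hMd : M.det ≠ 0 := by
      intro hd
      obtain ⟨y, hy, hy'⟩ := Matrix.exists_mulVec_eq_zero_iff.2 hd
      refine hy (hQ.1 y fun z => ?_)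
      show QuadraticMap.polar Q y z = 0
      have e : QuadraticMap.polar Q (M *ᵥ y) (M *ᵥ z) = QuadraticMap.polar Q y z := by
        simp only [QuadraticMap.polar, ← Matrix.mulVec_add, hMQ]
      rw [← e, hy']
      simp [QuadraticMap.polar]
    refine ⟨⟨Matrix.GeneralLinearGroup.mkOfDetNeZero M hMd, (mem_isometry_iff _ _).2 hMQ⟩,
      Subtype.ext (act_ext fun x => ?_)⟩
    show act ⟨_, _⟩ x = act g' x
    rw [act_apply]
    show ((embGL (Matrix.GeneralLinearGroup.mkOfDetNeZero M hMd) : Matrix.GeneralLinearGroup (Fin 2 ⊕ ι) F) : Matrix (Fin 2 ⊕ ι) (Fin 2 ⊕ ι) F) *ᵥ x = _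
    rw [embGL_mulVec]
    have hx : x = x (Sum.inl 0) • e₀ F ι + x (Sum.inl 1) • e₁ F ι + Sum.elim (0 : Fin 2 → F) (x ∘ Sum.inr) := by
      funext i
      rcases i with i | i
      · fin_cases i <;> simp [e₀, e₁]
      · simp [e₀, e₁]
    conv_rhs => rw [hx, map_add, map_add, map_smul, map_smul, h0, h1, hperp]
    funext i
    rcases i with i | i
    · fin_cases i <;> simp [e₀, e₁]
    · simp [e₀, e₁]

include hF hQ in
theorem natCard_isometry_hypQ :
    Nat.card (Cfsg.isometryGroup F ⇑(hypQ Q)) =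
      (zeros (hypQ Q) - 1) * q ^ Fintype.card ι * Nat.card (Cfsg.isometryGroup F ⇑Q) := by
  classical
  have hq : 1 < q := hF ▸ Fintype.one_lt_card
  set G := Cfsg.isometryGroup F ⇑(hypQ Q)
  let P := {p : (Fin 2 ⊕ ι → F) × (Fin 2 ⊕ ι → F) // IsPair (hypQ Q) p.1 p.2}
  -- the fibres of `g ↦ (g e₀, g e₁)`
  let π : G → P := fun g => ⟨(act g (e₀ F ι), act g (e₁ F ι)),
    ⟨by rw [act_map]; exact (pair_e Q).hu, by rw [act_map]; exact (pair_e Q).hv,
      by rw [act_polar]; exact (pair_e Q).huv⟩⟩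
  have hfib : ∀ p : P, Nat.card {g : G // π g = p} = Nat.card (Cfsg.isometryGroup F ⇑Q) := by
    intro p
    obtain ⟨g₀, hu, hv⟩ := exists_move_pair Q hQ p.2
    rw [← natCard_stab Q hQ]
    refine Nat.card_congr
      { toFun := fun g => ⟨g₀⁻¹ * g.1, ?_, ?_⟩
        invFun := fun k => ⟨g₀ * k.1, Subtype.ext (Prod.ext ?_ ?_)⟩
        left_inv := fun g => Subtype.ext (mul_inv_cancel_left _ _)
        right_inv := fun k => Subtype.ext (inv_mul_cancel_left _ _) }
    · rw [act_mul, show act g.1 (e₀ F ι) = act g₀ (e₀ F ι) from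
        (congrArg (fun p : P => p.1.1) g.2).trans hu.symm, Spinor.act_inv_cancel]
    · rw [act_mul, show act g.1 (e₁ F ι) = act g₀ (e₁ F ι) from
        (congrArg (fun p : P => p.1.2) g.2).trans hv.symm, Spinor.act_inv_cancel]
    · show act (g₀ * k.1) (e₀ F ι) = p.1.1
      rw [act_mul, k.2.1, hu]
    · show act (g₀ * k.1) (e₁ F ι) = p.1.2
      rw [act_mul, k.2.2, hv]
  have hG : Nat.card G = Nat.card P * Nat.card (Cfsg.isometryGroup F ⇑Q) := by
    rw [Nat.card_congr (Equiv.sigmaFiberEquiv π).symm, Nat.card_sigma,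
      Finset.sum_congr rfl (fun p _ => hfib p), Finset.sum_const, smul_eq_mul, Finset.card_univ,
      ← Nat.card_eq_fintype_card]
  rw [hG]
  congr 1
  let U := {u : Fin 2 ⊕ ι → F // hypQ Q u = 0 ∧ u ≠ 0}
  have e : P ≃ Σ u : U, {v // hypQ Q v = 0 ∧ QuadraticMap.polar (hypQ Q) u.1 v = 1} :=
    { toFun := fun p => ⟨⟨p.1.1, p.2.hu, fun h => by
        have := p.2.huv; rw [h] at this; simp [QuadraticMap.polar] at this⟩, p.1.2, p.2.hv, p.2.huv⟩
      invFun := fun s => ⟨(s.1.1, s.2.1), ⟨s.1.2.1, s.2.2.1, s.2.2.2⟩⟩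
      left_inv := fun p => rfl
      right_inv := fun s => rfl }
  have hnd := hypQ_nondeg Q hQ
  have hv : ∀ u : U, Nat.card {v // hypQ Q v = 0 ∧ QuadraticMap.polar (hypQ Q) u.1 v = 1} =
      q ^ Fintype.card ι := by
    intro u
    have hφ : polB (hypQ Q) u.1 ≠ 0 := fun h0 => u.2.2 (hnd.1 u.1 fun y =>
      LinearMap.congr_fun h0 y)
    have hc := Iwasawa.natCard_mul_fiber (polB (hypQ Q) u.1) hφ 1
    have huu : QuadraticMap.polar (hypQ Q) u.1 u.1 = 0 := polar_self_zero u.2.1
    have e' : {v // hypQ Q v = 0 ∧ QuadraticMap.polar (hypQ Q) u.1 v = 1} × F ≃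
        {v // polB (hypQ Q) u.1 v = 1} :=
      { toFun := fun p => ⟨p.1.1 + p.2 • u.1, by
          rw [polB_apply, QuadraticMap.polar_add_right, QuadraticMap.polar_smul_right, huu, p.1.2.2,
            smul_zero, add_zero]⟩
        invFun := fun v => (⟨v.1 + (-hypQ Q v.1) • u.1, by
            have h1 : QuadraticMap.polar (hypQ Q) u.1 v.1 = 1 := v.2
            constructor
            · rw [map_add', Orth.map_smul', QuadraticMap.polar_smul_right,
                QuadraticMap.polar_comm _ v.1 u.1, h1, u.2.1, smul_eq_mul]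
              ring
            · rw [QuadraticMap.polar_add_right, QuadraticMap.polar_smul_right, huu, h1, smul_zero,
                add_zero]⟩, hypQ Q v.1)
        left_inv := fun p => by
          have hval : hypQ Q (p.1.1 + p.2 • u.1) = p.2 := by
            rw [map_add', Orth.map_smul', QuadraticMap.polar_smul_right,
              QuadraticMap.polar_comm _ p.1.1 u.1, p.1.2.2, p.1.2.1, u.2.1, smul_eq_mul]
            ring
          refine Prod.ext (Subtype.ext ?_) hval
          show p.1.1 + p.2 • u.1 + (-hypQ Q (p.1.1 + p.2 • u.1)) • u.1 = p.1.1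
          rw [hval]; module
        right_inv := fun v => Subtype.ext (by
          show v.1 + (-hypQ Q v.1) • u.1 + hypQ Q v.1 • u.1 = v.1
          module) }
    rw [← Nat.card_congr e', Nat.card_prod, Nat.card_eq_fintype_card (α := F), hF,
      Nat.card_fun, Nat.card_eq_fintype_card (α := F), hF, Nat.card_eq_fintype_card (α := Fin 2 ⊕ ι),
      Fintype.card_sum, Fintype.card_fin, pow_add, mul_assoc] at hc
    refine Nat.eq_of_mul_eq_mul_right (show 0 < q * q by positivity) ?_
    rw [hc]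
    ring
  rw [Nat.card_congr e, Nat.card_sigma, Finset.sum_congr rfl (fun u _ => hv u), Finset.sum_const,
    smul_eq_mul, Finset.card_univ, ← Nat.card_eq_fintype_card]
  congr 1
  rw [zeros, Nat.card_eq_fintype_card, Nat.card_eq_fintype_card, Fintype.card_subtype,
    Fintype.card_subtype, ← Finset.card_erase_of_mem
      (s := Finset.univ.filter fun v : Fin 2 ⊕ ι → F => hypQ Q v = 0) (a := 0) (by simp)]
  congr 1
  ext v
  simp [and_comm]

end Cfsg.Agent.Classical.OrthCount
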