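import Mathlib
import Cfsg.Prelude.Def_Classical
import Cfsg.Agent.Lib.Forms.PlusStd
import Cfsg.Agent.Lib.Classical.OrthEichler
import Cfsg.Agent.Lib.Classical.OrthCount

/-!
# The three standard quadratic forms: singular vectors, orders of the isometry groups, frames
-/

set_option autoImplicit false
set_option linter.unusedSectionVars false
set_option linter.unusedSimpArgs false
set_option linter.unreachableTactic false
set_option linter.unusedTactic false
set_option linter.unnecessarySeqFocus false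

namespace Cfsg.Agent.Classical.OrthForms

open Matrix Cfsg.Agent.Forms Cfsg.Agent.Forms.QuadStd Cfsg.Agent.Forms.PlusStd
open Cfsg.Agent.Classical.Orth Cfsg.Agent.Classical.OrthCount

variable {F : Type*} [Field F]

theorem two_ne_zero_of_odd [Fintype F] (h : Odd (Fintype.card F)) : (2 : F) ≠ 0 := by
  refine Ring.two_ne_zero fun h2 => ?_
  have := FiniteField.even_card_of_char_two h2
  rw [Nat.odd_iff] at h
  omega

/-! ### The forms -/

/-- `quadFormOdd` as a quadratic form. -/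
noncomputable def oddQ (F : Type*) [Field F] (m : ℕ) :
    QuadraticForm F (Unit ⊕ (Fin m ⊕ Fin m) → F) :=
  QuadraticMap.linMulLin
      (LinearMap.proj (R := F) (φ := fun _ : Unit ⊕ (Fin m ⊕ Fin m) => F) (Sum.inl ()))
      (LinearMap.proj (R := F) (φ := fun _ : Unit ⊕ (Fin m ⊕ Fin m) => F) (Sum.inl ()))
    + (plusQ F m).comp (LinearMap.funLeft F F Sum.inr)

theorem oddQ_apply (m : ℕ) (v : Unit ⊕ (Fin m ⊕ Fin m) → F) :
    oddQ F m v = v (Sum.inl ()) ^ 2 + plusQ F m (v ∘ Sum.inr) := by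
  rw [sq]; rfl

theorem oddQ_eq (m : ℕ) : ⇑(oddQ F m) = Cfsg.quadFormOdd m F := by
  funext v
  rw [oddQ_apply, plusQ_apply]
  rfl

theorem plusQ_eq (m : ℕ) : ⇑(plusQ F m) = Cfsg.quadFormPlus m F :=
  funext (plusQ_apply F m)

theorem oddQ_polar (m : ℕ) (x y : Unit ⊕ (Fin m ⊕ Fin m) → F) :
    QuadraticMap.polar (oddQ F m) x y = 2 * x (Sum.inl ()) * y (Sum.inl ())
      + QuadraticMap.polar (plusQ F m) (x ∘ Sum.inr) (y ∘ Sum.inr) := by
  simp only [QuadraticMap.polar, oddQ_apply, Pi.add_apply]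
  rw [show (x + y) ∘ Sum.inr = x ∘ Sum.inr + y ∘ Sum.inr from rfl]
  ring

theorem oddQ_nondeg (h2 : (2 : F) ≠ 0) (m : ℕ) :
    (QuadraticMap.polarBilin (oddQ F m)).Nondegenerate := by
  have h : ∀ x, (∀ y, QuadraticMap.polar (oddQ F m) x y = 0) → x = 0 := by
    intro x hx
    have hz : ∀ y, QuadraticMap.polar (plusQ F m) y 0 = 0 := fun y => by simp [QuadraticMap.polar]
    have h0 : x (Sum.inl ()) = 0 := by
      have := hx (Sum.elim (fun _ => 1) 0)
      simpa [oddQ_polar, Sum.elim_comp_inr, hz, h2] using this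
    have h1 : x ∘ Sum.inr = 0 := (plusQ_nondeg F m).1 _ fun z => by
      have := hx (Sum.elim (fun _ => (0 : F)) z)
      simpa [oddQ_polar, Sum.elim_comp_inr] using this
    funext i
    rcases i with i | i
    · exact h0
    · exact congrFun h1 i
  exact ⟨fun x hx => h x hx, fun x hx => h x fun y => (QuadraticMap.polar_comm _ x y).trans (hx y)⟩

/-- `quadFormMinus` as a quadratic form. -/
noncomputable def minQ (F : Type*) [Field F] (k : ℕ) (a b : F) :
    QuadraticForm F ((Fin k ⊕ Fin k) ⊕ Fin 2 → F) :=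
  let p := fun i : (Fin k ⊕ Fin k) ⊕ Fin 2 =>
    LinearMap.proj (R := F) (φ := fun _ : (Fin k ⊕ Fin k) ⊕ Fin 2 => F) i
  (plusQ F k).comp (LinearMap.funLeft F F Sum.inl)
    + (QuadraticMap.linMulLin (p (Sum.inr 0)) (p (Sum.inr 0))
      + a • QuadraticMap.linMulLin (p (Sum.inr 0)) (p (Sum.inr 1))
      + b • QuadraticMap.linMulLin (p (Sum.inr 1)) (p (Sum.inr 1)))

theorem minQ_apply (k : ℕ) (a b : F) (v : (Fin k ⊕ Fin k) ⊕ Fin 2 → F) :
    minQ F k a b v = plusQ F k (v ∘ Sum.inl) +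
      (v (Sum.inr 0) ^ 2 + a * v (Sum.inr 0) * v (Sum.inr 1) + b * v (Sum.inr 1) ^ 2) := by
  simp [minQ, LinearMap.funLeft, Function.comp_def]
  ring

theorem minQ_eq (k : ℕ) (a b : F) : ⇑(minQ F k a b) = Cfsg.quadFormMinus k F a b := by
  funext v
  rw [minQ_apply, plusQ_apply]
  rfl

theorem minQ_polar (k : ℕ) (a b : F) (x y : (Fin k ⊕ Fin k) ⊕ Fin 2 → F) :
    QuadraticMap.polar (minQ F k a b) x y =
      QuadraticMap.polar (plusQ F k) (x ∘ Sum.inl) (y ∘ Sum.inl) +
      ((2 * x (.inr 0) + a * x (.inr 1)) * y (.inr 0) +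
        (a * x (.inr 0) + 2 * b * x (.inr 1)) * y (.inr 1)) := by
  simp only [QuadraticMap.polar, minQ_apply, Pi.add_apply]
  rw [show (x + y) ∘ Sum.inl = x ∘ Sum.inl + y ∘ Sum.inl from rfl]
  ring

theorem disc_ne_zero [Fintype F] {a b : F}
    (hab : ∀ z₁ z₂ : F, z₁ ^ 2 + a * z₁ * z₂ + b * z₂ ^ 2 = 0 → z₁ = 0 ∧ z₂ = 0) :
    4 * b - a ^ 2 ≠ 0 := by
  intro h
  by_cases h2 : (2 : F) = 0
  · have ha : a = 0 := eq_zero_of_pow_eq_zero (n := 2) (by linear_combination -h + 2 * b * h2)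
    have : CharP F 2 := CharTwo.of_one_ne_zero_of_two_eq_zero one_ne_zero h2
    obtain ⟨s, hs⟩ := FiniteField.isSquare_of_char_two (ringChar.eq F 2) b
    exact one_ne_zero (hab s 1 (by rw [ha, hs]; linear_combination (s * s) * h2)).2
  · refine one_ne_zero (α := F) (hab (-a / 2) 1 ?_).2
    field_simp
    linear_combination h

theorem minQ_nondeg [Fintype F] (k : ℕ) {a b : F}
    (hab : ∀ z₁ z₂ : F, z₁ ^ 2 + a * z₁ * z₂ + b * z₂ ^ 2 = 0 → z₁ = 0 ∧ z₂ = 0) :
    (QuadraticMap.polarBilin (minQ F k a b)).Nondegenerate := by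
  have h : ∀ x, (∀ y, QuadraticMap.polar (minQ F k a b) x y = 0) → x = 0 := by
    intro x hx
    have hz : ∀ y, QuadraticMap.polar (plusQ F k) y 0 = 0 := fun y => by simp [QuadraticMap.polar]
    have h1 : x ∘ Sum.inl = 0 := (plusQ_nondeg F k).1 _ fun z => by
      have := hx (Sum.elim z (0 : Fin 2 → F))
      simpa [minQ_polar, Sum.elim_comp_inl] using this
    have e0 := hx (Sum.elim 0 ![1, 0])
    have e1 := hx (Sum.elim 0 ![0, 1])
    simp [minQ_polar, Sum.elim_comp_inl, hz] at e0 e1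
    have hd := disc_ne_zero hab
    have h3 : x (.inr 1) = 0 := by
      refine (mul_eq_zero.1 ?_).resolve_left hd
      linear_combination (2 : F) * e1 - a * e0
    have h2 : x (.inr 0) = 0 := by
      refine (mul_eq_zero.1 ?_).resolve_left hd
      linear_combination (2 * b) * e0 - a * e1
    funext i
    rcases i with i | i
    · exact congrFun h1 i
    · fin_cases i <;> assumption
  exact ⟨fun x hx => h x hx, fun x hx => h x fun y => (QuadraticMap.polar_comm _ x y).trans (hx y)⟩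

/-! ### Splitting off a hyperbolic pair -/

/-- Reindexing for the plus form. -/
def plusIdx (m : ℕ) : Fin (m + 1) ⊕ Fin (m + 1) ≃ Fin 2 ⊕ (Fin m ⊕ Fin m) where
  toFun := Sum.elim (Fin.cases (Sum.inl 0) (fun i => Sum.inr (Sum.inl i)))
    (Fin.cases (Sum.inl 1) (fun i => Sum.inr (Sum.inr i)))
  invFun := Sum.elim ![Sum.inl 0, Sum.inr 0]
    (Sum.elim (fun i => Sum.inl i.succ) (fun i => Sum.inr i.succ))
  left_inv x := by rcases x with i | i <;> induction i using Fin.cases <;> rfl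
  right_inv x := by
    rcases x with i | i | i
    · fin_cases i <;> rfl
    all_goals rfl

theorem plus_split (m : ℕ) (v : Fin 2 ⊕ (Fin m ⊕ Fin m) → F) :
    plusQ F (m + 1) (v ∘ plusIdx m) = hypQ (plusQ F m) v := by
  simp only [plusQ_apply, hypQ_apply, Cfsg.quadFormPlus, Fin.sum_univ_succ, Function.comp_apply]
  rfl

/-- Reindexing for the odd form. -/
def oddIdx (m : ℕ) :
    Unit ⊕ (Fin (m + 1) ⊕ Fin (m + 1)) ≃ Fin 2 ⊕ (Unit ⊕ (Fin m ⊕ Fin m)) where
  toFun := Sum.elim (fun u => Sum.inr (Sum.inl u))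
    (fun i => Sum.map id Sum.inr (plusIdx m i))
  invFun := Sum.elim (fun i => Sum.inr ((plusIdx m).symm (Sum.inl i)))
    (Sum.elim Sum.inl (fun i => Sum.inr ((plusIdx m).symm (Sum.inr i))))
  left_inv x := by
    rcases x with u | i
    · rfl
    · obtain ⟨j, rfl⟩ := (plusIdx m).symm.surjective i
      rcases j with j | j <;> simp
  right_inv x := by rcases x with i | u | i <;> simp

theorem odd_split (m : ℕ) (v : Fin 2 ⊕ (Unit ⊕ (Fin m ⊕ Fin m)) → F) :
    oddQ F (m + 1) (v ∘ oddIdx m) = hypQ (oddQ F m) v := by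
  rw [oddQ_apply, hypQ_apply, oddQ_apply]
  have h : (v ∘ oddIdx m) ∘ Sum.inr = (v ∘ Sum.map id Sum.inr) ∘ plusIdx m := rfl
  rw [h, plus_split, hypQ_apply]
  have h' : (v ∘ Sum.map id Sum.inr) ∘ Sum.inr = (v ∘ Sum.inr) ∘ Sum.inr := rfl
  rw [h', show (v ∘ oddIdx m) (Sum.inl ()) = (v ∘ Sum.inr) (Sum.inl ()) from rfl]
  simp only [Function.comp_apply, Sum.map_inl, id_eq]
  ring

/-- Reindexing for the minus form. -/
def minIdx (k : ℕ) :
    (Fin (k + 1) ⊕ Fin (k + 1)) ⊕ Fin 2 ≃ Fin 2 ⊕ ((Fin k ⊕ Fin k) ⊕ Fin 2) where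
  toFun := Sum.elim (fun i => Sum.map id Sum.inl (plusIdx k i)) (fun i => Sum.inr (Sum.inr i))
  invFun := Sum.elim (fun i => Sum.inl ((plusIdx k).symm (Sum.inl i)))
    (Sum.elim (fun i => Sum.inl ((plusIdx k).symm (Sum.inr i))) Sum.inr)
  left_inv x := by
    rcases x with i | u
    · obtain ⟨j, rfl⟩ := (plusIdx k).symm.surjective i
      rcases j with j | j <;> simp
    · rfl
  right_inv x := by rcases x with i | i | u <;> simp

theorem min_split (k : ℕ) (a b : F) (v : Fin 2 ⊕ ((Fin k ⊕ Fin k) ⊕ Fin 2) → F) :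
    minQ F (k + 1) a b (v ∘ minIdx k) = hypQ (minQ F k a b) v := by
  rw [minQ_apply, hypQ_apply, minQ_apply]
  have h : (v ∘ minIdx k) ∘ Sum.inl = (v ∘ Sum.map id Sum.inl) ∘ plusIdx k := rfl
  rw [h, plus_split, hypQ_apply]
  have h' : (v ∘ Sum.map id Sum.inl) ∘ Sum.inr = (v ∘ Sum.inr) ∘ Sum.inl := rfl
  rw [h', show (v ∘ minIdx k) (Sum.inr 0) = (v ∘ Sum.inr) (Sum.inr 0) from rfl,
    show (v ∘ minIdx k) (Sum.inr 1) = (v ∘ Sum.inr) (Sum.inr 1) from rfl]
  simp only [Function.comp_apply, Sum.map_inl, id_eq]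
  ring

/-! ### Counting singular vectors -/

section count

variable [Fintype F] {q : ℕ} (hF : Fintype.card F = q)

include hF

theorem one_lt_q : 1 < q := hF ▸ Fintype.one_lt_card

theorem cast_zeros_plus (m : ℕ) :
    (q : ℤ) * zeros ⇑(plusQ F m) = (q : ℤ) ^ (2 * m) + (q : ℤ) ^ (m + 1) - (q : ℤ) ^ m := by
  induction m with
  | zero =>
    have h : zeros ⇑(plusQ F 0) = 1 := by
      rw [zeros, Nat.card_eq_one_iff_unique]
      exact ⟨⟨fun a b => Subtype.ext (funext fun i => isEmptyElim i)⟩,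
        ⟨⟨0, QuadraticMap.map_zero _⟩⟩⟩
    rw [h]; simp
  | succ m ih =>
    rw [zeros_congr (plusIdx m) _ _ (plus_split m)]
    have h := zeros_hypQ (plusQ F m) hF
    rw [Fintype.card_sum, Fintype.card_fin, ← two_mul] at h
    have h' : (zeros ⇑(hypQ (plusQ F m)) : ℤ) + (q : ℤ) ^ (2 * m) =
        q * zeros ⇑(plusQ F m) + (q : ℤ) ^ (2 * m + 1) := by exact_mod_cast h
    rw [show 2 * (m + 1) = 2 * m + 1 + 1 by ring]
    simp only [pow_succ] at *
    linear_combination (q : ℤ) * h' + (q : ℤ) * ih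

theorem cast_zeros_min (k : ℕ) {a b : F}
    (hab : ∀ z₁ z₂ : F, z₁ ^ 2 + a * z₁ * z₂ + b * z₂ ^ 2 = 0 → z₁ = 0 ∧ z₂ = 0) :
    (q : ℤ) * zeros ⇑(minQ F k a b) =
      (q : ℤ) ^ (2 * k + 2) + (q : ℤ) ^ (k + 1) - (q : ℤ) ^ (k + 2) := by
  induction k with
  | zero =>
    have h : zeros ⇑(minQ F 0 a b) = 1 := by
      rw [zeros, Nat.card_eq_one_iff_unique]
      refine ⟨⟨fun u v => ?_⟩, ⟨⟨0, QuadraticMap.map_zero _⟩⟩⟩
      suffices key : ∀ w : {w // minQ F 0 a b w = 0}, w.1 = 0 from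
        Subtype.ext ((key u).trans (key v).symm)
      intro w
      have hw := w.2
      rw [minQ_apply, show w.1 ∘ Sum.inl = 0 from funext fun i => isEmptyElim i,
        QuadraticMap.map_zero, zero_add] at hw
      obtain ⟨h0, h1⟩ := hab _ _ hw
      funext i
      rcases i with i | i
      · exact isEmptyElim i
      · fin_cases i <;> assumption
    rw [h]; push_cast; ring
  | succ k ih =>
    rw [zeros_congr (minIdx k) _ _ (min_split k a b)]
    have h := zeros_hypQ (minQ F k a b) hF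
    rw [Fintype.card_sum, Fintype.card_sum, Fintype.card_fin, Fintype.card_fin, ← two_mul] at h
    have h' : (zeros ⇑(hypQ (minQ F k a b)) : ℤ) + (q : ℤ) ^ (2 * k + 2) =
        q * zeros ⇑(minQ F k a b) + (q : ℤ) ^ (2 * k + 2 + 1) := by exact_mod_cast h
    rw [show 2 * (k + 1) + 2 = 2 * k + 2 + 1 + 1 by ring]
    simp only [pow_succ] at *
    linear_combination (q : ℤ) * h' + (q : ℤ) * ih

theorem zeros_odd (h2 : (2 : F) ≠ 0) (m : ℕ) : zeros ⇑(oddQ F m) = q ^ (2 * m) := by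
  induction m with
  | zero =>
    rw [zeros, mul_zero, pow_zero, Nat.card_eq_one_iff_unique]
    refine ⟨⟨fun u v => ?_⟩, ⟨⟨0, QuadraticMap.map_zero _⟩⟩⟩
    suffices key : ∀ w : {w // oddQ F 0 w = 0}, w.1 = 0 from
      Subtype.ext ((key u).trans (key v).symm)
    intro w
    have hw := w.2
    rw [oddQ_apply, show w.1 ∘ Sum.inr = 0 from funext fun i => isEmptyElim i,
      QuadraticMap.map_zero, add_zero] at hw
    funext i
    rcases i with i | i
    · exact eq_zero_of_pow_eq_zero hw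
    · exact isEmptyElim i
  | succ m ih =>
    rw [zeros_congr (oddIdx m) _ _ (odd_split m)]
    have h := zeros_hypQ (oddQ F m) hF
    rw [Fintype.card_sum, Fintype.card_sum, Fintype.card_fin, Fintype.card_unit, ih, ← two_mul,
      ← pow_succ', show 1 + 2 * m + 1 = 2 * (m + 1) by ring, add_comm 1 (2 * m)] at h
    omega

theorem zeros_plus {m : ℕ} (hm : 1 ≤ m) :
    zeros ⇑(plusQ F m) = q ^ (2 * m - 1) + q ^ m - q ^ (m - 1) := by
  have hq := one_lt_q hF
  obtain ⟨r, rfl⟩ : ∃ r, m = r + 1 := ⟨m - 1, by omega⟩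
  rw [show 2 * (r + 1) - 1 = 2 * r + 1 by omega, show r + 1 - 1 = r from rfl]
  have h := cast_zeros_plus hF (r + 1)
  have hle : q ^ r ≤ q ^ (r + 1) := Nat.pow_le_pow_right (by omega) (by omega)
  refine Nat.eq_of_mul_eq_mul_left (show 0 < q by omega) ?_
  rw [← Nat.cast_inj (R := ℤ), Nat.cast_mul, h, Nat.cast_mul,
    Nat.cast_sub (le_add_left hle)]
  push_cast
  ring

theorem zeros_min {k : ℕ} {a b : F}
    (hab : ∀ z₁ z₂ : F, z₁ ^ 2 + a * z₁ * z₂ + b * z₂ ^ 2 = 0 → z₁ = 0 ∧ z₂ = 0) :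
    zeros ⇑(minQ F k a b) = q ^ (2 * k + 1) + q ^ k - q ^ (k + 1) := by
  have hq := one_lt_q hF
  have h := cast_zeros_min hF k hab
  have hle : q ^ (k + 1) ≤ q ^ (2 * k + 1) := Nat.pow_le_pow_right (by omega) (by omega)
  refine Nat.eq_of_mul_eq_mul_left (show 0 < q by omega) ?_
  rw [← Nat.cast_inj (R := ℤ), Nat.cast_mul, h, Nat.cast_mul,
    Nat.cast_sub (le_add_right hle)]
  push_cast
  ring

/-! ### Orders -/

theorem natCard_O_odd (h2 : (2 : F) ≠ 0) (m : ℕ) :
    Nat.card (Cfsg.isometryGroup F ⇑(oddQ F m)) =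
      2 * q ^ (m ^ 2) * ∏ i ∈ Finset.range m, (q ^ (2 * (i + 1)) - 1) := by
  induction m with
  | zero =>
    rw [Finset.prod_range_zero]
    norm_num [-Nat.card_eq_fintype_card]
    let : DecidableEq F := _root_.Classical.decEq F
    have hone : ∀ x : Unit ⊕ (Fin 0 ⊕ Fin 0), x = Sum.inl () := by
      rintro (⟨⟩ | i)
      · rfl
      · exact isEmptyElim i
    have hval : ∀ g : Cfsg.isometryGroup F ⇑(oddQ F 0),
        ((g.1 : Matrix.GeneralLinearGroup (Unit ⊕ (Fin 0 ⊕ Fin 0)) F) :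
          Matrix (Unit ⊕ (Fin 0 ⊕ Fin 0)) (Unit ⊕ (Fin 0 ⊕ Fin 0)) F) (Sum.inl ()) (Sum.inl ()) = 1 ∨
        ((g.1 : Matrix.GeneralLinearGroup (Unit ⊕ (Fin 0 ⊕ Fin 0)) F) :
          Matrix (Unit ⊕ (Fin 0 ⊕ Fin 0)) (Unit ⊕ (Fin 0 ⊕ Fin 0)) F) (Sum.inl ()) (Sum.inl ()) = -1 := by
      intro g
      have h := iso_mulVec g (Pi.single (Sum.inl ()) 1)
      rw [oddQ_apply, oddQ_apply] at h
      simp only [Matrix.mulVec_single_one] at h
      have e : ∀ w : Unit ⊕ (Fin 0 ⊕ Fin 0) → F, w ∘ Sum.inr = 0 := fun w =>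
        funext fun i => isEmptyElim i
      rw [e, e, QuadraticMap.map_zero, add_zero, add_zero] at h
      simp [Matrix.col] at h
      exact sq_eq_one_iff.1 (by simpa using h)
    refine (Nat.card_congr (β := {c : F // c = 1 ∨ c = -1}) ?_).trans ?_
    · refine
        { toFun := fun g => ⟨_, hval g⟩
          invFun := fun c => ⟨Matrix.GeneralLinearGroup.mkOfDetNeZero
            (Matrix.diagonal fun _ => c.1) ?_, (mem_isometry_iff _ _).2 fun v => ?_⟩
          left_inv := fun g => ?_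
          right_inv := fun c => ?_ }
      · rw [Matrix.det_diagonal]
        refine Finset.prod_ne_zero_iff.2 fun i _ => ?_
        rcases c.2 with h | h <;> simp [h]
      · show oddQ F 0 (Matrix.diagonal (fun _ => c.1) *ᵥ v) = oddQ F 0 v
        rw [show Matrix.diagonal (fun _ => c.1) *ᵥ v = c.1 • v from funext fun i => by
          simp [Matrix.mulVec_diagonal], QuadraticMap.map_smul, smul_eq_mul]
        rcases c.2 with h | h <;> simp [h]
      · refine Subtype.ext (Units.ext (Matrix.ext fun i j => ?_))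
        rw [hone i, hone j]
        show Matrix.diagonal (fun _ => _) (Sum.inl ()) (Sum.inl ()) = _
        rw [Matrix.diagonal_apply_eq]
      · refine Subtype.ext ?_
        show Matrix.diagonal (fun _ => c.1) (Sum.inl ()) (Sum.inl ()) = c.1
        rw [Matrix.diagonal_apply_eq]
    · rw [Nat.card_eq_two_iff]
      refine ⟨⟨1, Or.inl rfl⟩, ⟨-1, Or.inr rfl⟩, fun h => h2 ?_, eq_top_iff.2 fun c _ => ?_⟩
      · have h' : (1 : F) = -1 := congrArg Subtype.val h
        linear_combination h'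
      · rcases c.2 with h | h
        · exact Or.inl (Subtype.ext h)
        · exact Or.inr (Subtype.ext h)
  | succ m ih =>
    rw [natCard_isometry_congr (oddIdx m) _ _ (odd_split m),
      natCard_isometry_hypQ (oddQ F m) hF (oddQ_nondeg h2 m),
      ← zeros_congr (oddIdx m) _ _ (odd_split m), zeros_odd hF h2, ih, Finset.prod_range_succ,
      Fintype.card_sum, Fintype.card_sum, Fintype.card_fin, Fintype.card_unit,
      show (m + 1) ^ 2 = m ^ 2 + (1 + (m + m)) by ring, pow_add]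
    ring

theorem natCard_O_plus (m : ℕ) :
    Nat.card (Cfsg.isometryGroup F ⇑(plusQ F (m + 1))) =
      2 * q ^ ((m + 1) * m) * (q ^ (m + 1) - 1) * ∏ i ∈ Finset.range m, (q ^ (2 * (i + 1)) - 1) := by
  have hq := one_lt_q hF
  have hstep : ∀ m, Nat.card (Cfsg.isometryGroup F ⇑(plusQ F (m + 1))) =
      (q ^ (m + 1) - 1) * (q ^ m + 1) * q ^ (2 * m) * Nat.card (Cfsg.isometryGroup F ⇑(plusQ F m)) := by
    intro m
    rw [natCard_isometry_congr (plusIdx m) _ _ (plus_split m),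
      natCard_isometry_hypQ (plusQ F m) hF (plusQ_nondeg F m),
      ← zeros_congr (plusIdx m) _ _ (plus_split m), Fintype.card_sum, Fintype.card_fin, ← two_mul]
    congr 2
    have h1 : 1 ≤ zeros ⇑(plusQ F (m + 1)) :=
      Nat.one_le_iff_ne_zero.2 (Nat.card_ne_zero.2 ⟨⟨0, QuadraticMap.map_zero _⟩, inferInstance⟩)
    have hp : 1 ≤ q ^ (m + 1) := Nat.one_le_pow _ _ (by omega)
    have h := cast_zeros_plus hF (m + 1)
    refine Nat.eq_of_mul_eq_mul_left (show 0 < q by omega) ?_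
    rw [← Nat.cast_inj (R := ℤ)]
    push_cast [Nat.cast_sub h1, Nat.cast_sub hp]
    linear_combination h
  induction m with
  | zero =>
    rw [hstep]
    have h0 : Nat.card (Cfsg.isometryGroup F ⇑(plusQ F 0)) = 1 := by
      rw [Nat.card_eq_one_iff_unique]
      exact ⟨⟨fun a b => Subtype.ext (Units.ext (Matrix.ext fun i => isEmptyElim i))⟩, ⟨1⟩⟩
    rw [h0]
    simp
    ring
  | succ m ih =>
    rw [hstep, ih, Finset.prod_range_succ]
    have hs : q ^ (2 * (m + 1)) - 1 = (q ^ (m + 1) + 1) * (q ^ (m + 1) - 1) := by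
      rw [← Nat.sq_sub_sq, one_pow, ← pow_mul, mul_comm]
    rw [hs, show (m + 1 + 1) * (m + 1) = (m + 1) * m + 2 * (m + 1) by ring, pow_add]
    ring

theorem natCard_O_min {a b : F}
    (hab : ∀ z₁ z₂ : F, z₁ ^ 2 + a * z₁ * z₂ + b * z₂ ^ 2 = 0 → z₁ = 0 ∧ z₂ = 0)
    (h0 : Nat.card (Cfsg.isometryGroup F ⇑(minQ F 0 a b)) = 2 * (q + 1)) (k : ℕ) :
    Nat.card (Cfsg.isometryGroup F ⇑(minQ F k a b)) =
      2 * q ^ ((k + 1) * k) * (q ^ (k + 1) + 1) * ∏ i ∈ Finset.range k, (q ^ (2 * (i + 1)) - 1) := by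
  have hq := one_lt_q hF
  induction k with
  | zero => rw [h0]; simp
  | succ k ih =>
    have h1 : 1 ≤ zeros ⇑(minQ F (k + 1) a b) :=
      Nat.one_le_iff_ne_zero.2 (Nat.card_ne_zero.2 ⟨⟨0, QuadraticMap.map_zero _⟩, inferInstance⟩)
    have hp : 1 ≤ q ^ (k + 1) := Nat.one_le_pow _ _ (by omega)
    have hz : zeros ⇑(minQ F (k + 1) a b) - 1 = (q ^ (k + 1) - 1) * (q ^ (k + 2) + 1) := by
      have h := cast_zeros_min hF (k + 1) hab
      refine Nat.eq_of_mul_eq_mul_left (show 0 < q by omega) ?_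
      rw [← Nat.cast_inj (R := ℤ)]
      push_cast [Nat.cast_sub h1, Nat.cast_sub hp]
      linear_combination h
    rw [natCard_isometry_congr (minIdx k) _ _ (min_split k a b),
      natCard_isometry_hypQ (minQ F k a b) hF (minQ_nondeg k hab),
      ← zeros_congr (minIdx k) _ _ (min_split k a b), hz, ih, Finset.prod_range_succ,
      Fintype.card_sum, Fintype.card_sum, Fintype.card_fin, Fintype.card_fin]
    have hs : q ^ (2 * (k + 1)) - 1 = (q ^ (k + 1) + 1) * (q ^ (k + 1) - 1) := by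
      rw [← Nat.sq_sub_sq, one_pow, ← pow_mul, mul_comm]
    rw [hs, show (k + 1 + 1) * (k + 1) = (k + 1) * k + (k + k + 2) by ring, pow_add]
    ring

end count

/-! ### Frames -/

theorem plusQ_pair {m : ℕ} (i : Fin m) :
    IsPair (plusQ F m) (Pi.single (Sum.inl i) 1) (Pi.single (Sum.inr i) 1) := by
  refine ⟨?_, ?_, ?_⟩
  · simp [plusQ_apply, Cfsg.quadFormPlus, Pi.single_apply]
  · simp [plusQ_apply, Cfsg.quadFormPlus, Pi.single_apply]
  · simp [plusQ_polar, Pi.single_apply]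

theorem plusQ_orth {m : ℕ} {x y : Fin m ⊕ Fin m} (h : ∀ i, x ≠ Sum.inl i ∨ y ≠ Sum.inr i)
    (h' : ∀ i, x ≠ Sum.inr i ∨ y ≠ Sum.inl i) :
    QuadraticMap.polar (plusQ F m) (Pi.single x 1) (Pi.single y 1) = 0 := by
  rw [plusQ_polar]
  refine Finset.sum_eq_zero fun i _ => ?_
  rcases h i with h1 | h1 <;> rcases h' i with h2 | h2 <;>
    simp [Pi.single_apply, Ne.symm h1, Ne.symm h2]

/-- The frame of the plus form. -/
noncomputable def plusFrame (F : Type*) [Field F] {m : ℕ} (hm : 3 ≤ m) : Frame (plusQ F m) where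
  u := Pi.single (Sum.inl ⟨0, by omega⟩) 1
  v := Pi.single (Sum.inr ⟨0, by omega⟩) 1
  u' := Pi.single (Sum.inl ⟨1, by omega⟩) 1
  v' := Pi.single (Sum.inr ⟨1, by omega⟩) 1
  x₀ := Pi.single (Sum.inl ⟨2, by omega⟩) 1 + Pi.single (Sum.inr ⟨2, by omega⟩) 1
  p := plusQ_pair _
  p' := plusQ_pair _
  uu' := plusQ_orth (fun i => by simp [Fin.ext_iff] <;> omega) (fun i => by simp [Fin.ext_iff] <;> omega)
  uv' := plusQ_orth (fun i => by simp [Fin.ext_iff] <;> omega) (fun i => by simp [Fin.ext_iff] <;> omega)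
  vu' := plusQ_orth (fun i => by simp [Fin.ext_iff] <;> omega) (fun i => by simp [Fin.ext_iff] <;> omega)
  vv' := plusQ_orth (fun i => by simp [Fin.ext_iff] <;> omega) (fun i => by simp [Fin.ext_iff] <;> omega)
  ux := by rw [QuadraticMap.polar_add_right, plusQ_orth (fun i => by simp [Fin.ext_iff] <;> omega) (fun i => by simp [Fin.ext_iff] <;> omega),
    plusQ_orth (fun i => by simp [Fin.ext_iff] <;> omega) (fun i => by simp [Fin.ext_iff] <;> omega), add_zero]
  vx := by rw [QuadraticMap.polar_add_right, plusQ_orth (fun i => by simp [Fin.ext_iff] <;> omega) (fun i => by simp [Fin.ext_iff] <;> omega),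
    plusQ_orth (fun i => by simp [Fin.ext_iff] <;> omega) (fun i => by simp [Fin.ext_iff] <;> omega), add_zero]
  u'x := by rw [QuadraticMap.polar_add_right, plusQ_orth (fun i => by simp [Fin.ext_iff] <;> omega) (fun i => by simp [Fin.ext_iff] <;> omega),
    plusQ_orth (fun i => by simp [Fin.ext_iff] <;> omega) (fun i => by simp [Fin.ext_iff] <;> omega), add_zero]
  v'x := by rw [QuadraticMap.polar_add_right, plusQ_orth (fun i => by simp [Fin.ext_iff] <;> omega) (fun i => by simp [Fin.ext_iff] <;> omega),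
    plusQ_orth (fun i => by simp [Fin.ext_iff] <;> omega) (fun i => by simp [Fin.ext_iff] <;> omega), add_zero]
  hx := by simp [plusQ_apply, Cfsg.quadFormPlus, Pi.single_apply, Finset.sum_ite_eq']

theorem oddQ_inr (m : ℕ) (x : Fin m ⊕ Fin m → F) :
    oddQ F m (Sum.elim 0 x) = plusQ F m x := by
  simp [oddQ_apply, Sum.elim_comp_inr]

theorem oddQ_polar_inr (m : ℕ) (x y : Fin m ⊕ Fin m → F) :
    QuadraticMap.polar (oddQ F m) (Sum.elim 0 x) (Sum.elim 0 y) =
      QuadraticMap.polar (plusQ F m) x y := by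
  simp [oddQ_polar, Sum.elim_comp_inr]

/-- The frame of the odd form. -/
noncomputable def oddFrame (F : Type*) [Field F] {m : ℕ} (hm : 2 ≤ m) : Frame (oddQ F m) where
  u := Sum.elim 0 (Pi.single (Sum.inl ⟨0, by omega⟩) 1)
  v := Sum.elim 0 (Pi.single (Sum.inr ⟨0, by omega⟩) 1)
  u' := Sum.elim 0 (Pi.single (Sum.inl ⟨1, by omega⟩) 1)
  v' := Sum.elim 0 (Pi.single (Sum.inr ⟨1, by omega⟩) 1)
  x₀ := Sum.elim (fun _ => 1) 0
  p := by
    have h := plusQ_pair (F := F) (⟨0, by omega⟩ : Fin m)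
    exact ⟨by rw [oddQ_inr, h.hu], by rw [oddQ_inr, h.hv], by rw [oddQ_polar_inr, h.huv]⟩
  p' := by
    have h := plusQ_pair (F := F) (⟨1, by omega⟩ : Fin m)
    exact ⟨by rw [oddQ_inr, h.hu], by rw [oddQ_inr, h.hv], by rw [oddQ_polar_inr, h.huv]⟩
  uu' := by rw [oddQ_polar_inr]; exact plusQ_orth (fun i => by simp [Fin.ext_iff] <;> omega) (fun i => by simp [Fin.ext_iff] <;> omega)
  uv' := by rw [oddQ_polar_inr]; exact plusQ_orth (fun i => by simp [Fin.ext_iff] <;> omega) (fun i => by simp [Fin.ext_iff] <;> omega)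
  vu' := by rw [oddQ_polar_inr]; exact plusQ_orth (fun i => by simp [Fin.ext_iff] <;> omega) (fun i => by simp [Fin.ext_iff] <;> omega)
  vv' := by rw [oddQ_polar_inr]; exact plusQ_orth (fun i => by simp [Fin.ext_iff] <;> omega) (fun i => by simp [Fin.ext_iff] <;> omega)
  ux := by simp [oddQ_polar, Sum.elim_comp_inr, plusQ_polar]
  vx := by simp [oddQ_polar, Sum.elim_comp_inr, plusQ_polar]
  u'x := by simp [oddQ_polar, Sum.elim_comp_inr, plusQ_polar]
  v'x := by simp [oddQ_polar, Sum.elim_comp_inr, plusQ_polar]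
  hx := by simp [oddQ_apply, Sum.elim_comp_inr]

theorem minQ_inl (k : ℕ) (a b : F) (x : Fin k ⊕ Fin k → F) :
    minQ F k a b (Sum.elim x 0) = plusQ F k x := by
  simp [minQ_apply, Sum.elim_comp_inl]

theorem minQ_polar_inl (k : ℕ) (a b : F) (x y : Fin k ⊕ Fin k → F) :
    QuadraticMap.polar (minQ F k a b) (Sum.elim x 0) (Sum.elim y 0) =
      QuadraticMap.polar (plusQ F k) x y := by
  simp [minQ_polar, Sum.elim_comp_inl]

/-- The frame of the minus form. -/
noncomputable def minFrame (F : Type*) [Field F] {k : ℕ} (hk : 2 ≤ k) (a b : F) :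
    Frame (minQ F k a b) where
  u := Sum.elim (Pi.single (Sum.inl ⟨0, by omega⟩) 1) 0
  v := Sum.elim (Pi.single (Sum.inr ⟨0, by omega⟩) 1) 0
  u' := Sum.elim (Pi.single (Sum.inl ⟨1, by omega⟩) 1) 0
  v' := Sum.elim (Pi.single (Sum.inr ⟨1, by omega⟩) 1) 0
  x₀ := Sum.elim 0 ![1, 0]
  p := by
    have h := plusQ_pair (F := F) (⟨0, by omega⟩ : Fin k)
    exact ⟨by rw [minQ_inl, h.hu], by rw [minQ_inl, h.hv], by rw [minQ_polar_inl, h.huv]⟩
  p' := by
    have h := plusQ_pair (F := F) (⟨1, by omega⟩ : Fin k)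
    exact ⟨by rw [minQ_inl, h.hu], by rw [minQ_inl, h.hv], by rw [minQ_polar_inl, h.huv]⟩
  uu' := by rw [minQ_polar_inl]; exact plusQ_orth (fun i => by simp [Fin.ext_iff] <;> omega) (fun i => by simp [Fin.ext_iff] <;> omega)
  uv' := by rw [minQ_polar_inl]; exact plusQ_orth (fun i => by simp [Fin.ext_iff] <;> omega) (fun i => by simp [Fin.ext_iff] <;> omega)
  vu' := by rw [minQ_polar_inl]; exact plusQ_orth (fun i => by simp [Fin.ext_iff] <;> omega) (fun i => by simp [Fin.ext_iff] <;> omega)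
  vv' := by rw [minQ_polar_inl]; exact plusQ_orth (fun i => by simp [Fin.ext_iff] <;> omega) (fun i => by simp [Fin.ext_iff] <;> omega)
  ux := by simp [minQ_polar, Sum.elim_comp_inl, plusQ_polar]
  vx := by simp [minQ_polar, Sum.elim_comp_inl, plusQ_polar]
  u'x := by simp [minQ_polar, Sum.elim_comp_inl, plusQ_polar]
  v'x := by simp [minQ_polar, Sum.elim_comp_inl, plusQ_polar]
  hx := by simp [minQ_apply, Sum.elim_comp_inl]

end Cfsg.Agent.Classical.OrthForms
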