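import Mathlib
import Cfsg.Agent.Lib.Classical.OrthForms
import Cfsg.Agent.Lib.Forms.Bases

/-!
# Classification of non-degenerate quadratic forms over a finite field, any characteristic
-/

set_option autoImplicit false

namespace Cfsg.Agent.Classical.QuadClass

open Module Cfsg.Agent.Forms Cfsg.Agent.Forms.PlusStd
open Cfsg.Agent.Classical.OrthCount Cfsg.Agent.Classical.OrthForms

variable {F V : Type*} [Field F] [AddCommGroup V] [Module F V]

local notation "Pol" => QuadraticMap.polarBilin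

section basic

variable (Q : QuadraticForm F V)

theorem pol_comm (x y : V) : Pol Q x y = Pol Q y x := by
  simp only [QuadraticMap.polarBilin_apply_apply]; exact QuadraticMap.polar_comm _ x y

theorem pol_self (x : V) : Pol Q x x = 2 * Q x := by
  simp [QuadraticMap.polarBilin_apply_apply, QuadraticMap.polar_self, two_mul]

theorem map_add_pol (x y : V) : Q (x + y) = Q x + Q y + Pol Q x y :=
  QuadraticMap.map_add Q x y

theorem map_smul_sq (t : F) (x : V) : Q (t • x) = t * t * Q x := by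
  rw [QuadraticMap.map_smul, smul_eq_mul]

theorem map_comb (x y : V) (s t : F) :
    Q (s • x + t • y) = s * s * Q x + t * t * Q y + s * t * Pol Q x y := by
  rw [map_add_pol, map_smul_sq, map_smul_sq, map_smul, map_smul, LinearMap.smul_apply, smul_eq_mul,
    smul_eq_mul]
  ring

theorem exists_pol_one (hQ : (Pol Q).Nondegenerate) {u : V} (hu : u ≠ 0) :
    ∃ w, Pol Q u w = 1 := by
  obtain ⟨w, hw⟩ : ∃ w, Pol Q u w ≠ 0 := by
    by_contra h
    push Not at h
    exact hu (hQ.1 u h)
  exact ⟨(Pol Q u w)⁻¹ • w, by rw [map_smul, smul_eq_mul, inv_mul_cancel₀ hw]⟩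

variable [FiniteDimensional F V]

theorem exists_singular [Finite F] (hQ : (Pol Q).Nondegenerate) (hn : 3 ≤ finrank F V) :
    ∃ u, u ≠ 0 ∧ Q u = 0 := by
  by_contra hall
  push Not at hall
  have : Nontrivial V := Module.nontrivial_of_finrank_pos (R := F) (by omega)
  have pick : ∀ W : Submodule F V, 0 < finrank F W → ∃ w ∈ W, w ≠ 0 := fun W h =>
    Submodule.exists_mem_ne_zero_of_ne_bot fun h' => by rw [h', finrank_bot] at h; omega
  have kerdim : ∀ (W : Submodule F V) (u : V), finrank F W ≤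
      finrank F ↥(W ⊓ LinearMap.ker (Pol Q u)) + 1 := fun W u => by
    have h1 := Submodule.finrank_sup_add_finrank_inf_eq W (LinearMap.ker (Pol Q u))
    have h2 := Submodule.finrank_le (W ⊔ LinearMap.ker (Pol Q u))
    have h3 := LinearMap.finrank_range_add_finrank_ker (Pol Q u)
    have h4 := Submodule.finrank_le (LinearMap.range (Pol Q u))
    rw [finrank_self] at h4
    omega
  obtain ⟨u, hu⟩ := exists_ne (0 : V)
  have d1 := kerdim ⊤ u
  rw [finrank_top, top_inf_eq] at d1
  by_cases h2 : (2 : F) = 0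
  · cases nonempty_fintype F
    have : CharP F 2 := CharTwo.of_one_ne_zero_of_two_eq_zero one_ne_zero h2
    obtain ⟨w, hw, hwu⟩ : ∃ w ∈ LinearMap.ker (Pol Q u), w ∉ Submodule.span F {u} := by
      by_contra h
      push Not at h
      have := Submodule.finrank_mono (h : LinearMap.ker (Pol Q u) ≤ Submodule.span F {u})
      rw [finrank_span_singleton hu] at this
      omega
    obtain ⟨t, ht⟩ := FiniteField.isSquare_of_char_two (ringChar.eq F 2) (Q w / Q u)
    refine hall (w + t • u) (fun h0 => hwu ?_) ?_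
    · rw [eq_neg_of_add_eq_zero_left h0, Submodule.mem_span_singleton]
      exact ⟨-t, neg_smul t u⟩
    · rw [map_add_pol, map_smul_sq, map_smul, pol_comm, LinearMap.mem_ker.1 hw, ← ht,
        div_mul_cancel₀ _ (hall u hu), smul_zero, add_zero]
      linear_combination Q w * h2
  · obtain ⟨w, hw, hw0⟩ := pick (LinearMap.ker (Pol Q u)) (by omega)
    have d2 := kerdim (LinearMap.ker (Pol Q u)) w
    obtain ⟨z, hz, hz0⟩ := pick (LinearMap.ker (Pol Q u) ⊓ LinearMap.ker (Pol Q w)) (by omega)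
    obtain ⟨hzu, hzw⟩ := Submodule.mem_inf.1 hz
    rw [LinearMap.mem_ker] at hw hzu hzw
    obtain ⟨x, y, hxy⟩ := Bases.exists_sq_add_sq h2 (hall u hu) (hall w hw0) (-Q z)
    refine hall (x • u + y • w + z) (fun h0 => ?_) ?_
    · have := congrArg (fun a => Pol Q z a) h0
      simp [map_add, map_smul, pol_comm Q z u, pol_comm Q z w, hzu, hzw, pol_self,
        QuadraticMap.polar_self, hall z hz0, h2, two_mul, ← two_mul] at this
    · rw [map_add_pol, map_comb, map_add, map_smul, map_smul, LinearMap.add_apply,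
        LinearMap.smul_apply, LinearMap.smul_apply, hw, hzu, hzw]
      simp only [smul_zero, mul_zero, add_zero]
      linear_combination hxy

theorem exists_partner (hQ : (Pol Q).Nondegenerate) {u : V} (hu : u ≠ 0) (hQu : Q u = 0) :
    ∃ v, Q v = 0 ∧ Pol Q u v = 1 := by
  obtain ⟨w, hw⟩ := exists_pol_one Q hQ hu
  refine ⟨(1 : F) • w + (-Q w) • u, ?_, ?_⟩
  · rw [map_comb, hQu, pol_comm, hw]; ring
  · rw [map_add, map_smul, map_smul, hw, pol_self, hQu]; simp

/-- Splitting off a hyperbolic plane. -/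
theorem split_pair (hQ : (Pol Q).Nondegenerate) {u : V} (hu : u ≠ 0) (hQu : Q u = 0) :
    ∃ W : Submodule F V, (Pol (Q.comp W.subtype)).Nondegenerate ∧
      finrank F W + 2 = finrank F V ∧
      ∀ {κ : Type} [Fintype κ] [DecidableEq κ] (e : W ≃ₗ[F] (κ → F)) (Q' : QuadraticForm F (κ → F)),
        (∀ w : W, Q' (e w) = Q w) → ∃ e' : V ≃ₗ[F] (Fin 2 ⊕ κ → F), ∀ x, hypQ Q' (e' x) = Q x := by
  obtain ⟨v, hQv, huv⟩ := exists_partner Q hQ hu hQu
  have hvu : Pol Q v u = 1 := by rw [pol_comm, huv]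
  have huu : Pol Q u u = 0 := by rw [pol_self, hQu, mul_zero]
  have hvv : Pol Q v v = 0 := by rw [pol_self, hQv, mul_zero]
  let W := LinearMap.ker (Pol Q u) ⊓ LinearMap.ker (Pol Q v)
  let π : V →ₗ[F] (F × F) := LinearMap.prod (Pol Q v) (Pol Q u)
  have hW : W = LinearMap.ker π := by
    ext x; simp [W, π, LinearMap.ker_prod, and_comm]
  have hπ : Function.Surjective π := fun ab => ⟨ab.1 • u + ab.2 • v, Prod.ext
    (show Pol Q v (ab.1 • u + ab.2 • v) = ab.1 by
      rw [map_add, map_smul, map_smul, hvu, hvv]; simp)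
    (show Pol Q u (ab.1 • u + ab.2 • v) = ab.2 by
      rw [map_add, map_smul, map_smul, huu, huv]; simp)⟩
  have hdim : finrank F W + 2 = finrank F V := by
    have h := LinearMap.finrank_range_add_finrank_ker π
    rw [LinearMap.range_eq_top.2 hπ, finrank_top, Module.finrank_prod, finrank_self, ← hW] at h
    omega
  have hmem : ∀ x, x - (Pol Q v x • u + Pol Q u x • v) ∈ W := fun x => by
    refine Submodule.mem_inf.2 ⟨?_, ?_⟩ <;>
      simp only [LinearMap.mem_ker, map_sub, map_add, map_smul, huu, hvv, huv, hvu] <;> simp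
  have hQW : ∀ x, Q x = Pol Q v x * Pol Q u x +
      Q (x - (Pol Q v x • u + Pol Q u x • v)) := fun x => by
    set w := x - (Pol Q v x • u + Pol Q u x • v) with hw
    obtain ⟨h1, h2⟩ := Submodule.mem_inf.1 (hmem x)
    rw [LinearMap.mem_ker] at h1 h2
    conv_lhs => rw [show x = (Pol Q v x • u + Pol Q u x • v) + w by rw [hw]; abel]
    rw [map_add_pol, map_comb, hQu, hQv, huv, map_add, map_smul, map_smul, LinearMap.add_apply,
      LinearMap.smul_apply, LinearMap.smul_apply, h1, h2]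
    simp only [smul_zero]
    ring
  have hnd : ∀ w : W, (∀ z : W, Pol (Q.comp W.subtype) w z = 0) → w = 0 := fun w hw => by
    refine Subtype.ext (hQ.1 _ fun x => ?_)
    have h := hw ⟨_, hmem x⟩
    rw [show Pol (Q.comp W.subtype) w ⟨_, hmem x⟩ =
      Pol Q (w : V) (x - (Pol Q v x • u + Pol Q u x • v)) from by
        simp [QuadraticMap.polar, QuadraticMap.polarBilin_apply_apply]] at h
    obtain ⟨h1, h2⟩ := Submodule.mem_inf.1 w.2
    rw [LinearMap.mem_ker] at h1 h2
    rwa [map_sub, map_add, map_smul, map_smul, pol_comm Q (w : V) u, pol_comm Q (w : V) v, h1, h2,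
      smul_zero, smul_zero, add_zero, sub_zero] at h
  refine ⟨W, ⟨hnd, fun w hw => hnd w fun z => by rw [pol_comm]; exact hw z⟩, hdim,
    fun {κ} _ _ e Q' he => ?_⟩
  let f : V →ₗ[F] (Fin 2 ⊕ κ → F) :=
    { toFun := fun x => Sum.elim ![Pol Q v x, Pol Q u x] (e ⟨_, hmem x⟩)
      map_add' := fun x y => by
        have h : (⟨_, hmem (x + y)⟩ : W) = ⟨_, hmem x⟩ + ⟨_, hmem y⟩ :=
          Subtype.ext (by simp [map_add, add_smul]; abel)
        funext i
        rcases i with i | i
        · fin_cases i <;> simp [map_add]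
        · show e ⟨_, hmem (x + y)⟩ i = e ⟨_, hmem x⟩ i + e ⟨_, hmem y⟩ i
          rw [h, map_add]; rfl
      map_smul' := fun c x => by
        have h : (⟨_, hmem (c • x)⟩ : W) = c • ⟨_, hmem x⟩ :=
          Subtype.ext (by simp [map_smul, smul_sub, smul_add, smul_smul])
        funext i
        rcases i with i | i
        · fin_cases i <;> simp [map_smul]
        · show e ⟨_, hmem (c • x)⟩ i = c * e ⟨_, hmem x⟩ i
          rw [h, map_smul]; rfl }
  have hf : Function.Injective f := by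
    rw [injective_iff_map_eq_zero]
    intro x hx
    have a : Pol Q v x = 0 := congrFun hx (Sum.inl 0)
    have b : Pol Q u x = 0 := congrFun hx (Sum.inl 1)
    have c : (⟨_, hmem x⟩ : W) = 0 := e.injective (by
      rw [map_zero]; funext k; exact congrFun hx (Sum.inr k))
    simpa [a, b] using congrArg Subtype.val c
  have hfd : finrank F V = finrank F (Fin 2 ⊕ κ → F) := by
    have := e.finrank_eq
    simp only [Module.finrank_pi, Fintype.card_sum, Fintype.card_fin] at this ⊢
    omega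
  refine ⟨LinearEquiv.ofBijective f ⟨hf, (LinearMap.injective_iff_surjective_of_finrank_eq_finrank
    hfd).1 hf⟩, fun x => ?_⟩
  show hypQ Q' (f x) = Q x
  rw [hypQ_apply, hQW x]
  congr 1
  exact (congrArg Q' (funext fun k => rfl)).trans (he ⟨_, hmem x⟩)

theorem binary_one [Finite F] (hV : finrank F V = 2) (hQ : (Pol Q).Nondegenerate)
    (hall : ∀ u, u ≠ 0 → Q u ≠ 0) : ∃ e, Q e = 1 := by
  have : Nontrivial V := Module.nontrivial_of_finrank_pos (R := F) (by omega)
  obtain ⟨u, hu⟩ := exists_ne (0 : V)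
  by_cases h2 : (2 : F) = 0
  · cases nonempty_fintype F
    have : CharP F 2 := CharTwo.of_one_ne_zero_of_two_eq_zero one_ne_zero h2
    obtain ⟨t, ht⟩ := FiniteField.isSquare_of_char_two (ringChar.eq F 2) (Q u)⁻¹
    exact ⟨t • u, by rw [map_smul_sq, ← ht, inv_mul_cancel₀ (hall u hu)]⟩
  · have hne : LinearMap.ker (Pol Q u) ≠ ⊥ := fun h => by
      have h3 := LinearMap.finrank_range_add_finrank_ker (Pol Q u)
      have h4 := Submodule.finrank_le (LinearMap.range (Pol Q u))
      rw [h, finrank_bot] at h3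
      rw [finrank_self] at h4
      omega
    obtain ⟨w, hw, hw0⟩ := Submodule.exists_mem_ne_zero_of_ne_bot hne
    obtain ⟨x, y, hxy⟩ := Bases.exists_sq_add_sq h2 (hall u hu) (hall w hw0) 1
    exact ⟨x • u + y • w, by rw [map_comb, LinearMap.mem_ker.1 hw]; linear_combination hxy⟩

theorem binary_normal [Finite F] (hV : finrank F V = 2) (hQ : (Pol Q).Nondegenerate)
    (hall : ∀ u, u ≠ 0 → Q u ≠ 0) :
    ∃ (ζ : F) (e : V ≃ₗ[F] ((Fin 0 ⊕ Fin 0) ⊕ Fin 2 → F)),
      (∀ t : F, t ^ 2 + t + ζ ≠ 0) ∧ ∀ x, minQ F 0 1 ζ (e x) = Q x := by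
  obtain ⟨e, he⟩ := binary_one Q hV hQ hall
  have he0 : e ≠ 0 := fun h => by rw [h, QuadraticMap.map_zero] at he; exact zero_ne_one he
  obtain ⟨g, hg, hgs⟩ : ∃ g, Pol Q e g ≠ 0 ∧ g ∉ Submodule.span F {e} := by
    obtain ⟨g, hg⟩ := exists_pol_one Q hQ he0
    by_cases hgs : g ∈ Submodule.span F {e}
    · obtain ⟨z, hz⟩ : ∃ z, z ∉ Submodule.span F {e} := by
        by_contra h
        push Not at h
        have := Submodule.finrank_mono (fun x _ => h x : (⊤ : Submodule F V) ≤ _)
        rw [finrank_top, finrank_span_singleton he0] at this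
        omega
      by_cases hez : Pol Q e z = 0
      · exact ⟨g + z, by rw [map_add, hg, hez, add_zero]; exact one_ne_zero,
          fun h => hz (by simpa using Submodule.sub_mem _ h hgs)⟩
      · exact ⟨z, hez, hz⟩
    · exact ⟨g, by rw [hg]; exact one_ne_zero, hgs⟩
  set f := (Pol Q e g)⁻¹ • g with hf
  have hef : Pol Q e f = 1 := by rw [hf, map_smul, smul_eq_mul, inv_mul_cancel₀ hg]
  have hfs : f ∉ Submodule.span F {e} := fun h => hgs (by
    have := Submodule.smul_mem _ (Pol Q e g) h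
    rwa [hf, smul_smul, mul_inv_cancel₀ hg, one_smul] at this)
  let L : ((Fin 0 ⊕ Fin 0) ⊕ Fin 2 → F) →ₗ[F] V :=
    { toFun := fun z => z (.inr 0) • e + z (.inr 1) • f
      map_add' := fun a b => by simp [add_smul]; abel
      map_smul' := fun c a => by simp [smul_add, smul_smul] }
  have hL : Function.Injective L := by
    rw [injective_iff_map_eq_zero]
    intro z hz
    have h1 : z (.inr 1) = 0 := by
      by_contra h
      refine hfs (Submodule.mem_span_singleton.2 ⟨-((z (.inr 1))⁻¹ * z (.inr 0)), ?_⟩)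
      have h' := congrArg (fun x => (z (.inr 1))⁻¹ • x) hz
      simp only [L, LinearMap.coe_mk, AddHom.coe_mk, smul_add, smul_smul, inv_mul_cancel₀ h,
        one_smul, smul_zero] at h'
      rw [neg_smul]
      exact (eq_neg_of_add_eq_zero_right h').symm
    have h0 : z (.inr 0) = 0 := by
      simpa [L, h1, he0] using hz
    funext i
    rcases i with i | i
    · exact isEmptyElim i
    · fin_cases i <;> assumption
  have hbij : Function.Bijective L := ⟨hL, (LinearMap.injective_iff_surjective_of_finrank_eq_finrank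
    (by simp [hV])).1 hL⟩
  refine ⟨Q f, (LinearEquiv.ofBijective L hbij).symm, fun t ht => ?_, fun x => ?_⟩
  · refine hall (t • e + (1 : F) • f) (fun h => hfs ?_) ?_
    · rw [one_smul] at h
      exact Submodule.mem_span_singleton.2 ⟨-t, by rw [neg_smul]; exact (eq_neg_of_add_eq_zero_right h).symm⟩
    · rw [map_comb, he, hef]; linear_combination ht
  · obtain ⟨z, rfl⟩ := hbij.2 x
    rw [LinearEquiv.ofBijective_symm_apply_apply]
    show _ = Q (z (.inr 0) • e + z (.inr 1) • f)
    rw [map_comb, he, hef, minQ_apply, show z ∘ Sum.inl = 0 from funext fun i => isEmptyElim i,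
      QuadraticMap.map_zero]
    ring

end basic

/-! ### Anisotropy -/

theorem aniso_one {ζ : F} (h : ∀ t : F, t ^ 2 + t + ζ ≠ 0) :
    ∀ z₁ z₂ : F, z₁ ^ 2 + 1 * z₁ * z₂ + ζ * z₂ ^ 2 = 0 → z₁ = 0 ∧ z₂ = 0 := by
  intro z₁ z₂ hz
  by_cases h2 : z₂ = 0
  · exact ⟨eq_zero_of_pow_eq_zero (n := 2) (by simpa [h2] using hz), h2⟩
  · exact absurd (by field_simp; linear_combination hz) (h (z₁ / z₂))

/-- Transport along a reindexing. -/
theorem reindex_step {ι κ : Type} [Fintype ι] [Fintype κ] (P : QuadraticForm F (κ → F))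
    (Q : QuadraticForm F V) (σ : ι ≃ κ) (R : QuadraticForm F (ι → F))
    (hσ : ∀ x : κ → F, R (x ∘ σ) = P x) (e : V ≃ₗ[F] (κ → F)) (he : ∀ x, P (e x) = Q x) :
    ∃ e' : V ≃ₗ[F] (ι → F), ∀ x, R (e' x) = Q x :=
  ⟨e.trans (LinearEquiv.funCongrLeft F F σ), fun x => by
    show R ((e x) ∘ σ) = Q x
    rw [hσ, he]⟩

theorem classify_even [Finite F] (m : ℕ) : ∀ {V : Type _} [AddCommGroup V] [Module F V]
    [FiniteDimensional F V], finrank F V = 2 * m → ∀ Q : QuadraticForm F V,
    (Pol Q).Nondegenerate →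
    (∃ e : V ≃ₗ[F] (Fin m ⊕ Fin m → F), ∀ x, plusQ F m (e x) = Q x) ∨
    (1 ≤ m ∧ ∃ (ζ : F) (e : V ≃ₗ[F] ((Fin (m - 1) ⊕ Fin (m - 1)) ⊕ Fin 2 → F)),
      (∀ t : F, t ^ 2 + t + ζ ≠ 0) ∧ ∀ x, minQ F (m - 1) 1 ζ (e x) = Q x) := by
  induction m with
  | zero =>
    intro V _ _ _ hV Q _
    have : Subsingleton V := finrank_zero_iff.1 hV
    refine Or.inl ⟨LinearEquiv.ofFinrankEq _ _ (by simp [hV]), fun x => ?_⟩
    rw [Subsingleton.elim x 0, map_zero, QuadraticMap.map_zero, QuadraticMap.map_zero]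
  | succ m ih =>
    intro V _ _ _ hV Q hQ
    by_cases hs : ∃ u, u ≠ 0 ∧ Q u = 0
    · obtain ⟨u, hu, hQu⟩ := hs
      obtain ⟨W, hWQ, hW, step⟩ := split_pair Q hQ hu hQu
      rcases ih (V := W) (by omega) _ hWQ with ⟨e, he⟩ | ⟨hm, ζ, e, hζ, he⟩
      · obtain ⟨e', he'⟩ := step e _ he
        exact Or.inl (reindex_step _ _ (plusIdx m) _ (plus_split m) e' he')
      · obtain ⟨k, rfl⟩ : ∃ k, m = k + 1 := ⟨m - 1, by omega⟩
        obtain ⟨e', he'⟩ := step e _ he
        obtain ⟨e'', he''⟩ := reindex_step _ _ (minIdx k) _ (min_split k 1 ζ) e' he'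
        exact Or.inr ⟨by omega, ζ, e'', hζ, he''⟩
    · push Not at hs
      have hm : m = 0 := by
        by_contra hm
        obtain ⟨u, hu, hQu⟩ := exists_singular Q hQ (by omega)
        exact hs u hu hQu
      subst hm
      obtain ⟨ζ, e, hζ, he⟩ := binary_normal Q (by omega) hQ hs
      exact Or.inr ⟨le_rfl, ζ, e, hζ, he⟩

theorem classify_odd [Finite F] (m : ℕ) : ∀ {V : Type _} [AddCommGroup V] [Module F V]
    [FiniteDimensional F V], finrank F V = 2 * m + 1 → ∀ Q : QuadraticForm F V,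
    (Pol Q).Nondegenerate → ∃ c : F, c ≠ 0 ∧ ∃ e : V ≃ₗ[F] (Unit ⊕ (Fin m ⊕ Fin m) → F),
      ∀ x, c * e x (Sum.inl ()) ^ 2 + plusQ F m (e x ∘ Sum.inr) = Q x := by
  induction m with
  | zero =>
    intro V _ _ _ hV Q hQ
    have hV' : finrank F V = 1 := by omega
    obtain ⟨u, hu, hspan⟩ := finrank_eq_one_iff'.1 hV'
    have hc : Q u ≠ 0 := fun h => hu (hQ.1 u fun z => by
      obtain ⟨s, rfl⟩ := hspan z
      rw [map_smul, pol_self, h, mul_zero, smul_zero])
    let L : (Unit ⊕ (Fin 0 ⊕ Fin 0) → F) →ₗ[F] V :=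
      { toFun := fun s => s (Sum.inl ()) • u
        map_add' := fun a b => by simp [add_smul]
        map_smul' := fun c a => by simp [smul_smul] }
    have hbij : Function.Bijective L := by
      refine ⟨fun a b h => funext fun i => ?_, fun x => ?_⟩
      · rcases i with ⟨⟩ | i
        · have h' : (a (Sum.inl ()) - b (Sum.inl ())) • u = 0 := by
            rw [sub_smul, sub_eq_zero]; exact h
          exact sub_eq_zero.1 ((smul_eq_zero.1 h').resolve_right hu)
        · exact isEmptyElim i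
      · obtain ⟨s, hs⟩ := hspan x
        exact ⟨fun _ => s, hs⟩
    refine ⟨Q u, hc, (LinearEquiv.ofBijective L hbij).symm, fun x => ?_⟩
    obtain ⟨z, rfl⟩ := hbij.2 x
    rw [LinearEquiv.ofBijective_symm_apply_apply, show z ∘ Sum.inr = 0 from
      funext fun i => isEmptyElim i, QuadraticMap.map_zero]
    show _ = Q (z (Sum.inl ()) • u)
    rw [map_smul_sq]
    ring
  | succ m ih =>
    intro V _ _ _ hV Q hQ
    obtain ⟨u, hu, hQu⟩ := exists_singular Q hQ (by omega)
    obtain ⟨W, hWQ, hW, step⟩ := split_pair Q hQ hu hQu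
    obtain ⟨c, hc, e, he⟩ := ih (V := W) (by omega) _ hWQ
    let R : QuadraticForm F (Unit ⊕ (Fin m ⊕ Fin m) → F) :=
      c • QuadraticMap.linMulLin
        (LinearMap.proj (R := F) (φ := fun _ : Unit ⊕ (Fin m ⊕ Fin m) => F) (Sum.inl ()))
        (LinearMap.proj (R := F) (φ := fun _ : Unit ⊕ (Fin m ⊕ Fin m) => F) (Sum.inl ())) +
        (plusQ F m).comp (LinearMap.funLeft F F Sum.inr)
    have hR : ∀ z, R z = c * z (Sum.inl ()) ^ 2 + plusQ F m (z ∘ Sum.inr) := fun z => by
      rw [sq]; rfl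
    obtain ⟨e', he'⟩ := step e R fun w => by rw [hR]; exact he w
    refine ⟨c, hc, e'.trans (LinearEquiv.funCongrLeft F F (oddIdx m)), fun x => ?_⟩
    rw [← he' x, hypQ_apply, hR]
    show c * e' x (Sum.inr (Sum.inl ())) ^ 2 + plusQ F (m + 1) ((e' x ∘ Sum.map id Sum.inr) ∘ plusIdx m) = _
    rw [plus_split, hypQ_apply]
    show c * _ ^ 2 + (e' x (Sum.inl 0) * e' x (Sum.inl 1) + plusQ F m ((e' x ∘ Sum.inr) ∘ Sum.inr)) = _
    simp only [Function.comp_apply]
    ring

/-! ### Types -/

section types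

variable [Fintype F]

/-- Two anisotropic binary forms in normal form are isometric. -/
theorem exists_normal_change {ζ ζ' : F} (h : ∀ t : F, t ^ 2 + t + ζ ≠ 0)
    (h' : ∀ t : F, t ^ 2 + t + ζ' ≠ 0) :
    ∃ s t : F, s ≠ 0 ∧ 2 * t + s = 1 ∧ t ^ 2 + t * s + ζ * s ^ 2 = ζ' := by
  classical
  by_cases h2 : (2 : F) = 0
  · suffices ∃ t : F, t ^ 2 + t = ζ' - ζ by
      obtain ⟨t, ht⟩ := this
      exact ⟨1, t, one_ne_zero, by linear_combination t * h2, by linear_combination ht⟩
    by_contra hc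
    push Not at hc
    let f : F →+ F :=
      { toFun := fun t => t ^ 2 + t
        map_zero' := by ring
        map_add' := fun a b => by linear_combination a * b * h2 }
    have hker : Nat.card f.ker = 2 := by
      rw [Nat.card_eq_two_iff]
      refine ⟨⟨0, by simp [AddMonoidHom.mem_ker, f]⟩, ⟨1, ?_⟩, fun h0 => zero_ne_one
        (congrArg Subtype.val h0), eq_top_iff.2 fun x _ => ?_⟩
      · show (1 : F) ^ 2 + 1 = 0
        linear_combination h2
      · have hx : x.1 * (x.1 + 1) = 0 := by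
          have := x.2
          simp only [AddMonoidHom.mem_ker, f, AddMonoidHom.coe_mk, ZeroHom.coe_mk] at this
          linear_combination this
        rcases mul_eq_zero.1 hx with h0 | h1
        · exact Or.inl (Subtype.ext h0)
        · exact Or.inr (Subtype.ext (by show x.1 = 1; linear_combination h1 - h2))
    have hidx : f.range.index = 2 := by
      have h1 := AddSubgroup.card_mul_index f.range
      have h2' := AddSubgroup.card_mul_index f.ker
      rw [AddSubgroup.index_ker, hker] at h2'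
      have hpos : 0 < Nat.card f.range := Nat.card_pos
      refine Nat.eq_of_mul_eq_mul_left hpos ?_
      linear_combination h1 - h2'
    have n1 : (-ζ) ∉ f.range := by
      rintro ⟨t, ht⟩
      exact h t (by rw [show t ^ 2 + t = -ζ from ht]; ring)
    have n2 : (-ζ') ∉ f.range := by
      rintro ⟨t, ht⟩
      exact h' t (by rw [show t ^ 2 + t = -ζ' from ht]; ring)
    obtain ⟨t, ht⟩ : ζ' - ζ ∈ f.range := by
      have := ((AddSubgroup.add_mem_iff_of_index_two hidx).2 (iff_of_false n1 n2))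
      rwa [show -ζ + -ζ' = ζ' - ζ by linear_combination -ζ' * h2] at this
    exact hc t ht
  · have nsq : ∀ {z : F}, (∀ t : F, t ^ 2 + t + z ≠ 0) → ¬ IsSquare (1 - 4 * z) := by
      rintro z hz ⟨r, hr⟩
      refine hz ((r - 1) / 2) ?_
      field_simp
      linear_combination -hr
    obtain ⟨r, hr⟩ := Bases.isSquare_mul_of_not (nsq h) (nsq h')
    have hne : 1 - 4 * ζ ≠ 0 := fun h0 => nsq h ⟨0, by rw [h0]; ring⟩
    have hne' : 1 - 4 * ζ' ≠ 0 := fun h0 => nsq h' ⟨0, by rw [h0]; ring⟩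
    refine ⟨r / (1 - 4 * ζ), (1 - r / (1 - 4 * ζ)) / 2, div_ne_zero (fun h0 => mul_ne_zero hne hne'
      (by rw [hr, h0]; ring)) hne, by field_simp; ring, ?_⟩
    have hs : (r / (1 - 4 * ζ)) ^ 2 * (1 - 4 * ζ) = 1 - 4 * ζ' := by
      field_simp
      linear_combination -hr
    generalize r / (1 - 4 * ζ) = s at hs ⊢
    field_simp
    linear_combination -hs

theorem minQ_isometric (k : ℕ) {ζ ζ' : F} (h : ∀ t : F, t ^ 2 + t + ζ ≠ 0)
    (h' : ∀ t : F, t ^ 2 + t + ζ' ≠ 0) :
    ∃ e : ((Fin k ⊕ Fin k) ⊕ Fin 2 → F) ≃ₗ[F] ((Fin k ⊕ Fin k) ⊕ Fin 2 → F),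
      ∀ x, minQ F k 1 ζ (e x) = minQ F k 1 ζ' x := by
  obtain ⟨s, t, hs, h1, h2⟩ := exists_normal_change h h'
  let f : ((Fin k ⊕ Fin k) ⊕ Fin 2 → F) →ₗ[F] ((Fin k ⊕ Fin k) ⊕ Fin 2 → F) :=
    { toFun := fun x => Sum.elim (x ∘ Sum.inl) ![x (.inr 0) + t * x (.inr 1), s * x (.inr 1)]
      map_add' := fun x y => by
        funext i; rcases i with i | i
        · rfl
        · fin_cases i <;> simp <;> ring
      map_smul' := fun c x => by
        funext i; rcases i with i | i
        · rfl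
        · fin_cases i <;> simp <;> ring }
  have hf : Function.Injective f := by
    rw [injective_iff_map_eq_zero]
    intro x hx
    have a := congrFun hx (Sum.inr 1)
    have b := congrFun hx (Sum.inr 0)
    simp [f, hs] at a b
    rw [a, mul_zero, add_zero] at b
    funext i; rcases i with i | i
    · exact congrFun hx (Sum.inl i)
    · fin_cases i <;> assumption
  refine ⟨LinearEquiv.ofBijective f ⟨hf, LinearMap.injective_iff_surjective.1 hf⟩, fun x => ?_⟩
  show minQ F k 1 ζ (f x) = minQ F k 1 ζ' x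
  rw [minQ_apply, minQ_apply]
  show plusQ F k (x ∘ Sum.inl) + ((x (.inr 0) + t * x (.inr 1)) ^ 2 +
    1 * (x (.inr 0) + t * x (.inr 1)) * (s * x (.inr 1)) + ζ * (s * x (.inr 1)) ^ 2) = _
  linear_combination (x (.inr 0) * x (.inr 1)) * h1 + (x (.inr 1)) ^ 2 * h2

/-- The number of zeros is an isometry invariant. -/
theorem zeros_eq {ι κ : Type} [Fintype ι] [Fintype κ] (P : (ι → F) → F) (R : (κ → F) → F)
    (e : (ι → F) ≃ₗ[F] (κ → F)) (h : ∀ x, R (e x) = P x) : zeros P = zeros R :=
  Nat.card_congr (e.toEquiv.subtypeEquiv fun x => by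
    show P x = 0 ↔ R (e x) = 0
    rw [h])

/-- Plus and minus types differ. -/
theorem plus_ne_min {m : ℕ} (hm : 1 ≤ m) {a b : F}
    (hab : ∀ z₁ z₂ : F, z₁ ^ 2 + a * z₁ * z₂ + b * z₂ ^ 2 = 0 → z₁ = 0 ∧ z₂ = 0) :
    zeros ⇑(plusQ F m) ≠ zeros ⇑(minQ F (m - 1) a b) := by
  intro h
  have h1 := cast_zeros_plus (F := F) rfl m
  have h2 := cast_zeros_min (F := F) rfl (m - 1) hab
  obtain ⟨k, rfl⟩ : ∃ k, m = k + 1 := ⟨m - 1, by omega⟩
  simp only [Nat.add_sub_cancel] at h h2
  rw [h, h2] at h1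
  have hq : (1 : ℤ) < Fintype.card F := by exact_mod_cast Fintype.one_lt_card
  have : (Fintype.card F : ℤ) ^ (k + 1) * ((Fintype.card F : ℤ) - 1) = 0 := by
    rw [show 2 * (k + 1) = 2 * k + 2 by ring] at h1
    simp only [pow_succ] at h1 ⊢
    linarith [mul_comm ((Fintype.card F : ℤ)) 1]
  rcases mul_eq_zero.1 this with h0 | h0
  · exact absurd h0 (pow_ne_zero _ (by omega))
  · omega

/-- Forms of equal even dimension with equally many zeros are isometric. -/
theorem exists_isometry_of_zeros {m : ℕ} {ι κ : Type} [Fintype ι] [Fintype κ]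
    (P : QuadraticForm F (ι → F)) (R : QuadraticForm F (κ → F))
    (hι : Fintype.card ι = 2 * m) (hκ : Fintype.card κ = 2 * m) (hP : (Pol P).Nondegenerate)
    (hR : (Pol R).Nondegenerate) (hz : zeros ⇑P = zeros ⇑R) :
    ∃ e : (ι → F) ≃ₗ[F] (κ → F), ∀ x, R (e x) = P x := by
  rcases classify_even m (V := ι → F) (by simpa using hι) P hP with ⟨e, he⟩ | ⟨hm, ζ, e, hζ, he⟩ <;>
    rcases classify_even m (V := κ → F) (by simpa using hκ) R hR with
      ⟨e', he'⟩ | ⟨hm', ζ', e', hζ', he'⟩
  · exact ⟨e.trans e'.symm, fun x => by rw [← he', LinearEquiv.trans_apply, e'.apply_symm_apply, he]⟩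
  · exact absurd ((zeros_eq _ _ e he).symm.trans (hz.trans (zeros_eq _ _ e' he')))
      (plus_ne_min hm' (aniso_one hζ'))
  · exact absurd ((zeros_eq _ _ e' he').symm.trans (hz.symm.trans (zeros_eq _ _ e he)))
      (plus_ne_min hm (aniso_one hζ))
  · obtain ⟨c, hc⟩ := minQ_isometric (m - 1) hζ' hζ
    exact ⟨e.trans (c.trans e'.symm), fun x => by
      rw [← he', LinearEquiv.trans_apply, LinearEquiv.trans_apply, e'.apply_symm_apply, hc, he]⟩

end types

/-! ### Totally singular subspaces -/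

theorem two_mul_finrank_le [FiniteDimensional F V] (Q : QuadraticForm F V) (hQ : (Pol Q).Nondegenerate)
    (U : Submodule F V) (hU : ∀ u ∈ U, Q u = 0) : 2 * finrank F U ≤ finrank F V := by
  let B : LinearMap.BilinForm F V := Pol Q
  have hle : U ≤ B.orthogonal U := fun x hx y hy => by
    have h := map_add_pol Q y x
    rw [hU _ (add_mem hy hx), hU _ hx, hU _ hy, zero_add, zero_add] at h
    exact h.symm
  have h1 := Submodule.finrank_mono hle
  rw [LinearMap.BilinForm.finrank_orthogonal hQ] at h1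
  have := Submodule.finrank_le U
  omega

theorem finrank_le_of_minus {k : ℕ} {a b : F}
    (hab : ∀ z₁ z₂ : F, z₁ ^ 2 + a * z₁ * z₂ + b * z₂ ^ 2 = 0 → z₁ = 0 ∧ z₂ = 0)
    (U : Submodule F ((Fin k ⊕ Fin k) ⊕ Fin 2 → F)) (hU : ∀ u ∈ U, minQ F k a b u = 0) :
    finrank F U ≤ k := by
  let px : ((Fin k ⊕ Fin k) ⊕ Fin 2 → F) →ₗ[F] (Fin k → F) :=
    LinearMap.funLeft F F fun i => Sum.inl (Sum.inl i)
  let py : ((Fin k ⊕ Fin k) ⊕ Fin 2 → F) →ₗ[F] (Fin k → F) :=
    LinearMap.funLeft F F fun i => Sum.inl (Sum.inr i)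
  let A := U ⊓ LinearMap.ker px
  have hA : ∀ v ∈ A, py v = 0 → v = 0 := fun v hv hy => by
    obtain ⟨hvU, hvx⟩ := Submodule.mem_inf.1 hv
    have h := hU v hvU
    rw [minQ_apply] at h
    have hx : ∀ i, v (.inl (.inl i)) = 0 := fun i => congrFun (LinearMap.mem_ker.1 hvx) i
    have hl : v ∘ Sum.inl = 0 := funext fun i => by
      rcases i with i | i
      · exact hx i
      · exact congrFun hy i
    rw [hl, QuadraticMap.map_zero, zero_add] at h
    obtain ⟨z1, z2⟩ := hab _ _ h
    funext i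
    rcases i with i | i
    · exact congrFun hl i
    · fin_cases i <;> assumption
  have hAd : finrank F (A.map py) = finrank F A := by
    have hr := LinearMap.finrank_range_of_inj (f := py.domRestrict A) (fun v w h => by
      refine sub_eq_zero.1 (Subtype.ext (hA _ (v - w).2 ?_))
      show py (v.1 - w.1) = 0
      rw [map_sub]
      exact sub_eq_zero.2 h)
    rwa [LinearMap.range_domRestrict] at hr
  let D : LinearMap.BilinForm F (Fin k → F) := Matrix.toBilin' 1
  have hD : D.Nondegenerate :=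
    LinearMap.BilinForm.nondegenerate_toBilin'_iff_det_ne_zero.2 (by simp)
  have hle : U.map px ≤ D.orthogonal (A.map py) := by
    rintro _ ⟨u, hu, rfl⟩ _ ⟨v, hv, rfl⟩
    obtain ⟨hvU, hvx⟩ := Submodule.mem_inf.1 hv
    have hx : ∀ i, v (.inl (.inl i)) = 0 := fun i => congrFun (LinearMap.mem_ker.1 hvx) i
    have hz : v (.inr 0) = 0 ∧ v (.inr 1) = 0 := hab _ _ (by
      have h := hU v hvU
      rwa [minQ_apply, plusQ_apply, Cfsg.quadFormPlus, Finset.sum_eq_zero
        (fun i _ => by rw [Function.comp_apply, hx i, zero_mul]), zero_add] at h)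
    have h := map_add_pol (minQ F k a b) v u
    rw [hU _ (add_mem hvU hu), hU _ hvU, hU _ hu, zero_add, zero_add] at h
    simp [QuadraticMap.polarBilin_apply_apply, minQ_polar, plusQ_polar, hx, hz.1, hz.2] at h
    show D (py v) (px u) = 0
    simp [D, Matrix.toBilin'_apply', dotProduct, px, py]
    exact h.symm
  have h1 := Submodule.finrank_mono hle
  rw [LinearMap.BilinForm.finrank_orthogonal hD, hAd, Module.finrank_pi, Fintype.card_fin] at h1
  have h3 := LinearMap.finrank_range_add_finrank_ker (px.domRestrict U)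
  rw [LinearMap.range_domRestrict] at h3
  have h4 : finrank F (LinearMap.ker (px.domRestrict U)) = finrank F A := by
    rw [LinearMap.ker_domRestrict, ← (Submodule.comapSubtypeEquivOfLe (inf_le_left : A ≤ U)).finrank_eq]
    rw [Submodule.comap_inf, Submodule.comap_subtype_self, top_inf_eq]
  have h5 : finrank F A ≤ k := hAd ▸ (Submodule.finrank_le _).trans (by simp)
  omega

end Cfsg.Agent.Classical.QuadClass
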