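import Mathlib
import Cfsg.Agent.Lib.Classical.OrthEichler
import Cfsg.Agent.Lib.Classical.Iwasawa

/-!
# `Ω` on singular points: primitivity, centre, simplicity of `PΩ`
-/

set_option autoImplicit false
set_option linter.unusedSectionVars false
set_option linter.unusedSimpArgs false

namespace Cfsg.Agent.Classical.Orth

open Matrix Cfsg.Agent.Forms Cfsg.Agent.Forms.QuadStd Cfsg.Agent.Forms.Reflections
open scoped LinearAlgebra.Projectivization
open scoped Pointwise

variable {F : Type*} [Field F] {ι : Type} [Fintype ι] [DecidableEq ι]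
variable {Q : QuadraticForm F (ι → F)}

local notation "Vec" => (ι → F)
local notation "B" => QuadraticMap.polar Q
local notation "Ω" => Cfsg.Omega F (DFunLike.coe Q)

theorem act_injective (g : Cfsg.isometryGroup F ⇑Q) : Function.Injective (act g) := fun x y h => by
  rw [← Spinor.act_inv_cancel g x, h, Spinor.act_inv_cancel]

theorem act_ne_zero (g : Cfsg.isometryGroup F ⇑Q) {x : Vec} (hx : x ≠ 0) : act g x ≠ 0 := fun h =>
  hx (act_injective g (by rw [h, map_zero]))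

theorem act_cancel_inv (g : Cfsg.isometryGroup F ⇑Q) (x : Vec) : act g (act g⁻¹ x) = x := by
  rw [← act_mul, mul_inv_cancel, act_one]

/-- Normal form of a pair of independent singular vectors under the Eichler group. -/
theorem std_move (hQ : (QuadraticMap.polarBilin Q).Nondegenerate) (f : Frame Q) {a b : Vec}
    (ha : a ≠ 0) (hb : b ≠ 0) (hqa : Q a = 0) (hqb : Q b = 0) (hind : ∀ c : F, b ≠ c • a) :
    ∃ g ∈ eGroup Q ⊤, ∃ s t : F, s ≠ 0 ∧ t ≠ 0 ∧ act g a = s • f.u ∧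
      ((B a b ≠ 0 ∧ act g b = t • f.v) ∨ (B a b = 0 ∧ act g b = t • f.u')) := by
  obtain ⟨g₁, hg₁, s, hs, hga⟩ := point_move f.p (S := ⊤) trivial trivial (nondeg_top hQ)
    (w := f.x₀) trivial f.ux f.vx f.hx trivial ha hqa
  set b₁ := act g₁ b with hb₁
  have hqb₁ : Q b₁ = 0 := by rw [hb₁, act_map, hqb]
  have hab : B a b = s * B b₁ f.u := by
    rw [← act_polar g₁, hga, QuadraticMap.polar_smul_left, QuadraticMap.polar_comm, smul_eq_mul]
  by_cases h0 : B b₁ f.u = 0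
  · set z₀ := proj Q f.u f.v b₁ with hz₀
    have hdec : b₁ = B b₁ f.v • f.u + z₀ := by
      have := proj_add (Q := Q) f.u f.v b₁
      rwa [h0, zero_smul, add_zero, ← hz₀] at this
    have hp := proj_perp f.p b₁
    have hzW : z₀ ∈ f.W := f.mem_W.2
      ⟨by rw [QuadraticMap.polar_comm]; exact hp.1, by rw [QuadraticMap.polar_comm]; exact hp.2⟩
    have hz0 : z₀ ≠ 0 := by
      intro h
      rw [h, add_zero] at hdec
      refine hind (B b₁ f.v / s) (act_injective g₁ ?_)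
      rw [map_smul, hga, ← hb₁, smul_smul, div_mul_cancel₀ _ hs]
      exact hdec
    have hQz : Q z₀ = 0 := by
      have := hqb₁
      rw [hdec, map_add', map_smul', QuadraticMap.polar_smul_left, f.p.hu,
        (f.mem_W.1 hzW).1] at this
      simpa using this
    have hu'W : f.u' ∈ f.W := f.mem_W.2 ⟨f.uu', f.vu'⟩
    have hv'W : f.v' ∈ f.W := f.mem_W.2 ⟨f.uv', f.vv'⟩
    have hxW : f.x₀ ∈ f.W := f.mem_W.2 ⟨f.ux, f.vx⟩
    obtain ⟨g₂, hg₂, t, ht, hgz⟩ := point_move f.p' hu'W hv'W (f.W_nondeg hQ) hxW f.u'x f.v'x f.hx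
      hzW hz0 hQz
    have hgu : act g₂ f.u = f.u := eGroup_fix hg₂ fun x hx => (f.mem_W.1 hx).1
    set c := B b₁ f.v with hc
    have huw : B f.u ((c / t) • f.v') = 0 := by
      rw [QuadraticMap.polar_smul_right, f.uv', smul_zero]
    refine ⟨eich f.u _ f.p.hu huw * g₂ * g₁,
      mul_mem (mul_mem (eich_mem _ _ trivial trivial) (eGroup_le_top _ hg₂)) hg₁, s, t, hs, ht,
      ?_, Or.inr ⟨by rw [hab, h0, mul_zero], ?_⟩⟩
    · rw [act_mul, act_mul, hga, map_smul, map_smul, hgu, act_eich_self]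
    · rw [act_mul, act_mul, ← hb₁, hdec, map_add, map_smul, hgu, hgz, act_eich]
      simp only [QuadraticMap.polar_add_left, QuadraticMap.polar_smul_left,
        QuadraticMap.polar_smul_right, polar_self_zero f.p.hu, f.uv', map_smul', f.p'.hv,
        QuadraticMap.polar_comm _ f.u' f.u, f.uu', f.p'.huv, smul_eq_mul]
      match_scalars <;> field_simp <;> ring
  · obtain ⟨g₂, hg₂, hgu, a', ha', ha''⟩ := kill_u f.p (S := ⊤) trivial trivial (z := b₁) trivial h0
    rw [hqb₁, mul_eq_zero, or_iff_left h0] at ha''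
    refine ⟨g₂ * g₁, mul_mem hg₂ hg₁, s, B b₁ f.u, hs, h0, ?_, Or.inl ⟨?_, ?_⟩⟩
    · rw [act_mul, hga, map_smul, hgu]
    · rw [hab]; exact mul_ne_zero hs h0
    · rw [act_mul, ← hb₁, ha', ha'', zero_smul, zero_add]

/-! ### Singular points -/

/-- The singular points. -/
def SPt (Q : QuadraticForm F (ι → F)) : Type _ :=
  {p : ℙ F (ι → F) // Q p.rep = 0}

theorem rep_mk' (u : Vec) (hu : u ≠ 0) :
    ∃ a : F, a ≠ 0 ∧ (Projectivization.mk F u hu).rep = a • u := by
  obtain ⟨a, ha⟩ := Projectivization.exists_smul_eq_mk_rep F u hu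
  exact ⟨a, a.ne_zero, ha.symm⟩

theorem mk_sing {u : Vec} (hu : u ≠ 0) (hq : Q u = 0) :
    Q (Projectivization.mk F u hu).rep = 0 := by
  obtain ⟨a, -, ha⟩ := rep_mk' u hu
  rw [ha, map_smul', hq, mul_zero]

/-- The point of a singular vector. -/
noncomputable def spt (u : Vec) (hu : u ≠ 0) (hq : Q u = 0) : SPt Q :=
  ⟨Projectivization.mk F u hu, mk_sing hu hq⟩

theorem spt_eq {u v : Vec} {hu : u ≠ 0} {hv : v ≠ 0} {hqu : Q u = 0} {hqv : Q v = 0} :
    spt u hu hqu = spt v hv hqv ↔ ∃ a : F, a • v = u :=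
  Subtype.ext_iff.trans (Projectivization.mk_eq_mk_iff' F u v hu hv)

theorem exists_spt (p : SPt Q) : ∃ (u : Vec) (hu : u ≠ 0) (hq : Q u = 0), spt u hu hq = p :=
  ⟨_, p.1.rep_nonzero, p.2, Subtype.ext (Projectivization.mk_rep _)⟩

theorem ind_of_ne {u v : Vec} {hu : u ≠ 0} {hv : v ≠ 0} {hqu : Q u = 0} {hqv : Q v = 0}
    (h : spt u hu hqu ≠ spt v hv hqv) : ∀ c : F, v ≠ c • u :=
  fun c hc => h (spt_eq.2 ⟨c⁻¹, by
    rw [hc, smul_smul, inv_mul_cancel₀ (fun h0 => hv (by rw [hc, h0, zero_smul])), one_smul]⟩)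

noncomputable instance instSMulSPt : SMul (Cfsg.Omega F ⇑Q) (SPt Q) where
  smul g p := spt (act g.1 p.1.rep) (act_ne_zero g.1 p.1.rep_nonzero) (by rw [act_map]; exact p.2)

theorem smul_spt (g : Ω) {u : Vec} (hu : u ≠ 0) (hq : Q u = 0) :
    g • spt u hu hq = spt (act g.1 u) (act_ne_zero g.1 hu) (by rw [act_map]; exact hq) := by
  obtain ⟨a, -, ha⟩ := rep_mk' u hu
  refine spt_eq.2 ⟨a, ?_⟩
  show _ = act g.1 (Projectivization.mk F u hu).rep
  rw [ha, map_smul]

noncomputable instance instMulActionSPt : MulAction (Cfsg.Omega F ⇑Q) (SPt Q) where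
  one_smul p := by
    obtain ⟨u, hu, hq, rfl⟩ := exists_spt p
    rw [smul_spt]
    exact spt_eq.2 ⟨1, by rw [one_smul, Subgroup.coe_one, act_one]⟩
  mul_smul g h p := by
    obtain ⟨u, hu, hq, rfl⟩ := exists_spt p
    rw [smul_spt, smul_spt, smul_spt]
    exact spt_eq.2 ⟨1, by rw [one_smul, Subgroup.coe_mul, act_mul]⟩

/-- Orthogonality of points. -/
def sorth (p p' : SPt Q) : Prop := B p.1.rep p'.1.rep = 0

theorem sorth_spt {u v : Vec} (hu : u ≠ 0) (hv : v ≠ 0) (hqu : Q u = 0) (hqv : Q v = 0) :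
    sorth (spt u hu hqu) (spt v hv hqv) ↔ B u v = 0 := by
  obtain ⟨a, ha0, ha⟩ := rep_mk' u hu
  obtain ⟨b, hb0, hb⟩ := rep_mk' v hv
  show B (Projectivization.mk F u hu).rep (Projectivization.mk F v hv).rep = 0 ↔ _
  rw [ha, hb, QuadraticMap.polar_smul_left, QuadraticMap.polar_smul_right]
  simp [ha0, hb0]

theorem IsPair.ne_zero {u v : Vec} (h : IsPair Q u v) : u ≠ 0 ∧ v ≠ 0 := by
  constructor <;> intro h0 <;> have := h.huv <;> rw [h0] at this <;>
    simp [QuadraticMap.polar] at this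

variable [Fintype F] (hQ : (QuadraticMap.polarBilin Q).Nondegenerate) (f : Frame Q)
  (hn : 5 ≤ Fintype.card ι)

include hQ f hn

theorem eGroup_mem_omega {g : Cfsg.isometryGroup F ⇑Q} (hg : g ∈ eGroup Q ⊤) : g ∈ Ω := by
  rwa [omega_eq_eGroup hQ f hn]

theorem omega_isPretransitive : MulAction.IsPretransitive Ω (SPt Q) := by
  suffices h : ∀ p : SPt Q, ∃ g : Ω, g • p = spt f.u f.p.ne_zero.1 f.p.hu by
    refine ⟨fun p p' => ?_⟩
    obtain ⟨g, hg⟩ := h p
    obtain ⟨g', hg'⟩ := h p'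
    exact ⟨g'⁻¹ * g, by rw [mul_smul, hg, ← hg', inv_smul_smul]⟩
  intro p
  obtain ⟨u, hu, hq, rfl⟩ := exists_spt p
  obtain ⟨g, hg, a, ha, hga⟩ := point_move f.p (S := ⊤) trivial trivial (nondeg_top hQ)
    (w := f.x₀) trivial f.ux f.vx f.hx trivial hu hq
  exact ⟨⟨g, eGroup_mem_omega hQ f hn hg⟩, by rw [smul_spt]; exact spt_eq.2 ⟨a, hga.symm⟩⟩

theorem exists_stab (p q₁ q₂ : SPt Q) (h₁ : p ≠ q₁) (h₂ : p ≠ q₂)
    (hiff : sorth p q₁ ↔ sorth p q₂) : ∃ g : Ω, g • p = p ∧ g • q₁ = q₂ := by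
  obtain ⟨a, ha, hqa, rfl⟩ := exists_spt p
  obtain ⟨b, hb, hqb, rfl⟩ := exists_spt q₁
  obtain ⟨c, hc, hqc, rfl⟩ := exists_spt q₂
  rw [sorth_spt, sorth_spt] at hiff
  obtain ⟨g₁, hg₁, s₁, t₁, hs₁, ht₁, hga₁, hgb⟩ := std_move hQ f ha hb hqa hqb (ind_of_ne h₁)
  obtain ⟨g₂, hg₂, s₂, t₂, hs₂, ht₂, hga₂, hgc⟩ := std_move hQ f ha hc hqa hqc (ind_of_ne h₂)
  obtain ⟨y, hy1, hy2⟩ : ∃ y, act g₁ b = t₁ • y ∧ act g₂ c = t₂ • y := by
    rcases hgb with ⟨h, e⟩ | ⟨h, e⟩ <;> rcases hgc with ⟨h', e'⟩ | ⟨h', e'⟩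
    · exact ⟨_, e, e'⟩
    · exact absurd (hiff.2 h') h
    · exact absurd (hiff.1 h) h'
    · exact ⟨_, e, e'⟩
  refine ⟨⟨g₂⁻¹ * g₁, eGroup_mem_omega hQ f hn (mul_mem (inv_mem hg₂) hg₁)⟩, ?_, ?_⟩
  · rw [smul_spt]
    refine spt_eq.2 ⟨s₁ / s₂, act_injective g₂ ?_⟩
    show act g₂ ((s₁ / s₂) • a) = act g₂ (act (g₂⁻¹ * g₁) a)
    rw [← act_mul g₂, mul_inv_cancel_left, map_smul, hga₁, hga₂, smul_smul, div_mul_cancel₀ _ hs₂]
  · rw [smul_spt]
    refine spt_eq.2 ⟨t₁ / t₂, act_injective g₂ ?_⟩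
    show act g₂ ((t₁ / t₂) • c) = act g₂ (act (g₂⁻¹ * g₁) b)
    rw [← act_mul g₂, mul_inv_cancel_left, map_smul, hy1, hy2, smul_smul, div_mul_cancel₀ _ ht₂]

omit hn in
theorem exists_common_nonorth {a b : Vec} (ha : a ≠ 0) (hb : b ≠ 0) (hqa : Q a = 0)
    (hqb : Q b = 0) (hind : ∀ c : F, b ≠ c • a) :
    ∃ z, Q z = 0 ∧ B a z ≠ 0 ∧ B b z ≠ 0 := by
  obtain ⟨g, -, s, t, hs, ht, hga, hgb⟩ := std_move hQ f ha hb hqa hqb hind
  have key : ∀ y z₀, act g b = t • y → Q z₀ = 0 → B f.u z₀ ≠ 0 → B y z₀ ≠ 0 →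
      ∃ z, Q z = 0 ∧ B a z ≠ 0 ∧ B b z ≠ 0 := by
    intro y z₀ hy hq h1 h2
    refine ⟨act g⁻¹ z₀, by rw [act_map, hq], ?_, ?_⟩
    · rw [← act_polar g, act_cancel_inv, hga, QuadraticMap.polar_smul_left]
      exact smul_ne_zero hs h1
    · rw [← act_polar g, act_cancel_inv, hy, QuadraticMap.polar_smul_left]
      exact smul_ne_zero ht h2
  rcases hgb with ⟨-, h⟩ | ⟨-, h⟩
  · refine key _ (f.u + f.v + ((1 : F) • f.u' + (-1 : F) • f.v')) h ?_ ?_ ?_
    · have hcross : B (f.u + f.v) ((1 : F) • f.u' + (-1 : F) • f.v') = 0 := by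
        simp only [QuadraticMap.polar_add_left, QuadraticMap.polar_add_right,
          QuadraticMap.polar_smul_right, f.uu', f.uv', f.vu', f.vv']
        simp
      rw [map_add', map_add', pair_value f.p', hcross, f.p.hu, f.p.hv, f.p.huv]
      ring
    · simp [QuadraticMap.polar_add_right, QuadraticMap.polar_smul_right, polar_self_zero f.p.hu,
        f.p.huv, f.uu', f.uv']
    · simp [QuadraticMap.polar_add_right, QuadraticMap.polar_smul_right, polar_self_zero f.p.hv,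
        f.p.hvu, f.vu', f.vv']
  · refine key _ (f.v + f.v') h ?_ ?_ ?_
    · rw [map_add', f.p.hv, f.p'.hv, f.vv']; simp
    · simp [QuadraticMap.polar_add_right, f.p.huv, f.uv']
    · simp [QuadraticMap.polar_add_right, f.p'.huv, QuadraticMap.polar_comm _ f.u' f.v, f.vu']

theorem omega_isPreprimitive : MulAction.IsPreprimitive Ω (SPt Q) := by
  have := omega_isPretransitive hQ f hn
  refine Iwasawa.isPreprimitive_of_rel sorth (fun g a b h => ?_)
    (fun p a b h h' hiff => exists_stab hQ f hn p a b h h' hiff) ?_ ?_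
  · obtain ⟨u, hu, hqu, rfl⟩ := exists_spt a
    obtain ⟨v, hv, hqv, rfl⟩ := exists_spt b
    rw [sorth_spt] at h
    rwa [smul_spt, smul_spt, sorth_spt, act_polar]
  · intro p p' hpp
    obtain ⟨a, ha, hqa, rfl⟩ := exists_spt p
    obtain ⟨b, hb, hqb, rfl⟩ := exists_spt p'
    obtain ⟨g, -, s, t, hs, ht, hga, hgb⟩ := std_move hQ f ha hb hqa hqb (ind_of_ne hpp)
    rcases hgb with ⟨hab, hgb⟩ | ⟨hab, -⟩
    swap
    · exact Or.inl ((sorth_spt _ _ _ _).2 hab)
    right
    have hz : act g⁻¹ f.u' ≠ 0 := act_ne_zero _ f.p'.ne_zero.1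
    have h1 : B a (act g⁻¹ f.u') = 0 := by
      rw [← act_polar g, act_cancel_inv, hga, QuadraticMap.polar_smul_left, f.uu', smul_zero]
    have h2 : B (act g⁻¹ f.u') b = 0 := by
      rw [← act_polar g, act_cancel_inv, hgb, QuadraticMap.polar_smul_right,
        QuadraticMap.polar_comm, f.vu', smul_zero]
    refine ⟨spt _ hz (by rw [act_map]; exact f.p'.hu), fun he => ?_, fun he => ?_,
      (sorth_spt _ _ _ _).2 h1, (sorth_spt _ _ _ _).2 h2⟩
    · obtain ⟨c, hc⟩ := spt_eq.1 he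
      rw [← hc, QuadraticMap.polar_smul_left, smul_eq_mul] at h2
      rcases mul_eq_zero.1 h2 with h | h
      · exact hz (by rw [← hc, h, zero_smul])
      · exact hab h
    · obtain ⟨c, hc⟩ := spt_eq.1 he
      rw [← hc, QuadraticMap.polar_smul_right, smul_eq_mul] at h1
      rcases mul_eq_zero.1 h1 with h | h
      · exact hz (by rw [← hc, h, zero_smul])
      · exact hab h
  · intro p p' hpp
    obtain ⟨a, ha, hqa, rfl⟩ := exists_spt p
    obtain ⟨b, hb, hqb, rfl⟩ := exists_spt p'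
    by_cases h0 : B a b = 0
    swap
    · exact Or.inl fun h => h0 ((sorth_spt _ _ _ _).1 h)
    right
    obtain ⟨z, hqz, h1, h2⟩ := exists_common_nonorth hQ f ha hb hqa hqb (ind_of_ne hpp)
    have hz : z ≠ 0 := fun h => h1 (by rw [h]; simp [QuadraticMap.polar])
    refine ⟨spt z hz hqz, fun he => ?_, fun he => ?_, fun h => h1 ((sorth_spt _ _ _ _).1 h),
      fun h => h2 (by rw [QuadraticMap.polar_comm]; exact (sorth_spt _ _ _ _).1 h)⟩
    · obtain ⟨c, hc⟩ := spt_eq.1 he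
      exact h1 (by rw [← hc, QuadraticMap.polar_smul_right, polar_self_zero hqa, smul_zero])
    · obtain ⟨c, hc⟩ := spt_eq.1 he
      exact h2 (by rw [← hc, QuadraticMap.polar_smul_right, polar_self_zero hqb, smul_zero])

theorem fixes_of_central {g : Ω} (hg : g ∈ Subgroup.center Ω) (p : SPt Q) : g • p = p := by
  by_contra hne
  suffices h : ∃ h : Ω, h • p = p ∧ h • (g • p) ≠ g • p by
    obtain ⟨h, hp, hq⟩ := h
    exact hq (by rw [← mul_smul, Subgroup.mem_center_iff.1 hg h, mul_smul, hp])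
  revert hne
  generalize g • p = p'
  intro hne
  obtain ⟨a, ha, hqa, rfl⟩ := exists_spt p
  obtain ⟨b, hb, hqb, rfl⟩ := exists_spt p'
  obtain ⟨k, hk, s, t, hs, ht, hka, hkb⟩ := std_move hQ f ha hb hqa hqb (ind_of_ne (Ne.symm hne))
  have key : ∀ (w y : Vec) (huw : B f.u w = 0), act k b = t • y →
      (∀ c : F, c • y ≠ act (eich f.u w f.p.hu huw) y) →
      ∃ h : Ω, h • spt a ha hqa = spt a ha hqa ∧ h • spt b hb hqb ≠ spt b hb hqb := by
    intro w y huw hy hmove
    refine ⟨⟨k⁻¹ * eich f.u w f.p.hu huw * k, eGroup_mem_omega hQ f hn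
      (mul_mem (mul_mem (inv_mem hk) (eich_mem _ _ trivial trivial)) hk)⟩, ?_, fun he => ?_⟩
    · rw [smul_spt]
      refine spt_eq.2 ⟨1, act_injective k ?_⟩
      simp only [one_smul, act_mul, act_cancel_inv, hka, map_smul, act_eich_self]
    · rw [smul_spt] at he
      obtain ⟨c, hc⟩ := spt_eq.1 he
      apply hmove c
      have h2 := congrArg (act k) hc
      simp only [map_smul, act_mul, act_cancel_inv, hy] at h2
      refine smul_right_injective _ ht ?_
      show t • c • y = t • _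
      rw [smul_comm, h2]
  rcases hkb with ⟨-, h⟩ | ⟨-, h⟩
  · refine key f.u' f.v f.uu' h fun c hc => ?_
    rw [act_eich, f.vu', f.p'.hu, f.p.hvu] at hc
    have h1 := congrArg (fun x => B x f.v') hc
    simp [QuadraticMap.polar_smul_left, QuadraticMap.polar_add_left,
      QuadraticMap.polar_sub_left, f.vv', f.p'.huv] at h1
  · refine key f.v' f.u' f.uv' h fun c hc => ?_
    rw [act_eich, QuadraticMap.polar_comm _ f.u' f.u, f.uu', f.p'.huv, f.p'.hv] at hc
    have h1 := congrArg (fun x => B x f.v) hc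
    simp [QuadraticMap.polar_smul_left, QuadraticMap.polar_add_left,
      QuadraticMap.polar_sub_left, QuadraticMap.polar_comm _ f.u' f.v, f.vu', f.p.huv] at h1

omit hn in
theorem scalar_of_fixes (g : Ω) (h : ∀ p : SPt Q, g • p = p) :
    ∃ l : F, l * l = 1 ∧ ∀ x, act g.1 x = l • x := by
  have hfix : ∀ a : Vec, a ≠ 0 → Q a = 0 → ∃ c : F, act g.1 a = c • a := by
    intro a ha hqa
    have h1 := h (spt a ha hqa)
    rw [smul_spt] at h1
    obtain ⟨c, hc⟩ := spt_eq.1 h1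
    exact ⟨c, hc.symm⟩
  obtain ⟨l, hl⟩ := hfix f.u f.p.ne_zero.1 f.p.hu
  have hsing : ∀ a : Vec, Q a = 0 → act g.1 a = l • a := by
    intro a hqa
    by_cases ha : a = 0
    · simp [ha]
    obtain ⟨m, hm⟩ := hfix a ha hqa
    by_cases hind : ∀ c : F, a ≠ c • f.u
    · obtain ⟨z, hqz, h1, h2⟩ := exists_common_nonorth hQ f f.p.ne_zero.1 ha f.p.hu hqa hind
      obtain ⟨n, hn'⟩ := hfix z (fun h0 => h1 (by rw [h0]; simp [QuadraticMap.polar])) hqz
      have e1 := act_polar g.1 f.u z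
      have e2 := act_polar g.1 a z
      rw [hl, hn', QuadraticMap.polar_smul_left, QuadraticMap.polar_smul_right, smul_eq_mul,
        smul_eq_mul, ← mul_assoc] at e1
      rw [hm, hn', QuadraticMap.polar_smul_left, QuadraticMap.polar_smul_right, smul_eq_mul,
        smul_eq_mul, ← mul_assoc] at e2
      have e1' := (mul_eq_right₀ h1).1 e1
      have e2' := (mul_eq_right₀ h2).1 e2
      have hn0 : n ≠ 0 := fun h0 => by simp [h0] at e1'
      rw [hm, mul_right_cancel₀ hn0 (e2'.trans e1'.symm)]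
    · push Not at hind
      obtain ⟨c, rfl⟩ := hind
      rw [map_smul, hl, smul_comm]
  have hW : ∀ w, B f.u w = 0 → B f.v w = 0 → act g.1 w = l • w := by
    intro w hu hv
    have hs := hsing (f.u + w + (-Q w) • f.v) (by
      simp only [map_add', map_smul', QuadraticMap.polar_add_left, QuadraticMap.polar_smul_right,
        smul_eq_mul, f.p.hu, f.p.hv, hu, f.p.huv, QuadraticMap.polar_comm _ w f.v, hv]
      ring)
    rw [map_add, map_add, map_smul, hl, hsing f.v f.p.hv] at hs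
    linear_combination (norm := module) hs
  have hall : ∀ x, act g.1 x = l • x := by
    intro x
    rw [proj_add (Q := Q) f.u f.v x, map_add, map_add, map_smul, map_smul, hl, hsing f.v f.p.hv,
      hW _ (by rw [QuadraticMap.polar_comm]; exact (proj_perp f.p x).1)
        (by rw [QuadraticMap.polar_comm]; exact (proj_perp f.p x).2)]
    module
  refine ⟨l, ?_, hall⟩
  have := act_map g.1 f.x₀
  rw [hall, map_smul'] at this
  exact (mul_eq_right₀ f.hx).1 this

theorem mem_center_iff (g : Ω) :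
    g ∈ Subgroup.center Ω ↔ ∃ l : F, l * l = 1 ∧ ∀ x, act g.1 x = l • x := by
  refine ⟨fun hg => scalar_of_fixes hQ f g (fixes_of_central hQ f hn hg), ?_⟩
  rintro ⟨l, -, hl⟩
  refine Subgroup.mem_center_iff.2 fun h => Subtype.ext (act_ext fun x => ?_)
  rw [Subgroup.coe_mul, Subgroup.coe_mul, act_mul, act_mul, hl, hl, map_smul]

theorem natCard_center_one (h : (2 : F) = 0 ∨ ¬ ∃ g ∈ Ω,
      ((g : Matrix.GeneralLinearGroup ι F) : Matrix ι ι F) = -1) :
    Nat.card (Subgroup.center Ω) = 1 := by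
  rw [Nat.card_eq_one_iff_unique]
  refine ⟨⟨fun a b => ?_⟩, ⟨1⟩⟩
  suffices h1 : ∀ z : Subgroup.center Ω, z = 1 from (h1 a).trans (h1 b).symm
  intro z
  obtain ⟨l, hl, hz⟩ := (mem_center_iff hQ f hn z.1).1 z.2
  have hl1 : l = 1 := by
    rcases mul_self_eq_one_iff.1 hl with h1 | h1
    · exact h1
    rcases h with h | h
    · rw [h1]; linear_combination (-1 : F) * h
    · refine absurd ⟨z.1.1, z.1.2, Matrix.ext_iff_mulVec.2 fun x => ?_⟩ h
      rw [← act_apply, hz, h1, Matrix.neg_mulVec, Matrix.one_mulVec, neg_smul, one_smul]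
  refine Subtype.ext (Subtype.ext (act_ext fun x => ?_))
  rw [hz, hl1, one_smul, Subgroup.coe_one, Subgroup.coe_one, act_one]

theorem natCard_center_two (h2 : (2 : F) ≠ 0) (h : ∃ g ∈ Ω,
      ((g : Matrix.GeneralLinearGroup ι F) : Matrix ι ι F) = -1) :
    Nat.card (Subgroup.center Ω) = 2 := by
  obtain ⟨g, hg, hgm⟩ := h
  have hgx : ∀ x, act g x = (-1 : F) • x := fun x => by
    rw [act_apply, hgm, Matrix.neg_mulVec, Matrix.one_mulVec, neg_smul, one_smul]
  have hgz : (⟨g, hg⟩ : Ω) ∈ Subgroup.center Ω :=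
    (mem_center_iff hQ f hn _).2 ⟨-1, by ring, hgx⟩
  rw [Nat.card_eq_two_iff]
  refine ⟨1, ⟨⟨g, hg⟩, hgz⟩, fun he => ?_, eq_top_iff.2 fun z _ => ?_⟩
  · have he1 : g = 1 := congrArg (fun z : Subgroup.center Ω => (z.1.1 : Cfsg.isometryGroup F ⇑Q)) he.symm
    have := hgx f.x₀
    rw [he1, act_one] at this
    have hx : (2 : F) • f.x₀ = 0 := by linear_combination (norm := module) this
    rcases smul_eq_zero.1 hx with h | h
    · exact h2 h
    · exact f.hx (by rw [h, QuadraticMap.map_zero])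
  · obtain ⟨l, hl, hz⟩ := (mem_center_iff hQ f hn z.1).1 z.2
    rcases mul_self_eq_one_iff.1 hl with rfl | rfl
    · refine Or.inl (Subtype.ext (Subtype.ext (act_ext fun x => ?_)))
      rw [hz, one_smul, Subgroup.coe_one, Subgroup.coe_one, act_one]
    · refine Or.inr (Subtype.ext (Subtype.ext (act_ext fun x => ?_)))
      rw [hz, hgx]

omit hQ f hn in
/-- The Eichler group of a singular vector. -/
def eAt (Q : QuadraticForm F (ι → F)) (u : ι → F) : Set (Cfsg.Omega F ⇑Q) :=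
  {g | ∃ (hu : Q u = 0) (w : ι → F) (huw : QuadraticMap.polar Q u w = 0), g.1 = eich u w hu huw}

omit hQ f hn in
theorem eAt_smul {u : Vec} {a : F} (ha : a ≠ 0) : eAt Q (a • u) = eAt Q u := by
  ext g
  constructor
  · rintro ⟨hu, w, huw, hg⟩
    have hu' : Q u = 0 := by rw [map_smul'] at hu; simpa [ha] using hu
    have huw' : B u (a • w) = 0 := by
      rw [QuadraticMap.polar_smul_right, ← QuadraticMap.polar_smul_left, huw]
    exact ⟨hu', a • w, huw', by rw [hg, eich_smul a hu huw hu' huw']⟩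
  · rintro ⟨hu, w, huw, hg⟩
    refine ⟨by rw [map_smul', hu, mul_zero], a⁻¹ • w,
      by rw [QuadraticMap.polar_smul_left, QuadraticMap.polar_smul_right, huw, smul_zero, smul_zero],
      ?_⟩
    rw [eich_smul a _ _ hu (by rw [smul_smul, mul_inv_cancel₀ ha, one_smul, huw]), hg]
    exact eich_congr (by rw [smul_smul, mul_inv_cancel₀ ha, one_smul]) _ _

omit hQ f hn in
/-- The root group of a singular point. -/
def eRoot (p : SPt Q) : Subgroup Ω where
  carrier := eAt Q p.1.rep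
  one_mem' := ⟨p.2, 0, by simp [QuadraticMap.polar], by
    rw [eich_zero_right]; exact OneMemClass.coe_one _⟩
  mul_mem' {a b} := by
    rintro ⟨hu, w, huw, ha⟩ ⟨_, w', huw', hb⟩
    exact ⟨hu, _, _, by rw [Subgroup.coe_mul, ha, hb, eich_mul hu huw huw']⟩
  inv_mem' {a} := by
    rintro ⟨hu, w, huw, ha⟩
    exact ⟨hu, _, _, by rw [Subgroup.coe_inv, ha, eich_inv]⟩

omit hQ f hn in
theorem conj_eRoot_le (g : Ω) (p : SPt Q) : MulAut.conj g • eRoot p ≤ eRoot (g • p) := by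
  rintro x ⟨y, ⟨hu, w, huw, hy⟩, rfl⟩
  show g * y * g⁻¹ ∈ eAt Q (g • p).1.rep
  obtain ⟨a, ha0, ha⟩ := rep_mk' (act g.1 p.1.rep) (act_ne_zero g.1 p.1.rep_nonzero)
  rw [show (g • p).1.rep = a • act g.1 p.1.rep from ha, eAt_smul ha0]
  exact ⟨_, _, _, by
    rw [Subgroup.coe_mul, Subgroup.coe_mul, Subgroup.coe_inv, hy, eich_conj]⟩

/-- The Iwasawa structure on singular points. -/
noncomputable def omegaIwasawa : MulAction.IwasawaStructure Ω (SPt Q) where
  T p := eRoot p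
  is_comm p := ⟨⟨by
    rintro ⟨a, hu, w, huw, ha⟩ ⟨b, hu', w', huw', hb⟩
    refine Subtype.ext (Subtype.ext ?_)
    simp only [Subgroup.coe_mul, ha, hb, eich_mul hu huw huw', eich_mul hu huw' huw]
    exact eich_congr (add_comm _ _) _ _⟩⟩
  is_conj g p := le_antisymm (by
      have h1 := conj_eRoot_le g⁻¹ (g • p)
      rw [inv_smul_smul, map_inv] at h1
      exact Subgroup.subset_pointwise_smul_iff.2 h1)
    (conj_eRoot_le g p)
  is_generator := by
    rw [eq_top_iff]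
    intro x _
    have hx : x.1 ∈ eGroup Q ⊤ := by rw [← omega_eq_eGroup hQ f hn]; exact x.2
    suffices hmap : eGroup Q ⊤ ≤ (⨆ p : SPt Q, eRoot p).map (Subgroup.subtype _) by
      obtain ⟨y, hy, hyx⟩ := Subgroup.mem_map.1 (hmap hx)
      rwa [← Subtype.ext hyx]
    refine (Subgroup.closure_le _).2 ?_
    rintro _ ⟨u, w, hu, huw, -, -, rfl⟩
    by_cases hu0 : u = 0
    · subst hu0
      rw [eich_zero_left]
      exact one_mem _
    refine ⟨⟨eich u w hu huw, eGroup_mem_omega hQ f hn (eich_mem _ _ trivial trivial)⟩,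
      Subgroup.mem_iSup_of_mem (spt u hu0 hu) ?_, rfl⟩
    show _ ∈ eAt Q (spt u hu0 hu).1.rep
    obtain ⟨a, ha0, ha⟩ := rep_mk' u hu0
    rw [show (spt u hu0 hu).1.rep = a • u from ha, eAt_smul ha0]
    exact ⟨hu, w, huw, rfl⟩

/-- `PΩ` is simple. -/
theorem isSimpleGroup_POmega : IsSimpleGroup (Cfsg.POmega F ⇑Q) := by
  have := omega_isPreprimitive hQ f hn
  refine Iwasawa.isSimpleGroup_center_quotient (omegaIwasawa hQ f hn)
    (commutator_omega_eq_top hQ f hn) ?_ ?_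
  · intro g hg
    exact (mem_center_iff hQ f hn g).2 (scalar_of_fixes hQ f g hg)
  · refine ⟨⟨eich f.u f.u' f.p.hu f.uu', eGroup_mem_omega hQ f hn
      (eich_mem _ _ trivial trivial)⟩, fun hc => ?_⟩
    obtain ⟨l, -, hl⟩ := (mem_center_iff hQ f hn _).1 hc
    have h1 := hl f.v
    rw [act_eich, f.vu', f.p'.hu, f.p.hvu] at h1
    have h2 := congrArg (fun x => B x f.v') h1
    simp [QuadraticMap.polar_add_left, QuadraticMap.polar_sub_left,
      QuadraticMap.polar_smul_left, f.vv', f.p'.huv] at h2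

end Cfsg.Agent.Classical.Orth
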