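import Mathlib
import Cfsg.Prelude.Def_Classical
import Cfsg.Agent.Lib.Forms.HermStd
import Cfsg.Agent.S0754

/-!
# Numbers of isotropic and norm one vectors of the standard hermitian form
-/

set_option autoImplicit false
set_option linter.unusedSectionVars false

namespace Cfsg.Agent.Classical.UnitaryCount

open Cfsg.Agent.Forms

variable {F : Type*} [Field F] [Fintype F] {q : ℕ} (hF : Fintype.card F = q ^ 2) {n : ℕ}

include hF in
theorem one_lt_q : 1 < q := HermStd.one_lt_q hF

include hF in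
theorem exists_norm_eq {μ : F} (hμ : μ ≠ 0) (hμq : μ ^ q = μ) : ∃ x : F, x ^ (q + 1) = μ := by
  have h := S0754.result hF μ hμ hμq
  have : Nonempty {x : F // x ^ (q + 1) = μ} := by
    by_contra hn
    rw [not_nonempty_iff] at hn
    rw [Nat.card_of_isEmpty] at h
    omega
  exact ⟨_, this.some.2⟩

include hF in
theorem exists_norm_eq' {μ : F} (hμq : μ ^ q = μ) : ∃ x : F, x ^ (q + 1) = μ := by
  by_cases hμ : μ = 0
  · exact ⟨0, by rw [hμ, zero_pow (by omega)]⟩
  · exact exists_norm_eq hF hμ hμq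

include hF in
theorem self_conj (v : Fin n → F) :
    (Cfsg.hermForm n F q v v) ^ q = Cfsg.hermForm n F q v v :=
  HermStd.hermForm_conj hF v v

omit [Fintype F] in
theorem hermForm_smul_left (a : F) (u v : Fin n → F) :
    Cfsg.hermForm n F q (a • u) v = a * Cfsg.hermForm n F q u v := by
  simp [Cfsg.hermForm, Finset.mul_sum, mul_assoc]

omit [Fintype F] in
theorem hermForm_smul_right (a : F) (u v : Fin n → F) :
    Cfsg.hermForm n F q u (a • v) = a ^ q * Cfsg.hermForm n F q u v := by
  simp [Cfsg.hermForm, Finset.mul_sum, mul_pow, mul_left_comm]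

omit [Fintype F] in
theorem hermForm_smul_smul (a : F) (v : Fin n → F) :
    Cfsg.hermForm n F q (a • v) (a • v) = a ^ (q + 1) * Cfsg.hermForm n F q v v := by
  rw [hermForm_smul_left, hermForm_smul_right, ← mul_assoc, ← pow_succ']

/-- The number of vectors of given norm. -/
noncomputable def cnt (F : Type*) [Field F] (q n : ℕ) (c : F) : ℕ :=
  Nat.card {v : Fin n → F // Cfsg.hermForm n F q v v = c}

omit [Fintype F] in
theorem cnt_scale {a : F} (ha : a ≠ 0) (c : F) :
    cnt F q n (a ^ (q + 1) * c) = cnt F q n c := by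
  refine Nat.card_congr
    { toFun := fun v => ⟨a⁻¹ • v.1, by
        rw [hermForm_smul_smul, v.2, inv_pow, inv_mul_cancel_left₀ (pow_ne_zero _ ha)]⟩
      invFun := fun v => ⟨a • v.1, by rw [hermForm_smul_smul, v.2]⟩
      left_inv := fun v => by ext; simp [ha]
      right_inv := fun v => by ext; simp [ha] }

include hF in
theorem cnt_eq_one {c : F} (hc : c ≠ 0) (hcq : c ^ q = c) : cnt F q n c = cnt F q n 1 := by
  obtain ⟨x, hx⟩ := exists_norm_eq hF hc hcq
  have hx0 : x ≠ 0 := fun h => hc (by rw [← hx, h, zero_pow (by omega)])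
  rw [← hx, ← mul_one (x ^ (q + 1)), cnt_scale hx0]

theorem cnt_succ (c : F) : cnt F q (n + 1) c = ∑ x : F, cnt F q n (c - x ^ (q + 1)) := by
  classical
  have e : {v : Fin (n + 1) → F // Cfsg.hermForm (n + 1) F q v v = c} ≃
      Σ x : F, {w : Fin n → F // Cfsg.hermForm n F q w w = c - x ^ (q + 1)} :=
    { toFun := fun v => ⟨v.1 0, Fin.tail v.1, by
        have h := v.2
        simp only [Cfsg.hermForm, Fin.sum_univ_succ, ← pow_succ'] at h
        simp only [Cfsg.hermForm, Fin.tail, ← pow_succ']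
        linear_combination h⟩
      invFun := fun s => ⟨Fin.cons s.1 s.2.1, by
        have h := s.2.2
        simp only [Cfsg.hermForm, Fin.sum_univ_succ, Fin.cons_zero, Fin.cons_succ] at h ⊢
        rw [← pow_succ']
        linear_combination h⟩
      left_inv := fun v => by ext1; simp
      right_inv := fun s => by
        obtain ⟨x, w, hw⟩ := s
        refine Sigma.subtype_ext ?_ ?_ <;> simp }
  simp only [cnt]
  rw [Nat.card_congr e, Nat.card_sigma]

include hF in
theorem card_ne_zero_eq : Nat.card {x : F // x ≠ 0} = q ^ 2 - 1 := by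
  classical
  rw [Nat.card_eq_fintype_card, Fintype.card_subtype_compl, Fintype.card_subtype_eq, hF]

include hF in
theorem cnt_total :
    (q ^ 2 - 1) * cnt F q n 1 + (q + 1) * cnt F q n 0 = (q + 1) * q ^ (2 * n) := by
  classical
  let P := fun v : Fin n → F => Cfsg.hermForm n F q v v = 0
  have hall : cnt F q n 0 + Nat.card {v // ¬ P v} = q ^ (2 * n) := by
    rw [cnt, Nat.card_eq_fintype_card, Nat.card_eq_fintype_card, Fintype.card_subtype_compl]
    have hle := Fintype.card_subtype_le P
    rw [Fintype.card_fun, Fintype.card_fin, hF, ← pow_mul] at hle ⊢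
    simp only [P] at hle ⊢
    omega
  have e : {x : F // x ≠ 0} × {v : Fin n → F // Cfsg.hermForm n F q v v = 1} ≃
      Σ v : {v // ¬ P v}, {x : F // x ^ (q + 1) = Cfsg.hermForm n F q v.1 v.1} :=
    { toFun := fun p => ⟨⟨p.1.1 • p.2.1, by
          simp only [P, hermForm_smul_smul, p.2.2, mul_one]
          exact pow_ne_zero _ p.1.2⟩, p.1.1, by simp [hermForm_smul_smul, p.2.2]⟩
      invFun := fun s =>
        have hx : s.2.1 ≠ 0 := fun h => s.1.2 (by
          simp only [P]; rw [← s.2.2, h, zero_pow (by omega)])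
        (⟨s.2.1, hx⟩, ⟨s.2.1⁻¹ • s.1.1, by
          rw [hermForm_smul_smul, inv_pow]; conv_lhs => arg 2; rw [← s.2.2]
          exact inv_mul_cancel₀ (pow_ne_zero _ hx)⟩)
      left_inv := fun p => by
        refine Prod.ext rfl (Subtype.ext ?_)
        simp [smul_smul, inv_mul_cancel₀ p.1.2]
      right_inv := fun s => by
        have hx : s.2.1 ≠ 0 := fun h => s.1.2 (by
          simp only [P]; rw [← s.2.2, h, zero_pow (by omega)])
        refine Sigma.subtype_ext (Subtype.ext ?_) rfl
        simp [smul_smul, mul_inv_cancel₀ hx] }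
  have hcard := Nat.card_congr e
  rw [Nat.card_prod, card_ne_zero_eq hF, Nat.card_sigma, Finset.sum_congr rfl
    (fun v _ => S0754.result hF _ v.2 (self_conj hF v.1)), Finset.sum_const, Finset.card_univ,
    smul_eq_mul, ← Nat.card_eq_fintype_card] at hcard
  change (q ^ 2 - 1) * cnt F q n 1 = _ at hcard
  rw [hcard, ← hall]
  ring

include hF in
theorem cnt_succ_zero :
    cnt F q (n + 1) 0 + q * cnt F q n 0 = (q + 1) * q ^ (2 * n) := by
  classical
  rw [← cnt_total hF, cnt_succ, ← Finset.add_sum_erase _ _ (Finset.mem_univ (0 : F)),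
    Finset.sum_congr rfl (g := fun _ => cnt F q n 1) fun x hx => ?_]
  · rw [Finset.sum_const, smul_eq_mul, Finset.card_erase_of_mem (Finset.mem_univ _),
      Finset.card_univ, hF, zero_pow (by omega), sub_zero]
    ring
  · have hx0 := Finset.ne_of_mem_erase hx
    refine cnt_eq_one hF (by simpa using hx0) ?_
    rw [zero_sub, ← HermStd.qHom_apply hF, map_neg, HermStd.qHom_apply, ← pow_mul, add_mul,
      one_mul, pow_add, mul_comm q, ← sq, ← hF, FiniteField.pow_card, pow_succ']

include hF in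
theorem cast_mul_cnt_zero :
    (q : ℤ) * cnt F q n 0 = (q : ℤ) ^ (2 * n) + (-1) ^ n * ((q : ℤ) - 1) * (q : ℤ) ^ n := by
  induction n with
  | zero => simp [cnt, Cfsg.hermForm]
  | succ n ih =>
    have h : (cnt F q (n + 1) 0 : ℤ) + q * cnt F q n 0 = ((q : ℤ) + 1) * (q : ℤ) ^ (2 * n) := by
      exact_mod_cast cnt_succ_zero hF (n := n)
    rw [show 2 * (n + 1) = 2 * n + 1 + 1 by ring]
    simp only [pow_succ]
    linear_combination (q : ℤ) * h - (q : ℤ) * ih

include hF in
theorem cast_mul_cnt_one :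
    (q : ℤ) * cnt F q n 1 = (q : ℤ) ^ (2 * n) - (-1) ^ n * (q : ℤ) ^ n := by
  have hq := one_lt_q hF
  have h : ((q : ℤ) ^ 2 - 1) * cnt F q n 1 + ((q : ℤ) + 1) * cnt F q n 0 =
      ((q : ℤ) + 1) * (q : ℤ) ^ (2 * n) := by
    have := congrArg (Nat.cast : ℕ → ℤ) (cnt_total hF (n := n))
    push_cast [Nat.cast_sub (Nat.one_le_pow 2 q (by omega))] at this
    linear_combination this
  have hne : (q : ℤ) ^ 2 - 1 ≠ 0 := by
    have : (2 : ℤ) ≤ q := by exact_mod_cast hq
    nlinarith
  refine mul_left_cancel₀ hne ?_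
  linear_combination (q : ℤ) * h - ((q : ℤ) + 1) * cast_mul_cnt_zero hF (n := n)

include hF in
theorem cnt_one_eq : cnt F q n 1 =
    if Even n then q ^ (n - 1) * (q ^ n - 1) else q ^ (n - 1) * (q ^ n + 1) := by
  have hq := one_lt_q hF
  have h := cast_mul_cnt_one hF (n := n)
  rcases n with _ | m
  · simp [cnt, Cfsg.hermForm]
  have h1 : 1 ≤ q ^ (m + 1) := Nat.one_le_pow _ _ (by omega)
  refine Nat.eq_of_mul_eq_mul_left (show 0 < q by omega) ?_
  rw [← Nat.cast_inj (R := ℤ), Nat.cast_mul, h, add_tsub_cancel_right]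
  split_ifs with he
  · rw [he.neg_one_pow]; push_cast [Nat.cast_sub h1]; ring
  · rw [(Nat.not_even_iff_odd.1 he).neg_one_pow]; push_cast; ring

include hF in
theorem cnt_zero_eq : cnt F q n 0 = (if Even n then (q ^ n - 1) * (q ^ (n - 1) + 1)
    else (q ^ n + 1) * (q ^ (n - 1) - 1)) + 1 := by
  have hq := one_lt_q hF
  have h := cast_mul_cnt_zero hF (n := n)
  rcases n with _ | m
  · simp [cnt, Cfsg.hermForm]
  have h1 : 1 ≤ q ^ (m + 1) := Nat.one_le_pow _ _ (by omega)
  have h2 : 1 ≤ q ^ m := Nat.one_le_pow _ _ (by omega)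
  refine Nat.eq_of_mul_eq_mul_left (show 0 < q by omega) ?_
  rw [← Nat.cast_inj (R := ℤ), Nat.cast_mul, h, add_tsub_cancel_right]
  split_ifs with he
  · rw [he.neg_one_pow]; push_cast [Nat.cast_sub h1]; ring
  · rw [(Nat.not_even_iff_odd.1 he).neg_one_pow]; push_cast [Nat.cast_sub h2]; ring

end Cfsg.Agent.Classical.UnitaryCount
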