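import Mathlib
import Cfsg.Prelude.Def_Classical
import Cfsg.Prelude.Def_LieClassical
import Cfsg.Prelude.Def_ClassicalGeometry
import Cfsg.Agent.Lib.Forms.HermStd
import Cfsg.Agent.Lib.Classical.UnitaryCount

/-!
# The standard hermitian form: algebra, determinants, transvections, the centre of the special unitary group
-/

set_option autoImplicit false
set_option linter.unusedSectionVars false
set_option linter.unusedSimpArgs false

namespace Cfsg.Agent.Classical.Unitary

open Matrix
open Cfsg.Agent.Forms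

variable {F : Type*} [Field F] {q n : ℕ}

local notation "Vec" => (Fin n → F)
local notation "Mat" => Matrix (Fin n) (Fin n) F
local notation "H" => Cfsg.hermForm n F q

theorem H_add_left (x y z : Vec) : H (x + y) z = H x z + H y z := by
  simp [Cfsg.hermForm, add_mul, Finset.sum_add_distrib]

theorem H_smul_left (a : F) (x z : Vec) : H (a • x) z = a * H x z :=
  UnitaryCount.hermForm_smul_left a x z

theorem H_smul_right (a : F) (x z : Vec) : H x (a • z) = a ^ q * H x z :=
  UnitaryCount.hermForm_smul_right a x z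

theorem H_zero_left (z : Vec) : H 0 z = 0 := by simp [Cfsg.hermForm]

theorem H_neg_left (x z : Vec) : H (-x) z = - H x z := by
  simp [Cfsg.hermForm, Finset.sum_neg_distrib]

theorem H_sub_left (x y z : Vec) : H (x - y) z = H x z - H y z := by
  simp [Cfsg.hermForm, sub_mul, Finset.sum_sub_distrib]

theorem H_eq_dot (x z : Vec) : H x z = x ⬝ᵥ (fun i => z i ^ q) := rfl

/-- `x ↦ H x w` as a linear map. -/
def hlin (q : ℕ) (w : Fin n → F) : (Fin n → F) →ₗ[F] F where
  toFun x := Cfsg.hermForm n F q x w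
  map_add' x y := H_add_left x y w
  map_smul' a x := H_smul_left a x w

@[simp] theorem hlin_apply (w x : Vec) : hlin q w x = H x w := rfl

theorem H_sum_left {ι : Type*} (s : Finset ι) (f : ι → Vec) (z : Vec) :
    H (∑ i ∈ s, f i) z = ∑ i ∈ s, H (f i) z := map_sum (hlin q z) f s

theorem mat_ext {A B : Mat} (h : ∀ x : Vec, A *ᵥ x = B *ᵥ x) : A = B :=
  Matrix.ext_of_mulVec_single fun i => h _

variable [Fintype F] (hF : Fintype.card F = q ^ 2)

include hF

theorem q_ne_zero : q ≠ 0 := by have := HermStd.one_lt_q hF; omega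

theorem H_conj (u v : Vec) : (H u v) ^ q = H v u := HermStd.hermForm_conj hF u v

theorem H_add_right (x y z : Vec) : H x (y + z) = H x y + H x z := by
  rw [← H_conj hF (y + z) x, H_add_left, HermStd.add_pow_q hF, H_conj hF, H_conj hF]

theorem H_zero_right (x : Vec) : H x 0 = 0 := by
  rw [← H_conj hF 0 x, H_zero_left, zero_pow (q_ne_zero hF)]

theorem H_neg_right (x z : Vec) : H x (-z) = - H x z := by
  rw [eq_neg_iff_add_eq_zero, ← H_add_right hF, neg_add_cancel, H_zero_right hF]

theorem H_sub_right (x y z : Vec) : H x (y - z) = H x y - H x z := by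
  rw [sub_eq_add_neg, H_add_right hF, H_neg_right hF, ← sub_eq_add_neg]

theorem H_eq_zero_comm {u v : Vec} : H u v = 0 ↔ H v u = 0 := by
  constructor <;> intro h <;> rw [← H_conj hF, h, zero_pow (q_ne_zero hF)]

theorem H_sum_right {ι : Type*} (s : Finset ι) (f : ι → Vec) (z : Vec) :
    H z (∑ i ∈ s, f i) = ∑ i ∈ s, H z (f i) := by
  rw [← H_conj hF (∑ i ∈ s, f i) z, H_sum_left, ← HermStd.qHom_apply hF, map_sum]
  exact Finset.sum_congr rfl fun i _ => H_conj hF _ _

theorem H_single_right (v : Vec) (i : Fin n) : H v (Pi.single i 1) = v i :=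
  HermStd.hermForm_single_right v i (q_ne_zero hF)

theorem H_single_single (i j : Fin n) :
    H (Pi.single i 1) (Pi.single j 1) = if i = j then 1 else 0 :=
  HermStd.hermForm_single_single i j (q_ne_zero hF)

theorem eq_zero_of_H {u : Vec} (h : ∀ v, H u v = 0) : u = 0 :=
  funext fun i => (H_single_right hF u i).symm.trans (h _)

theorem pow_qq (x : F) : (x ^ q) ^ q = x := HermStd.pow_q_q hF x

/-! ### The matrix criterion -/

theorem preserves_iff (M : Mat) :
    (∀ u v, H (M *ᵥ u) (M *ᵥ v) = H u v) ↔ Mᵀ * M.map (HermStd.qHom hF) = 1 := by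
  have key : ∀ u v : Vec, H (M *ᵥ u) (M *ᵥ v) =
      u ⬝ᵥ ((Mᵀ * M.map (HermStd.qHom hF)) *ᵥ fun i => v i ^ q) := by
    intro u v
    rw [H_eq_dot, ← Matrix.mulVec_mulVec, Matrix.dotProduct_mulVec u, Matrix.vecMul_transpose]
    congr 1
    funext i
    exact RingHom.map_mulVec (HermStd.qHom hF) M v i
  constructor
  · intro h
    ext i j
    have h1 := h (Pi.single i 1) (Pi.single j 1)
    rw [key, H_single_single hF] at h1
    rw [Matrix.one_apply, ← h1]
    have e : (fun k => (Pi.single j (1 : F) : Vec) k ^ q) = Pi.single j 1 := by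
      funext k
      by_cases hk : k = j <;> simp [hk, zero_pow (q_ne_zero hF)]
    rw [e, single_one_dotProduct, Matrix.mulVec_single_one]
    rfl
  · intro h u v
    rw [key, h, Matrix.one_mulVec, H_eq_dot]

theorem det_ne_zero_of_preserves {M : Mat} (hM : ∀ u v, H (M *ᵥ u) (M *ᵥ v) = H u v) :
    M.det ≠ 0 := by
  intro h
  have := HermStd.det_norm hF M hM
  rw [h, zero_pow (by omega)] at this
  exact zero_ne_one this

/-- A form preserving matrix as an element of the general unitary group. -/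
noncomputable def guMk (M : Mat) (hM : ∀ u v, H (M *ᵥ u) (M *ᵥ v) = H u v) : Cfsg.GU n F q :=
  ⟨Matrix.GeneralLinearGroup.mkOfDetNeZero M (det_ne_zero_of_preserves hF hM), hM⟩

omit hF

/-- The matrix of an element of the special unitary group. -/
abbrev mat (g : Cfsg.SU n F q) : Mat := ((g : Matrix.SpecialLinearGroup (Fin n) F) : Mat)

/-- The matrix of an element of the general unitary group. -/
abbrev gmat (g : Cfsg.GU n F q) : Mat := ((g : Matrix.GeneralLinearGroup (Fin n) F) : Mat)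

theorem SU_ext {a b : Cfsg.SU n F q} (h : ∀ x : Vec, mat a *ᵥ x = mat b *ᵥ x) : a = b :=
  Subtype.ext (Subtype.ext (mat_ext h))

theorem GU_ext {a b : Cfsg.GU n F q} (h : ∀ x : Vec, gmat a *ᵥ x = gmat b *ᵥ x) : a = b :=
  Subtype.ext (Units.ext (mat_ext h))

theorem SU_H (g : Cfsg.SU n F q) (u v : Vec) : H (mat g *ᵥ u) (mat g *ᵥ v) = H u v := g.2 u v

theorem GU_H (g : Cfsg.GU n F q) (u v : Vec) : H (gmat g *ᵥ u) (gmat g *ᵥ v) = H u v := g.2 u v

theorem mat_mul (a b : Cfsg.SU n F q) : mat (a * b) = mat a * mat b := rfl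

theorem gmat_mul (a b : Cfsg.GU n F q) : gmat (a * b) = gmat a * gmat b := rfl

theorem mat_one : mat (1 : Cfsg.SU n F q) = 1 := rfl

theorem gmat_one : gmat (1 : Cfsg.GU n F q) = 1 := rfl

theorem mul_mulVec (a b : Cfsg.SU n F q) (x : Vec) : mat (a * b) *ᵥ x = mat a *ᵥ (mat b *ᵥ x) := by
  rw [mat_mul, Matrix.mulVec_mulVec]

theorem gmul_mulVec (a b : Cfsg.GU n F q) (x : Vec) :
    gmat (a * b) *ᵥ x = gmat a *ᵥ (gmat b *ᵥ x) := by
  rw [gmat_mul, Matrix.mulVec_mulVec]

theorem inv_mulVec (g : Cfsg.SU n F q) {u v : Vec} (h : mat g *ᵥ u = v) : mat g⁻¹ *ᵥ v = u := by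
  rw [← h, ← mul_mulVec, inv_mul_cancel, mat_one, one_mulVec]

theorem ginv_mulVec (g : Cfsg.GU n F q) {u v : Vec} (h : gmat g *ᵥ u = v) :
    gmat g⁻¹ *ᵥ v = u := by
  rw [← h, ← gmul_mulVec, inv_mul_cancel, gmat_one, one_mulVec]

/-- An element of the special unitary group from its matrix. -/
def suMk (M : Mat) (hd : M.det = 1) (hM : ∀ u v, H (M *ᵥ u) (M *ᵥ v) = H u v) : Cfsg.SU n F q :=
  ⟨⟨M, hd⟩, hM⟩

theorem suMk_mulVec (M : Mat) (hd : M.det = 1) (hM : ∀ u v, H (M *ᵥ u) (M *ᵥ v) = H u v)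
    (x : Vec) : mat (suMk M hd hM) *ᵥ x = M *ᵥ x := rfl

/-- An element of determinant one of the general unitary group, in the special unitary group. -/
def suOfGU (g : Cfsg.GU n F q) (h : (gmat g).det = 1) : Cfsg.SU n F q := suMk (gmat g) h g.2

/-- The inclusion of `SU` in `GU`. -/
def suToGU : Cfsg.SU n F q →* Cfsg.GU n F q where
  toFun g := ⟨Matrix.SpecialLinearGroup.toGL g.1, g.2⟩
  map_one' := Subtype.ext (map_one _)
  map_mul' a b := Subtype.ext (map_mul _ a.1 b.1)

theorem gmat_suToGU (g : Cfsg.SU n F q) : gmat (suToGU g) = mat g := rfl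

/-- The determinant on `GU`. -/
noncomputable def detHom (n : ℕ) (F : Type*) [Field F] (q : ℕ) : Cfsg.GU n F q →* Fˣ :=
  Matrix.GeneralLinearGroup.det.comp (Cfsg.GU n F q).subtype

theorem detHom_apply (g : Cfsg.GU n F q) : ((detHom n F q g : Fˣ) : F) = (gmat g).det := rfl

theorem range_suToGU : (suToGU (n := n) (F := F) (q := q)).range = (detHom n F q).ker := by
  ext g
  constructor
  · rintro ⟨s, rfl⟩
    exact Units.ext s.1.2
  · intro hg
    exact ⟨suOfGU g (congrArg Units.val hg), GU_ext fun x => rfl⟩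

theorem suToGU_injective : Function.Injective (suToGU (n := n) (F := F) (q := q)) := by
  intro a b h
  exact SU_ext fun x => by rw [← gmat_suToGU, h, gmat_suToGU]

include hF

/-- A diagonal unitary matrix. -/
theorem diag_preserves (d : Fin n → F) (hd : ∀ i, d i ^ (q + 1) = 1) (u v : Vec) :
    H (Matrix.diagonal d *ᵥ u) (Matrix.diagonal d *ᵥ v) = H u v := by
  simp only [Cfsg.hermForm, Matrix.mulVec_diagonal, mul_pow]
  refine Finset.sum_congr rfl fun i _ => ?_
  linear_combination (u i * v i ^ q) * hd i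

/-- The unitary diagonal matrices. -/
noncomputable def diagGU (d : Fin n → F) (hd : ∀ i, d i ^ (q + 1) = 1) : Cfsg.GU n F q :=
  guMk hF (Matrix.diagonal d) (diag_preserves hF d hd)

theorem gmat_diagGU (d : Fin n → F) (hd : ∀ i, d i ^ (q + 1) = 1) :
    gmat (diagGU hF d hd) = Matrix.diagonal d := rfl

theorem natCard_units_F : Nat.card Fˣ = (q - 1) * (q + 1) := by
  rw [Nat.card_units, Nat.card_eq_fintype_card, hF, mul_comm (q - 1), ← Nat.sq_sub_sq, one_pow]

theorem natCard_normOne : Nat.card (powMonoidHom (q + 1) : Fˣ →* Fˣ).ker = q + 1 := by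
  rw [IsCyclic.card_powMonoidHom_ker, natCard_units_F hF, Nat.gcd_mul_left_left]

theorem exists_normOne_ne : ∃ ζ : F, ζ ^ (q + 1) = 1 ∧ ζ ≠ 1 ∧ ζ ^ 2 ≠ 1 := by
  obtain ⟨z, hz⟩ := IsCyclic.exists_generator (α := (powMonoidHom (q + 1) : Fˣ →* Fˣ).ker)
  have ho : orderOf z = q + 1 := by
    rw [orderOf_eq_card_of_forall_mem_zpowers hz, natCard_normOne hF]
  have hz1 : ((z : Fˣ) : F) ^ (q + 1) = 1 := by simpa using congrArg Units.val z.2
  have hne : ∀ k, 0 < k → k < q + 1 → ((z : Fˣ) : F) ^ k ≠ 1 := by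
    intro k hk hk' h
    have : z ^ k = 1 := Subtype.ext (Units.ext (by simpa using h))
    exact Nat.not_dvd_of_pos_of_lt hk hk' (ho ▸ orderOf_dvd_of_pow_eq_one this)
  have := HermStd.one_lt_q hF
  refine ⟨((z : Fˣ) : F), hz1, fun h => hne 1 one_pos (by omega) (by rw [pow_one, h]), hne 2 two_pos
    (by omega)⟩

theorem range_detHom (hn : 1 ≤ n) :
    (detHom n F q).range = (powMonoidHom (q + 1) : Fˣ →* Fˣ).ker := by
  ext x
  constructor
  · rintro ⟨g, rfl⟩
    exact Units.ext (by simpa [detHom_apply] using HermStd.det_norm hF _ g.2)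
  · intro hx
    have hx' : (x : F) ^ (q + 1) = 1 := by simpa using congrArg Units.val hx
    classical
    refine ⟨diagGU hF (fun i => if i = ⟨0, hn⟩ then (x : F) else 1) (fun i => ?_), Units.ext ?_⟩
    · split_ifs <;> simp [hx']
    · rw [detHom_apply, gmat_diagGU, Matrix.det_diagonal, Finset.prod_ite_eq']
      simp

theorem natCard_SU_mul (hn : 1 ≤ n) :
    (q + 1) * Nat.card (Cfsg.SU n F q) = Nat.card (Cfsg.GU n F q) := by
  rw [← Subgroup.card_mul_index (detHom n F q).ker, Subgroup.index_ker, range_detHom hF hn,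
    natCard_normOne hF, ← range_suToGU, mul_comm]
  congr 1
  exact Nat.card_congr (Equiv.ofInjective _ suToGU_injective)

/-! ### Transvections -/

theorem exists_traceZero : ∃ c : F, c ≠ 0 ∧ c + c ^ q = 0 := by
  obtain ⟨a, ha⟩ : ∃ a : F, a ^ q ≠ a := by
    by_contra h
    push Not at h
    exact HermStd.qHom_ne_id hF (RingHom.ext h)
  refine ⟨a - a ^ q, sub_ne_zero.2 (Ne.symm ha), ?_⟩
  rw [← HermStd.qHom_apply hF, ← HermStd.qHom_apply hF (a - _), map_sub, HermStd.qHom_qHom hF]
  ring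

theorem det_transvection {v : Vec} (hv : H v v = 0) (c : F) :
    (Cfsg.unitaryTransvection n q v c).det = 1 := by
  rw [Cfsg.unitaryTransvection, ← Matrix.smul_vecMulVec, Matrix.vecMulVec_eq Unit,
    Matrix.det_one_add_replicateCol_mul_replicateRow, dotProduct_comm, smul_dotProduct, ← H_eq_dot,
    hv, smul_zero, add_zero]

theorem transvection_preserves {v : Vec} (hv : H v v = 0) {c : F} (hc : c + c ^ q = 0)
    (x y : Vec) : H (Cfsg.unitaryTransvection n q v c *ᵥ x)
      (Cfsg.unitaryTransvection n q v c *ᵥ y) = H x y := by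
  rw [HermStd.transvection_mulVec, HermStd.transvection_mulVec]
  simp only [H_add_left, H_add_right hF, H_smul_left, H_smul_right, hv, mul_zero, mul_pow]
  rw [H_conj hF y v]
  linear_combination (H x v * H v y) * hc

/-- A unitary transvection as an element of the special unitary group. -/
def tvu {v : Vec} (hv : H v v = 0) {c : F} (hc : c + c ^ q = 0) : Cfsg.SU n F q :=
  suMk _ (det_transvection hF hv c) (transvection_preserves hF hv hc)

theorem tvu_mulVec {v : Vec} (hv : H v v = 0) {c : F} (hc : c + c ^ q = 0) (x : Vec) :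
    mat (tvu hF hv hc) *ᵥ x = x + (c * H x v) • v :=
  HermStd.transvection_mulVec v x c

theorem tvu_conj (g : Cfsg.SU n F q) {v w : Vec} (hgv : mat g *ᵥ v = w) (hv : H v v = 0)
    (hw : H w w = 0) {c : F} (hc : c + c ^ q = 0) :
    g * tvu hF hv hc * g⁻¹ = tvu hF hw hc := by
  rw [mul_inv_eq_iff_eq_mul]
  refine SU_ext fun x => ?_
  rw [mul_mulVec, mul_mulVec, tvu_mulVec, tvu_mulVec, Matrix.mulVec_add, Matrix.mulVec_smul, hgv]
  conv_rhs => rw [← hgv, SU_H g, hgv]

/-! ### The centre -/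

theorem exists_isotropic_pair (i j : Fin n) (hij : i ≠ j) :
    ∃ v : Vec, H v v = 0 ∧ v i = 1 ∧ v j ≠ 0 ∧ ∀ k, k ≠ i → k ≠ j → v k = 0 := by
  obtain ⟨y, hy⟩ := UnitaryCount.exists_norm_eq hF (μ := -1) (by simp)
    (by rw [← HermStd.qHom_apply hF, map_neg, map_one])
  have hy0 : y ≠ 0 := fun h => by simp [h] at hy
  refine ⟨Pi.single i 1 + y • Pi.single j 1, ?_, by simp [hij],
    by simp [hij.symm, hy0], fun k hki hkj => by simp [hki, hkj]⟩
  simp only [H_add_left, H_add_right hF, H_smul_left, H_smul_right, H_single_single hF,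
    if_pos, if_neg hij, if_neg hij.symm]
  linear_combination hy

theorem mem_center_iff (hn : 2 ≤ n) (g : Cfsg.SU n F q) :
    g ∈ Subgroup.center (Cfsg.SU n F q) ↔ ∃ a : F, mat g = a • (1 : Mat) := by
  constructor
  · intro hg
    rw [Subgroup.mem_center_iff] at hg
    obtain ⟨ζ, hζ, hζ1, hζ2⟩ := exists_normOne_ne hF
    have hζ0 : ζ ≠ 0 := fun h => by simp [h] at hζ
    have hζi : ζ⁻¹ ^ (q + 1) = 1 := by rw [inv_pow, hζ, inv_one]
    have hoff : ∀ i j : Fin n, i ≠ j → mat g i j = 0 := by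
      intro i j hij
      classical
      set d : Fin n → F := fun k => if k = i then ζ else if k = j then ζ⁻¹ else 1 with hd
      have hdet : (Matrix.diagonal d).det = 1 := by
        rw [Matrix.det_diagonal, Fintype.prod_eq_mul i j hij
          (fun k hk => by simp [hd, hk.1, hk.2])]
        simp [hd, hij.symm, hζ0]
      let D : Cfsg.SU n F q := suMk _ hdet
        (diag_preserves hF d fun k => by simp only [hd]; split_ifs <;> simp [hζ, hζi])
      have h : Matrix.diagonal d * mat g = mat g * Matrix.diagonal d := congrArg mat (hg D)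
      have h2 := congrFun (congrFun h i) j
      rw [Matrix.diagonal_mul, Matrix.mul_diagonal, mul_comm] at h2
      simp only [hd, if_pos, if_neg hij.symm] at h2
      have hne : ζ ≠ ζ⁻¹ := fun e => hζ2 (by
        rw [sq]; nth_rw 2 [e]; rw [mul_inv_cancel₀ hζ0])
      by_contra h0
      exact hne (mul_left_cancel₀ h0 h2)
    have hdiag : ∀ i j : Fin n, mat g i i = mat g j j := by
      intro i j
      by_cases hij : i = j
      · rw [hij]
      obtain ⟨v, hv, hvi, hvj, -⟩ := exists_isotropic_pair hF i j hij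
      obtain ⟨c, hc0, hc⟩ := exists_traceZero hF
      have h : mat (tvu hF hv hc) * mat g = mat g * mat (tvu hF hv hc) :=
        congrArg mat (hg (tvu hF hv hc))
      have h2 := congrFun (congrFun h j) i
      simp only [Matrix.mul_apply] at h2
      rw [Finset.sum_eq_single i (fun k _ hk => by rw [hoff k i hk, mul_zero]) (by simp),
        Finset.sum_eq_single j (fun k _ hk => by rw [hoff j k hk.symm, zero_mul]) (by simp)] at h2
      have e : mat (tvu hF hv hc) j i = c * (v j * v i ^ q) := by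
        show Cfsg.unitaryTransvection n q v c j i = _
        simp [Cfsg.unitaryTransvection, Matrix.one_apply, Ne.symm hij, Matrix.vecMulVec]
      rw [e, hvi, one_pow, mul_one, mul_comm (mat g j j)] at h2
      exact mul_left_cancel₀ (mul_ne_zero hc0 hvj) h2
    refine ⟨mat g ⟨0, by omega⟩ ⟨0, by omega⟩, ?_⟩
    ext i j
    by_cases hij : i = j
    · subst hij; simp [hdiag i ⟨0, by omega⟩]
    · simp [hoff i j hij, hij]
  · rintro ⟨a, ha⟩
    refine Subgroup.mem_center_iff.2 fun h => SU_ext fun x => ?_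
    simp only [mul_mulVec, ha, Matrix.smul_mulVec, Matrix.one_mulVec, Matrix.mulVec_smul]

theorem natCard_center (hn : 2 ≤ n) :
    Nat.card (Subgroup.center (Cfsg.SU n F q)) = Nat.gcd n (q + 1) := by
  have hsc : ∀ z : Subgroup.center (Cfsg.SU n F q),
      mat z.1 = mat z.1 ⟨0, by omega⟩ ⟨0, by omega⟩ • (1 : Mat) := by
    intro z
    obtain ⟨a, ha⟩ := (mem_center_iff hF hn z.1).1 z.2
    have : mat z.1 ⟨0, by omega⟩ ⟨0, by omega⟩ = a := by rw [ha]; simp
    rw [this, ha]
  have hker : Nat.card (powMonoidHom (Nat.gcd n (q + 1)) : Fˣ →* Fˣ).ker = Nat.gcd n (q + 1) := by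
    rw [IsCyclic.card_powMonoidHom_ker, natCard_units_F hF]
    exact Nat.gcd_eq_right ((Nat.gcd_dvd_right n (q + 1)).trans (dvd_mul_left _ _))
  refine Eq.trans ?_ hker
  have hpowq : ∀ a : F, (∀ u v : Vec, H ((a • (1 : Mat)) *ᵥ u) ((a • (1 : Mat)) *ᵥ v) = H u v) →
      a ^ (q + 1) = 1 := by
    intro a h
    have := h (Pi.single ⟨0, by omega⟩ 1) (Pi.single ⟨0, by omega⟩ 1)
    rwa [Matrix.smul_mulVec, Matrix.one_mulVec, UnitaryCount.hermForm_smul_smul,
      H_single_single hF, if_pos rfl, mul_one] at this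
  have hz1 : ∀ z : Subgroup.center (Cfsg.SU n F q),
      (mat z.1 ⟨0, by omega⟩ ⟨0, by omega⟩) ^ Nat.gcd n (q + 1) = 1 := by
    intro z
    refine pow_gcd_eq_one.2 ⟨?_, hpowq _ fun a b => by rw [← hsc z]; exact z.1.2 a b⟩
    have hd : (mat z.1).det = 1 := z.1.1.2
    rw [hsc z, Matrix.det_smul, Fintype.card_fin, Matrix.det_one, mul_one] at hd
    exact hd
  have hu : ∀ (a : F), a ^ Nat.gcd n (q + 1) = 1 → a ≠ 0 := by
    intro a h h0
    rw [h0, zero_pow (Nat.gcd_pos_of_pos_right _ (by omega)).ne'] at h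
    exact zero_ne_one h
  have hmem : ∀ u : (powMonoidHom (Nat.gcd n (q + 1)) : Fˣ →* Fˣ).ker,
      ((u : Fˣ) : F) ^ n = 1 ∧ ((u : Fˣ) : F) ^ (q + 1) = 1 := by
    intro u
    have hu1 : ((u : Fˣ) : F) ^ Nat.gcd n (q + 1) = 1 := by simpa using congrArg Units.val u.2
    obtain ⟨k, hk⟩ := Nat.gcd_dvd_left n (q + 1)
    obtain ⟨l, hl⟩ := Nat.gcd_dvd_right n (q + 1)
    constructor
    · calc ((u : Fˣ) : F) ^ n = (((u : Fˣ) : F) ^ Nat.gcd n (q + 1)) ^ k := by rw [← pow_mul, ← hk]
        _ = 1 := by rw [hu1, one_pow]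
    · calc ((u : Fˣ) : F) ^ (q + 1) = (((u : Fˣ) : F) ^ Nat.gcd n (q + 1)) ^ l := by
            rw [← pow_mul, ← hl]
        _ = 1 := by rw [hu1, one_pow]
  refine Nat.card_congr
    { toFun := fun z => ⟨Units.mk0 _ (hu _ (hz1 z)), Units.ext (by simpa using hz1 z)⟩
      invFun := fun u => ⟨suMk (((u : Fˣ) : F) • (1 : Mat))
          (by rw [Matrix.det_smul, Fintype.card_fin, Matrix.det_one, mul_one, (hmem u).1])
          (fun x y => by
            rw [Matrix.smul_mulVec, Matrix.smul_mulVec, Matrix.one_mulVec, Matrix.one_mulVec,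
              H_smul_left, H_smul_right, ← mul_assoc, ← pow_succ', (hmem u).2, one_mul]),
        (mem_center_iff hF hn _).2 ⟨_, rfl⟩⟩
      left_inv := fun z => Subtype.ext (SU_ext fun x => by
        rw [suMk_mulVec]
        exact congrArg (· *ᵥ x) (hsc z).symm)
      right_inv := fun u => Subtype.ext (Units.ext (by
        show (((u : Fˣ) : F) • (1 : Mat)) ⟨0, by omega⟩ ⟨0, by omega⟩ = _
        simp)) }

theorem natCard_PSU_mul (hn : 2 ≤ n) :
    Nat.gcd n (q + 1) * ((q + 1) * Nat.card (Cfsg.PSU n F q)) = Nat.card (Cfsg.GU n F q) := by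
  rw [← natCard_SU_mul hF (by omega),
    Subgroup.card_eq_card_quotient_mul_card_subgroup (Subgroup.center (Cfsg.SU n F q)),
    natCard_center hF hn]
  ring

end Cfsg.Agent.Classical.Unitary
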