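import Mathlib
import Cfsg.Agent.Lib.Classical.UnitaryBasic

/-!
# Orthonormal frames and the order of the general unitary group
-/

set_option autoImplicit false
set_option linter.unusedSectionVars false
set_option linter.unusedSimpArgs false

namespace Cfsg.Agent.Classical.Unitary

open Matrix
open Cfsg.Agent.Forms

/-- Orthonormal tuples of vectors. -/
def IsFrame {F : Type*} [Field F] {n k : ℕ} (q : ℕ) (f : Fin k → Fin n → F) : Prop :=
  ∀ i j, Cfsg.hermForm n F q (f i) (f j) = if i = j then 1 else 0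

variable {F : Type*} [Field F] [Fintype F] {q n k r : ℕ} (hF : Fintype.card F = q ^ 2)

include hF

theorem H_linComb {f : Fin k → Fin n → F} (hf : IsFrame q f) (a b : Fin k → F) :
    Cfsg.hermForm n F q (Fintype.linearCombination F f a) (Fintype.linearCombination F f b) =
      Cfsg.hermForm k F q a b := by
  simp only [Fintype.linearCombination_apply, H_sum_left, H_sum_right hF, H_smul_left,
    H_smul_right]
  unfold Cfsg.hermForm
  refine Finset.sum_congr rfl fun i _ => ?_
  rw [Finset.sum_eq_single i]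
  · have h := hf i i
    rw [if_pos rfl, Cfsg.hermForm] at h
    rw [h, mul_one, mul_comm]
  · intro j _ hji
    have h := hf j i
    rw [if_neg hji, Cfsg.hermForm] at h
    rw [h, mul_zero]
  · simp

theorem exists_gu_frame (f : Fin k → Fin (k + r) → F) (hf : IsFrame q f) :
    ∃ g : Cfsg.GU (k + r) F q, ∀ i, gmat g *ᵥ Pi.single (Fin.castAdd r i) 1 = f i := by
  let pr : (Fin (k + r) → F) →ₗ[F] (Fin k → F) := LinearMap.funLeft F F (Fin.castAdd r)
  let X : Submodule F (Fin (k + r) → F) :=
    { carrier := {x | ∀ j : Fin r, x (Fin.natAdd k j) = 0}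
      zero_mem' := fun j => rfl
      add_mem' := fun {a b} ha hb j => by simp [ha j, hb j]
      smul_mem' := fun c a ha j => by simp [ha j] }
  let f' : X →ₗ[F] (Fin (k + r) → F) := (Fintype.linearCombination F f).comp (pr.comp X.subtype)
  have hiso : ∀ x x' : X,
      Cfsg.hermForm (k + r) F q (f' x) (f' x') = Cfsg.hermForm (k + r) F q x x' := by
    intro x x'
    simp only [f', LinearMap.comp_apply, H_linComb hF hf]
    unfold Cfsg.hermForm
    rw [Fin.sum_univ_add]
    simp [pr, x.2 _, LinearMap.funLeft_apply]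
  have hinj : Function.Injective f' := by
    rw [← LinearMap.ker_eq_bot, LinearMap.ker_eq_bot']
    intro x hx
    refine Subtype.ext (funext fun i => ?_)
    induction i using Fin.addCases with
    | left i =>
      have hs : Pi.single (Fin.castAdd r i) 1 ∈ X := fun j => by
        simp [Pi.single_apply, Fin.ext_iff]; omega
      have := hiso x ⟨_, hs⟩
      rw [hx, H_zero_left, H_single_right hF] at this
      exact this.symm
    | right j => exact x.2 j
  obtain ⟨g, hg⟩ := HermStd.exists_extend hF X f' hinj hiso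
  refine ⟨g, fun i => ?_⟩
  have hs : Pi.single (Fin.castAdd r i) 1 ∈ X := fun j => by
    simp [Pi.single_apply, Fin.ext_iff]; omega
  refine (hg ⟨_, hs⟩).trans ?_
  simp only [f', LinearMap.comp_apply, Submodule.subtype_apply]
  rw [show pr (Pi.single (Fin.castAdd r i) 1) = Pi.single i 1 by
    funext l; simp [pr, LinearMap.funLeft_apply, Pi.single_apply, Fin.castAdd_inj]]
  rw [Fintype.linearCombination_apply_single, one_smul]

theorem natCard_ext (f : Fin k → Fin (k + r) → F) (hf : IsFrame q f) :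
    Nat.card {v : Fin (k + r) → F // (∀ i, Cfsg.hermForm (k + r) F q v (f i) = 0) ∧
      Cfsg.hermForm (k + r) F q v v = 1} = UnitaryCount.cnt F q r 1 := by
  obtain ⟨g, hg⟩ := exists_gu_frame hF f hf
  have e1 : ∀ w : Fin (k + r) → F, ((∀ i, Cfsg.hermForm (k + r) F q (gmat g *ᵥ w) (f i) = 0) ∧
      Cfsg.hermForm (k + r) F q (gmat g *ᵥ w) (gmat g *ᵥ w) = 1) ↔
      ((∀ i : Fin k, w (Fin.castAdd r i) = 0) ∧ Cfsg.hermForm (k + r) F q w w = 1) := by
    intro w
    simp only [← hg, GU_H, H_single_right hF]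
  rw [UnitaryCount.cnt]
  refine (Nat.card_congr ?_).symm
  refine
    { toFun := fun w => ⟨gmat g *ᵥ Fin.append 0 w.1, (e1 _).2 ⟨fun i => by simp, ?_⟩⟩
      invFun := fun v => ⟨fun j => (gmat g⁻¹ *ᵥ v.1) (Fin.natAdd k j), ?_⟩
      left_inv := fun w => ?_
      right_inv := fun v => ?_ }
  · have h := w.2
    unfold Cfsg.hermForm at h ⊢
    rw [Fin.sum_univ_add]
    simp [zero_pow (q_ne_zero hF), h]
  · have hv : gmat g *ᵥ (gmat g⁻¹ *ᵥ v.1) = v.1 := by
      rw [← gmul_mulVec, mul_inv_cancel, gmat_one, one_mulVec]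
    obtain ⟨h1, h2⟩ := (e1 (gmat g⁻¹ *ᵥ v.1)).1 (by simp only [hv]; exact v.2)
    unfold Cfsg.hermForm at h2 ⊢
    rw [Fin.sum_univ_add] at h2
    simpa [h1, zero_pow (q_ne_zero hF)] using h2
  · refine Subtype.ext (funext fun j => ?_)
    show (gmat g⁻¹ *ᵥ (gmat g *ᵥ Fin.append 0 w.1)) (Fin.natAdd k j) = w.1 j
    rw [← gmul_mulVec, inv_mul_cancel, gmat_one, one_mulVec, Fin.append_right]
  · have hv : gmat g *ᵥ (gmat g⁻¹ *ᵥ v.1) = v.1 := by
      rw [← gmul_mulVec, mul_inv_cancel, gmat_one, one_mulVec]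
    obtain ⟨h1, -⟩ := (e1 (gmat g⁻¹ *ᵥ v.1)).1 (by simp only [hv]; exact v.2)
    refine Subtype.ext ?_
    conv_rhs => rw [← hv]
    refine congrArg (gmat g *ᵥ ·) (funext fun i => ?_)
    induction i using Fin.addCases with
    | left i => simp [h1 i]
    | right j => simp

omit hF in
theorem isFrame_cons {v : Fin n → F} {f : Fin k → Fin n → F} :
    IsFrame q (Fin.cons v f : Fin (k + 1) → Fin n → F) ↔ IsFrame q f ∧
      (∀ i, Cfsg.hermForm n F q v (f i) = 0) ∧ (∀ i, Cfsg.hermForm n F q (f i) v = 0) ∧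
      Cfsg.hermForm n F q v v = 1 := by
  constructor
  · intro h
    refine ⟨fun i j => ?_, fun i => ?_, fun i => ?_, ?_⟩
    · simpa using h i.succ j.succ
    · simpa [(Fin.succ_ne_zero i).symm] using h 0 i.succ
    · simpa [Fin.succ_ne_zero i] using h i.succ 0
    · simpa using h 0 0
  · rintro ⟨hf, h1, h2, h3⟩ i j
    induction i using Fin.cases <;> induction j using Fin.cases <;>
      simp [h1, h2, h3, hf _ _, Fin.succ_ne_zero, (Fin.succ_ne_zero _).symm]

theorem natCard_frames (hk : k ≤ n) :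
    Nat.card {f : Fin k → Fin n → F // IsFrame q f} =
      ∏ i ∈ Finset.range k, UnitaryCount.cnt F q (n - i) 1 := by
  classical
  induction k with
  | zero =>
    rw [Finset.prod_range_zero, Nat.card_eq_one_iff_unique]
    exact ⟨⟨fun a b => Subtype.ext (funext fun i => i.elim0)⟩,
      ⟨⟨Fin.elim0, fun i => i.elim0⟩⟩⟩
  | succ k ih =>
    rw [Finset.prod_range_succ, ← ih (by omega)]
    have e : {f : Fin (k + 1) → Fin n → F // IsFrame q f} ≃
        Σ f : {f : Fin k → Fin n → F // IsFrame q f},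
          {v : Fin n → F // (∀ i, Cfsg.hermForm n F q v (f.1 i) = 0) ∧
            Cfsg.hermForm n F q v v = 1} :=
      { toFun := fun f =>
          have h := isFrame_cons.1 (show IsFrame q (Fin.cons (f.1 0) (Fin.tail f.1)) by
            rw [Fin.cons_self_tail]; exact f.2)
          ⟨⟨Fin.tail f.1, h.1⟩, f.1 0, h.2.1, h.2.2.2⟩
        invFun := fun s => ⟨Fin.cons s.2.1 s.1.1, isFrame_cons.2 ⟨s.1.2, s.2.2.1,
          fun i => (H_eq_zero_comm hF).1 (s.2.2.1 i), s.2.2.2⟩⟩
        left_inv := fun f => Subtype.ext (Fin.cons_self_tail f.1)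
        right_inv := fun s => Sigma.subtype_ext (Subtype.ext (by simp)) (by simp) }
    rw [Nat.card_congr e, Nat.card_sigma, Finset.sum_congr rfl (fun f _ => ?_), Finset.sum_const,
      smul_eq_mul, Finset.card_univ, ← Nat.card_eq_fintype_card]
    obtain ⟨r, rfl⟩ : ∃ r, n = k + r := ⟨n - k, by omega⟩
    rw [Nat.add_sub_cancel_left]
    exact natCard_ext hF f.1 f.2

theorem natCard_GU_eq_frames :
    Nat.card (Cfsg.GU n F q) = Nat.card {f : Fin n → Fin n → F // IsFrame q f} := by
  have hpres : ∀ f : {f : Fin n → Fin n → F // IsFrame q f}, ∀ u v,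
      Cfsg.hermForm n F q ((Matrix.of fun a i => f.1 i a) *ᵥ u)
        ((Matrix.of fun a i => f.1 i a) *ᵥ v) = Cfsg.hermForm n F q u v := by
    intro f u v
    have e : ∀ w : Fin n → F,
        (Matrix.of fun a i => f.1 i a) *ᵥ w = Fintype.linearCombination F f.1 w := by
      intro w
      funext a
      simp [Matrix.mulVec, dotProduct, Fintype.linearCombination_apply, mul_comm]
    rw [e, e, H_linComb hF f.2]
  refine Nat.card_congr
    { toFun := fun g => ⟨fun i => gmat g *ᵥ Pi.single i 1, fun i j => by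
        rw [GU_H, H_single_single hF]⟩
      invFun := fun f => guMk hF _ (hpres f)
      left_inv := fun g => ?_
      right_inv := fun f => ?_ }
  · refine Subtype.ext (Units.ext (Matrix.ext fun a i => ?_))
    show (gmat g *ᵥ Pi.single i 1) a = gmat g a i
    simp
  · refine Subtype.ext (funext fun i => funext fun a => ?_)
    show ((Matrix.of fun a i => f.1 i a) *ᵥ Pi.single i 1) a = _
    simp

theorem natCard_GU : Nat.card (Cfsg.GU n F q) = q ^ (n * (n - 1) / 2) *
    ∏ i ∈ Finset.range n, (if Even i then q ^ (i + 1) + 1 else q ^ (i + 1) - 1) := by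
  rw [natCard_GU_eq_frames hF, natCard_frames hF le_rfl,
    ← Finset.prod_range_reflect (fun i => UnitaryCount.cnt F q (n - i) 1) n,
    ← Finset.sum_range_id, ← Finset.prod_pow_eq_pow_sum, ← Finset.prod_mul_distrib]
  refine Finset.prod_congr rfl fun i hi => ?_
  rw [Finset.mem_range] at hi
  rw [show n - (n - 1 - i) = i + 1 by omega, UnitaryCount.cnt_one_eq hF, Nat.add_sub_cancel]
  by_cases he : Even i
  · rw [if_neg (by simp [he, parity_simps]), if_pos he]
  · rw [if_pos (by simp [he, parity_simps]), if_neg he]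

end Cfsg.Agent.Classical.Unitary
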