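import Mathlib
import Cfsg.Agent.Lib.Classical.UnitaryBasic
import Cfsg.Agent.Lib.Classical.GL2

/-!
# Hyperbolic partners, and the isomorphism of `SU₂(q)` with `SL₂(q)`
-/

set_option autoImplicit false
set_option linter.unusedSectionVars false
set_option linter.unusedSimpArgs false

namespace Cfsg.Agent.Classical.Unitary

open Matrix
open Cfsg.Agent.Forms
open scoped MatrixGroups

variable {F : Type*} [Field F] [Fintype F] {q n : ℕ} (hF : Fintype.card F = q ^ 2)

include hF

theorem exists_trace_eq {c : F} (hc : c ^ q = c) : ∃ b : F, b + b ^ q = c := by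
  obtain ⟨a, ha⟩ := Witt.exists_trace_ne_zero (HermStd.qHom hF) (HermStd.qHom_ne_id hF)
  rw [HermStd.qHom_apply] at ha
  refine ⟨c / (a + a ^ q) * a, ?_⟩
  have h1 : (c / (a + a ^ q)) ^ q = c / (a + a ^ q) := by
    rw [div_pow, hc, HermStd.add_pow_q hF, pow_qq hF, add_comm (a ^ q)]
  rw [mul_pow, h1, ← mul_add]
  exact div_mul_cancel₀ c ha

theorem exists_H_eq_one {u : Fin n → F} (hu : u ≠ 0) :
    ∃ w : Fin n → F, Cfsg.hermForm n F q u w = 1 := by
  obtain ⟨w, hw⟩ : ∃ w : Fin n → F, Cfsg.hermForm n F q u w ≠ 0 := by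
    by_contra h
    push Not at h
    exact hu (eq_zero_of_H hF h)
  refine ⟨((Cfsg.hermForm n F q u w)⁻¹) ^ q • w, ?_⟩
  rw [H_smul_right, pow_qq hF, inv_mul_cancel₀ hw]

theorem exists_partner {u : Fin n → F} (hu : u ≠ 0) (huu : Cfsg.hermForm n F q u u = 0) :
    ∃ v : Fin n → F, Cfsg.hermForm n F q v v = 0 ∧ Cfsg.hermForm n F q u v = 1 := by
  obtain ⟨w, hw⟩ := exists_H_eq_one hF hu
  obtain ⟨b, hb⟩ := exists_trace_eq hF
    (c := - Cfsg.hermForm n F q w w) (by
      rw [← HermStd.qHom_apply hF, map_neg, HermStd.qHom_apply, H_conj hF])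
  have hwu : Cfsg.hermForm n F q w u = 1 := by rw [← H_conj hF, hw, one_pow]
  refine ⟨w + b • u, ?_, ?_⟩
  · simp only [H_add_left, H_add_right hF, H_smul_left, H_smul_right, huu, hw, hwu]
    linear_combination hb
  · simp only [H_add_right hF, H_smul_right, huu, hw]
    simp

/-- The fixed field of `x ↦ x ^ q`. -/
def fixField : Subfield F := RingHom.eqLocusField (HermStd.qHom hF) (RingHom.id F)

theorem mem_fixField {x : F} : x ∈ fixField hF ↔ x ^ q = x := Iff.rfl

theorem natCard_fixField : Nat.card (fixField hF) = q := by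
  have hq := HermStd.one_lt_q hF
  have e : (fixField hF)ˣ ≃ (powMonoidHom (q - 1) : Fˣ →* Fˣ).ker :=
    { toFun := fun u => ⟨Units.map (fixField hF).subtype.toMonoidHom u, Units.ext (by
        have h : ((u : fixField hF) : F) ^ q = (u : fixField hF) := (u : fixField hF).2
        have h0 : ((u : fixField hF) : F) ≠ 0 := fun h => u.ne_zero (Subtype.ext h)
        refine mul_right_cancel₀ h0 ?_
        simp only [powMonoidHom_apply, Units.val_pow_eq_pow_val, Units.coe_map, Units.val_one,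
          one_mul]
        show ((u : fixField hF) : F) ^ (q - 1) * ((u : fixField hF) : F) = _
        rw [← pow_succ, show q - 1 + 1 = q by omega, h])⟩
      invFun := fun x => Units.mk0 ⟨((x : Fˣ) : F), by
        have hx : ((x : Fˣ) : F) ^ (q - 1) = 1 := by simpa using congrArg Units.val x.2
        rw [mem_fixField]
        calc ((x : Fˣ) : F) ^ q = ((x : Fˣ) : F) ^ (q - 1) * ((x : Fˣ) : F) := by
              rw [← pow_succ, show q - 1 + 1 = q by omega]
          _ = _ := by rw [hx, one_mul]⟩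
        (fun h => (x : Fˣ).ne_zero (congrArg Subtype.val h))
      left_inv := fun u => Units.ext (Subtype.ext rfl)
      right_inv := fun x => Subtype.ext (Units.ext rfl) }
  have h := Nat.card_congr e
  rw [Nat.card_units, IsCyclic.card_powMonoidHom_ker, natCard_units_F hF,
    Nat.gcd_mul_right_left] at h
  have h1 : 0 < Nat.card (fixField hF) := Nat.card_pos
  omega

theorem exists_fixHom (K : Type*) [Field K] [Fintype K] (hK : Fintype.card K = q) :
    ∃ ι : K →+* F, ∀ x, x ∈ Set.range ι ↔ x ^ q = x := by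
  have : Fintype (fixField hF) := Fintype.ofFinite _
  let e : K ≃+* fixField hF := FiniteField.ringEquivOfCardEq (K := K) (K' := fixField hF) (by
    rw [hK, ← Nat.card_eq_fintype_card, natCard_fixField hF])
  refine ⟨(fixField hF).subtype.comp e.toRingHom, fun x => ⟨?_, fun hx => ?_⟩⟩
  · rintro ⟨y, rfl⟩
    exact (e y).2
  · exact ⟨e.symm ⟨x, hx⟩, by simp⟩

theorem nonempty_SU_two_equiv (K : Type*) [Field K] [Fintype K] (hK : Fintype.card K = q) :
    Nonempty (Cfsg.SU 2 F q ≃* SL(2, K)) := by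
  obtain ⟨ι, hι⟩ := exists_fixHom hF K hK
  have hιq : ∀ x : K, ι x ^ q = ι x := fun x => (hι _).1 ⟨x, rfl⟩
  obtain ⟨δ, hδ0, hδ⟩ := exists_traceZero hF
  obtain ⟨u, huu, hu1, -, -⟩ := exists_isotropic_pair hF (n := 2) 0 1 (by decide)
  have hu : u ≠ 0 := fun h => by simp [h] at hu1
  obtain ⟨v', hv', huv'⟩ := exists_partner hF hu huu
  set v := δ ^ q • v' with hv
  have hvv : Cfsg.hermForm 2 F q v v = 0 := by
    rw [hv, UnitaryCount.hermForm_smul_smul, hv', mul_zero]
  have huv : Cfsg.hermForm 2 F q u v = δ := by rw [hv, H_smul_right, huv', mul_one, pow_qq hF]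
  have hvu : Cfsg.hermForm 2 F q v u = -δ := by
    rw [← H_conj hF, huv, eq_neg_iff_add_eq_zero, add_comm, hδ]
  set P : Matrix (Fin 2) (Fin 2) F := !![u 0, v 0; u 1, v 1] with hP
  have hPx : ∀ x : Fin 2 → F, P *ᵥ x = x 0 • u + x 1 • v := by
    intro x
    funext i
    fin_cases i <;> simp [hP, Matrix.mulVec, dotProduct, Fin.sum_univ_two, mul_comm]
  have hB : ∀ x y : Fin 2 → F, Cfsg.hermForm 2 F q (P *ᵥ x) (P *ᵥ y) =
      δ * (x 0 * y 1 ^ q - x 1 * y 0 ^ q) := by
    intro x y
    simp only [hPx, H_add_left, H_add_right hF, H_smul_left, H_smul_right, huu, hvv, huv, hvu]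
    ring
  have hPdet : P.det ≠ 0 := by
    intro h
    obtain ⟨x, hx, hx'⟩ := Matrix.exists_mulVec_eq_zero_iff.2 h
    have h1 := hB x ![0, 1]
    have h2 := hB x ![1, 0]
    rw [hx', H_zero_left] at h1 h2
    simp [hδ0, zero_pow (q_ne_zero hF)] at h1 h2
    exact hx (funext fun i => by fin_cases i <;> assumption)
  have hPu : IsUnit P.det := isUnit_iff_ne_zero.2 hPdet
  have hconj : ∀ (A : Matrix (Fin 2) (Fin 2) F),
      (∀ x y, Cfsg.hermForm 2 F q (P *ᵥ (A *ᵥ x)) (P *ᵥ (A *ᵥ y)) =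
        Cfsg.hermForm 2 F q (P *ᵥ x) (P *ᵥ y)) ↔
      (∀ x y, Cfsg.hermForm 2 F q ((P * A * P⁻¹) *ᵥ x) ((P * A * P⁻¹) *ᵥ y) =
        Cfsg.hermForm 2 F q x y) := by
    intro A
    constructor
    · intro h x y
      have := h (P⁻¹ *ᵥ x) (P⁻¹ *ᵥ y)
      simp only [Matrix.mulVec_mulVec, Matrix.mul_nonsing_inv _ hPu, Matrix.one_mulVec,
        ← mul_assoc] at this
      exact this
    · intro h x y
      have := h (P *ᵥ x) (P *ᵥ y)
      simp only [Matrix.mulVec_mulVec, Matrix.nonsing_inv_mul_cancel_right _ _ hPu] at this ⊢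
      exact this
  have hdet : ∀ A : Matrix (Fin 2) (Fin 2) F, (P * A * P⁻¹).det = A.det := fun A => by
    rw [Matrix.det_mul, Matrix.det_mul, Matrix.det_nonsing_inv, Ring.inverse_eq_inv']
    field_simp
  have hmem : ∀ g : SL(2, K), ∀ x y, Cfsg.hermForm 2 F q
      ((P * (g : Matrix _ _ K).map ι * P⁻¹) *ᵥ x) ((P * (g : Matrix _ _ K).map ι * P⁻¹) *ᵥ y) =
        Cfsg.hermForm 2 F q x y := by
    intro g
    refine (hconj _).1 fun x y => ?_
    rw [hB, hB]
    have hd : ι ((g : Matrix (Fin 2) (Fin 2) K) 0 0) * ι ((g : Matrix (Fin 2) (Fin 2) K) 1 1) -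
        ι ((g : Matrix (Fin 2) (Fin 2) K) 0 1) * ι ((g : Matrix (Fin 2) (Fin 2) K) 1 0) = 1 := by
      rw [← map_mul, ← map_mul, ← map_sub, ← Matrix.det_fin_two, g.2, map_one]
    simp only [Matrix.mulVec, dotProduct, Fin.sum_univ_two, Matrix.map_apply,
      HermStd.add_pow_q hF, mul_pow, hιq]
    linear_combination (δ * (x 0 * y 1 ^ q - x 1 * y 0 ^ q)) * hd
  let φ : SL(2, K) →* Cfsg.SU 2 F q :=
    { toFun := fun g => suMk _ (by
        rw [hdet, show (g : Matrix (Fin 2) (Fin 2) K).map ι = ι.mapMatrix g from rfl,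
          ← RingHom.map_det, g.2, map_one]) (hmem g)
      map_one' := SU_ext fun x => by
        rw [suMk_mulVec, Matrix.SpecialLinearGroup.coe_one, Matrix.map_one ι ι.map_zero ι.map_one,
          mul_one, Matrix.mul_nonsing_inv _ hPu, mat_one]
      map_mul' := fun a b => SU_ext fun x => by
        rw [suMk_mulVec, mul_mulVec, suMk_mulVec, suMk_mulVec, Matrix.mulVec_mulVec,
          Matrix.SpecialLinearGroup.coe_mul, Matrix.map_mul]
        simp only [mul_assoc, Matrix.nonsing_inv_mul_cancel_left _ _ hPu] }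
  have hcancel : ∀ A B : Matrix (Fin 2) (Fin 2) F, P * A * P⁻¹ = P * B * P⁻¹ → A = B := by
    intro A B h
    have h2 := congrArg (fun M => P⁻¹ * (M * P)) h
    simpa [mul_assoc, Matrix.nonsing_inv_mul _ hPu, Matrix.nonsing_inv_mul_cancel_left _ _ hPu]
      using h2
  refine ⟨(MulEquiv.ofBijective φ ⟨fun a b h => ?_, fun h => ?_⟩).symm⟩
  · refine GL2.sl_ext (Matrix.ext fun i j => ι.injective ?_)
    exact congrFun (congrFun (hcancel _ _ (congrArg mat h)) i) j
  · set A := P⁻¹ * mat h * P with hA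
    have hPA : P * A * P⁻¹ = mat h := by
      simp [hA, mul_assoc, Matrix.mul_nonsing_inv _ hPu, Matrix.mul_nonsing_inv_cancel_left _ _ hPu]
    have hAdet : A 0 0 * A 1 1 - A 0 1 * A 1 0 = 1 := by
      rw [← Matrix.det_fin_two, ← hdet A, hPA]; exact h.1.2
    have hpres := (hconj A).2 (by rw [hPA]; exact h.2)
    have hq0 := q_ne_zero hF
    have e00 : A 0 0 * A 1 0 ^ q - A 1 0 * A 0 0 ^ q = 0 := by
      have := hpres ![1, 0] ![1, 0]
      rw [hB, hB] at this
      simpa [Matrix.mulVec, dotProduct, Fin.sum_univ_two, hδ0, zero_pow hq0] using this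
    have e01 : A 0 0 * A 1 1 ^ q - A 1 0 * A 0 1 ^ q = 1 := by
      have := hpres ![1, 0] ![0, 1]
      rw [hB, hB] at this
      simpa [Matrix.mulVec, dotProduct, Fin.sum_univ_two, hδ0, zero_pow hq0] using this
    have e10 : A 0 1 * A 1 0 ^ q - A 1 1 * A 0 0 ^ q = -1 := by
      have := hpres ![0, 1] ![1, 0]
      rw [hB, hB] at this
      simp [Matrix.mulVec, dotProduct, Fin.sum_univ_two, zero_pow hq0] at this
      exact mul_left_cancel₀ hδ0 (by linear_combination this)
    have e11 : A 0 1 * A 1 1 ^ q - A 1 1 * A 0 1 ^ q = 0 := by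
      have := hpres ![0, 1] ![0, 1]
      rw [hB, hB] at this
      simpa [Matrix.mulVec, dotProduct, Fin.sum_univ_two, hδ0, zero_pow hq0] using this
    have hfix : ∀ i j, A i j ∈ Set.range ι := by
      intro i j
      rw [hι]
      fin_cases i <;> fin_cases j <;> simp
      · linear_combination (-(A 0 0 ^ q)) * hAdet - A 0 0 * e10 + A 0 1 * e00
      · linear_combination (-(A 0 1 ^ q)) * hAdet + A 0 1 * e01 - A 0 0 * e11
      · linear_combination (-(A 1 0 ^ q)) * hAdet - A 1 0 * e10 + A 1 1 * e00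
      · linear_combination (-(A 1 1 ^ q)) * hAdet + A 1 1 * e01 - A 1 0 * e11
    choose g hg using hfix
    have hgA : (Matrix.of g).map ι = A := by ext i j; simp [hg]
    have hgdet : (Matrix.of g).det = 1 := by
      refine ι.injective ?_
      rw [RingHom.map_det, map_one, RingHom.mapMatrix_apply, hgA, Matrix.det_fin_two]
      exact hAdet
    refine ⟨⟨Matrix.of g, hgdet⟩, SU_ext fun x => ?_⟩
    show (P * (Matrix.of g).map ι * P⁻¹) *ᵥ x = _
    rw [hgA, hPA]

end Cfsg.Agent.Classical.Unitary
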