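import Mathlib
import Cfsg.Agent.Lib.Classical.UnitaryTwo
import Cfsg.Agent.Lib.Classical.UnitaryFrames

/-!
# Generation of the special unitary group by transvections
-/

set_option autoImplicit false
set_option linter.unusedSectionVars false
set_option linter.unusedSimpArgs false
set_option linter.unnecessarySeqFocus false

namespace Cfsg.Agent.Classical.Unitary

open Matrix
open Cfsg.Agent.Forms

variable {F : Type*} [Field F] [Fintype F] {q n m : ℕ} (hF : Fintype.card F = q ^ 2)

/-- The unitary transvections. -/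
def tvSet (F : Type*) [Field F] (q n : ℕ) : Set (Cfsg.SU n F q) :=
  {g | ∃ (v : Fin n → F) (c : F), Cfsg.hermForm n F q v v = 0 ∧ c + c ^ q = 0 ∧
    mat g = Cfsg.unitaryTransvection n q v c}

/-- The subgroup generated by the unitary transvections. -/
def tvGroup (F : Type*) [Field F] (q n : ℕ) : Subgroup (Cfsg.SU n F q) :=
  Subgroup.closure (tvSet F q n)

include hF

theorem tvu_mem {v : Fin n → F} (hv : Cfsg.hermForm n F q v v = 0) {c : F} (hc : c + c ^ q = 0) :
    tvu hF hv hc ∈ tvGroup F q n :=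
  Subgroup.subset_closure ⟨v, c, hv, hc, rfl⟩

theorem conj_one_pow_q : (1 : F) + 1 ^ q = 2 := by rw [one_pow]; norm_num

theorem step {u w : Fin n → F} (hu : Cfsg.hermForm n F q u u = 1)
    (hw : Cfsg.hermForm n F q w w = 1)
    (ha : Cfsg.hermForm n F q w u + (Cfsg.hermForm n F q w u) ^ q = 2)
    (ha1 : Cfsg.hermForm n F q w u ≠ 1) :
    ∃ t ∈ tvGroup F q n, mat t *ᵥ u = w := by
  set a := Cfsg.hermForm n F q w u with hadef
  have huw : Cfsg.hermForm n F q u w = a ^ q := by rw [hadef, H_conj hF]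
  have hz : Cfsg.hermForm n F q (w - u) (w - u) = 0 := by
    simp only [H_sub_left, H_sub_right hF, hu, hw, huw, ← hadef]
    linear_combination -ha
  have hd : a ^ q - 1 ≠ 0 := by
    intro h
    apply ha1
    rw [← pow_qq hF a, sub_eq_zero.1 h, one_pow]
  have hc : (a ^ q - 1)⁻¹ + ((a ^ q - 1)⁻¹) ^ q = 0 := by
    rw [← HermStd.qHom_apply hF (a ^ q - 1)⁻¹, map_inv₀, map_sub, map_one, HermStd.qHom_apply,
      pow_qq hF]
    have ha1' : a - 1 ≠ 0 := sub_ne_zero.2 ha1
    field_simp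
    linear_combination ha
  refine ⟨tvu hF hz hc, tvu_mem hF hz hc, ?_⟩
  rw [tvu_mulVec, H_sub_right hF, hu, huw, inv_mul_cancel₀ hd, one_smul, add_sub_cancel]

theorem move_of_ne {u w : Fin n → F} (hu : Cfsg.hermForm n F q u u = 1)
    (hw : Cfsg.hermForm n F q w w = 1) (ha : (Cfsg.hermForm n F q w u) ^ (q + 1) ≠ 1) :
    ∃ t ∈ tvGroup F q n, mat t *ᵥ u = w := by
  classical
  set a := Cfsg.hermForm n F q w u with hadef
  have huw : Cfsg.hermForm n F q u w = a ^ q := by rw [hadef, H_conj hF]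
  by_cases hB : a + a ^ q = 2
  · exact step hF hu hw hB (fun h => ha (by rw [← hadef] at h; rw [h, one_pow]))
  set μ : F := a ^ (q + 1) - 1 with hμ
  have hμ0 : μ ≠ 0 := sub_ne_zero.2 ha
  have hμq : μ ^ q = μ := by
    rw [hμ, ← HermStd.qHom_apply hF, map_sub, map_one, HermStd.qHom_apply, pow_succ, mul_pow,
      pow_qq hF, mul_comm]
  obtain ⟨y, hy, hD⟩ : ∃ y : F, y ^ (q + 1) = μ ∧ y - y ^ q - a + a ^ q ≠ 0 := by
    by_contra hcon
    push Not at hcon
    let p : Polynomial F :=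
      Polynomial.X ^ 2 - Polynomial.C (a - a ^ q) * Polynomial.X - Polynomial.C μ
    have hp0 : p.natDegree = 2 := by simp only [p]; compute_degree!
    have hle : (Finset.univ.filter fun y : F => y ^ (q + 1) = μ).card ≤ 2 := by
      rw [← hp0]
      refine Polynomial.card_le_degree_of_subset_roots fun y hy => ?_
      simp only [Finset.mem_val, Finset.mem_filter, Finset.mem_univ, true_and] at hy
      rw [Polynomial.mem_roots (Polynomial.ne_zero_of_natDegree_gt (n := 0) (by omega))]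
      have h1 := hcon y hy
      simp only [p, Polynomial.IsRoot, Polynomial.eval_sub, Polynomial.eval_mul,
        Polynomial.eval_pow, Polynomial.eval_X, Polynomial.eval_C]
      rw [pow_succ] at hy
      linear_combination y * h1 + hy
    have h2 := S0754.result hF μ hμ0 hμq
    rw [Nat.card_eq_fintype_card, Fintype.card_subtype] at h2
    have := HermStd.one_lt_q hF
    omega
  set D := y - y ^ q - a + a ^ q with hDdef
  set θ := (2 - a - a ^ q) / D with hθ
  have hB' : (2 : F) - a - a ^ q ≠ 0 := fun h => hB (by linear_combination -h)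
  have hθ0 : θ ≠ 0 := div_ne_zero hB' hD
  have h2q : (2 : F) ^ q = 2 := by
    rw [← HermStd.qHom_apply hF, map_ofNat]
  have hθq : θ ^ q = -θ := by
    rw [hθ, ← HermStd.qHom_apply hF, map_div₀, hDdef]
    simp only [map_sub, map_add, HermStd.qHom_apply, pow_qq hF, h2q]
    rw [← neg_div, div_eq_div_iff ?_ hD]
    · ring
    · intro h; exact hD (by rw [hDdef]; linear_combination -h)
  set l := (-(θ * y) / μ) ^ q with hl
  have hlq : l ^ q = -(θ * y) / μ := by rw [hl, pow_qq hF]
  have hlv : l = θ * y ^ q / μ := by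
    rw [hl, ← HermStd.qHom_apply hF, map_div₀, map_neg, map_mul]
    simp only [HermStd.qHom_apply, hθq, hμq]
    ring
  set x := (1 + θ) • u + l • (w - a • u) with hx
  have hru : Cfsg.hermForm n F q (w - a • u) u = 0 := by
    rw [H_sub_left, H_smul_left, hu, ← hadef, mul_one, sub_self]
  have hur : Cfsg.hermForm n F q u (w - a • u) = 0 := (H_eq_zero_comm hF).1 hru
  have hwr : Cfsg.hermForm n F q w (w - a • u) = -μ := by
    rw [H_sub_right hF, H_smul_right, hw, ← hadef, hμ, pow_succ]; ring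
  have hrr : Cfsg.hermForm n F q (w - a • u) (w - a • u) = -μ := by
    rw [H_sub_left, hwr, H_smul_left, hur]; ring
  have hyy : y ^ q * y = μ := by rw [← pow_succ, hy]
  have hθ1 : (1 + θ) ^ q = 1 - θ := by
    rw [HermStd.add_pow_q hF, one_pow, hθq]; ring
  have hxx : Cfsg.hermForm n F q x x = 1 := by
    simp only [hx, H_add_left, H_add_right hF, H_smul_left, H_smul_right, hu, hru, hur, hrr, hθ1]
    rw [hlq, hlv]
    field_simp
    linear_combination θ ^ 2 * hyy
  have hxu : Cfsg.hermForm n F q x u = 1 + θ := by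
    simp only [hx, H_add_left, H_smul_left, hu, hru]; ring
  obtain ⟨t, ht, htu⟩ := step hF hu hxx (by rw [hxu, hθ1]; ring)
    (by rw [hxu]; simpa using hθ0)
  have hwx : Cfsg.hermForm n F q w x = a * (1 - θ) + θ * y := by
    simp only [hx, H_add_right hF, H_smul_right, hθ1, ← hadef, hwr, hlq]
    field_simp
  by_cases h1 : Cfsg.hermForm n F q w x = 1
  · have hzx : Cfsg.hermForm n F q (w - x) x = 0 := by rw [H_sub_left, h1, hxx, sub_self]
    have hzz : Cfsg.hermForm n F q (w - x) (w - x) = 0 := by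
      rw [H_sub_right hF, hzx, sub_zero, H_sub_left, hw, ← H_conj hF w x, h1, one_pow, sub_self]
    set pc := a - (1 + θ) with hpc
    set rc := 1 - l with hrc
    have hz : w - x = pc • u + rc • (w - a • u) := by rw [hx, hpc, hrc]; module
    rw [hz] at hzx hzz
    simp only [hx, H_add_left, H_add_right hF, H_smul_left, H_smul_right, hu, hru, hur, hrr,
      hθ1] at hzx hzz
    rw [hlq] at hzx
    have hp : pc * (1 - θ) = rc * (-(θ * y)) := by
      field_simp at hzx
      refine mul_right_cancel₀ hμ0 ?_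
      linear_combination hzx
    have key : rc * rc ^ q * μ = 0 := by
      have hpq : pc ^ q * (1 + θ) = rc ^ q * (θ * y ^ q) := by
        have e := congrArg (HermStd.qHom hF) hp
        simp only [map_mul, map_neg, map_sub, map_one, HermStd.qHom_apply, hθq] at e
        linear_combination e
      linear_combination (-(1 - θ) * (1 + θ)) * hzz + pc ^ q * (1 + θ) * hp +
        rc * (-(θ * y)) * hpq - θ ^ 2 * rc * rc ^ q * hyy
    have hrc0 : rc = 0 := by
      rcases mul_eq_zero.1 key with h | h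
      · rcases mul_eq_zero.1 h with h | h
        · exact h
        · exact eq_zero_of_pow_eq_zero h
      · exact absurd h hμ0
    have hpc0 : pc = 0 := by
      rw [hrc0, zero_mul] at hzz
      rw [zero_pow (q_ne_zero hF)] at hzz
      have hzz' : pc * pc ^ q = 0 := by linear_combination hzz
      rcases mul_eq_zero.1 hzz' with h | h
      · exact h
      · exact eq_zero_of_pow_eq_zero h
    refine ⟨t, ht, ?_⟩
    rw [htu, eq_comm, ← sub_eq_zero, hz, hpc0, hrc0, zero_smul, zero_smul, add_zero]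
  obtain ⟨t', ht', htx⟩ := step hF hxx hw (by
    rw [hwx, ← HermStd.qHom_apply hF (a * (1 - θ) + θ * y)]
    simp only [map_sub, map_add, map_mul, map_one, HermStd.qHom_apply, hθq]
    have hθD : θ * D = 2 - a - a ^ q := by rw [hθ, div_mul_cancel₀ _ hD]
    rw [hDdef] at hθD
    linear_combination hθD) h1
  exact ⟨t' * t, mul_mem ht' ht, by rw [mul_mulVec, htu, htx]⟩

/-! ### Moving norm one vectors -/

theorem exists_pow_ne_one (hq : q ≠ 2) : ∃ B : F, B ≠ 0 ∧ B ^ (q + 1) ≠ 1 := by
  by_contra h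
  push Not at h
  have htop : (powMonoidHom (q + 1) : Fˣ →* Fˣ).ker = ⊤ :=
    eq_top_iff.2 fun x _ => Units.ext (by simpa using h (x : F) x.ne_zero)
  have h1 := natCard_normOne hF
  rw [htop, Subgroup.card_top, natCard_units_F hF] at h1
  have h2 := HermStd.one_lt_q hF
  have h3 : q - 1 = 1 := (mul_eq_right₀ (by omega)).1 h1
  omega

theorem two_eq_zero_of_two (hq : q = 2) : (2 : F) = 0 := by
  have h : ((Fintype.card F : ℕ) : F) = 0 := FiniteField.cast_card_eq_zero F
  rw [hF, hq] at h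
  push_cast at h
  exact eq_zero_of_pow_eq_zero (n := 2) (by linear_combination h)

theorem pow_three_eq_one (hq : q = 2) {x : F} (hx : x ≠ 0) : x ^ 3 = 1 := by
  have := FiniteField.pow_card_sub_one_eq_one x hx
  rwa [hF, hq] at this

theorem exists_zeta (hq : q = 2) :
    ∃ ζ : F, ζ ^ 3 = 1 ∧ ζ ^ 2 + ζ + 1 = 0 ∧ (2 : F) = 0 := by
  obtain ⟨ζ, hζ, hζ1, -⟩ := exists_normOne_ne hF
  subst hq
  refine ⟨ζ, hζ, ?_, two_eq_zero_of_two hF rfl⟩
  refine (mul_eq_zero.1 (show (ζ - 1) * (ζ ^ 2 + ζ + 1) = 0 by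
    linear_combination hζ)).resolve_left (sub_ne_zero.2 hζ1)

theorem exists_small (hm : 1 ≤ m) {r : Fin m → F} (hr : Cfsg.hermForm m F q r r = 0)
    (hgood : r = 0 ∨ q ≠ 2 ∨ 3 ≤ m) :
    ∃ x : Fin m → F, Cfsg.hermForm m F q x x = 1 ∧ (Cfsg.hermForm m F q r x) ^ (q + 1) ≠ 1 := by
  have hq1 := HermStd.one_lt_q hF
  by_cases hr0 : r = 0
  · exact ⟨Pi.single ⟨0, hm⟩ 1, by rw [H_single_single hF, if_pos rfl],
      by rw [hr0, H_zero_left, zero_pow (by omega)]; exact zero_ne_one⟩
  by_cases hq : q = 2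
  · have hm3 : 3 ≤ m := (hgood.resolve_left hr0).resolve_left (fun h => h hq)
    by_cases hz : ∃ i, r i = 0
    · obtain ⟨i, hi⟩ := hz
      exact ⟨Pi.single i 1, by rw [H_single_single hF, if_pos rfl],
        by rw [H_single_right hF, hi, zero_pow (by omega)]; exact zero_ne_one⟩
    push Not at hz
    obtain ⟨ζ, hζ3, hζ, h2⟩ := exists_zeta hF hq
    let ia : Fin m := ⟨0, by omega⟩
    let ib : Fin m := ⟨1, by omega⟩
    let ic : Fin m := ⟨2, by omega⟩
    refine ⟨r ia • Pi.single ia 1 + (ζ * r ib) • Pi.single ib 1 + (ζ ^ 2 * r ic) • Pi.single ic 1,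
      ?_, ?_⟩
    · simp only [H_add_left, H_add_right hF, H_smul_left, H_smul_right, H_single_single hF]
      simp [ia, ib, ic, hq]
      linear_combination pow_three_eq_one hF hq (hz ia) + ζ ^ 3 * pow_three_eq_one hF hq (hz ib) +
        (ζ ^ 2) ^ 3 * pow_three_eq_one hF hq (hz ic) + (2 + ζ ^ 3) * hζ3 + h2
    · simp only [H_add_right hF, H_smul_right, H_single_right hF]
      have e : r ia ^ q * r ia + (ζ * r ib) ^ q * r ib + (ζ ^ 2 * r ic) ^ q * r ic = 0 := by
        rw [hq]
        linear_combination pow_three_eq_one hF hq (hz ia) + ζ ^ 2 * pow_three_eq_one hF hq (hz ib) +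
          ζ ^ 4 * pow_three_eq_one hF hq (hz ic) + ζ * hζ3 + hζ
      rw [e, zero_pow (by omega)]
      exact zero_ne_one
  · obtain ⟨B, hB0, hB1⟩ := exists_pow_ne_one hF hq
    obtain ⟨s, hss, hrs⟩ := exists_partner hF hr0 hr
    obtain ⟨b, hb⟩ := exists_trace_eq hF (c := (1 : F)) (one_pow q)
    have hsr : Cfsg.hermForm m F q s r = 1 := by rw [← H_conj hF, hrs, one_pow]
    have hBq : B ^ q ≠ 0 := pow_ne_zero _ hB0
    refine ⟨(b / B ^ q) • r + B • s, ?_, ?_⟩
    · simp only [H_add_left, H_add_right hF, H_smul_left, H_smul_right, hr, hss, hrs, hsr, div_pow,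
        pow_qq hF]
      field_simp
      linear_combination (B * B ^ q) * hb
    · simp only [H_add_right hF, H_smul_right, hr, hrs]
      rw [mul_zero, zero_add, mul_one, ← pow_mul, mul_comm q, pow_mul]
      intro h
      apply hB1
      have h' := congrArg (fun z : F => z ^ q) h
      simpa only [pow_qq hF, one_pow] using h'

theorem exists_gu_mulVec {u : Fin (1 + m) → F} (hu : Cfsg.hermForm (1 + m) F q u u = 1) :
    ∃ g : Cfsg.GU (1 + m) F q, gmat g *ᵥ Pi.single (Fin.castAdd m 0) 1 = u := by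
  obtain ⟨g, hg⟩ := exists_gu_frame hF (k := 1) (r := m) ![u] (fun i j => by
    fin_cases i; fin_cases j; simpa using hu)
  exact ⟨g, by simpa using hg 0⟩

omit hF in
theorem H_append {k l : ℕ} (a : Fin k → F) (b : Fin l → F) (a' : Fin k → F) (b' : Fin l → F) :
    Cfsg.hermForm (k + l) F q (Fin.append a b) (Fin.append a' b') =
      Cfsg.hermForm k F q a a' + Cfsg.hermForm l F q b b' := by
  unfold Cfsg.hermForm
  rw [Fin.sum_univ_add]
  simp

theorem move {u w : Fin n → F} (hn : 2 ≤ n) (hu : Cfsg.hermForm n F q u u = 1)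
    (hw : Cfsg.hermForm n F q w w = 1)
    (hgood : q ≠ 2 ∨ 4 ≤ n ∨ n = 2 ∨ ∃ a : F, w = a • u) :
    ∃ t ∈ tvGroup F q n, mat t *ᵥ u = w := by
  by_cases ha : (Cfsg.hermForm n F q w u) ^ (q + 1) ≠ 1
  · exact move_of_ne hF hu hw ha
  push Not at ha
  set a := Cfsg.hermForm n F q w u with hadef
  obtain ⟨m, rfl⟩ : ∃ m, n = 1 + m := ⟨n - 1, by omega⟩
  obtain ⟨g, hg⟩ := exists_gu_mulVec hF hu
  set w₀ := gmat g⁻¹ *ᵥ w with hw₀
  have hgw : gmat g *ᵥ w₀ = w := by rw [hw₀, ← gmul_mulVec, mul_inv_cancel, gmat_one, one_mulVec]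
  set r : Fin m → F := fun j => w₀ (Fin.natAdd 1 j) with hr
  have ha0 : w₀ (Fin.castAdd m 0) = a := by
    rw [hadef, ← hgw, ← hg, GU_H, H_single_right hF]
  have hrr : Cfsg.hermForm m F q r r = 0 := by
    have h1 : Cfsg.hermForm (1 + m) F q w₀ w₀ = 1 := by rw [← GU_H g, hgw, hw]
    unfold Cfsg.hermForm at h1 ⊢
    rw [Fin.sum_univ_add, Fin.sum_univ_one, ha0] at h1
    rw [pow_succ'] at ha
    linear_combination h1 - ha
  have hgood' : r = 0 ∨ q ≠ 2 ∨ 3 ≤ m := by
    rcases hgood with h | h | h | ⟨b, hb⟩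
    · exact Or.inr (Or.inl h)
    · exact Or.inr (Or.inr (by omega))
    · left
      obtain rfl : m = 1 := by omega
      funext j
      fin_cases j
      simp only [Cfsg.hermForm, Fin.sum_univ_one, ← pow_succ'] at hrr
      exact eq_zero_of_pow_eq_zero hrr
    · left
      funext j
      have : w₀ = b • Pi.single (Fin.castAdd m 0) 1 := by
        rw [hw₀, hb, Matrix.mulVec_smul, ginv_mulVec g hg]
      simp [hr, this, Pi.single_apply, Fin.ext_iff]
  obtain ⟨x, hx, hrx⟩ := exists_small hF (show 1 ≤ m by omega) hrr hgood'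
  set X := gmat g *ᵥ Fin.append (0 : Fin 1 → F) x with hXdef
  have hw₀e : w₀ = Fin.append (fun _ => a) r := by
    funext i
    induction i using Fin.addCases with
    | left i => fin_cases i; simpa using ha0
    | right j => simp [hr]
  have hxx : Cfsg.hermForm (1 + m) F q X X = 1 := by
    rw [hXdef, GU_H, H_append, H_zero_left, zero_add, hx]
  have hxu : Cfsg.hermForm (1 + m) F q X u = 0 := by
    rw [hXdef, ← hg, GU_H, H_single_right hF, Fin.append_left]; rfl
  have hwx : Cfsg.hermForm (1 + m) F q w X = Cfsg.hermForm m F q r x := by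
    rw [hXdef, ← hgw, GU_H, hw₀e, H_append, H_zero_right hF, zero_add]
  obtain ⟨t, ht, htu⟩ := move_of_ne hF hu hxx (by
    rw [hxu, zero_pow (by omega)]; exact zero_ne_one)
  obtain ⟨t', ht', htx⟩ := move_of_ne hF hxx hw (by rw [hwx]; exact hrx)
  exact ⟨t' * t, mul_mem ht' ht, by rw [mul_mulVec, htu, htx]⟩

/-! ### Conjugation -/

omit hF in
theorem gmat_inv_mul (g : Cfsg.GU n F q) : gmat g⁻¹ * gmat g = 1 := by
  rw [← gmat_mul, inv_mul_cancel, gmat_one]

omit hF in
/-- Conjugation by an element of the general unitary group. -/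
def conjSU (g : Cfsg.GU n F q) : Cfsg.SU n F q →* Cfsg.SU n F q where
  toFun s := suMk (gmat g * mat s * gmat g⁻¹)
    (by rw [Matrix.det_mul, Matrix.det_mul, mul_right_comm, ← Matrix.det_mul, ← gmat_mul,
      mul_inv_cancel, gmat_one, Matrix.det_one, one_mul]; exact s.1.2)
    (fun u v => by
      simp only [← Matrix.mulVec_mulVec]
      rw [GU_H, SU_H, GU_H])
  map_one' := SU_ext fun x => by
    rw [suMk_mulVec, mat_one, Matrix.mul_one, ← gmat_mul, mul_inv_cancel, gmat_one]
  map_mul' a b := SU_ext fun x => by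
    rw [suMk_mulVec, mul_mulVec, suMk_mulVec, suMk_mulVec, Matrix.mulVec_mulVec, mat_mul]
    congr 1
    simp only [Matrix.mul_assoc]
    rw [← Matrix.mul_assoc (gmat g⁻¹) (gmat g), gmat_inv_mul, Matrix.one_mul]

omit hF in
theorem conjSU_mulVec (g : Cfsg.GU n F q) (s : Cfsg.SU n F q) (x : Fin n → F) :
    mat (conjSU g s) *ᵥ x = gmat g *ᵥ (mat s *ᵥ (gmat g⁻¹ *ᵥ x)) := by
  simp only [Matrix.mulVec_mulVec, ← Matrix.mul_assoc]
  rfl

theorem conjSU_mem (g : Cfsg.GU n F q) {s : Cfsg.SU n F q} (hs : s ∈ tvGroup F q n) :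
    conjSU g s ∈ tvGroup F q n := by
  suffices h : tvGroup F q n ≤ (tvGroup F q n).comap (conjSU g) from h hs
  refine (Subgroup.closure_le _).2 ?_
  rintro s ⟨v, c, hv, hc, hs⟩
  refine Subgroup.subset_closure ⟨gmat g *ᵥ v, c, by rw [GU_H, hv], hc, mat_ext fun x => ?_⟩
  rw [conjSU_mulVec, hs, HermStd.transvection_mulVec, HermStd.transvection_mulVec,
    Matrix.mulVec_add, Matrix.mulVec_smul, ← gmul_mulVec, mul_inv_cancel, gmat_one, one_mulVec]
  congr 3
  rw [← GU_H g, ← gmul_mulVec, mul_inv_cancel, gmat_one, one_mulVec]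

/-! ### Embedding -/

omit hF

/-- Extension of a matrix by one fixed coordinate. -/
def embM {m : ℕ} (M : Matrix (Fin m) (Fin m) F) : Matrix (Fin (m + 1)) (Fin (m + 1)) F :=
  Matrix.reindexAlgEquiv F F finSumFinEquiv (Matrix.fromBlocks M 0 0 (1 : Matrix (Fin 1) (Fin 1) F))

theorem det_embM (M : Matrix (Fin m) (Fin m) F) : (embM M).det = M.det := by
  rw [embM, Matrix.det_reindexAlgEquiv, Matrix.det_fromBlocks_zero₁₂, Matrix.det_one, mul_one]

theorem embM_mulVec (M : Matrix (Fin m) (Fin m) F) (x : Fin m → F) (y : Fin 1 → F) :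
    embM M *ᵥ Fin.append x y = Fin.append (M *ᵥ x) y := by
  funext i
  induction i using Fin.addCases with
  | left i => simp [embM, Matrix.mulVec, dotProduct, Fin.sum_univ_add]
  | right j =>
    fin_cases j
    simp [embM, Matrix.mulVec, dotProduct, Fin.sum_univ_add]

theorem append_eta (x : Fin (m + 1) → F) :
    Fin.append (fun i => x (Fin.castAdd 1 i)) (fun j => x (Fin.natAdd m j)) = x :=
  Fin.append_castAdd_natAdd

theorem embM_preserves (h : Cfsg.SU m F q) (u v : Fin (m + 1) → F) :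
    Cfsg.hermForm (m + 1) F q (embM (mat h) *ᵥ u) (embM (mat h) *ᵥ v) =
      Cfsg.hermForm (m + 1) F q u v := by
  rw [← append_eta u, ← append_eta v, embM_mulVec, embM_mulVec, H_append, H_append, SU_H]

/-- The stabiliser of the last basis vector. -/
def emb : Cfsg.SU m F q →* Cfsg.SU (m + 1) F q where
  toFun h := suMk (embM (mat h)) ((det_embM _).trans h.1.2) (embM_preserves h)
  map_one' := SU_ext fun x => by
    rw [suMk_mulVec, ← append_eta x, embM_mulVec, mat_one, mat_one, one_mulVec, one_mulVec]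
  map_mul' a b := SU_ext fun x => by
    rw [suMk_mulVec, mul_mulVec, suMk_mulVec, suMk_mulVec, ← append_eta x, embM_mulVec,
      embM_mulVec, embM_mulVec, mul_mulVec]

theorem emb_mulVec (h : Cfsg.SU m F q) (x : Fin m → F) (y : Fin 1 → F) :
    mat (emb h) *ᵥ Fin.append x y = Fin.append (mat h *ᵥ x) y :=
  embM_mulVec (mat h) x y

theorem single_last : (Pi.single (Fin.natAdd m 0) 1 : Fin (m + 1) → F) = Fin.append 0 1 := by
  funext i
  induction i using Fin.addCases with
  | left i => simp [Pi.single_apply, Fin.ext_iff]; omega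
  | right j => fin_cases j; simp

include hF

theorem emb_mem {s : Cfsg.SU m F q} (hs : s ∈ tvGroup F q m) :
    emb s ∈ tvGroup F q (m + 1) := by
  suffices h : tvGroup F q m ≤ (tvGroup F q (m + 1)).comap emb from h hs
  refine (Subgroup.closure_le _).2 ?_
  rintro s ⟨v, c, hv, hc, hs⟩
  refine Subgroup.subset_closure
    ⟨Fin.append v 0, c, by rw [H_append, hv, H_zero_left, add_zero], hc, mat_ext fun x => ?_⟩
  rw [← append_eta x, emb_mulVec, hs, HermStd.transvection_mulVec, HermStd.transvection_mulVec,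
    H_append, H_zero_right hF, add_zero]
  funext i
  induction i using Fin.addCases with
  | left i => simp
  | right j => simp

theorem exists_emb_eq (g : Cfsg.SU (m + 1) F q)
    (hg : mat g *ᵥ Pi.single (Fin.natAdd m 0) 1 = Pi.single (Fin.natAdd m 0) 1) :
    ∃ h : Cfsg.SU m F q, emb h = g := by
  set M : Matrix (Fin m) (Fin m) F :=
    Matrix.of fun i j => mat g (Fin.castAdd 1 i) (Fin.castAdd 1 j) with hM
  have hlast : ∀ x : Fin (m + 1) → F, (mat g *ᵥ x) (Fin.natAdd m 0) = x (Fin.natAdd m 0) := by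
    intro x
    rw [← H_single_right hF (mat g *ᵥ x)]
    nth_rw 1 [← hg]
    rw [SU_H, H_single_right hF]
  have hgM : mat g = embM M := by
    refine mat_ext fun x => ?_
    have h0 : ∀ y : Fin m → F, mat g *ᵥ Fin.append y 0 = Fin.append (M *ᵥ y) 0 := by
      intro y
      funext i
      induction i using Fin.addCases with
      | left i => simp [hM, Matrix.mulVec, dotProduct, Fin.sum_univ_add]
      | right j =>
        obtain rfl : j = 0 := Subsingleton.elim _ _
        rw [hlast, Fin.append_right, Fin.append_right]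
    set c := x (Fin.natAdd m 0) with hc
    have hx : x = Fin.append (fun i => x (Fin.castAdd 1 i)) 0 +
        c • Pi.single (Fin.natAdd m 0) 1 := by
      funext i
      induction i using Fin.addCases with
      | left i => simp [Pi.single_apply, Fin.ext_iff]; omega
      | right j => obtain rfl : j = 0 := Subsingleton.elim _ _; simp [hc]
    rw [hx, Matrix.mulVec_add, Matrix.mulVec_add, Matrix.mulVec_smul, Matrix.mulVec_smul, hg, h0,
      embM_mulVec, single_last, embM_mulVec, Matrix.mulVec_zero]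
  have hMH : ∀ u v, Cfsg.hermForm m F q (M *ᵥ u) (M *ᵥ v) = Cfsg.hermForm m F q u v := by
    intro u v
    have := SU_H g (Fin.append u 0) (Fin.append v 0)
    rwa [hgM, embM_mulVec, embM_mulVec, H_append, H_append, H_zero_left, add_zero, add_zero] at this
  refine ⟨suMk M (by rw [← det_embM M, ← hgM]; exact g.1.2) hMH, SU_ext fun x => ?_⟩
  show embM M *ᵥ x = _
  rw [← hgM]

theorem tvGroup_eq_top_one : tvGroup F q 1 = ⊤ := by
  refine eq_top_iff.2 fun g _ => ?_
  have : g = 1 := by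
    refine SU_ext fun x => ?_
    have hd : (mat g).det = 1 := g.1.2
    rw [Matrix.det_fin_one] at hd
    rw [mat_one]
    congr 1
    ext i j
    fin_cases i; fin_cases j; simpa using hd
  rw [this]; exact one_mem _

theorem tvGroup_succ (hm : 1 ≤ m) (hgood : q ≠ 2 ∨ m = 1 ∨ 4 ≤ m + 1)
    (hstab : ∀ h : Cfsg.SU m F q, emb h ∈ tvGroup F q (m + 1)) : tvGroup F q (m + 1) = ⊤ := by
  refine eq_top_iff.2 fun g _ => ?_
  set e : Fin (m + 1) → F := Pi.single (Fin.natAdd m 0) 1 with he
  have hee : Cfsg.hermForm (m + 1) F q e e = 1 := by rw [he, H_single_single hF, if_pos rfl]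
  obtain ⟨t, ht, hte⟩ := move hF (u := e) (w := mat g *ᵥ e) (by omega) hee (by rw [SU_H, hee])
    (by rcases hgood with h | h | h
        exacts [Or.inl h, Or.inr (Or.inr (Or.inl (by omega))), Or.inr (Or.inl h)])
  obtain ⟨h, hh⟩ := exists_emb_eq hF (t⁻¹ * g) (by rw [mul_mulVec, inv_mulVec t hte])
  have := mul_mem ht (hstab h)
  rwa [hh, mul_inv_cancel_left] at this

theorem tvGroup_two : tvGroup F q 2 = ⊤ :=
  tvGroup_succ hF le_rfl (Or.inr (Or.inl rfl))
    fun h => emb_mem hF (by rw [tvGroup_eq_top_one hF]; trivial)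

set_option maxHeartbeats 2000000 in
theorem exists_base_word (hq : q = 2) : ∃ (ω : F) (t : Cfsg.SU 4 F q), ω ≠ 0 ∧
    t ∈ tvGroup F q 4 ∧ mat t *ᵥ Pi.single 2 1 = ![ω, ω, 1, 0] ∧
    mat t *ᵥ Pi.single 3 1 = Pi.single 3 1 := by
  obtain ⟨ω, hω3, hω, h2⟩ := exists_zeta hF hq
  have hω0 : ω ≠ 0 := fun h => by simp [h] at hω3
  have hone : (1 : F) + 1 ^ q = 0 := by rw [one_pow]; linear_combination h2
  have hA : Cfsg.hermForm 4 F q ![0, 0, 1, 1] ![0, 0, 1, 1] = 0 := by
    simp [Cfsg.hermForm, Fin.sum_univ_four, hq]; linear_combination h2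
  have hB : Cfsg.hermForm 4 F q ![0, 0, 1, ω] ![0, 0, 1, ω] = 0 := by
    simp [Cfsg.hermForm, Fin.sum_univ_four, hq]; linear_combination hω3 + h2
  have hC : Cfsg.hermForm 4 F q ![1, 1, 1, 1] ![1, 1, 1, 1] = 0 := by
    simp [Cfsg.hermForm, Fin.sum_univ_four, hq]; linear_combination 2 * h2
  have hD : Cfsg.hermForm 4 F q ![1, 1, 1, ω ^ 2] ![1, 1, 1, ω ^ 2] = 0 := by
    simp [Cfsg.hermForm, Fin.sum_univ_four, hq]
    linear_combination (1 + ω ^ 3) * hω3 + 2 * h2
  refine ⟨ω, tvu hF hD hone * tvu hF hC hone * tvu hF hB hone * tvu hF hA hone, hω0,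
    mul_mem (mul_mem (mul_mem (tvu_mem hF _ _) (tvu_mem hF _ _)) (tvu_mem hF _ _)) (tvu_mem hF _ _),
    ?_, ?_⟩
  · have e : (Pi.single 2 1 : Fin 4 → F) = ![0, 0, 1, 0] := by funext i; fin_cases i <;> simp
    have s1 : mat (tvu hF hA hone) *ᵥ ![0, 0, 1, 0] = ![0, 0, 0, 1] := by
      rw [tvu_mulVec]; funext i
      fin_cases i <;> simp [Cfsg.hermForm, Fin.sum_univ_four, hq] <;> grind
    have s2 : mat (tvu hF hB hone) *ᵥ ![0, 0, 0, 1] = ![0, 0, ω ^ 2, 0] := by
      rw [tvu_mulVec]; funext i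
      fin_cases i <;> simp [Cfsg.hermForm, Fin.sum_univ_four, hq] <;> grind
    have s3 : mat (tvu hF hC hone) *ᵥ ![0, 0, ω ^ 2, 0] = ![ω ^ 2, ω ^ 2, 0, ω ^ 2] := by
      rw [tvu_mulVec]; funext i
      fin_cases i <;> simp [Cfsg.hermForm, Fin.sum_univ_four, hq] <;> grind
    have s4 : mat (tvu hF hD hone) *ᵥ ![ω ^ 2, ω ^ 2, 0, ω ^ 2] = ![ω, ω, 1, 0] := by
      rw [tvu_mulVec]; funext i
      fin_cases i <;> simp [Cfsg.hermForm, Fin.sum_univ_four, hq] <;> grind
    simp only [mul_mulVec, e, s1, s2, s3, s4]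
  · have e : (Pi.single 3 1 : Fin 4 → F) = ![0, 0, 0, 1] := by funext i; fin_cases i <;> simp
    have s1 : mat (tvu hF hA hone) *ᵥ ![0, 0, 0, 1] = ![0, 0, 1, 0] := by
      rw [tvu_mulVec]; funext i
      fin_cases i <;> simp [Cfsg.hermForm, Fin.sum_univ_four, hq] <;> grind
    have s2 : mat (tvu hF hB hone) *ᵥ ![0, 0, 1, 0] = ![0, 0, 0, ω] := by
      rw [tvu_mulVec]; funext i
      fin_cases i <;> simp [Cfsg.hermForm, Fin.sum_univ_four, hq] <;> grind
    have s3 : mat (tvu hF hC hone) *ᵥ ![0, 0, 0, ω] = ![ω, ω, ω, 0] := by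
      rw [tvu_mulVec]; funext i
      fin_cases i <;> simp [Cfsg.hermForm, Fin.sum_univ_four, hq] <;> grind
    have s4 : mat (tvu hF hD hone) *ᵥ ![ω, ω, ω, 0] = ![0, 0, 0, 1] := by
      rw [tvu_mulVec]; funext i
      fin_cases i <;> simp [Cfsg.hermForm, Fin.sum_univ_four, hq] <;> grind
    simp only [mul_mulVec, e, s1, s2, s3, s4]

theorem emb_mem_four (hq : q = 2) (h : Cfsg.SU 3 F q) : emb h ∈ tvGroup F q 4 := by
  obtain ⟨ω, t, hω0, ht, hte2, hte3⟩ := exists_base_word hF hq
  set e : Fin 3 → F := Pi.single 2 1 with he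
  have hee : Cfsg.hermForm 3 F q e e = 1 := by rw [he, H_single_single hF, if_pos rfl]
  have happ : ∀ x : Fin 3 → F, (Fin.append x (0 : Fin 1 → F) : Fin 4 → F) = ![x 0, x 1, x 2, 0] := by
    intro x
    funext i
    fin_cases i <;> rfl
  have he4 : (Fin.append e (0 : Fin 1 → F) : Fin 4 → F) = Pi.single 2 1 := by
    rw [happ, he]; funext i; fin_cases i <;> simp
  suffices hkey : ∀ w : Fin 3 → F, Cfsg.hermForm 3 F q w w = 1 →
      ∃ s ∈ tvGroup F q 4, mat s *ᵥ Fin.append e (0 : Fin 1 → F) = Fin.append w (0 : Fin 1 → F) ∧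
        mat s *ᵥ Pi.single 3 1 = Pi.single 3 1 by
    obtain ⟨s, hs, hse, hs3⟩ := hkey (mat h *ᵥ e) (by rw [SU_H, hee])
    have h3 : (Pi.single (Fin.natAdd 3 (0 : Fin 1)) 1 : Fin 4 → F) = Pi.single 3 1 := rfl
    obtain ⟨h', hh'⟩ := exists_emb_eq hF (s⁻¹ * emb h) (by
      rw [mul_mulVec]
      nth_rw 1 [single_last]
      rw [emb_mulVec, Matrix.mulVec_zero, ← single_last, h3, inv_mulVec s hs3])
    have h'e : mat h' *ᵥ e = e := by
      have := congrArg (fun M => mat M *ᵥ Fin.append e (0 : Fin 1 → F)) hh'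
      simp only [emb_mulVec, mul_mulVec] at this
      rw [inv_mulVec s hse] at this
      funext i
      simpa using congrFun this (Fin.castAdd 1 i)
    obtain ⟨h'', rfl⟩ := exists_emb_eq hF (m := 2) h' h'e
    have := mul_mem hs (emb_mem hF (emb_mem hF (s := h'') (by rw [tvGroup_two hF]; trivial)))
    rwa [hh', mul_inv_cancel_left] at this
  intro w hw
  have hemb : ∀ s ∈ tvGroup F q 3, emb s ∈ tvGroup F q 4 ∧
      mat (emb s) *ᵥ Pi.single 3 1 = Pi.single 3 1 := by
    intro s hs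
    refine ⟨emb_mem hF hs, ?_⟩
    rw [show (Pi.single 3 1 : Fin 4 → F) = Pi.single (Fin.natAdd 3 (0 : Fin 1)) 1 from rfl, single_last,
      emb_mulVec, Matrix.mulVec_zero]
  by_cases hN : (Cfsg.hermForm 3 F q w e) ^ (q + 1) ≠ 1
  · obtain ⟨s, hs, hse⟩ := move_of_ne hF hee hw hN
    exact ⟨emb s, (hemb s hs).1, by rw [emb_mulVec, hse], (hemb s hs).2⟩
  push Not at hN
  rw [he, H_single_right hF] at hN
  have hw2 : w 2 ≠ 0 := fun h => by simp [h] at hN
  have hiso : w 0 * w 0 ^ q + w 1 * w 1 ^ q = 0 := by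
    have h := hw
    simp only [Cfsg.hermForm, Fin.sum_univ_three] at h
    rw [pow_succ'] at hN
    linear_combination h - hN
  obtain ⟨s, hs, hse⟩ := move hF (u := e) (w := w 2 • e) (by omega) hee
    (by rw [UnitaryCount.hermForm_smul_smul, hee, hN, mul_one]) (Or.inr (Or.inr (Or.inr ⟨_, rfl⟩)))
  by_cases hw0 : w 0 = 0
  · have hw1 : w 1 = 0 := by
      rw [hw0, zero_mul, zero_add, ← pow_succ'] at hiso
      exact eq_zero_of_pow_eq_zero hiso
    refine ⟨emb s, (hemb s hs).1, ?_, (hemb s hs).2⟩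
    rw [emb_mulVec, hse]
    congr 1
    funext i
    fin_cases i <;> simp [he, hw0, hw1]
  have hw1 : w 1 ≠ 0 := fun h1 => by
    rw [h1, zero_mul, add_zero, ← pow_succ'] at hiso
    exact hw0 (eq_zero_of_pow_eq_zero hiso)
  have hunit : ∀ z : F, z ≠ 0 → z ^ (q + 1) = 1 := fun z hz => by
    rw [hq]; exact pow_three_eq_one hF hq hz
  set d : Fin 4 → F := ![w 0 / (w 2 * ω), w 1 / (w 2 * ω), 1, 1] with hd
  have hd1 : ∀ i, d i ^ (q + 1) = 1 := by
    intro i
    fin_cases i <;> simp [hd, hunit, hw0, hw1, hw2, hω0, div_pow, mul_pow]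
  set D := diagGU hF d hd1 with hDdef
  have hDinv2 : gmat D⁻¹ *ᵥ Pi.single 2 1 = Pi.single 2 1 := by
    refine ginv_mulVec D ?_
    rw [hDdef, gmat_diagGU]; funext i; fin_cases i <;> simp [hd, Matrix.mulVec_diagonal]
  have hDinv3 : gmat D⁻¹ *ᵥ Pi.single 3 1 = Pi.single 3 1 := by
    refine ginv_mulVec D ?_
    rw [hDdef, gmat_diagGU]; funext i; fin_cases i <;> simp [hd, Matrix.mulVec_diagonal]
  refine ⟨conjSU D (t * emb s), conjSU_mem hF D (mul_mem ht (hemb s hs).1), ?_, ?_⟩
  · rw [conjSU_mulVec, he4, hDinv2, mul_mulVec]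
    have e1 : mat (emb s) *ᵥ Pi.single 2 1 = w 2 • (Pi.single 2 1 : Fin 4 → F) := by
      rw [← he4, emb_mulVec, hse]
      funext i
      induction i using Fin.addCases with
      | left i => simp
      | right j => simp
    rw [e1, Matrix.mulVec_smul, hte2, hDdef, gmat_diagGU, happ]
    funext i
    fin_cases i <;> simp [hd, Matrix.mulVec_diagonal] <;> field_simp
  · rw [conjSU_mulVec, hDinv3, mul_mulVec, (hemb s hs).2, hte3, hDdef, gmat_diagGU]
    funext i
    fin_cases i <;> simp [hd, Matrix.mulVec_diagonal]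

/-- The special unitary group is generated by transvections, except in the case `(n, q) = (3, 2)`. -/
theorem tvGroup_eq_top (hn : 1 ≤ n) (h : ¬ (n = 3 ∧ q = 2)) : tvGroup F q n = ⊤ := by
  induction n with
  | zero => omega
  | succ m ih =>
    rcases Nat.eq_zero_or_pos m with rfl | hm
    · exact tvGroup_eq_top_one hF
    refine tvGroup_succ hF hm ?_ ?_
    · by_cases hq : q = 2
      · rcases Nat.lt_or_ge m 3 with h3 | h3
        · exact Or.inr (Or.inl (by omega))
        · exact Or.inr (Or.inr (by omega))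
      · exact Or.inl hq
    · intro g
      by_cases h32 : m = 3 ∧ q = 2
      · obtain ⟨rfl, hq⟩ := h32
        exact emb_mem_four hF hq g
      · exact emb_mem hF (by rw [ih hm h32]; trivial)

end Cfsg.Agent.Classical.Unitary
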