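import Mathlib
import Cfsg.Agent.Lib.Classical.UnitaryGen
import Cfsg.Agent.Lib.Classical.Iwasawa

/-!
# Perfectness and simplicity of the projective special unitary groups
-/

set_option autoImplicit false
set_option linter.unusedSectionVars false
set_option linter.unusedSimpArgs false

namespace Cfsg.Agent.Classical.Unitary

open Matrix
open Cfsg.Agent.Forms
open scoped LinearAlgebra.Projectivization
open scoped Pointwise
open scoped commutatorElement

variable {F : Type*} [Field F] [Fintype F] {q n : ℕ} (hF : Fintype.card F = q ^ 2)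

local notation "Vec" => (Fin n → F)
local notation "Mat" => Matrix (Fin n) (Fin n) F
local notation "H" => Cfsg.hermForm n F q

include hF

/-- A norm one vector orthogonal to a hyperbolic pair; also a non-zero isotropic one if `4 ≤ n`. -/
theorem exists_perp_pair (hn : 3 ≤ n) {v s : Vec} (hv : H v v = 0) (hs : H s s = 0)
    (hvs : H v s = 1) :
    (∃ w : Vec, H w v = 0 ∧ H w s = 0 ∧ H w w = 1) ∧
      (4 ≤ n → ∃ z : Vec, z ≠ 0 ∧ H z z = 0 ∧ H z v = 0 ∧ H z s = 0) := by
  obtain ⟨r, rfl⟩ : ∃ r, n = 2 + r := ⟨n - 2, by omega⟩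
  have hsv : Cfsg.hermForm (2 + r) F q s v = 1 := by rw [← H_conj hF, hvs, one_pow]
  obtain ⟨b, hb⟩ := exists_trace_eq hF (c := (1 : F)) (one_pow q)
  obtain ⟨y, hy⟩ := UnitaryCount.exists_norm_eq hF (μ := -1) (by simp)
    (by rw [← HermStd.qHom_apply hF, map_neg, map_one])
  have hy0 : y ≠ 0 := fun h => by simp [h] at hy
  have hneg : (-b ^ q) ^ q = -b := by rw [← HermStd.qHom_apply hF, map_neg, HermStd.qHom_apply,
    pow_qq hF]
  obtain ⟨g, hg⟩ := exists_gu_frame hF (k := 2) (r := r) ![s + b • v, y • (s + (-b ^ q) • v)]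
    (fun i j => by
      have hyy : y ^ q * y = -1 := by rw [← pow_succ, hy]
      have hbb : (b ^ q) ^ q = b := pow_qq hF b
      fin_cases i <;> fin_cases j <;>
        simp [H_add_left, H_add_right hF, H_smul_left, H_smul_right, hv, hs, hvs, hsv, hneg,
          H_neg_left, H_neg_right hF, hbb] <;> grind)
  have hperp : ∀ x : Fin (2 + r) → F, (∀ i : Fin 2, x (Fin.castAdd r i) = 0) →
      Cfsg.hermForm (2 + r) F q (gmat g *ᵥ x) v = 0 ∧
      Cfsg.hermForm (2 + r) F q (gmat g *ᵥ x) s = 0 := by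
    intro x hx
    have h0 := hg 0
    have h1 := hg 1
    simp only [Matrix.cons_val_zero, Matrix.cons_val_one] at h0 h1
    have e0 : Cfsg.hermForm (2 + r) F q (gmat g *ᵥ x) (s + b • v) = 0 := by
      rw [← h0, GU_H, H_single_right hF, hx 0]
    have e1 : Cfsg.hermForm (2 + r) F q (gmat g *ᵥ x) (y • (s + (-b ^ q) • v)) = 0 := by
      rw [← h1, GU_H, H_single_right hF, hx 1]
    rw [H_smul_right, mul_eq_zero, or_iff_right (pow_ne_zero _ hy0)] at e1
    simp only [H_add_right hF, H_smul_right, hneg] at e0 e1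
    have hv' : Cfsg.hermForm (2 + r) F q (gmat g *ᵥ x) v = 0 := by
      linear_combination e0 - e1 - (Cfsg.hermForm (2 + r) F q (gmat g *ᵥ x) v) * hb
    exact ⟨hv', by rw [hv', mul_zero, add_zero] at e0; exact e0⟩
  have hcast : ∀ (j : Fin r) (i : Fin 2),
      (Pi.single (Fin.natAdd 2 j) (1 : F) : Fin (2 + r) → F) (Fin.castAdd r i) = 0 := by
    intro j i; simp [Pi.single_apply, Fin.ext_iff]; omega
  constructor
  · obtain ⟨hv', hs'⟩ := hperp _ (hcast ⟨0, by omega⟩)
    exact ⟨_, hv', hs', by rw [GU_H, H_single_single hF, if_pos rfl]⟩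
  · intro h4
    obtain ⟨z, hz, hz1, -, hz0⟩ := exists_isotropic_pair hF (n := 2 + r)
      (Fin.natAdd 2 ⟨0, by omega⟩) (Fin.natAdd 2 ⟨1, by omega⟩) (by simp [Fin.ext_iff])
    obtain ⟨hv', hs'⟩ := hperp z (fun i => hz0 _ (by simp [Fin.ext_iff]; omega)
      (by simp [Fin.ext_iff]; omega))
    refine ⟨gmat g *ᵥ z, fun h => ?_, by rw [GU_H, hz], hv', hs'⟩
    have : z = 0 := by
      rw [← one_mulVec z, ← gmat_inv_mul g, ← Matrix.mulVec_mulVec, h, Matrix.mulVec_zero]
    simp [this] at hz1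

/-- The matrix of the map `x ↦ x + H(x,a) p + H(x,b) r`. -/
def two (q : ℕ) (p a r b : Fin n → F) : Matrix (Fin n) (Fin n) F :=
  1 + (Matrix.vecMulVec p (fun i => a i ^ q) + Matrix.vecMulVec r (fun i => b i ^ q))

omit hF in
theorem two_mulVec (p a r b x : Vec) :
    two q p a r b *ᵥ x = x + (H x a • p + H x b • r) := by
  rw [two, Matrix.add_mulVec, Matrix.add_mulVec, Matrix.one_mulVec, Matrix.vecMulVec_mulVec,
    Matrix.vecMulVec_mulVec, op_smul_eq_smul, op_smul_eq_smul, dotProduct_comm, dotProduct_comm _ x]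
  rfl

omit hF in
theorem det_two (p a r b : Vec) :
    (two q p a r b).det = (1 + H p a) * (1 + H r b) - H r a * H p b := by
  have e : two q p a r b = 1 + (Matrix.of fun i j => (![p, r] : Fin 2 → Vec) j i) *
      (Matrix.of fun (i : Fin 2) j => (![a, b] : Fin 2 → Vec) i j ^ q) := by
    rw [two]
    congr 1
    ext i j
    simp [Matrix.mul_apply, Fin.sum_univ_two, Matrix.vecMulVec]
  rw [e, Matrix.det_one_add_mul_comm, Matrix.det_fin_two]
  simp [Matrix.mul_apply, Cfsg.hermForm, mul_comm]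

/-! ### The Heisenberg groups -/

omit hF in
theorem det_heis {v w : Vec} {a : F} (hv : H v v = 0) (hwv : H w v = 0) (hvw : H v w = 0) :
    (two q (w + a • v) v (-v) w).det = 1 := by
  rw [det_two]
  simp [H_add_left, H_smul_left, H_neg_left, hv, hwv, hvw]

theorem heis_preserves {v w : Vec} {a : F} (hv : H v v = 0) (hwv : H w v = 0)
    (ha : a + a ^ q = - H w w) (x y : Vec) :
    H (two q (w + a • v) v (-v) w *ᵥ x) (two q (w + a • v) v (-v) w *ᵥ y) = H x y := by
  have hvw : H v w = 0 := (H_eq_zero_comm hF).1 hwv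
  simp only [two_mulVec, H_add_left, H_add_right hF, H_smul_left, H_smul_right, H_neg_left,
    H_neg_right hF, hv, hwv, hvw, H_conj hF]
  linear_combination (H x v * H v y) * ha

theorem tvu_mem_commutator (hn : 3 ≤ n) {v : Vec} (hv : H v v = 0) {c : F} (hc : c + c ^ q = 0) :
    tvu hF hv hc ∈ commutator (Cfsg.SU n F q) := by
  by_cases hv0 : v = 0
  · have : tvu hF hv hc = 1 := SU_ext fun x => by rw [tvu_mulVec, hv0, mat_one]; simp
    rw [this]; exact one_mem _
  obtain ⟨s, hs, hvs⟩ := exists_partner hF hv0 hv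
  obtain ⟨⟨w, hwv, -, hww⟩, -⟩ := exists_perp_pair hF hn hv hs hvs
  have hvw : H v w = 0 := (H_eq_zero_comm hF).1 hwv
  obtain ⟨a₀, ha₀⟩ := exists_trace_eq hF (c := (1 : F)) (one_pow q)
  set l := -(c * a₀) with hl
  have hlq : l ^ q = c * a₀ ^ q := by
    rw [hl, ← HermStd.qHom_apply hF, map_neg, map_mul]
    simp only [HermStd.qHom_apply]
    linear_combination (-(a₀ ^ q)) * hc
  obtain ⟨a, ha⟩ := exists_trace_eq hF (c := - H w w) (by
    rw [← HermStd.qHom_apply hF, map_neg, HermStd.qHom_apply, H_conj hF])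
  obtain ⟨a', ha'⟩ := exists_trace_eq hF (c := - H (l • w) (l • w)) (by
    rw [← HermStd.qHom_apply hF, map_neg, HermStd.qHom_apply, H_conj hF])
  have hlwv : H (l • w) v = 0 := by rw [H_smul_left, hwv, mul_zero]
  have hvlw : H v (l • w) = 0 := (H_eq_zero_comm hF).1 hlwv
  let E : Cfsg.SU n F q := suMk _ (det_heis hv hwv hvw) (heis_preserves hF hv hwv ha)
  let E' : Cfsg.SU n F q := suMk _ (det_heis hv hlwv hvlw) (heis_preserves hF hv hlwv ha')
  have key : E * E' = tvu hF hv hc * (E' * E) := by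
    refine SU_ext fun x => ?_
    simp only [E, E', mul_mulVec, suMk_mulVec, two_mulVec, tvu_mulVec, H_add_left, H_smul_left,
      H_smul_right, H_neg_left, hv, hwv, hvw, hww, hlwv, hvlw]
    match_scalars <;> ring_nf
    rw [hlq, hl]
    linear_combination (H x v * c) * ha₀
  have h2 : tvu hF hv hc = ⁅E, E'⁆ := by rw [commutatorElement_def, key]; group
  rw [h2, commutator_def]
  exact Subgroup.commutator_mem_commutator (Subgroup.mem_top _) (Subgroup.mem_top _)

theorem commutator_SU_eq_top (hn : 3 ≤ n) (h : ¬ (n = 3 ∧ q = 2)) :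
    commutator (Cfsg.SU n F q) = ⊤ := by
  rw [eq_top_iff, ← tvGroup_eq_top hF (by omega) h, tvGroup, Subgroup.closure_le]
  rintro g ⟨v, c, hv, hc, hg⟩
  have : g = tvu hF hv hc := SU_ext fun x => by rw [hg]; rfl
  rw [this]
  exact tvu_mem_commutator hF hn hv hc

/-! ### Transitivity -/

theorem exists_div_conj {δ : F} (hδ : δ ^ (q + 1) = 1) :
    ∃ l : F, l ≠ 0 ∧ l * (l ^ q)⁻¹ = δ := by
  have hδq : δ ^ q * δ = 1 := by rw [← pow_succ, hδ]
  obtain ⟨b, hb⟩ : ∃ b : F, b + δ * b ^ q ≠ 0 := by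
    by_contra h
    push Not at h
    have h1 := h 1
    rw [one_pow] at h1
    refine HermStd.qHom_ne_id hF (RingHom.ext fun x => ?_)
    rw [HermStd.qHom_apply, RingHom.id_apply]
    linear_combination x ^ q * h1 - h x
  set l := b + δ * b ^ q with hl
  refine ⟨l, hb, ?_⟩
  have : l ^ q = δ ^ q * l := by
    rw [hl, HermStd.add_pow_q hF, mul_pow, pow_qq hF]
    linear_combination (-(b ^ q)) * hδq
  rw [this, mul_inv, ← mul_assoc, mul_comm l, mul_assoc, mul_inv_cancel₀ hb, mul_one]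
  exact inv_eq_of_mul_eq_one_right hδq

theorem exists_scale {u s : Vec} (hu : H u u = 0) (hs : H s s = 0) (hus : H u s = 1) {δ : F}
    (hδ : δ ^ (q + 1) = 1) :
    ∃ g : Cfsg.GU n F q, (gmat g).det = δ ∧ (∃ a : F, gmat g *ᵥ u = a • u) ∧
      (∃ a : F, gmat g *ᵥ s = a • s) ∧
      ∀ x : Vec, H x u = 0 → H x s = 0 → gmat g *ᵥ x = x := by
  obtain ⟨l, hl0, hl⟩ := exists_div_conj hF hδ
  have hsu : H s u = 1 := by rw [← H_conj hF, hus, one_pow]
  have hlq : l ^ q ≠ 0 := pow_ne_zero _ hl0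
  obtain ⟨m', hm⟩ : ∃ m', m' = (l ^ q)⁻¹ := ⟨_, rfl⟩
  rw [← hm] at hl
  have hm1 : (l - 1) ^ q = l ^ q - 1 := by
    rw [← HermStd.qHom_apply hF, map_sub, map_one, HermStd.qHom_apply]
  have hm2 : (m' - 1) ^ q = l⁻¹ - 1 := by
    rw [← HermStd.qHom_apply hF, map_sub, map_one, HermStd.qHom_apply, hm, inv_pow, pow_qq hF]
  have hpres : ∀ x y, H (two q ((l - 1) • u) s ((m' - 1) • s) u *ᵥ x)
      (two q ((l - 1) • u) s ((m' - 1) • s) u *ᵥ y) = H x y := by
    intro x y
    simp only [two_mulVec, H_add_left, H_add_right hF, H_smul_left, H_smul_right, hu, hs, hus, hsu,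
      H_conj hF, mul_pow, hm1, hm2]
    rw [hm]
    field_simp
    ring
  refine ⟨guMk hF _ hpres, ?_, ?_, ?_, fun x hxu hxs => ?_⟩
  · show (two q ((l - 1) • u) s ((m' - 1) • s) u).det = δ
    rw [det_two]
    simp only [H_smul_left, hu, hs, hus, hsu, ← hl]
    ring
  · refine ⟨l, ?_⟩
    show two q ((l - 1) • u) s ((m' - 1) • s) u *ᵥ u = _
    rw [two_mulVec, hu, hus]; module
  · refine ⟨m', ?_⟩
    show two q ((l - 1) • u) s ((m' - 1) • s) u *ᵥ s = _
    rw [two_mulVec, hs, hsu]; module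
  · show two q ((l - 1) • u) s ((m' - 1) • s) u *ᵥ x = _
    rw [two_mulVec, hxu, hxs]; simp

theorem exists_gu_map {u u' : Vec} (hu : u ≠ 0) (hu' : u' ≠ 0) (h : H u u = H u' u') :
    ∃ g : Cfsg.GU n F q, gmat g *ᵥ u = u' := by
  let e := LinearEquiv.toSpanNonzeroSingleton F (Fin n → F) u hu
  let f : Submodule.span F {u} →ₗ[F] Vec :=
    (LinearMap.toSpanSingleton F Vec u').comp e.symm.toLinearMap
  have hfu : ∀ c : F, f (e c) = c • u' := fun c => by simp [f]
  have hinj : Function.Injective f := by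
    intro a b hab
    obtain ⟨c, rfl⟩ := e.surjective a
    obtain ⟨d, rfl⟩ := e.surjective b
    rw [hfu, hfu] at hab
    rw [smul_left_injective F hu' hab]
  obtain ⟨g, hg⟩ := HermStd.exists_extend hF _ f hinj fun a b => by
    obtain ⟨c, rfl⟩ := e.surjective a
    obtain ⟨d, rfl⟩ := e.surjective b
    rw [hfu, hfu, show ((e c : Submodule.span F {u}) : Vec) = c • u from rfl,
      show ((e d : Submodule.span F {u}) : Vec) = d • u from rfl]
    simp only [H_smul_left, H_smul_right, h]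
  refine ⟨g, ?_⟩
  have := hg (e 1)
  rwa [hfu, one_smul, show ((e 1 : Submodule.span F {u}) : Vec) = (1 : F) • u from rfl, one_smul]
    at this

theorem exists_gu_map_pair {u v u' v' : Vec} (h : LinearIndependent F ![u, v])
    (h' : LinearIndependent F ![u', v']) (huu : H u u = H u' u') (huv : H u v = H u' v')
    (hvv : H v v = H v' v') :
    ∃ g : Cfsg.GU n F q, gmat g *ᵥ u = u' ∧ gmat g *ᵥ v = v' := by
  set b := Module.Basis.span h with hb
  set f := b.constr F ![u', v'] with hf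
  have hx : ∀ x : Submodule.span F (Set.range ![u, v]), (x : Vec) = b.repr x 0 • u + b.repr x 1 • v ∧
      f x = b.repr x 0 • u' + b.repr x 1 • v' := by
    intro x
    constructor
    · conv_lhs => rw [← b.sum_repr x]
      rw [Fin.sum_univ_two, Submodule.coe_add, Submodule.coe_smul, Submodule.coe_smul, hb,
        Module.Basis.span_apply, Module.Basis.span_apply]
      rfl
    · rw [hf, Module.Basis.constr_apply_fintype, Fin.sum_univ_two]
      rfl
  have hvu : H v u = H v' u' := by rw [← H_conj hF, huv, H_conj hF]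
  have hinj : Function.Injective f := by
    rw [← LinearMap.ker_eq_bot, LinearMap.ker_eq_bot']
    intro x hx0
    rw [(hx x).2] at hx0
    obtain ⟨h0, h1⟩ := LinearIndependent.pair_iff.1 h' _ _ hx0
    refine Subtype.ext ?_
    rw [(hx x).1, h0, h1]
    simp
  obtain ⟨g, hg⟩ := HermStd.exists_extend hF _ f hinj fun x x' => by
    rw [(hx x).2, (hx x').2, (hx x).1, (hx x').1]
    simp only [H_add_left, H_add_right hF, H_smul_left, H_smul_right, huu, huv, hvu, hvv]
  refine ⟨g, ?_, ?_⟩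
  · have := hg (b 0)
    rw [hf, Module.Basis.constr_basis] at this
    rwa [hb, Module.Basis.span_apply] at this
  · have := hg (b 1)
    rw [hf, Module.Basis.constr_basis] at this
    rwa [hb, Module.Basis.span_apply] at this

theorem exists_partner_perp {u v : Vec} (hu : u ≠ 0) (huu : H u u = 0) (huv : H u v = 0)
    (hli : ∀ c : F, u ≠ c • v) :
    ∃ s : Vec, H s s = 0 ∧ H u s = 1 ∧ H v s = 0 := by
  by_cases hv : v = 0
  · obtain ⟨s, hs, hus⟩ := exists_partner hF hu huu
    exact ⟨s, hs, hus, by rw [hv, H_zero_left]⟩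
  obtain ⟨w, hwv, hwu⟩ : ∃ w, H w v = 0 ∧ H w u ≠ 0 := by
    by_contra hcon
    push Not at hcon
    obtain ⟨x₀, hx₀⟩ := exists_H_eq_one hF hv
    have hx₀' : H x₀ v = 1 := by rw [← H_conj hF, hx₀, one_pow]
    refine hli ((H x₀ u) ^ q) (sub_eq_zero.1 (eq_zero_of_H hF fun x => ?_))
    have h1 : H (x - H x v • x₀) v = 0 := by rw [H_sub_left, H_smul_left, hx₀', mul_one, sub_self]
    have h2 := hcon _ h1
    rw [H_sub_left, H_smul_left] at h2
    have h3 := congrArg (HermStd.qHom hF) h2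
    simp only [map_sub, map_mul, map_zero, HermStd.qHom_apply, H_conj hF] at h3
    rw [H_sub_left, H_smul_left, H_conj hF]
    linear_combination h3
  have hvu : H v u = 0 := (H_eq_zero_comm hF).1 huv
  set w' := (H w u)⁻¹ • w with hw'
  have hw'v : H w' v = 0 := by rw [hw', H_smul_left, hwv, mul_zero]
  have hw'u : H w' u = 1 := by rw [hw', H_smul_left, inv_mul_cancel₀ hwu]
  have huw' : H u w' = 1 := by rw [← H_conj hF, hw'u, one_pow]
  obtain ⟨b, hb⟩ := exists_trace_eq hF (c := - H w' w') (by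
    rw [← HermStd.qHom_apply hF, map_neg, HermStd.qHom_apply, H_conj hF])
  refine ⟨w' + b • u, ?_, ?_, ?_⟩
  · simp only [H_add_left, H_add_right hF, H_smul_left, H_smul_right, huu, hw'u, huw']
    linear_combination hb
  · simp [H_add_right hF, H_smul_right, huu, huw']
  · rw [H_add_right hF, (H_eq_zero_comm hF).1 hw'v, H_smul_right, hvu]; simp

/-- Adjusting the determinant. -/
theorem exists_su_of_gu {u : Vec} (hu : u ≠ 0) (huu : H u u = 0) (g : Cfsg.GU n F q) :
    ∀ v : Vec, (H u v ≠ 0 ∧ H v v = 0) ∨ (H u v = 0 ∧ ∀ c : F, u ≠ c • v) →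
      ∃ (k : Cfsg.SU n F q) (a b : F), a ≠ 0 ∧ b ≠ 0 ∧
        mat k *ᵥ (gmat g⁻¹ *ᵥ u) = a • u ∧ mat k *ᵥ (gmat g⁻¹ *ᵥ v) = b • v := by
  intro v hv
  have hd : ((gmat g).det)⁻¹ ^ (q + 1) = 1 := by
    rw [inv_pow, HermStd.det_norm hF _ (GU_H g), inv_one]
  have hne : ∀ (h : Cfsg.GU n F q) (x : Vec), x ≠ 0 → gmat h *ᵥ x ≠ 0 := by
    intro h x hx h0
    apply hx
    rw [← one_mulVec x, ← gmat_inv_mul h, ← Matrix.mulVec_mulVec, h0, Matrix.mulVec_zero]
  have hcan : ∀ x : Vec, gmat g *ᵥ (gmat g⁻¹ *ᵥ x) = x := fun x => by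
    rw [← gmul_mulVec, mul_inv_cancel, gmat_one, one_mulVec]
  suffices hfix : ∃ h : Cfsg.GU n F q, (gmat h).det = ((gmat g).det)⁻¹ ∧
      (∃ a : F, gmat h *ᵥ u = a • u) ∧ ∃ b : F, b ≠ 0 ∧ gmat h *ᵥ v = b • v by
    obtain ⟨h, hdet, ⟨a, ha⟩, b, hb0, hb⟩ := hfix
    have hdet' : (gmat (h * g)).det = 1 := by
      rw [gmat_mul, Matrix.det_mul, hdet, inv_mul_cancel₀ (det_ne_zero_of_preserves hF (GU_H g))]
    refine ⟨suOfGU (h * g) hdet', a, b, fun h0 => hne h u hu (by rw [ha, h0, zero_smul]),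
      hb0, ?_, ?_⟩
    · show gmat (h * g) *ᵥ _ = _
      rw [gmul_mulVec, hcan, ha]
    · show gmat (h * g) *ᵥ _ = _
      rw [gmul_mulVec, hcan, hb]
  rcases hv with ⟨h0, hvv⟩ | ⟨h0, hli⟩
  · set s := ((H u v)⁻¹) ^ q • v with hs
    have hss : H s s = 0 := by rw [hs, UnitaryCount.hermForm_smul_smul, hvv, mul_zero]
    have hus : H u s = 1 := by rw [hs, H_smul_right, pow_qq hF, inv_mul_cancel₀ h0]
    obtain ⟨h, hdet, ha, ⟨b, hb⟩, -⟩ := exists_scale hF huu hss hus hd
    have hc : ((H u v)⁻¹) ^ q ≠ 0 := pow_ne_zero _ (inv_ne_zero h0)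
    refine ⟨h, hdet, ha, b, fun hb0 => hne h s ?_ (by rw [hb, hb0, zero_smul]),
      smul_right_injective _ hc ?_⟩
    · intro hs0; rw [hs0, H_zero_right hF] at hus; exact zero_ne_one hus
    show ((H u v)⁻¹) ^ q • (gmat h *ᵥ v) = ((H u v)⁻¹) ^ q • (b • v)
    rw [← Matrix.mulVec_smul, ← hs, hb, hs, smul_comm]
  · obtain ⟨s, hss, hus, hvs⟩ := exists_partner_perp hF hu huu h0 hli
    obtain ⟨h, hdet, ha, -, hfix⟩ := exists_scale hF huu hss hus hd
    exact ⟨h, hdet, ha, 1, one_ne_zero, by rw [one_smul, hfix v ((H_eq_zero_comm hF).1 h0) hvs]⟩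

theorem exists_su_point {u u' : Vec} (hu : u ≠ 0) (hu' : u' ≠ 0) (huu : H u u = 0)
    (huu' : H u' u' = 0) : ∃ (k : Cfsg.SU n F q) (a : F), mat k *ᵥ u = a • u' := by
  obtain ⟨g, hg⟩ := exists_gu_map hF hu hu' (huu.trans huu'.symm)
  obtain ⟨s, hs, hus⟩ := exists_partner hF hu' huu'
  obtain ⟨k, a, -, -, -, hk, -⟩ := exists_su_of_gu hF hu' huu' g s
    (Or.inl ⟨by rw [hus]; exact one_ne_zero, hs⟩)
  exact ⟨k, a, by rwa [ginv_mulVec g hg] at hk⟩

theorem exists_su_pair {u v u' v' : Vec} (huu : H u u = 0) (hvv : H v v = 0) (huu' : H u' u' = 0)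
    (hvv' : H v' v' = 0) (h : LinearIndependent F ![u, v]) (h' : LinearIndependent F ![u', v'])
    (hiff : H u v = 0 ↔ H u' v' = 0) :
    ∃ (k : Cfsg.SU n F q) (a b : F), mat k *ᵥ u = a • u' ∧ mat k *ᵥ v = b • v' := by
  obtain ⟨hu', -⟩ : u' ≠ 0 ∧ v' ≠ 0 := ⟨by simpa using h'.ne_zero 0, by simpa using h'.ne_zero 1⟩
  have hind : ∀ c : F, u' ≠ c • v' := fun c hc => by
    have := (LinearIndependent.pair_iff.1 h' (1 : F) (-c) (by rw [hc]; module)).1
    exact one_ne_zero this
  by_cases h0 : H u v = 0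
  · have h0' := hiff.1 h0
    obtain ⟨g, hgu, hgv⟩ := exists_gu_map_pair hF h h' (huu.trans huu'.symm) (h0.trans h0'.symm)
      (hvv.trans hvv'.symm)
    obtain ⟨k, a, b, -, -, hk, hk'⟩ := exists_su_of_gu hF hu' huu' g v' (Or.inr ⟨h0', hind⟩)
    exact ⟨k, a, b, by rwa [ginv_mulVec g hgu] at hk, by rwa [ginv_mulVec g hgv] at hk'⟩
  · have h0' : H u' v' ≠ 0 := fun e => h0 (hiff.2 e)
    set c := (H u v / H u' v') ^ q with hc
    have hc0 : c ≠ 0 := pow_ne_zero _ (div_ne_zero h0 h0')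
    have hli : LinearIndependent F ![u', c • v'] := by
      rw [LinearIndependent.pair_iff]
      intro x y hxy
      rw [smul_smul] at hxy
      obtain ⟨hx, hy⟩ := LinearIndependent.pair_iff.1 h' _ _ hxy
      exact ⟨hx, (mul_eq_zero.1 hy).resolve_right hc0⟩
    have huv : H u v = H u' (c • v') := by
      rw [H_smul_right, hc, pow_qq hF, div_mul_cancel₀ _ h0']
    have hcc : H (c • v') (c • v') = 0 := by
      rw [UnitaryCount.hermForm_smul_smul, hvv', mul_zero]
    obtain ⟨g, hgu, hgv⟩ := exists_gu_map_pair hF h hli (huu.trans huu'.symm) huv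
      (hvv.trans hcc.symm)
    obtain ⟨k, a, b, -, -, hk, hk'⟩ := exists_su_of_gu hF hu' huu' g (c • v')
      (Or.inl ⟨by rw [← huv]; exact h0, hcc⟩)
    exact ⟨k, a, b * c, by rwa [ginv_mulVec g hgu] at hk,
      by rw [ginv_mulVec g hgv] at hk'; rw [hk', smul_smul]⟩

/-! ### The action on isotropic points -/

omit hF

/-- The isotropic points. -/
def IsoPt (F : Type*) [Field F] (q n : ℕ) : Type _ :=
  {p : ℙ F (Fin n → F) // Cfsg.hermForm n F q p.rep p.rep = 0}

theorem mat_mulVec_ne_zero (g : Cfsg.SU n F q) {x : Vec} (hx : x ≠ 0) : mat g *ᵥ x ≠ 0 := by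
  intro h
  apply hx
  rw [← one_mulVec x, ← mat_one (q := q), ← inv_mul_cancel g, mul_mulVec, h, Matrix.mulVec_zero]

theorem rep_mk (u : Vec) (hu : u ≠ 0) :
    ∃ a : F, a ≠ 0 ∧ (Projectivization.mk F u hu).rep = a • u := by
  obtain ⟨a, ha⟩ := Projectivization.exists_smul_eq_mk_rep F u hu
  exact ⟨a, a.ne_zero, ha.symm⟩

theorem mk_iso {u : Vec} (hu : u ≠ 0) (huu : H u u = 0) :
    H (Projectivization.mk F u hu).rep (Projectivization.mk F u hu).rep = 0 := by
  obtain ⟨a, -, ha⟩ := rep_mk u hu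
  rw [ha, UnitaryCount.hermForm_smul_smul, huu, mul_zero]

/-- The point spanned by an isotropic vector. -/
noncomputable def pt (u : Vec) (hu : u ≠ 0) (huu : H u u = 0) : IsoPt F q n :=
  ⟨Projectivization.mk F u hu, mk_iso hu huu⟩

theorem pt_eq_pt {u v : Vec} {hu : u ≠ 0} {hv : v ≠ 0} {huu : H u u = 0} {hvv : H v v = 0} :
    pt u hu huu = pt v hv hvv ↔ ∃ a : F, a • v = u :=
  Subtype.ext_iff.trans (Projectivization.mk_eq_mk_iff' F u v hu hv)

theorem exists_pt (p : IsoPt F q n) : ∃ (u : Vec) (hu : u ≠ 0) (huu : H u u = 0), pt u hu huu = p :=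
  ⟨_, p.1.rep_nonzero, p.2, Subtype.ext (Projectivization.mk_rep _)⟩

noncomputable instance instSMulIsoPt : SMul (Cfsg.SU n F q) (IsoPt F q n) where
  smul g p := pt (mat g *ᵥ p.1.rep) (mat_mulVec_ne_zero g p.1.rep_nonzero)
    (by rw [SU_H]; exact p.2)

theorem smul_pt (g : Cfsg.SU n F q) {u : Vec} (hu : u ≠ 0) (huu : H u u = 0) :
    g • pt u hu huu =
      pt (mat g *ᵥ u) (mat_mulVec_ne_zero g hu) (by rw [SU_H]; exact huu) := by
  obtain ⟨a, -, ha⟩ := rep_mk u hu
  refine pt_eq_pt.2 ⟨a, ?_⟩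
  show _ = mat g *ᵥ (Projectivization.mk F u hu).rep
  rw [ha, Matrix.mulVec_smul]

noncomputable instance instMulActionIsoPt : MulAction (Cfsg.SU n F q) (IsoPt F q n) where
  one_smul p := by
    obtain ⟨u, hu, huu, rfl⟩ := exists_pt p
    rw [smul_pt]
    exact pt_eq_pt.2 ⟨1, by rw [one_smul, mat_one, one_mulVec]⟩
  mul_smul g h p := by
    obtain ⟨u, hu, huu, rfl⟩ := exists_pt p
    rw [smul_pt, smul_pt, smul_pt]
    exact pt_eq_pt.2 ⟨1, by rw [one_smul, mul_mulVec]⟩

theorem li_of_pt_ne {u v : Vec} {hu : u ≠ 0} {hv : v ≠ 0} {huu : H u u = 0} {hvv : H v v = 0}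
    (h : pt u hu huu ≠ pt v hv hvv) : LinearIndependent F ![u, v] := by
  rw [LinearIndependent.pair_iff' hu]
  intro a ha
  exact h (pt_eq_pt.2 ⟨a⁻¹, by
    rw [← ha, smul_smul, inv_mul_cancel₀ (fun h0 => hv (by rw [← ha, h0, zero_smul])), one_smul]⟩)

/-- Orthogonality of points. -/
def orth (p p' : IsoPt F q n) : Prop := H p.1.rep p'.1.rep = 0

include hF

theorem orth_pt {u v : Vec} (hu : u ≠ 0) (hv : v ≠ 0) (huu : H u u = 0) (hvv : H v v = 0) :
    orth (pt u hu huu) (pt v hv hvv) ↔ H u v = 0 := by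
  obtain ⟨a, ha0, ha⟩ := rep_mk u hu
  obtain ⟨b, hb0, hb⟩ := rep_mk v hv
  show H (Projectivization.mk F u hu).rep (Projectivization.mk F v hv).rep = 0 ↔ _
  rw [ha, hb, H_smul_left, H_smul_right]
  simp [ha0, hb0]

theorem su_isPretransitive : MulAction.IsPretransitive (Cfsg.SU n F q) (IsoPt F q n) := by
  refine ⟨fun p p' => ?_⟩
  obtain ⟨u, hu, huu, rfl⟩ := exists_pt p
  obtain ⟨v, hv, hvv, rfl⟩ := exists_pt p'
  obtain ⟨k, a, hk⟩ := exists_su_point hF hu hv huu hvv
  exact ⟨k, by rw [smul_pt]; exact pt_eq_pt.2 ⟨a, hk.symm⟩⟩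

theorem exists_stab_move {p q₁ q₂ : IsoPt F q n} (h₁ : p ≠ q₁) (h₂ : p ≠ q₂)
    (hiff : orth p q₁ ↔ orth p q₂) : ∃ g : Cfsg.SU n F q, g • p = p ∧ g • q₁ = q₂ := by
  obtain ⟨u, hu, huu, rfl⟩ := exists_pt p
  obtain ⟨v, hv, hvv, rfl⟩ := exists_pt q₁
  obtain ⟨w, hw, hww, rfl⟩ := exists_pt q₂
  rw [orth_pt hF, orth_pt hF] at hiff
  obtain ⟨k, a, b, hka, hkb⟩ := exists_su_pair hF huu hvv huu hww (li_of_pt_ne h₁) (li_of_pt_ne h₂)
    hiff
  exact ⟨k, by rw [smul_pt]; exact pt_eq_pt.2 ⟨a, hka.symm⟩,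
    by rw [smul_pt]; exact pt_eq_pt.2 ⟨b, hkb.symm⟩⟩

theorem exists_common {u v : Vec} (hu : u ≠ 0) (hv : v ≠ 0) (huu : H u u = 0) (hvv : H v v = 0)
    (hli : LinearIndependent F ![u, v]) :
    ∃ z : Vec, z ≠ 0 ∧ H z z = 0 ∧ H u z ≠ 0 ∧ H v z ≠ 0 := by
  have key : ∃ z : Vec, H z z = 0 ∧ H u z ≠ 0 ∧ H v z ≠ 0 := by
    by_cases h0 : H u v = 0
    · have hind : ∀ c : F, u ≠ c • v := fun c hc => one_ne_zero
        (LinearIndependent.pair_iff.1 hli (1 : F) (-c) (by rw [hc]; module)).1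
      have hind' : ∀ c : F, v ≠ c • u := fun c hc => one_ne_zero
        (LinearIndependent.pair_iff.1 hli (-c) (1 : F) (by rw [hc]; module)).2
      have h0' : H v u = 0 := (H_eq_zero_comm hF).1 h0
      obtain ⟨s, hs, hus, hvs⟩ := exists_partner_perp hF hu huu h0 hind
      obtain ⟨t, ht, hvt, hut⟩ := exists_partner_perp hF hv hvv h0' hind'
      set w := s + t with hw
      have huw : H u w = 1 := by rw [hw, H_add_right hF, hus, hut, add_zero]
      have hvw : H v w = 1 := by rw [hw, H_add_right hF, hvs, hvt, zero_add]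
      have hwu : H w u = 1 := by rw [← H_conj hF, huw, one_pow]
      obtain ⟨b, hb⟩ := exists_trace_eq hF (c := - H w w) (by
        rw [← HermStd.qHom_apply hF, map_neg, HermStd.qHom_apply, H_conj hF])
      refine ⟨w + b • u, ?_, ?_, ?_⟩
      · simp only [H_add_left, H_add_right hF, H_smul_left, H_smul_right, huu, huw, hwu]
        linear_combination hb
      · simp [H_add_right hF, H_smul_right, huu, huw]
      · simp [H_add_right hF, H_smul_right, h0', hvw]
    · obtain ⟨c, hc0, hc⟩ := exists_traceZero hF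
      have hvu : H v u = (H u v) ^ q := (H_conj hF u v).symm
      set s := ((H u v)⁻¹) ^ q • v with hs
      have hss : H s s = 0 := by rw [hs, UnitaryCount.hermForm_smul_smul, hvv, mul_zero]
      have hus : H u s = 1 := by rw [hs, H_smul_right, pow_qq hF, inv_mul_cancel₀ h0]
      have hsu : H s u = 1 := by rw [← H_conj hF, hus, one_pow]
      refine ⟨c • u + s, ?_, ?_, ?_⟩
      · simp only [H_add_left, H_add_right hF, H_smul_left, H_smul_right, huu, hss, hus, hsu]
        linear_combination hc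
      · simp [H_add_right hF, H_smul_right, huu, hus]
      · have hne : H v u ≠ 0 := fun h => h0 ((H_eq_zero_comm hF).1 h)
        simp [H_add_right hF, H_smul_right, hs, hvv, hc0, hne]
  obtain ⟨z, hz, h1, h2⟩ := key
  exact ⟨z, fun h => h1 (by rw [h, H_zero_right hF]), hz, h1, h2⟩

theorem su_isPreprimitive (hn : 3 ≤ n) :
    MulAction.IsPreprimitive (Cfsg.SU n F q) (IsoPt F q n) := by
  have := su_isPretransitive (n := n) hF
  have orth_smul : ∀ (g : Cfsg.SU n F q) (a b : IsoPt F q n), orth (g • a) (g • b) ↔ orth a b := by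
    intro g a b
    obtain ⟨u, hu, huu, rfl⟩ := exists_pt a
    obtain ⟨v, hv, hvv, rfl⟩ := exists_pt b
    rw [smul_pt, smul_pt, orth_pt hF, orth_pt hF, SU_H]
  rcases Nat.lt_or_ge n 4 with h4 | h4
  · -- no two isotropic points are orthogonal, so the action is doubly transitive
    have hno : ∀ a b : IsoPt F q n, a ≠ b → ¬ orth a b := by
      intro a b hab ho
      obtain ⟨u, hu, huu, rfl⟩ := exists_pt a
      obtain ⟨v, hv, hvv, rfl⟩ := exists_pt b
      rw [orth_pt hF] at ho
      have hli := li_of_pt_ne hab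
      obtain ⟨s, hs, hus, hvs⟩ := exists_partner_perp hF hu huu ho fun c hc => one_ne_zero
        (LinearIndependent.pair_iff.1 hli (1 : F) (-c) (by rw [hc]; module)).1
      obtain ⟨⟨w, hwu, hws, hww⟩, -⟩ := exists_perp_pair hF hn huu hs hus
      have hvw : H v w = 0 := by
        by_contra hvw
        have hwv : H w v ≠ 0 := fun h => hvw ((H_eq_zero_comm hF).1 h)
        have hsu : H s u = 1 := by rw [← H_conj hF, hus, one_pow]
        have hdim : LinearIndependent F ![u, s, w, v] := by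
          rw [Fintype.linearIndependent_iff]
          intro c hc
          simp only [Fin.sum_univ_four, Matrix.cons_val] at hc
          have h1 := congrArg (fun x => H x u) hc
          have h2 := congrArg (fun x => H x s) hc
          have h3 := congrArg (fun x => H x v) hc
          have h4 := congrArg (fun x => H x w) hc
          simp only [H_add_left, H_smul_left, H_zero_left, huu, hs, hus, hsu, hwu, hws, hww, hvv, ho,
            (H_eq_zero_comm hF).1 ho, hvs, (H_eq_zero_comm hF).1 hvs, (H_eq_zero_comm hF).1 hwu,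
            (H_eq_zero_comm hF).1 hws] at h1 h2 h3 h4
          have e1 : c 1 = 0 := by linear_combination h1
          have e0 : c 0 = 0 := by linear_combination h2
          have e2 : c 2 = 0 := by
            refine (mul_eq_zero.1 ?_).resolve_right hwv
            linear_combination h3
          have e3 : c 3 = 0 := by
            refine (mul_eq_zero.1 ?_).resolve_right hvw
            rw [e2] at h4
            linear_combination h4
          intro i
          fin_cases i <;> assumption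
        have := hdim.fintype_card_le_finrank
        simp at this
        omega
      have hzero : v = 0 := by
        refine eq_zero_of_H hF fun x => ?_
        by_contra hx
        have hsu : H s u = 1 := by rw [← H_conj hF, hus, one_pow]
        have hdim : LinearIndependent F ![u, s, w, v] := by
          rw [Fintype.linearIndependent_iff]
          intro c hc
          simp only [Fin.sum_univ_four, Matrix.cons_val] at hc
          have h1 := congrArg (fun y => H y u) hc
          have h2 := congrArg (fun y => H y s) hc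
          have h4 := congrArg (fun y => H y w) hc
          have h5 := congrArg (fun y => H y x) hc
          simp only [H_add_left, H_smul_left, H_zero_left, huu, hs, hus, hsu, hwu, hws, hww, hvv, ho,
            (H_eq_zero_comm hF).1 ho, hvs, hvw, (H_eq_zero_comm hF).1 hwu,
            (H_eq_zero_comm hF).1 hws] at h1 h2 h4 h5
          have e1 : c 1 = 0 := by linear_combination h1
          have e0 : c 0 = 0 := by linear_combination h2
          have e2 : c 2 = 0 := by linear_combination h4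
          have e3 : c 3 = 0 := by
            refine (mul_eq_zero.1 ?_).resolve_right hx
            rw [e0, e1, e2] at h5
            linear_combination h5
          intro i
          fin_cases i <;> assumption
        have := hdim.fintype_card_le_finrank
        simp at this
        omega
      exact hv hzero
    refine ⟨fun {B} hB => ?_⟩
    by_cases hs : B.Subsingleton
    · exact Or.inl hs
    right
    rw [Set.not_subsingleton_iff] at hs
    obtain ⟨a, ha, b, hb, hab⟩ := hs
    refine Set.eq_univ_of_forall fun y => ?_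
    by_cases hy : y = a
    · exact hy ▸ ha
    obtain ⟨g, hga, hgb⟩ := exists_stab_move hF hab (Ne.symm hy)
      (iff_of_false (hno a b hab) (hno a y (Ne.symm hy)))
    have hgB : g • B = B := by
      by_contra hne
      have hd := hB (g₁ := g) (g₂ := 1) (by rwa [one_smul])
      rw [one_smul] at hd
      exact Set.disjoint_left.1 hd (Set.smul_mem_smul_set ha) (by rw [hga]; exact ha)
    rw [← hgb, ← hgB]
    exact Set.smul_mem_smul_set hb
  · refine Iwasawa.isPreprimitive_of_rel orth (fun g a b h => (orth_smul g a b).2 h)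
      (fun a b b' h h' hiff => exists_stab_move hF h h' hiff) ?_ ?_
    · intro a b hab
      obtain ⟨u, hu, huu, rfl⟩ := exists_pt a
      obtain ⟨v, hv, hvv, rfl⟩ := exists_pt b
      by_cases h0 : H u v = 0
      · exact Or.inl ((orth_pt hF hu hv huu hvv).2 h0)
      right
      set s := ((H u v)⁻¹) ^ q • v with hs
      have hss : H s s = 0 := by rw [hs, UnitaryCount.hermForm_smul_smul, hvv, mul_zero]
      have hus : H u s = 1 := by rw [hs, H_smul_right, pow_qq hF, inv_mul_cancel₀ h0]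
      obtain ⟨z, hz0, hzz, hzu, hzs⟩ := (exists_perp_pair hF hn huu hss hus).2 h4
      have hzv : H z v = 0 := by
        rw [hs, H_smul_right, pow_qq hF] at hzs
        exact (mul_eq_zero.1 hzs).resolve_left (inv_ne_zero h0)
      refine ⟨pt z hz0 hzz, fun he => ?_, fun he => ?_,
        (orth_pt hF hu hz0 huu hzz).2 ((H_eq_zero_comm hF).1 hzu),
        (orth_pt hF hz0 hv hzz hvv).2 hzv⟩
      · obtain ⟨c, hc⟩ := pt_eq_pt.1 he
        rw [← hc, H_smul_left] at hzv
        rcases mul_eq_zero.1 hzv with h | h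
        · exact hz0 (by rw [← hc, h, zero_smul])
        · exact h0 h
      · obtain ⟨c, hc⟩ := pt_eq_pt.1 he
        rw [← hc, H_smul_left] at hzu
        rcases mul_eq_zero.1 hzu with h | h
        · exact hz0 (by rw [← hc, h, zero_smul])
        · exact h0 ((H_eq_zero_comm hF).1 h)
    · intro a b hab
      obtain ⟨u, hu, huu, rfl⟩ := exists_pt a
      obtain ⟨v, hv, hvv, rfl⟩ := exists_pt b
      by_cases h0 : H u v = 0
      swap
      · exact Or.inl fun h => h0 ((orth_pt hF hu hv huu hvv).1 h)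
      right
      obtain ⟨z, hz0, hzz, h1, h2⟩ := exists_common hF hu hv huu hvv (li_of_pt_ne hab)
      refine ⟨pt z hz0 hzz, fun he => ?_, fun he => ?_, fun h => h1 ((orth_pt hF hu hz0 huu hzz).1 h),
        fun h => h2 ((H_eq_zero_comm hF).1 ((orth_pt hF hz0 hv hzz hvv).1 h))⟩
      · obtain ⟨c, hc⟩ := pt_eq_pt.1 he
        exact h1 (by rw [← hc, H_smul_right, huu, mul_zero])
      · obtain ⟨c, hc⟩ := pt_eq_pt.1 he
        exact h2 (by rw [← hc, H_smul_right, hvv, mul_zero])

omit hF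

/-- The transvections with centre `v`. -/
def tvAt {n : ℕ} (F : Type*) [Field F] (q : ℕ) (v : Fin n → F) : Set (Cfsg.SU n F q) :=
  {g | ∃ c : F, c + c ^ q = 0 ∧ mat g = Cfsg.unitaryTransvection n q v c}

include hF

theorem tvAt_smul {v : Vec} {a : F} (ha : a ≠ 0) : tvAt F q (a • v) = tvAt F q v := by
  have hN : (a ^ (q + 1)) ^ q = a ^ (q + 1) := by rw [pow_succ, mul_pow, pow_qq hF, mul_comm]
  have hT : ∀ c : F, Cfsg.unitaryTransvection n q (a • v) c =
      Cfsg.unitaryTransvection n q v (a ^ (q + 1) * c) := fun c => mat_ext fun x => by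
    rw [HermStd.transvection_mulVec, HermStd.transvection_mulVec, H_smul_right, smul_smul]
    congr 2
    ring
  ext g
  constructor
  · rintro ⟨c, hc, hg⟩
    exact ⟨a ^ (q + 1) * c, by rw [mul_pow, hN, ← mul_add, hc, mul_zero], by rw [hg, hT]⟩
  · rintro ⟨c, hc, hg⟩
    refine ⟨(a ^ (q + 1))⁻¹ * c, by rw [mul_pow, inv_pow, hN, ← mul_add, hc, mul_zero], ?_⟩
    rw [hg, hT, ← mul_assoc, mul_inv_cancel₀ (pow_ne_zero _ ha), one_mul]

theorem tvu_eq_of_mem {v : Vec} (hv : H v v = 0) {g : Cfsg.SU n F q} (hg : g ∈ tvAt F q v) :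
    ∃ (c : F) (hc : c + c ^ q = 0), g = tvu hF hv hc := by
  obtain ⟨c, hc, hg⟩ := hg
  exact ⟨c, hc, SU_ext fun x => by rw [hg]; rfl⟩

theorem tvu_mul {v : Vec} (hv : H v v = 0) {c d : F} (hc : c + c ^ q = 0) (hd : d + d ^ q = 0) :
    tvu hF hv hc * tvu hF hv hd = tvu hF hv (c := c + d)
      (by rw [HermStd.add_pow_q hF]; linear_combination hc + hd) := by
  refine SU_ext fun x => ?_
  rw [mul_mulVec, tvu_mulVec, tvu_mulVec, tvu_mulVec, H_add_left, H_smul_left, hv]
  module

/-- The root group of an isotropic point. -/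
def rootGroup (p : IsoPt F q n) : Subgroup (Cfsg.SU n F q) where
  carrier := tvAt F q p.1.rep
  one_mem' := ⟨0, by rw [zero_pow (q_ne_zero hF), add_zero],
    mat_ext fun x => by rw [HermStd.transvection_mulVec, mat_one, one_mulVec]; simp⟩
  mul_mem' {a b} ha hb := by
    obtain ⟨c, hc, rfl⟩ := tvu_eq_of_mem hF p.2 ha
    obtain ⟨d, hd, rfl⟩ := tvu_eq_of_mem hF p.2 hb
    rw [tvu_mul hF p.2 hc hd]
    exact ⟨c + d, by rw [HermStd.add_pow_q hF]; linear_combination hc + hd, rfl⟩
  inv_mem' {a} ha := by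
    obtain ⟨c, hc, rfl⟩ := tvu_eq_of_mem hF p.2 ha
    have hc' : -c + (-c) ^ q = 0 := by
      rw [← HermStd.qHom_apply hF, map_neg, HermStd.qHom_apply]; linear_combination -hc
    have h1 : tvu hF p.2 hc * tvu hF p.2 hc' = 1 := by
      rw [tvu_mul hF p.2 hc hc']
      refine SU_ext fun x => ?_
      rw [tvu_mulVec, mat_one, one_mulVec]
      simp
    rw [← eq_inv_iff_mul_eq_one.2 (show tvu hF p.2 hc' * tvu hF p.2 hc = 1 by
      rw [mul_eq_one_iff_eq_inv] at h1; rw [h1, mul_inv_cancel])]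
    exact ⟨-c, hc', rfl⟩

theorem conj_rootGroup_le (g : Cfsg.SU n F q) (p : IsoPt F q n) :
    MulAut.conj g • rootGroup hF p ≤ rootGroup hF (g • p) := by
  rintro x ⟨y, hy, rfl⟩
  obtain ⟨c, hc, rfl⟩ := tvu_eq_of_mem hF p.2 hy
  show g * tvu hF p.2 hc * g⁻¹ ∈ tvAt F q (g • p).1.rep
  rw [tvu_conj hF g rfl p.2 (by rw [SU_H]; exact p.2) hc]
  obtain ⟨a, ha0, ha⟩ := rep_mk (mat g *ᵥ p.1.rep) (mat_mulVec_ne_zero g p.1.rep_nonzero)
  rw [show (g • p).1.rep = a • (mat g *ᵥ p.1.rep) from ha, tvAt_smul hF ha0]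
  exact ⟨c, hc, rfl⟩

/-- The Iwasawa structure of root groups. -/
noncomputable def suIwasawa (hn : 1 ≤ n) (h : ¬ (n = 3 ∧ q = 2)) :
    MulAction.IwasawaStructure (Cfsg.SU n F q) (IsoPt F q n) where
  T p := rootGroup hF p
  is_comm p := ⟨⟨fun a b => Subtype.ext (by
    obtain ⟨c, hc, ha⟩ := tvu_eq_of_mem hF p.2 a.2
    obtain ⟨d, hd, hb⟩ := tvu_eq_of_mem hF p.2 b.2
    simp only [Subgroup.coe_mul, ha, hb, tvu_mul hF p.2 hc hd, tvu_mul hF p.2 hd hc]
    exact SU_ext fun x => by rw [tvu_mulVec, tvu_mulVec, add_comm c d])⟩⟩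
  is_conj g p := le_antisymm (by
      have h1 := conj_rootGroup_le hF g⁻¹ (g • p)
      rw [inv_smul_smul, map_inv] at h1
      exact Subgroup.subset_pointwise_smul_iff.2 h1)
    (conj_rootGroup_le hF g p)
  is_generator := by
    rw [eq_top_iff, ← tvGroup_eq_top hF hn h, tvGroup, Subgroup.closure_le]
    rintro g ⟨v, c, hv, hc, hg⟩
    by_cases hv0 : v = 0
    · have : g = 1 := SU_ext fun x => by
        rw [hg, HermStd.transvection_mulVec, hv0, mat_one, one_mulVec]; simp
      rw [this]; exact one_mem _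
    refine Subgroup.mem_iSup_of_mem (pt v hv0 hv) ?_
    show g ∈ tvAt F q (pt v hv0 hv).1.rep
    obtain ⟨a, ha0, ha⟩ := rep_mk v hv0
    rw [show (pt v hv0 hv).1.rep = a • v from ha, tvAt_smul hF ha0]
    exact ⟨c, hc, hg⟩

theorem isSimpleGroup_PSU (hn : 3 ≤ n) (h : ¬ (n = 3 ∧ q = 2)) :
    IsSimpleGroup (Cfsg.PSU n F q) := by
  have := su_isPreprimitive hF hn
  refine Iwasawa.isSimpleGroup_center_quotient (suIwasawa hF (by omega) h)
    (commutator_SU_eq_top hF hn h) ?_ ?_
  · intro g hg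
    refine (mem_center_iff hF (by omega) g).2 ?_
    have hfix : ∀ u : Vec, u ≠ 0 → H u u = 0 → ∃ a : F, mat g *ᵥ u = a • u := by
      intro u hu huu
      have h1 := hg (pt u hu huu)
      rw [smul_pt] at h1
      obtain ⟨a, ha⟩ := pt_eq_pt.1 h1
      exact ⟨a, ha.symm⟩
    obtain ⟨u₀, hu₀, hu₀1, -, -⟩ := exists_isotropic_pair hF (n := n) ⟨0, by omega⟩ ⟨1, by omega⟩
      (by simp [Fin.ext_iff])
    have hu₀0 : u₀ ≠ 0 := fun h0 => by simp [h0] at hu₀1
    obtain ⟨l, hl⟩ := hfix u₀ hu₀0 hu₀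
    refine ⟨l, mat_ext fun x => ?_⟩
    have hiso : ∀ v : Vec, H v v = 0 → mat g *ᵥ v = l • v := by
      intro v hvv
      by_cases hv : v = 0
      · simp [hv]
      by_cases hp : pt u₀ hu₀0 hu₀ = pt v hv hvv
      · obtain ⟨a, ha⟩ := pt_eq_pt.1 hp
        have ha0 : a ≠ 0 := fun h0 => hu₀0 (by rw [← ha, h0, zero_smul])
        rw [← ha, Matrix.mulVec_smul, smul_smul] at hl
        refine smul_right_injective _ ha0 ?_
        show a • (mat g *ᵥ v) = a • (l • v)
        rw [hl, smul_smul, mul_comm]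
      obtain ⟨z, hz, hzz, h1, h2⟩ := exists_common hF hu₀0 hv hu₀ hvv (li_of_pt_ne hp)
      obtain ⟨b, hb⟩ := hfix v hv hvv
      obtain ⟨d, hd⟩ := hfix z hz hzz
      have e1 := SU_H g u₀ z
      have e2 := SU_H g v z
      rw [hl, hd, H_smul_left, H_smul_right] at e1
      rw [hb, hd, H_smul_left, H_smul_right] at e2
      rw [← mul_assoc] at e1 e2
      have e1' := mul_eq_right₀ h1 |>.1 e1
      have e2' := mul_eq_right₀ h2 |>.1 e2
      have hd0 : d ^ q ≠ 0 := fun h0 => by rw [h0, mul_zero] at e1'; exact zero_ne_one e1'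
      rw [hb, mul_right_cancel₀ hd0 (e2'.trans e1'.symm)]
    suffices hbasis : ∀ i, mat g *ᵥ Pi.single i 1 = l • Pi.single i 1 by
      rw [pi_eq_sum_univ' x, Matrix.mulVec_sum, Matrix.mulVec_sum]
      refine Finset.sum_congr rfl fun i _ => ?_
      rw [Matrix.mulVec_smul, Matrix.mulVec_smul, hbasis, Matrix.smul_mulVec, one_mulVec]
    intro i
    obtain ⟨j, hji⟩ : ∃ j : Fin n, j ≠ i := by
      by_cases h0 : i = ⟨0, by omega⟩
      · exact ⟨⟨1, by omega⟩, by rw [h0]; simp [Fin.ext_iff]⟩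
      · exact ⟨⟨0, by omega⟩, Ne.symm h0⟩
    obtain ⟨v, hv, hvj, hvi, hvk⟩ := exists_isotropic_pair hF j i hji
    obtain ⟨ζ, hζ, hζ1, -⟩ := exists_normOne_ne hF
    set v' := fun k => if k = j then ζ * v k else v k with hv'
    have hv'v : H v' v' = 0 := by
      rw [← hv]
      unfold Cfsg.hermForm
      refine Finset.sum_congr rfl fun k _ => ?_
      simp only [hv']
      split_ifs
      · linear_combination (v k * v k ^ q) * hζ
      · rfl
    have hdiff : v' - v = (ζ - 1) • (Pi.single j 1 : Vec) := by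
      funext k
      by_cases hk : k = j
      · subst hk; simp [hv', hvj]
      · simp [hv', hk]
    have hgj : mat g *ᵥ Pi.single j 1 = l • (Pi.single j 1 : Vec) := by
      refine smul_right_injective _ (sub_ne_zero.2 hζ1) ?_
      show (ζ - 1) • (mat g *ᵥ Pi.single j 1) = (ζ - 1) • (l • (Pi.single j 1 : Vec))
      rw [← Matrix.mulVec_smul, smul_comm, ← hdiff, Matrix.mulVec_sub, hiso _ hv'v, hiso _ hv,
        smul_sub]
    have hdiff2 : v - (Pi.single j 1 : Vec) = v i • (Pi.single i 1 : Vec) := by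
      funext k
      by_cases hk : k = j
      · subst hk; simp [hvj, hji]
      · by_cases hk' : k = i
        · subst hk'; simp [hk]
        · simp [hk, hk', hvk k hk hk']
    refine smul_right_injective _ hvi ?_
    show v i • (mat g *ᵥ Pi.single i 1) = v i • (l • (Pi.single i 1 : Vec))
    rw [← Matrix.mulVec_smul, smul_comm, ← hdiff2, Matrix.mulVec_sub, hiso _ hv, hgj, smul_sub]
  · obtain ⟨v, hv, hvi, -, -⟩ := exists_isotropic_pair hF (n := n) ⟨0, by omega⟩ ⟨1, by omega⟩
      (by simp [Fin.ext_iff])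
    have hv0 : v ≠ 0 := fun h0 => by simp [h0] at hvi
    obtain ⟨c, hc0, hc⟩ := exists_traceZero hF
    refine ⟨tvu hF hv hc, fun hz => ?_⟩
    obtain ⟨a, ha⟩ := (mem_center_iff hF (by omega) _).1 hz
    obtain ⟨s, hs, hvs⟩ := exists_partner hF hv0 hv
    have hsv : H s v = 1 := by rw [← H_conj hF, hvs, one_pow]
    have h1 := congrArg (fun x => H x s) (congrArg (· *ᵥ s) ha)
    simp only [tvu_mulVec, Matrix.smul_mulVec, one_mulVec, H_add_left, H_smul_left, hs, hsv,
      hvs] at h1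
    exact hc0 (by linear_combination h1)

end Cfsg.Agent.Classical.Unitary
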