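import Mathlib

/-!
# Jordan chains of nilpotent endomorphisms
-/

set_option autoImplicit false
set_option linter.unusedSectionVars false

namespace Cfsg.Agent.Classical.JordanChains

open Module

variable {F : Type*} [Field F] {V : Type*} [AddCommGroup V] [Module F V] [FiniteDimensional F V]

/-- the index set of the chains -/
abbrev Idx {t : ℕ} (d : Fin t → ℕ) : Type := (k : Fin t) × Fin (d k)

/-- `v` gives Jordan chains of `N` on `W` of lengths `d` -/
structure ChainsOn (N : V →ₗ[F] V) (W : Submodule F V) {t : ℕ} (d : Fin t → ℕ) (v : Fin t → V) :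
    Prop where
  pos : ∀ k, 1 ≤ d k
  mem : ∀ k, v k ∈ W
  kill : ∀ k, (N ^ d k) (v k) = 0
  li : LinearIndependent F fun i : Idx d => (N ^ (i.2 : ℕ)) (v i.1)
  span : W ≤ Submodule.span F (Set.range fun i : Idx d => (N ^ (i.2 : ℕ)) (v i.1))

theorem pow_mem {N : V →ₗ[F] V} {W : Submodule F V} (hW : ∀ x ∈ W, N x ∈ W) {x : V} (hx : x ∈ W) :
    ∀ j : ℕ, (N ^ j) x ∈ W := fun j => by
  induction j with
  | zero => simpa using hx
  | succ j ih => rw [pow_succ']; exact hW _ ih

theorem exists_chainsOn (N : V →ₗ[F] V) (hN : IsNilpotent N) (W : Submodule F V)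
    (hW : ∀ x ∈ W, N x ∈ W) : ∃ (t : ℕ) (d : Fin t → ℕ) (v : Fin t → V), ChainsOn N W d v := by
  classical
  induction hn : finrank F W using Nat.strong_induction_on generalizing W with
  | _ n ih =>
    by_cases hbot : W = ⊥
    · subst hbot
      exact ⟨0, Fin.elim0, Fin.elim0, fun k => k.elim0, fun k => k.elim0, fun k => k.elim0,
        linearIndependent_empty_type, bot_le⟩
    set W' : Submodule F V := W.map N with hW'
    have hle : W' ≤ W := by
      rintro _ ⟨x, hx, rfl⟩
      exact hW x hx
    have hlt : W' < W := by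
      refine lt_of_le_of_ne hle fun h => hbot ?_
      have hit : ∀ j : ℕ, W.map (N ^ j) = W := fun j => by
        induction j with
        | zero => simp [Module.End.one_eq_id]
        | succ j ihj =>
          rw [pow_succ', Module.End.mul_eq_comp, Submodule.map_comp, ihj]
          exact h
      obtain ⟨j, hj⟩ := hN
      rw [← hit j, hj, Submodule.map_zero]
    obtain ⟨t, d, u, hu⟩ := ih _ (hn ▸ Submodule.finrank_lt_finrank_of_lt hlt) W'
      (fun x hx => ⟨x, hle hx, rfl⟩) rfl
    have hv : ∀ k, ∃ x, x ∈ W ∧ N x = u k := fun k => hu.mem k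
    choose x hxW hx using hv
    -- bottom vectors of the old chains
    set K : Submodule F V := W ⊓ LinearMap.ker N with hK
    set T : Submodule F V := Submodule.span F (Set.range fun k => (N ^ (d k - 1)) (u k)) with hT
    have hTK : T ≤ K := by
      rw [hT, Submodule.span_le]
      rintro _ ⟨k, rfl⟩
      refine Submodule.mem_inf.2 ⟨pow_mem hW (hle (hu.mem k)) _, ?_⟩
      rw [LinearMap.mem_ker, ← Module.End.mul_apply, ← pow_succ',
        Nat.sub_add_cancel (hu.pos k), hu.kill]
    obtain ⟨C', hC'⟩ := Submodule.exists_isCompl T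
    set C : Submodule F V := C' ⊓ K with hC
    have hdisj : T ⊓ C = ⊥ := by
      rw [hC, ← inf_assoc, hC'.inf_eq_bot, bot_inf_eq]
    have hsup : T ⊔ C = K := by
      rw [hC, ← sup_inf_assoc_of_le _ hTK, hC'.sup_eq_top, top_inf_eq]
    obtain ⟨b⟩ : Nonempty (Basis (Fin (finrank F C)) F C) := ⟨Module.finBasis F C⟩
    let d' : Fin (t + finrank F C) → ℕ := Fin.addCases (fun k => d k + 1) fun _ => 1
    let v' : Fin (t + finrank F C) → V := Fin.addCases x fun l => (b l : V)
    have hCK : ∀ z : C, (z : V) ∈ W ∧ N z = 0 := fun z => by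
      have := (Submodule.mem_inf.1 z.2).2
      exact ⟨(Submodule.mem_inf.1 this).1, (Submodule.mem_inf.1 this).2⟩
    have hxpow : ∀ k (j : ℕ), (N ^ (j + 1)) (x k) = (N ^ j) (u k) := fun k j => by
      rw [pow_succ, Module.End.mul_apply, hx]
    refine ⟨_, d', v', fun k => ?_, fun k => ?_, fun k => ?_, ?_, ?_⟩
    · refine Fin.addCases (fun k => ?_) (fun l => ?_) k <;> simp [d']
    · refine Fin.addCases (fun k => ?_) (fun l => ?_) k
      · simpa [v'] using hxW k
      · simpa [v'] using (hCK (b l)).1
    · refine Fin.addCases (fun k => ?_) (fun l => ?_) k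
      · simp [d', v', hxpow, hu.kill]
      · simp [d', v', (hCK (b l)).2]
    · rw [Fintype.linearIndependent_iff]
      intro g hg
      rw [Fintype.sum_sigma, Fin.sum_univ_add] at hg
      -- coefficients
      let cL : (k : Fin t) → Fin (d k + 1) → F := fun k j =>
        g ⟨Fin.castAdd _ k, Fin.cast (by simp [d']) j⟩
      let cR : Fin (finrank F C) → F := fun l => g ⟨Fin.natAdd t l, Fin.cast (by simp [d']) (0 : Fin 1)⟩
      have e1 : ∀ k : Fin t, (∑ j : Fin (d' (Fin.castAdd (finrank F C) k)),
          g ⟨Fin.castAdd _ k, j⟩ • (N ^ (j : ℕ)) (v' (Fin.castAdd (finrank F C) k))) =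
          ∑ j : Fin (d k + 1), cL k j • (N ^ (j : ℕ)) (x k) := fun k =>
        (Fintype.sum_equiv (finCongr (by simp [d'])) _ _ fun j => by simp [cL, v']).symm.trans rfl
          |>.symm.symm
      have e2 : ∀ l : Fin (finrank F C), (∑ j : Fin (d' (Fin.natAdd t l)),
          g ⟨Fin.natAdd t l, j⟩ • (N ^ (j : ℕ)) (v' (Fin.natAdd t l))) = cR l • (b l : V) := fun l => by
        rw [Fintype.sum_equiv (finCongr (show d' (Fin.natAdd t l) = 1 by simp [d'])) _
          (fun j => cR l • (b l : V)) fun j => ?_]
        · simp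
        · have hj : j = Fin.cast (by simp [d']) (0 : Fin 1) := Fin.ext (by
            have := j.2
            simp [d'] at this ⊢
            omega)
          subst hj
          simp [cR, v']
      simp only [e1, e2] at hg
      have h1 : ∑ i : Idx d, cL i.1 i.2.castSucc • (N ^ (i.2 : ℕ)) (u i.1) = 0 := by
        have h := congrArg N hg
        simp only [map_add, map_sum, map_smul, map_zero, (hCK _).2, smul_zero,
          Finset.sum_const_zero, add_zero, ← Module.End.mul_apply, ← pow_succ', hxpow] at h
        rw [Fintype.sum_sigma]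
        rw [← h]
        refine Finset.sum_congr rfl fun k _ => ?_
        rw [Fin.sum_univ_castSucc]
        simp [hu.kill]
      have h2 := Fintype.linearIndependent_iff.1 hu.li _ h1
      have h3 : ∀ k, ∀ j : Fin (d k), cL k j.castSucc = 0 := fun k j => h2 ⟨k, j⟩
      simp only [Fin.sum_univ_castSucc, h3, zero_smul, Finset.sum_const_zero, zero_add,
        Fin.val_last] at hg
      have hmemT : ∑ k, cL k (Fin.last _) • (N ^ d k) (x k) ∈ T := Submodule.sum_mem _ fun k _ => by
        obtain ⟨e, he⟩ : ∃ e, d k = e + 1 := ⟨d k - 1, by have := hu.pos k; omega⟩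
        rw [show (N ^ d k) (x k) = (N ^ (d k - 1)) (u k) by rw [he, hxpow, Nat.add_sub_cancel]]
        exact Submodule.smul_mem _ _ (Submodule.subset_span ⟨k, rfl⟩)
      have hmemC : ∑ l, cR l • (b l : V) ∈ C :=
        Submodule.sum_mem _ fun l _ => Submodule.smul_mem _ _ (b l).2
      have hzC : ∑ l, cR l • (b l : V) = 0 := by
        have hmem : ∑ l, cR l • (b l : V) ∈ T ⊓ C := by
          refine Submodule.mem_inf.2 ⟨?_, hmemC⟩
          rw [eq_neg_of_add_eq_zero_right hg]
          exact T.neg_mem hmemT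
        rw [hdisj] at hmem
        simpa using hmem
      rw [hzC, add_zero] at hg
      have h4 : ∀ l, cR l = 0 := Fintype.linearIndependent_iff.1
        (b.linearIndependent.map' C.subtype C.ker_subtype) cR hzC
      have hlast : LinearIndependent F fun k => (N ^ (d k - 1)) (u k) :=
        hu.li.comp (fun k => (⟨k, ⟨d k - 1, by have := hu.pos k; omega⟩⟩ : Idx d)) fun a a' h =>
          congrArg Sigma.fst h
      have h5 : ∀ k, cL k (Fin.last _) = 0 := Fintype.linearIndependent_iff.1 hlast _ (by
        rw [← hg]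
        refine Finset.sum_congr rfl fun k _ => ?_
        obtain ⟨e, he⟩ : ∃ e, d k = e + 1 := ⟨d k - 1, by have := hu.pos k; omega⟩
        rw [show (N ^ d k) (x k) = (N ^ (d k - 1)) (u k) by rw [he, hxpow, Nat.add_sub_cancel]])
      rintro ⟨k, j⟩
      revert j
      refine Fin.addCases (fun k => ?_) (fun l => ?_) k
      · intro j
        have hc : ∀ j' : Fin (d k + 1), cL k j' = 0 := fun j' => by
          refine Fin.lastCases (h5 k) (fun j'' => h3 k j'') j'
        have := hc (Fin.cast (by simp [d']) j)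
        simpa [cL] using this
      · intro j
        have hj : j = Fin.cast (by simp [d']) (0 : Fin 1) := Fin.ext (by
          have := j.2
          simp [d'] at this ⊢
          omega)
        subst hj
        exact h4 l
    · set S := Submodule.span F (Set.range fun i : Idx d' => (N ^ (i.2 : ℕ)) (v' i.1)) with hS
      have hgenL : ∀ k, ∀ j : ℕ, j ≤ d k → (N ^ j) (x k) ∈ S := fun k j hj => by
        refine Submodule.subset_span ⟨⟨Fin.castAdd _ k, ⟨j, by simp [d']; omega⟩⟩, ?_⟩
        simp [v']
      have hTS : T ≤ S := by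
        rw [hT, Submodule.span_le]
        rintro _ ⟨k, rfl⟩
        have := hu.pos k
        show (N ^ (d k - 1)) (u k) ∈ S
        rw [← hxpow k (d k - 1)]
        exact hgenL k _ (by omega)
      have hCS : C ≤ S := by
        intro z hz
        have := congrArg Subtype.val (b.sum_repr ⟨z, hz⟩)
        rw [Submodule.coe_sum] at this
        rw [show z = _ from this.symm]
        refine Submodule.sum_mem _ fun l _ => ?_
        refine Submodule.smul_mem _ _ (Submodule.subset_span ⟨⟨Fin.natAdd t l, ⟨0, by simp [d']⟩⟩, ?_⟩)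
        simp [v']
      intro w hw
      have hNw : N w ∈ Submodule.span F (Set.range fun i : Idx d => (N ^ (i.2 : ℕ)) (u i.1)) :=
        hu.span ⟨w, hw, rfl⟩
      obtain ⟨c, hc⟩ := (Submodule.mem_span_range_iff_exists_fun F).1 hNw
      set z := ∑ i : Idx d, c i • (N ^ (i.2 : ℕ)) (x i.1) with hz
      have hzS : z ∈ S := Submodule.sum_mem _ fun i _ =>
        Submodule.smul_mem _ _ (hgenL _ _ (by omega))
      have hzW : z ∈ W := Submodule.sum_mem _ fun i _ =>
        Submodule.smul_mem _ _ (pow_mem hW (hxW _) _)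
      have hwz : w - z ∈ K := by
        refine Submodule.mem_inf.2 ⟨W.sub_mem hw hzW, ?_⟩
        rw [LinearMap.mem_ker, map_sub, hz, map_sum, ← hc, sub_eq_zero]
        refine Finset.sum_congr rfl fun i _ => ?_
        rw [map_smul, ← Module.End.mul_apply, ← pow_succ', hxpow]
      rw [← sub_add_cancel w z]
      refine S.add_mem (sup_le hTS hCS ?_) hzS
      rwa [hsup]

/-- chains of a nilpotent endomorphism of the whole space -/
def Chains (N : V →ₗ[F] V) {t : ℕ} (d : Fin t → ℕ) (v : Fin t → V) : Prop := ChainsOn N ⊤ d v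

theorem exists_chains (N : V →ₗ[F] V) (hN : IsNilpotent N) :
    ∃ (t : ℕ) (d : Fin t → ℕ) (v : Fin t → V), Chains N d v :=
  exists_chainsOn N hN ⊤ fun _ _ => trivial

variable {N : V →ₗ[F] V} {t : ℕ} {d : Fin t → ℕ} {v : Fin t → V}

/-- the basis given by chains -/
noncomputable def Chains.basis (h : Chains N d v) : Basis (Idx d) F V := Basis.mk h.li h.span

theorem Chains.basis_apply (h : Chains N d v) (i : Idx d) :
    h.basis i = (N ^ (i.2 : ℕ)) (v i.1) := Basis.mk_apply _ _ _

theorem Chains.finrank_eq (h : Chains N d v) : finrank F V = ∑ k, d k := by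
  rw [finrank_eq_card_basis h.basis, Fintype.card_sigma]
  simp

theorem pow_eq_zero_of_le {x : V} {a b : ℕ} (h : (N ^ a) x = 0) (hab : a ≤ b) : (N ^ b) x = 0 := by
  rw [show b = (b - a) + a by omega, pow_add, Module.End.mul_apply, h, map_zero]

theorem Chains.finrank_range_pow (h : Chains N d v) (i : ℕ) :
    finrank F (LinearMap.range (N ^ i)) = ∑ k, (d k - i) := by
  classical
  let φ : (k : Fin t) × Fin (d k - i) → Idx d := fun a => ⟨a.1, ⟨(a.2 : ℕ) + i, by omega⟩⟩
  have hφ : Function.Injective φ := by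
    rintro ⟨k, j⟩ ⟨k', j'⟩ e
    simp only [φ, Sigma.mk.injEq] at e
    obtain ⟨rfl, e⟩ := e
    simp only [heq_eq_eq, Fin.mk.injEq, add_left_inj] at e
    rw [Fin.ext e]
  have hr : LinearMap.range (N ^ i) =
      Submodule.span F (Set.range fun a => h.basis (φ a)) := by
    rw [LinearMap.range_eq_map, ← h.basis.span_eq, Submodule.map_span, ← Set.range_comp]
    refine le_antisymm (Submodule.span_le.2 ?_) (Submodule.span_le.2 ?_)
    · rintro _ ⟨a, rfl⟩
      rw [SetLike.mem_coe, Function.comp_apply, h.basis_apply, ← Module.End.mul_apply, ← pow_add]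
      by_cases hj : i + (a.2 : ℕ) < d a.1
      · refine Submodule.subset_span ⟨⟨a.1, ⟨a.2, by omega⟩⟩, ?_⟩
        simp only [φ, h.basis_apply, add_comm i]
      · rw [pow_eq_zero_of_le (h.kill a.1) (by omega)]
        exact zero_mem _
    · rintro _ ⟨a, rfl⟩
      refine Submodule.subset_span ⟨⟨a.1, ⟨a.2, by omega⟩⟩, ?_⟩
      simp only [φ, Function.comp_apply, h.basis_apply, ← Module.End.mul_apply, ← pow_add, add_comm i]
  have hli : LinearIndependent F fun a => h.basis (φ a) := h.basis.linearIndependent.comp φ hφ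
  rw [hr, finrank_span_eq_card hli, Fintype.card_sigma]
  simp

theorem Chains.pow_eq_zero_iff (h : Chains N d v) (p : ℕ) : N ^ p = 0 ↔ ∀ k, d k ≤ p := by
  rw [← LinearMap.range_eq_bot, ← Submodule.finrank_eq_zero, h.finrank_range_pow,
    Finset.sum_eq_zero_iff]
  simp [Nat.sub_eq_zero_iff_le]

/-- the multiset of chain lengths -/
def parts {t : ℕ} (d : Fin t → ℕ) : Multiset ℕ := (Finset.univ : Finset (Fin t)).val.map d

theorem count_parts {t : ℕ} (d : Fin t → ℕ) (a : ℕ) :
    (parts d).count a = (Finset.univ.filter fun k => d k = a).card := by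
  rw [parts, Multiset.count_map, Finset.card_def, Finset.filter_val]
  congr 1
  exact Multiset.filter_congr fun x _ => eq_comm

theorem Chains.parts_eq {t' : ℕ} {d' : Fin t' → ℕ} {v' : Fin t' → V} (h : Chains N d v)
    (h' : Chains N d' v') : parts d = parts d' := by
  classical
  have hr : ∀ i, ∑ k, (d k - i) = ∑ k, (d' k - i) := fun i => by
    rw [← h.finrank_range_pow, ← h'.finrank_range_pow]
  have key : ∀ {t : ℕ} (d : Fin t → ℕ) (a : ℕ), 1 ≤ a →
      (parts d).count a + 2 * ∑ k, (d k - a) = ∑ k, (d k - (a - 1)) + ∑ k, (d k - (a + 1)) := by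
    intro t d a ha
    rw [count_parts, Finset.card_filter, Finset.mul_sum, ← Finset.sum_add_distrib,
      ← Finset.sum_add_distrib]
    refine Finset.sum_congr rfl fun k _ => ?_
    split_ifs <;> omega
  ext a
  by_cases ha : a = 0
  · subst ha
    rw [count_parts, count_parts, Finset.filter_eq_empty_iff.2 fun k _ => ?_,
      Finset.filter_eq_empty_iff.2 fun k _ => ?_]
    · simp
    · have := h'.pos k; omega
    · have := h.pos k; omega
  · have h1 := key d a (by omega)
    have h2 := key d' a (by omega)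
    rw [hr, hr, hr] at h1
    omega

/-- two nilpotent endomorphisms with equal chain lengths are conjugate -/
theorem Chains.exists_conj {N' : V →ₗ[F] V} {t' : ℕ} {d' : Fin t' → ℕ} {v' : Fin t' → V}
    (h : Chains N d v) (h' : Chains N' d' v') (hp : parts d = parts d') :
    ∃ g : V ≃ₗ[F] V, ∀ x, g (N x) = N' (g x) := by
  classical
  have hfib : ∀ a, Nat.card {k // d k = a} = Nat.card {k // d' k = a} := fun a => by
    rw [Nat.card_eq_fintype_card, Nat.card_eq_fintype_card, Fintype.card_subtype,
      Fintype.card_subtype, ← count_parts, ← count_parts, hp]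
  let σ : Fin t ≃ Fin t' := Equiv.ofFiberEquiv (f := d) (g := d') fun a =>
    (Finite.card_eq.1 (hfib a)).some
  have hσ : ∀ k, d' (σ k) = d k := fun k => Equiv.ofFiberEquiv_map _ k
  let φ : Idx d ≃ Idx d' := Equiv.sigmaCongr σ fun k => finCongr (hσ k).symm
  let g : V ≃ₗ[F] V := h.basis.equiv h'.basis φ
  refine ⟨g, fun x => ?_⟩
  have key : g.toLinearMap ∘ₗ N = N' ∘ₗ g.toLinearMap := by
    refine h.basis.ext fun i => ?_
    have hg : ∀ (k : Fin t) (j : ℕ) (hj : j < d k), g ((N ^ j) (v k)) = (N' ^ j) (v' (σ k)) := by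
      intro k j hj
      rw [← h.basis_apply ⟨k, ⟨j, hj⟩⟩, Basis.equiv_apply, h'.basis_apply]
      rfl
    rw [LinearMap.comp_apply, LinearMap.comp_apply, h.basis_apply, LinearEquiv.coe_coe,
      hg _ _ i.2.2, ← Module.End.mul_apply, ← Module.End.mul_apply, ← pow_succ', ← pow_succ']
    by_cases hj : (i.2 : ℕ) + 1 < d i.1
    · exact hg _ _ hj
    · rw [pow_eq_zero_of_le (h.kill i.1) (by omega), map_zero,
        pow_eq_zero_of_le (h'.kill (σ i.1)) (by rw [hσ]; omega)]
  exact LinearMap.congr_fun key x

/-- chains transported along a conjugation -/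
theorem Chains.map {N' : V →ₗ[F] V} (h : Chains N d v) (g : V ≃ₗ[F] V)
    (hg : ∀ x, g (N x) = N' (g x)) : Chains N' d fun k => g (v k) := by
  have hpow : ∀ (j : ℕ) x, g ((N ^ j) x) = (N' ^ j) (g x) := fun j => by
    induction j with
    | zero => simp
    | succ j ih =>
      intro x
      rw [pow_succ', pow_succ', Module.End.mul_apply, Module.End.mul_apply, hg, ih]
  refine ⟨h.pos, fun _ => trivial, fun k => by rw [← hpow, h.kill, map_zero], ?_, ?_⟩
  · simp only [← hpow]
    exact h.li.map' g.toLinearMap g.ker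
  · simp only [← hpow]
    rw [show (fun i : Idx d => g ((N ^ (i.2 : ℕ)) (v i.1))) = g ∘ fun i : Idx d => (N ^ (i.2 : ℕ)) (v i.1)
      from rfl, Set.range_comp, ← LinearEquiv.coe_coe, Submodule.span_image,
      top_le_iff.1 h.span, Submodule.map_top, LinearEquiv.range]

end Cfsg.Agent.Classical.JordanChains
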