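import Mathlib
import Cfsg.Agent.Lib.Classical.Linear
import Cfsg.Agent.Lib.Classical.GL2

/-!
# Facts about `SL` used for the small orthogonal groups
-/

set_option autoImplicit false

namespace Cfsg.Agent.Classical.SL2Rep

open Matrix

variable {F : Type*} [Field F] {n : Type*} [Fintype n] [DecidableEq n]

theorem transvection_pow {i j : n} (h : i ≠ j) (c : F) (k : ℕ) :
    (SpecialLinearGroup.transvection h c) ^ k =
      (SpecialLinearGroup.transvection h ((k : F) * c) : SpecialLinearGroup n F) := by
  induction k with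
  | zero => exact GL2.sl_ext (by simp [SpecialLinearGroup.transvection_coe])
  | succ k ih =>
    rw [pow_succ, ih]
    refine GL2.sl_ext ?_
    rw [Matrix.SpecialLinearGroup.coe_mul, SpecialLinearGroup.transvection_coe,
      SpecialLinearGroup.transvection_coe, SpecialLinearGroup.transvection_coe]
    simp [add_mul, mul_add, h.symm, ← add_assoc, Matrix.single_add]

theorem transvectionSet_pow : ∀ s ∈ Linear.transvectionSet n F, s ^ ringChar F = 1 := by
  rintro _ ⟨i, j, h, c, rfl⟩
  rw [transvection_pow, ringChar.Nat.cast_ringChar, zero_mul]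
  exact GL2.sl_ext (by simp [SpecialLinearGroup.transvection_coe])

theorem odd_ringChar [Fintype F] (hodd : Odd (Fintype.card F)) : Odd (ringChar F) := by
  refine hodd.of_dvd_nat ?_
  exact (ringChar.spec F (Fintype.card F)).1 (Nat.cast_card_eq_zero F)

/-- Membership in the centre of `SL₂`. -/
theorem mem_center_two (g : SpecialLinearGroup (Fin 2) F) :
    g ∈ Subgroup.center (SpecialLinearGroup (Fin 2) F) ↔
      g 0 1 = 0 ∧ g 1 0 = 0 ∧ g 0 0 = g 1 1 := by
  rw [Matrix.SpecialLinearGroup.mem_center_iff]
  constructor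
  · rintro ⟨r, -, hr⟩
    have h := fun i j => congrFun (congrFun hr i) j
    refine ⟨(h 0 1).symm.trans (by simp), (h 1 0).symm.trans (by simp), ?_⟩
    exact (h 0 0).symm.trans ((by simp : _ = r).trans ((by simp : r = _).trans (h 1 1)))
  · rintro ⟨h01, h10, h⟩
    refine ⟨g 0 0, ?_, ?_⟩
    · have hd := g.2
      rw [det_fin_two, h01, h10, ← h] at hd
      rw [Fintype.card_fin]
      linear_combination hd
    · ext i j
      fin_cases i <;> fin_cases j <;> simp [h01, h10, ← h]

theorem exists_sq_ne_one [Fintype F] (h : 4 ≤ Fintype.card F) : ∃ a : F, a ≠ 0 ∧ a ^ 2 ≠ 1 := by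
  by_contra hc
  push Not at hc
  classical
  have hsub : (Finset.univ : Finset F) ⊆ {0, 1, -1} := fun a _ => by
    by_cases ha : a = 0
    · simp [ha]
    · rcases sq_eq_one_iff.1 (hc a ha) with h1 | h1 <;> simp [h1]
  have := (Finset.card_le_card hsub).trans Finset.card_le_three
  rw [Finset.card_univ] at this
  omega

theorem commutator_two_eq_top [Fintype F] (h : 4 ≤ Fintype.card F) :
    commutator (SpecialLinearGroup (Fin 2) F) = ⊤ := by
  obtain ⟨a, ha, ha2⟩ := exists_sq_ne_one (F := F) h
  exact SL2.commutator_eq_top ha ha2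

end Cfsg.Agent.Classical.SL2Rep
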