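import Mathlib
import Cfsg.Agent.Lib.Classical.Linear

/-!
# Tools for the small isomorphisms among linear, alternating and symmetric groups
-/

namespace Cfsg.Agent.Classical.SmallIso

open Matrix
open scoped MatrixGroups

variable {n : Type*} [Fintype n] [DecidableEq n]

/-- `SL n` of a ring isomorphism. -/
def slCongr {R S : Type*} [CommRing R] [CommRing S] (e : R ≃+* S) :
    Matrix.SpecialLinearGroup n R ≃* Matrix.SpecialLinearGroup n S where
  toFun := Matrix.SpecialLinearGroup.map e.toRingHom
  invFun := Matrix.SpecialLinearGroup.map e.symm.toRingHom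
  left_inv g := by ext i j; simp
  right_inv g := by ext i j; simp
  map_mul' := map_mul _

theorem center_map_mulEquiv {G H : Type*} [Group G] [Group H] (e : G ≃* H) :
    (Subgroup.center G).map e.toMonoidHom = Subgroup.center H := by
  ext x
  constructor
  · rintro ⟨y, hy, rfl⟩
    refine Subgroup.mem_center_iff.2 fun z => ?_
    obtain ⟨w, rfl⟩ := e.surjective z
    simp only [MulEquiv.coe_toMonoidHom, ← map_mul]
    rw [Subgroup.mem_center_iff.1 hy w]
  · intro hx
    obtain ⟨y, rfl⟩ := e.surjective x
    refine ⟨y, Subgroup.mem_center_iff.2 fun z => e.injective ?_, rfl⟩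
    rw [map_mul, map_mul, Subgroup.mem_center_iff.1 hx (e z)]

/-- Isomorphic groups have isomorphic central quotients. -/
def centerQuotientCongr {G H : Type*} [Group G] [Group H] (e : G ≃* H) :
    G ⧸ Subgroup.center G ≃* H ⧸ Subgroup.center H :=
  QuotientGroup.congr _ _ e (center_map_mulEquiv e)

/-- `PSL n` of a ring isomorphism. -/
def pslCongr {R S : Type*} [CommRing R] [CommRing S] (e : R ≃+* S) :
    Matrix.ProjectiveSpecialLinearGroup n R ≃* Matrix.ProjectiveSpecialLinearGroup n S :=
  centerQuotientCongr (slCongr e)

/-- A permutation representation of index two is the alternating group. -/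
theorem nonempty_mulEquiv_alternating {G α : Type*} [Group G] [Fintype α] [DecidableEq α]
    [Nontrivial α] (f : G →* Equiv.Perm α) (hf : Function.Injective f)
    (hc : 2 * Nat.card G = (Fintype.card α).factorial) :
    Nonempty (G ≃* alternatingGroup α) := by
  have hcard : Nat.card f.range = Nat.card G :=
    (Nat.card_congr (MonoidHom.ofInjective hf).toEquiv).symm
  have hidx : f.range.index = 2 := by
    have h := f.range.card_mul_index
    rw [hcard, Nat.card_perm, Nat.card_eq_fintype_card (α := α), ← hc, mul_comm 2] at h
    refine Nat.eq_of_mul_eq_mul_left ?_ h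
    have := Nat.factorial_pos (Fintype.card α)
    omega
  exact ⟨(MonoidHom.ofInjective hf).trans
    (MulEquiv.subgroupCongr (Equiv.Perm.eq_alternatingGroup_of_index_eq_two hidx))⟩

theorem natCard_projectivization_two (F : Type*) [Field F] [Fintype F] :
    Nat.card (Projectivization F (Fin 2 → F)) = Fintype.card F + 1 := by
  rw [Projectivization.card_of_finrank_two _ _ (by simp), Nat.card_eq_fintype_card]

theorem natCard_projectivization (F : Type*) [Field F] [Fintype F] (k : ℕ) :
    Nat.card (Projectivization F (Fin k → F)) = ∑ i ∈ Finset.range k, Fintype.card F ^ i := by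
  rw [Projectivization.card_of_finrank F (Fin k → F) (Module.finrank_fin_fun F),
    Nat.card_eq_fintype_card]

/-- `PSL₂` embeds in the symmetric group on `|F| + 1` letters. -/
theorem exists_pslTwo_hom (F : Type*) [Field F] [Fintype F] (m : ℕ) (hm : m = Fintype.card F + 1) :
    ∃ f : Matrix.ProjectiveSpecialLinearGroup (Fin 2) F →* Equiv.Perm (Fin m),
      Function.Injective f := by
  subst hm
  have e := (Finite.equivFinOfCardEq (natCard_projectivization_two F))
  exact ⟨e.permCongrHom.toMonoidHom.comp Projectivization.PSLAction.toPermHom,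
    e.permCongrHom.injective.comp Matrix.ProjectiveSpecialLinearGroup.toPermHom_injective⟩

theorem natCard_pslTwo (F : Type*) [Field F] [Fintype F] :
    Nat.gcd 2 (Fintype.card F - 1) * Nat.card (Matrix.ProjectiveSpecialLinearGroup (Fin 2) F) =
      Nat.card (Matrix.SpecialLinearGroup (Fin 2) F) :=
  Linear.gcd_mul_natCard_PSL_fin (by norm_num)

end Cfsg.Agent.Classical.SmallIso
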