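import Mathlib
import Cfsg.Agent.Lib.Classical.Torus

/-!
# The orthogonal groups in dimension two are dihedral
-/

namespace Cfsg.Agent.Classical.DihedralO2

open Matrix QuadraticAlgebra
open scoped MatrixGroups

set_option linter.unusedSectionVars false
set_option linter.unusedSimpArgs false

variable {F : Type*} [Field F]

theorem orderOf_val_of_generator {C : Type*} [Group C] [IsCyclic C] :
    ∃ g : C, orderOf g = Nat.card C ∧ ∀ z : C, z ∈ Subgroup.zpowers g := by
  obtain ⟨g, hg⟩ := IsCyclic.exists_generator (α := C)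
  exact ⟨g, orderOf_eq_card_of_forall_mem_zpowers hg, hg⟩

/-- `G` is dihedral when it is generated by an injective image of a cyclic group and an
inverting involution outside. -/
theorem nonempty_dihedral {G C : Type*} [Group G] [Group C] [IsCyclic C] {m : ℕ} (hm : Nat.card C = m)
    (T : C →* G) (hT : Function.Injective T) (y : G) (hy : y * y = 1)
    (hconj : ∀ c, y * T c * y⁻¹ = T c⁻¹) (hout : ∀ c, T c ≠ y)
    (hall : ∀ g : G, ∃ c, g = T c ∨ g = T c * y) : Nonempty (G ≃* DihedralGroup m) := by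
  obtain ⟨g, hg, hgen⟩ := orderOf_val_of_generator (C := C)
  obtain ⟨f, hf, hfx, hfy⟩ := CyclicExt.exists_dihedral_hom (n := m) (T g) y
    (by rw [orderOf_injective T hT, hg, hm]) hy (by rw [hconj, map_inv]) (by
      rintro ⟨k, hk⟩
      exact hout (g ^ k) ((map_zpow T g k).trans hk))
  have hsurj : Function.Surjective f := by
    intro z
    have hT' : ∀ c, T c ∈ f.range := by
      intro c
      obtain ⟨k, rfl⟩ := hgen c
      rw [show T ((fun x : ℤ => g ^ x) k) = T g ^ k from map_zpow T g k]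
      exact zpow_mem hfx k
    obtain ⟨c, hc | hc⟩ := hall z
    · exact hc ▸ hT' c
    · exact hc ▸ mul_mem (hT' c) hfy
  exact ⟨(MulEquiv.ofBijective f ⟨hf, hsurj⟩).symm⟩

/-- The swap of two coordinates. -/
def swapMat : GL (Fin 2) F := GeneralLinearGroup.mkOfDetNeZero !![0, 1; 1, 0] (by simp [det_fin_two])

/-- The split torus in `GL₂`. -/
def diagGL : Fˣ →* GL (Fin 2) F := SpecialLinearGroup.toGL.comp Torus.diagHom

theorem coe_diagGL (a : Fˣ) :
    (diagGL a : Matrix (Fin 2) (Fin 2) F) = !![(a : F), 0; 0, (a⁻¹ : Fˣ)] := rfl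

theorem exists_of_preserves_mul (g : GL (Fin 2) F)
    (h : ∀ v : Fin 2 → F, ((g : Matrix (Fin 2) (Fin 2) F) *ᵥ v) 0 *
      ((g : Matrix (Fin 2) (Fin 2) F) *ᵥ v) 1 = v 0 * v 1) :
    ∃ c : Fˣ, g = diagGL c ∨ g = diagGL c * swapMat := by
  have h0 := h ![1, 0]
  have h1 := h ![0, 1]
  have h2 := h ![1, 1]
  simp [mulVec, dotProduct, Fin.sum_univ_two] at h0 h1 h2
  have hd : (g : Matrix (Fin 2) (Fin 2) F).det ≠ 0 := (GeneralLinearGroup.det g).ne_zero
  rw [det_fin_two] at hd
  by_cases h00 : g 0 0 = 0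
  · have h10 : g 1 0 ≠ 0 := fun h' => hd (by simp [h00, h'])
    have h01 : g 0 1 ≠ 0 := fun h' => hd (by simp [h00, h'])
    have h11 : g 1 1 = 0 := h1.resolve_left h01
    have hp : g 0 1 * g 1 0 = 1 := by rw [h00, h11] at h2; simpa using h2
    refine ⟨Units.mkOfMulEqOne _ _ hp, Or.inr (Units.ext ?_)⟩
    simp only [Units.val_mul, coe_diagGL, swapMat, GeneralLinearGroup.val_mkOfDetNeZero]
    ext i j
    fin_cases i <;> fin_cases j <;> simp [h00, h11, Matrix.mul_apply, Fin.sum_univ_two]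
    exact eq_inv_of_mul_eq_one_right hp
  · have h10 : g 1 0 = 0 := h0.resolve_left h00
    have h11 : g 1 1 ≠ 0 := fun h' => hd (by simp [h10, h'])
    have h01 : g 0 1 = 0 := h1.resolve_right h11
    have hp : g 0 0 * g 1 1 = 1 := by rw [h01, h10] at h2; simpa using h2
    refine ⟨Units.mkOfMulEqOne _ _ hp, Or.inl (Units.ext ?_)⟩
    simp only [coe_diagGL]
    ext i j
    fin_cases i <;> fin_cases j <;> simp [h01, h10]
    exact eq_inv_of_mul_eq_one_right hp

theorem diagGL_conj (c : Fˣ) : swapMat * diagGL c * swapMat⁻¹ = (diagGL c⁻¹ : GL (Fin 2) F) := by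
  rw [mul_inv_eq_iff_eq_mul]
  refine Units.ext ?_
  simp only [Units.val_mul, coe_diagGL, swapMat, GeneralLinearGroup.val_mkOfDetNeZero, inv_inv]
  ext i j
  fin_cases i <;> fin_cases j <;> simp [Matrix.mul_apply, Fin.sum_univ_two]

theorem swapMat_mul_self : (swapMat * swapMat : GL (Fin 2) F) = 1 := by
  refine Units.ext ?_
  simp only [Units.val_mul, swapMat, GeneralLinearGroup.val_mkOfDetNeZero, Units.val_one]
  ext i j
  fin_cases i <;> fin_cases j <;> simp [Matrix.mul_apply, Fin.sum_univ_two]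

section minus

variable {A B : F}

/-- The conjugation in `GL₂`. -/
def starGL (B : F) : GL (Fin 2) F :=
  GeneralLinearGroup.mkOfDetNeZero (Torus.starMat B) (by rw [Torus.det_starMat]; norm_num)

theorem mulMat_col (z : QuadraticAlgebra F A B) (v : Fin 2 → F) :
    Torus.mulMat z *ᵥ v = ![(z * ⟨v 0, v 1⟩ : QuadraticAlgebra F A B).re,
      (z * ⟨v 0, v 1⟩ : QuadraticAlgebra F A B).im] := by
  ext i
  fin_cases i <;>
    simp [Torus.mulMat_apply, mulVec, dotProduct, Fin.sum_univ_two] <;> ring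

theorem exists_of_preserves_norm [Finite F] [hA : Fact (∀ r, r ^ 2 ≠ A + B * r)] (g : GL (Fin 2) F)
    (h : ∀ v : Fin 2 → F,
      QuadraticAlgebra.norm (⟨((g : Matrix (Fin 2) (Fin 2) F) *ᵥ v) 0,
        ((g : Matrix (Fin 2) (Fin 2) F) *ᵥ v) 1⟩ : QuadraticAlgebra F A B) =
      QuadraticAlgebra.norm (⟨v 0, v 1⟩ : QuadraticAlgebra F A B)) :
    ∃ z : Torus.normOne F A B,
      g = Torus.unitMat z.1 ∨ g = Torus.unitMat z.1 * starGL B := by
  have hz : QuadraticAlgebra.norm (⟨g 0 0, g 1 0⟩ : QuadraticAlgebra F A B) = 1 := by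
    have := h ![1, 0]
    simp [mulVec, dotProduct, Fin.sum_univ_two] at this
    simpa [QuadraticAlgebra.norm_def] using this
  have hu : (⟨g 0 0, g 1 0⟩ : QuadraticAlgebra F A B) ≠ 0 := by
    intro h0; rw [h0, QuadraticAlgebra.norm_zero] at hz; exact zero_ne_one hz
  let z : Torus.normOne F A B := ⟨Units.mk0 _ hu, Torus.mem_normOne.2 hz⟩
  set k := (Torus.unitMat z.1)⁻¹ * g with hk
  set w : QuadraticAlgebra F A B := ((z.1⁻¹ : (QuadraticAlgebra F A B)ˣ) : QuadraticAlgebra F A B)
    with hw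
  have hk1 : ∀ v, (k : Matrix (Fin 2) (Fin 2) F) *ᵥ v =
      Torus.mulMat w *ᵥ ((g : Matrix (Fin 2) (Fin 2) F) *ᵥ v) := by
    intro v
    rw [hk, ← map_inv, Units.val_mul, ← Matrix.mulVec_mulVec]
    rfl
  have hnw : QuadraticAlgebra.norm w = 1 := Torus.mem_normOne.1 (z⁻¹).2
  have hkn : ∀ v : Fin 2 → F,
      QuadraticAlgebra.norm (⟨((k : Matrix (Fin 2) (Fin 2) F) *ᵥ v) 0,
        ((k : Matrix (Fin 2) (Fin 2) F) *ᵥ v) 1⟩ : QuadraticAlgebra F A B) =
      QuadraticAlgebra.norm (⟨v 0, v 1⟩ : QuadraticAlgebra F A B) := by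
    intro v
    rw [hk1, mulMat_col]
    simp only [cons_val_zero, cons_val_one, QuadraticAlgebra.mk_eta, map_mul, hnw, one_mul]
    exact h v
  have hwz : w * (⟨g 0 0, g 1 0⟩ : QuadraticAlgebra F A B) = 1 := Units.inv_mul z.1
  have hcol0 : k 0 0 = 1 ∧ k 1 0 = 0 := by
    have e := hk1 ![1, 0]
    rw [mulMat_col] at e
    have e0 := congrFun e 0
    have e1 := congrFun e 1
    simp [mulVec, dotProduct, Fin.sum_univ_two] at e0 e1
    constructor
    · rw [e0]; simpa using congrArg QuadraticAlgebra.re hwz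
    · rw [e1]; simpa using congrArg QuadraticAlgebra.im hwz
  obtain ⟨hk00, hk10⟩ := hcol0
  have e01 := hkn ![0, 1]
  have e11 := hkn ![1, 1]
  simp [mulVec, dotProduct, Fin.sum_univ_two, hk00, hk10, QuadraticAlgebra.norm_def] at e01 e11
  set u := k 0 1 with hu'
  set t := k 1 1 with ht
  have hlin : 2 * u + B * t = B := by linear_combination e11 - e01
  have hdisc : B ^ 2 + 4 * A ≠ 0 := by
    intro hd
    by_cases h2 : (2 : F) = 0
    · have hB : B = 0 := by
        have : B ^ 2 = 0 := by linear_combination hd - 2 * A * h2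
        exact pow_eq_zero_iff two_ne_zero |>.1 this
      let _ : Fintype F := Fintype.ofFinite F
      obtain ⟨r, hr⟩ := FiniteField.isSquare_of_char_two
        (by
          by_contra hc; exact Ring.two_ne_zero hc h2) A
      exact hA.out r (by rw [hB, hr]; ring)
    · exact hA.out (B / 2) (by field_simp; linear_combination (-1 : F) * hd)
  have ht2 : t = 1 ∨ t = -1 := by
    rw [← mul_self_eq_one_iff]
    have : (t * t - 1) * (B ^ 2 + 4 * A) = 0 := by
      linear_combination (2 * u + B * t + B) * hlin - 4 * e01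
    exact sub_eq_zero.1 ((mul_eq_zero.1 this).resolve_right hdisc)
  have hcases : (u = 0 ∧ t = 1) ∨ (u = B ∧ t = -1) := by
    by_cases h2 : (2 : F) = 0
    · have h1n : (-1 : F) = 1 := by linear_combination (-1 : F) * h2
      have ht1 : t = 1 := by rcases ht2 with h' | h'; exacts [h', h'.trans h1n]
      rw [ht1] at e01
      have : u * (u + B) = 0 := by linear_combination e01
      rcases mul_eq_zero.1 this with h' | h'
      · exact Or.inl ⟨h', ht1⟩
      · exact Or.inr ⟨by linear_combination h' - B * h2, by rw [ht1, h1n]⟩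
    · rcases ht2 with h' | h'
      · refine Or.inl ⟨?_, h'⟩
        have : 2 * u = 0 := by linear_combination hlin - B * h'
        exact (mul_eq_zero.1 this).resolve_left h2
      · refine Or.inr ⟨?_, h'⟩
        have : 2 * (u - B) = 0 := by linear_combination hlin - B * h'
        exact sub_eq_zero.1 ((mul_eq_zero.1 this).resolve_left h2)
  refine ⟨z, ?_⟩
  rcases hcases with ⟨hu0, ht1⟩ | ⟨hu0, ht1⟩
  · left
    have : k = 1 := by
      refine Units.ext ?_
      ext i j
      fin_cases i <;> fin_cases j <;> simp [hk00, hk10, ← hu', ← ht, hu0, ht1]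
    rw [hk, inv_mul_eq_one] at this
    exact this.symm
  · right
    have : k = starGL B := by
      refine Units.ext ?_
      ext i j
      fin_cases i <;> fin_cases j <;>
        simp [starGL, Torus.starMat, hk00, hk10, ← hu', ← ht, hu0, ht1]
    rw [← this, hk, mul_inv_cancel_left]

end minus

end Cfsg.Agent.Classical.DihedralO2
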