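import Mathlib
import Cfsg.Prelude.Def_Classical
import Cfsg.Agent.Lib.Forms.SympStd
import Cfsg.Agent.Lib.Classical.Linear
import Cfsg.Agent.Lib.Classical.Iwasawa

/-!
# The symplectic groups: order, centre, perfectness, simplicity of the central quotient
-/

namespace Cfsg.Agent.Classical.Symplectic

open Matrix
open scoped LinearAlgebra.Projectivization
open Cfsg.Agent.Forms.SympStd

set_option linter.unusedSectionVars false
set_option linter.unusedSimpArgs false

variable {F : Type*} [Field F] {m : ℕ}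

local notation "Vec" => (Fin m ⊕ Fin m → F)
local notation "Mat" => Matrix (Fin m ⊕ Fin m) (Fin m ⊕ Fin m) F
local notation "Sp" => symplecticGroup (Fin m) F
local notation "f" => Cfsg.sympForm m F

theorem smul_eq (A : Sp) (v : Vec) : A • v = (A : Mat) *ᵥ v := rfl

theorem f_add_left (x y z : Vec) : f (x + y) z = f x z + f y z := by
  rw [← sympB_apply, map_add, LinearMap.add_apply, sympB_apply, sympB_apply]

theorem f_add_right (x y z : Vec) : f x (y + z) = f x y + f x z := by
  rw [← sympB_apply, map_add, sympB_apply, sympB_apply]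

theorem f_smul_left (a : F) (x z : Vec) : f (a • x) z = a * f x z := by
  rw [← sympB_apply, map_smul, LinearMap.smul_apply, sympB_apply, smul_eq_mul]

theorem f_smul_right (a : F) (x z : Vec) : f x (a • z) = a * f x z := by
  rw [← sympB_apply, map_smul, sympB_apply, smul_eq_mul]

theorem exists_partner {u : Vec} (hu : u ≠ 0) : ∃ w : Vec, f u w = 1 := by
  by_contra h
  push Not at h
  refine hu (sympB_nondegenerate.1 u fun w => ?_)
  rw [sympB_apply]
  by_contra hne
  exact h ((f u w)⁻¹ • w) (by rw [f_smul_right, inv_mul_cancel₀ hne])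

/-- `Sp` is transitive on non-zero vectors. -/
theorem exists_move {u v : Vec} (hu : u ≠ 0) (hv : v ≠ 0) : ∃ A : Sp, (A : Mat) *ᵥ u = v := by
  obtain ⟨w, hw⟩ := exists_partner hu
  obtain ⟨w', hw'⟩ := exists_partner hv
  obtain ⟨A, -, hA, -⟩ := exists_move_pair (S := ∅) (u := u) (v := w) (u' := v) (v' := w')
    (by simp) (by simp) (by simp) (by simp) hw hw'
  exact ⟨A, hA⟩

/-- Witt's theorem for two vectors. -/
theorem exists_map_pair {u v u' v' : Vec} (h : LinearIndependent F ![u, v])
    (h' : LinearIndependent F ![u', v']) (hf : f u v = f u' v') :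
    ∃ A : Sp, (A : Mat) *ᵥ u = u' ∧ (A : Mat) *ᵥ v = v' := by
  set b := Module.Basis.span h with hb
  have hg : Function.Injective (b.constr F ![u', v']) := by
    rw [← LinearMap.ker_eq_bot, LinearMap.ker_eq_bot']
    intro x hx
    rw [Module.Basis.constr_apply_fintype, Fin.sum_univ_two] at hx
    obtain ⟨h0, h1⟩ := LinearIndependent.pair_iff.1 h' _ _ hx
    refine (Module.Basis.forall_coord_eq_zero_iff b).1 fun i => ?_
    fin_cases i <;> simpa [Module.Basis.equivFun_apply] using ‹_›
  obtain ⟨A, hA⟩ := exists_extend _ (b.constr F ![u', v']) hg fun x x' => by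
    have e : (sympB m F).compl₁₂ (b.constr F ![u', v']) (b.constr F ![u', v']) =
        (sympB m F).compl₁₂ (Submodule.span F (Set.range ![u, v])).subtype
          (Submodule.span F (Set.range ![u, v])).subtype := by
      refine LinearMap.ext_basis b b fun i j => ?_
      rw [LinearMap.compl₁₂_apply, LinearMap.compl₁₂_apply, Module.Basis.constr_basis,
        Module.Basis.constr_basis, Submodule.coe_subtype, hb, Module.Basis.span_apply,
        Module.Basis.span_apply, sympB_apply, sympB_apply]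
      fin_cases i <;> fin_cases j <;> simp [sympForm_self, hf, sympForm_swap u' v', sympForm_swap u v]
    have := LinearMap.congr_fun₂ e x x'
    simp only [LinearMap.compl₁₂_apply, Submodule.coe_subtype, sympB_apply] at this
    exact this
  refine ⟨A, ?_, ?_⟩
  · have := hA (b 0)
    rw [Module.Basis.constr_basis] at this
    rwa [hb, Module.Basis.span_apply] at this
  · have := hA (b 1)
    rw [Module.Basis.constr_basis] at this
    rwa [hb, Module.Basis.span_apply] at this

/-! ### Transvections -/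

theorem tv_zero (v : Vec) : tv v (0 : F) = 1 := by
  refine sp_ext fun x => ?_
  rw [tv_mulVec]; simp

theorem tv_mul (v : Vec) (c d : F) : tv v c * tv v d = tv v (c + d) := by
  refine sp_ext fun x => ?_
  rw [mul_mulVec_sp, tv_mulVec, tv_mulVec, tv_mulVec, f_add_left, f_smul_left, sympForm_self]
  module

theorem tv_smul (v : Vec) (a c : F) : tv (a • v) c = tv v (a * a * c) := by
  refine sp_ext fun x => ?_
  rw [tv_mulVec, tv_mulVec, f_smul_right]
  module

theorem tv_conj (A : Sp) (v : Vec) (c : F) : A * tv v c * A⁻¹ = tv ((A : Mat) *ᵥ v) c := by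
  rw [mul_inv_eq_iff_eq_mul]
  refine sp_ext fun x => ?_
  rw [mul_mulVec_sp, mul_mulVec_sp, tv_mulVec, tv_mulVec, sympForm_mulVec, Matrix.mulVec_add,
    Matrix.mulVec_smul]

/-! ### The centre -/

theorem eq_scalar_of_fixes_lines (A : Sp) (h : ∀ v : Vec, ∃ a : F, (A : Mat) *ᵥ v = a • v) :
    ∃ a : F, ∀ v : Vec, (A : Mat) *ᵥ v = a • v := by
  obtain ⟨a, ha⟩ := (Matrix.toLin' (A : Mat)).exists_eq_smul_id_of_forall_notLinearIndependent
    fun v => by
      rw [Matrix.toLin'_apply]
      obtain ⟨c, hc⟩ := h v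
      rw [hc]
      by_cases hv : v = 0
      · intro hli; exact hli.ne_zero 0 (by simpa using hv)
      · intro hli
        rw [LinearIndependent.pair_iff' hv] at hli
        exact hli c rfl
  refine ⟨a, fun v => ?_⟩
  have := LinearMap.congr_fun ha v
  simpa using this

theorem mem_center_iff (A : Sp) :
    A ∈ Subgroup.center Sp ↔ ∃ a : F, ∀ v : Vec, (A : Mat) *ᵥ v = a • v := by
  constructor
  · intro h
    refine eq_scalar_of_fixes_lines A fun v => ?_
    by_cases hv : v = 0
    · exact ⟨0, by simp [hv]⟩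
    obtain ⟨w, hw⟩ := exists_partner hv
    have hc := congrArg (fun B : Sp => (B : Mat) *ᵥ w) (Subgroup.mem_center_iff.1 h (tv v 1))
    simp only [mul_mulVec_sp, tv_mulVec, Matrix.mulVec_add, Matrix.mulVec_smul, one_mul] at hc
    have hwv : f w v = -1 := by rw [sympForm_swap, hw]
    refine ⟨- f ((A : Mat) *ᵥ w) v, ?_⟩
    have h2 : (f ((A : Mat) *ᵥ w) v) • v = f w v • ((A : Mat) *ᵥ v) := add_left_cancel hc
    rw [hwv, neg_smul, one_smul] at h2
    rw [neg_smul, h2, neg_neg]
  · rintro ⟨a, ha⟩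
    refine Subgroup.mem_center_iff.2 fun B => sp_ext fun v => ?_
    rw [mul_mulVec_sp, mul_mulVec_sp, ha, ha, Matrix.mulVec_smul]

theorem natCard_center [Fintype F] (hm : 1 ≤ m) :
    Nat.card (Subgroup.center Sp) = Nat.gcd 2 (Fintype.card F - 1) := by
  rw [← Linear.natCard_rootsOfUnity_eq_gcd (F := F)]
  have : Nonempty (Fin m) := ⟨⟨0, hm⟩⟩
  let i0 : Fin m ⊕ Fin m := Sum.inl ⟨0, hm⟩
  let j0 : Fin m ⊕ Fin m := Sum.inr ⟨0, hm⟩
  have hsc : ∀ (A : Subgroup.center Sp) (v : Vec),
      ((A.1 : Sp) : Mat) *ᵥ v = (((A.1 : Sp) : Mat) i0 i0) • v := by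
    intro A v
    obtain ⟨a, ha⟩ := (mem_center_iff A.1).1 A.2
    have := congrFun (ha (Pi.single i0 1)) i0
    simp at this
    rw [this, ha]
  have hmem : ∀ a : rootsOfUnity 2 F, Matrix.scalar (Fin m ⊕ Fin m) ((a.1 : Fˣ) : F) ∈ Sp := by
    intro a
    rw [mem_sp_iff]
    intro u v
    have hs : ∀ w : Vec, Matrix.scalar (Fin m ⊕ Fin m) ((a.1 : Fˣ) : F) *ᵥ w = ((a.1 : Fˣ) : F) • w := by
      intro w; ext i; simp [Matrix.mulVec_diagonal]
    have h2 : ((a.1 : Fˣ) : F) * ((a.1 : Fˣ) : F) = 1 := by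
      rw [← Units.val_mul, ← sq, (mem_rootsOfUnity _ _).1 a.2, Units.val_one]
    rw [hs, hs, f_smul_left, f_smul_right, ← mul_assoc, h2, one_mul]
  refine Nat.card_congr
    { toFun := fun A => rootsOfUnity.mkOfPowEq (((A.1 : Sp) : Mat) i0 i0) ?_
      invFun := fun a => ⟨⟨_, hmem a⟩, (mem_center_iff _).2 ⟨((a.1 : Fˣ) : F), fun v => by
        ext i; simp [Matrix.mulVec_diagonal]⟩⟩
      left_inv := fun A => ?_
      right_inv := fun a => ?_ }
  · have h1 : f (Pi.single j0 1) (Pi.single i0 1) = 1 := by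
      rw [show j0 = Sum.inr ⟨0, hm⟩ from rfl, show i0 = Sum.inl ⟨0, hm⟩ from rfl, sympForm_inr_inl,
        if_pos rfl]
    have h2 := sympForm_mulVec A.1 (Pi.single j0 1) (Pi.single i0 1)
    rw [hsc, hsc, f_smul_left, f_smul_right, h1, mul_one] at h2
    rw [sq]; exact h2
  · refine Subtype.ext (sp_ext fun v => ?_)
    ext i
    have := congrFun (hsc A v) i
    simp only [Pi.smul_apply, smul_eq_mul] at this
    simp [Matrix.mulVec_diagonal, this]
  · refine Subtype.ext (Units.ext ?_)
    simp

/-! ### Order -/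

section order

/-- The subgroup fixing the first `k` hyperbolic pairs of the standard basis. -/
def stabLow (k : ℕ) : Subgroup Sp where
  carrier := {A | ∀ i : Fin m, (i : ℕ) < k →
    (A : Mat) *ᵥ Pi.single (Sum.inl i) 1 = Pi.single (Sum.inl i) 1 ∧
    (A : Mat) *ᵥ Pi.single (Sum.inr i) 1 = Pi.single (Sum.inr i) 1}
  one_mem' i _ := ⟨one_mulVec _, one_mulVec _⟩
  mul_mem' {A B} hA hB i hi := by
    constructor <;> rw [mul_mulVec_sp]
    · rw [(hB i hi).1, (hA i hi).1]
    · rw [(hB i hi).2, (hA i hi).2]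
  inv_mem' {A} hA i hi := ⟨inv_mulVec_of_eq (hA i hi).1, inv_mulVec_of_eq (hA i hi).2⟩

theorem stabLow_zero : (stabLow 0 : Subgroup Sp) = ⊤ :=
  eq_top_iff.2 fun _ _ i hi => absurd hi (Nat.not_lt_zero _)

theorem stabLow_top : (stabLow m : Subgroup Sp) = ⊥ := by
  rw [Subgroup.eq_bot_iff_forall]
  intro A hA
  refine Subtype.ext (Matrix.ext fun x y => ?_)
  rcases y with i | i
  · have := congrFun (hA i i.2).1 x
    simpa [Matrix.mulVec_single, Matrix.one_apply, Pi.single_apply] using this
  · have := congrFun (hA i i.2).2 x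
    simpa [Matrix.mulVec_single, Matrix.one_apply, Pi.single_apply] using this

/-- The vectors supported on the last `m - k` pairs. -/
def highSub (k : ℕ) : Submodule F Vec where
  carrier := {x | ∀ i : Fin m, (i : ℕ) < k → x (Sum.inl i) = 0 ∧ x (Sum.inr i) = 0}
  zero_mem' := by simp
  add_mem' {x y} hx hy i hi := by simp [hx i hi, hy i hi]
  smul_mem' a x hx i hi := by simp [hx i hi]

theorem natCard_highSub [Fintype F] {k : ℕ} (hk : k ≤ m) :
    Nat.card (highSub k : Submodule F Vec) = Fintype.card F ^ (2 * (m - k)) := by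
  let e : (highSub k : Submodule F Vec) ≃
      ({i : Fin m // ¬ (i : ℕ) < k} ⊕ {i : Fin m // ¬ (i : ℕ) < k} → F) :=
    { toFun := fun x => Sum.elim (fun i => x.1 (Sum.inl i.1)) (fun i => x.1 (Sum.inr i.1))
      invFun := fun y => ⟨Sum.elim (fun i => if h : (i : ℕ) < k then 0 else y (Sum.inl ⟨i, h⟩))
        (fun i => if h : (i : ℕ) < k then 0 else y (Sum.inr ⟨i, h⟩)), fun i hi => by simp [hi]⟩
      left_inv := fun x => Subtype.ext (funext fun i => by
        rcases i with i | i <;> by_cases h : (i : ℕ) < k <;>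
          simp [h, (x.2 i _).1, (x.2 i _).2])
      right_inv := fun y => funext fun i => by
        rcases i with ⟨i, h⟩ | ⟨i, h⟩ <;> simp [h] }
  rw [Nat.card_congr e]
  rw [Nat.card_eq_fintype_card, Fintype.card_fun, Fintype.card_sum, Fintype.card_subtype_compl,
    Fintype.card_fin, Fintype.card_subtype]
  congr 1
  have : (Finset.univ.filter fun i : Fin m => (i : ℕ) < k).card = k := by
    rw [← Finset.card_map Fin.valEmbedding,
      show (Finset.univ.filter fun i : Fin m => (i : ℕ) < k).map Fin.valEmbedding = Finset.range k by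
        ext j; simp only [Finset.mem_map, Finset.mem_filter, Fin.valEmbedding_apply, Finset.mem_range]
        exact ⟨fun ⟨i, hi, e⟩ => e ▸ hi.2, fun hj => ⟨⟨j, by omega⟩, ⟨Finset.mem_univ _, hj⟩, rfl⟩⟩,
      Finset.card_range]
  omega

theorem mem_highSub_iff {k : ℕ} {x : Vec} :
    x ∈ (highSub k : Submodule F Vec) ↔ ∀ s ∈ {x : Vec | ∃ i : Fin m, (i : ℕ) < k ∧
      (x = Pi.single (Sum.inl i) 1 ∨ x = Pi.single (Sum.inr i) 1)}, f s x = 0 := by
  have e1 : ∀ i : Fin m, f (Pi.single (Sum.inl i) 1) x = - x (Sum.inr i) := by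
    intro i; rw [sympForm_eq]; simp [Pi.single_apply]
  have e2 : ∀ i : Fin m, f (Pi.single (Sum.inr i) 1) x = x (Sum.inl i) := by
    intro i; rw [sympForm_eq]; simp [Pi.single_apply]
  constructor
  · rintro hx s ⟨i, hi, rfl | rfl⟩
    · rw [e1, (hx i hi).2, neg_zero]
    · rw [e2, (hx i hi).1]
  · intro h i hi
    have a := h _ ⟨i, hi, Or.inl rfl⟩
    have b := h _ ⟨i, hi, Or.inr rfl⟩
    rw [e1, neg_eq_zero] at a
    rw [e2] at b
    exact ⟨b, a⟩

theorem natCard_stabLow_step [Fintype F] {k : ℕ} (hk : k < m) :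
    Nat.card (stabLow k : Subgroup Sp) = (Fintype.card F ^ (2 * (m - k)) - 1) *
      Fintype.card F ^ (2 * (m - k) - 1) * Nat.card (stabLow (k + 1) : Subgroup Sp) := by
  set i₀ : Fin m := ⟨k, hk⟩
  set p₀ : Vec × Vec := (Pi.single (Sum.inr i₀) 1, Pi.single (Sum.inl i₀) 1) with hp₀
  set H : Subgroup Sp := stabLow k with hH
  set S : Set Vec := {x | ∃ i : Fin m, (i : ℕ) < k ∧
      (x = Pi.single (Sum.inl i) 1 ∨ x = Pi.single (Sum.inr i) 1)} with hS
  have hmov : ∀ A : Sp, A ∈ H → ∀ x, x ∈ (highSub k : Submodule F Vec) →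
      (A : Mat) *ᵥ x ∈ (highSub k : Submodule F Vec) := by
    intro A hA x hx
    rw [mem_highSub_iff] at hx ⊢
    intro s hs
    have hs' : (A : Mat) *ᵥ s = s := by
      obtain ⟨i, hi, rfl | rfl⟩ := hs
      exacts [(hA i hi).1, (hA i hi).2]
    rw [← hs', sympForm_mulVec, hx s hs]
  have hp : p₀.1 ∈ (highSub k : Submodule F Vec) ∧ p₀.2 ∈ (highSub k : Submodule F Vec) := by
    constructor <;> intro i hi <;> simp [hp₀, i₀, Pi.single_apply, Fin.ext_iff] <;> omega
  have hf0 : f p₀.1 p₀.2 = 1 := by simp only [hp₀]; rw [sympForm_inr_inl, if_pos rfl]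
  have horb : MulAction.orbit H p₀ = {p : Vec × Vec | p.1 ∈ (highSub k : Submodule F Vec) ∧
      p.2 ∈ (highSub k : Submodule F Vec) ∧ f p.1 p.2 = 1} := by
    ext p
    constructor
    · rintro ⟨A, rfl⟩
      exact ⟨hmov A.1 A.2 _ hp.1, hmov A.1 A.2 _ hp.2, (sympForm_mulVec A.1 _ _).trans hf0⟩
    · rintro ⟨h1, h2, h3⟩
      obtain ⟨A, hA, hA1, hA2⟩ := exists_move_pair (mem_highSub_iff.1 hp.1) (mem_highSub_iff.1 hp.2)
        (mem_highSub_iff.1 h1) (mem_highSub_iff.1 h2) hf0 h3
      refine ⟨⟨A, fun i hi => ⟨closure_fixes hA _ ⟨i, hi, Or.inl rfl⟩,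
        closure_fixes hA _ ⟨i, hi, Or.inr rfl⟩⟩⟩, Prod.ext hA1 hA2⟩
  have hstab : Nat.card (MulAction.stabilizer H p₀) = Nat.card (stabLow (k + 1) : Subgroup Sp) := by
    refine Nat.card_congr
      { toFun := fun A => ⟨A.1.1, fun i hi => ?_⟩
        invFun := fun A => ⟨⟨A.1, fun i hi => A.2 i (by omega)⟩, ?_⟩
        left_inv := fun A => rfl
        right_inv := fun A => rfl }
    · rcases Nat.lt_or_ge (i : ℕ) k with h | h
      · exact A.1.2 i h
      · obtain rfl : i = i₀ := Fin.ext (by simp [i₀]; omega)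
        exact ⟨congrArg Prod.snd A.2, congrArg Prod.fst A.2⟩
    · exact Prod.ext (A.2 i₀ (by simp [i₀])).2 (A.2 i₀ (by simp [i₀])).1
  have hcount : Nat.card (MulAction.orbit H p₀) = (Fintype.card F ^ (2 * (m - k)) - 1) *
      Fintype.card F ^ (2 * (m - k) - 1) := by
    rw [horb]
    classical
    let W : Submodule F Vec := highSub k
    rw [show Nat.card _ = Nat.card (Σ u : {u : W // u ≠ 0},
      {v : W // ((sympB m F) (u.1 : Vec)).comp W.subtype v = 1}) from Nat.card_congr
      { toFun := fun p => ⟨⟨⟨p.1.1, p.2.1⟩, fun h0 => by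
            have h3 := p.2.2.2
            rw [show p.1.1 = 0 from congrArg Subtype.val h0, ← sympB_apply] at h3
            simp at h3⟩,
          ⟨⟨p.1.2, p.2.2.1⟩, by simpa [sympB_apply] using p.2.2.2⟩⟩
        invFun := fun s => ⟨(s.1.1.1, s.2.1.1), s.1.1.2, s.2.1.2,
          by simpa [sympB_apply] using s.2.2⟩
        left_inv := fun p => rfl
        right_inv := fun s => rfl }]
    have hW : Nat.card W = Fintype.card F ^ (2 * (m - k)) := natCard_highSub hk.le
    have hfib : ∀ u : {u : W // u ≠ 0},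
        Nat.card {v : W // ((sympB m F) (u.1 : Vec)).comp W.subtype v = 1} =
          Fintype.card F ^ (2 * (m - k) - 1) := by
      intro u
      have hne : ((sympB m F) (u.1 : Vec)).comp W.subtype ≠ 0 := by
        intro h0
        refine u.2 (Subtype.ext (funext fun j => ?_))
        have hval : ∀ w : W, f (u.1 : Vec) w = 0 := fun w => by
          simpa [sympB_apply] using LinearMap.congr_fun h0 w
        rcases j with j | j <;> by_cases hj : (j : ℕ) < k
        · exact (u.1.2 j hj).1
        · have := hval ⟨Pi.single (Sum.inr j) 1, fun i hi => by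
            simp [Pi.single_apply, Fin.ext_iff]; omega⟩
          simpa [sympForm_eq, Pi.single_apply] using this
        · exact (u.1.2 j hj).2
        · have := hval ⟨Pi.single (Sum.inl j) 1, fun i hi => by
            simp [Pi.single_apply, Fin.ext_iff]; omega⟩
          simpa [sympForm_eq, Pi.single_apply] using this
      have hc := Iwasawa.natCard_mul_fiber _ hne (1 : F)
      rw [hW, Nat.card_eq_fintype_card (α := F)] at hc
      refine Nat.eq_of_mul_eq_mul_right (Fintype.card_pos (α := F)) ?_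
      rw [hc, ← pow_succ]
      congr 1
      omega
    rw [Nat.card_sigma, Finset.sum_congr rfl fun u _ => hfib u, Finset.sum_const, smul_eq_mul,
      Finset.card_univ, Fintype.card_subtype_compl, Fintype.card_subtype_eq,
      ← Nat.card_eq_fintype_card, hW]
  rw [← hcount, ← hstab, ← Nat.card_prod]
  exact (Nat.card_congr (MulAction.orbitProdStabilizerEquivGroup H p₀)).symm

theorem natCard_sp [Fintype F] : Nat.card Sp =
    Fintype.card F ^ (m ^ 2) * ∏ i ∈ Finset.range m, (Fintype.card F ^ (2 * (i + 1)) - 1) := by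
  have key : ∀ r ≤ m, Nat.card (stabLow (m - r) : Subgroup Sp) =
      Fintype.card F ^ (r ^ 2) * ∏ i ∈ Finset.range r, (Fintype.card F ^ (2 * (i + 1)) - 1) := by
    intro r
    induction r with
    | zero => intro _; rw [Nat.sub_zero, stabLow_top]; simp
    | succ r ih =>
      intro hr
      rw [natCard_stabLow_step (show m - (r + 1) < m by omega),
        show m - (m - (r + 1)) = r + 1 by omega,
        show m - (r + 1) + 1 = m - r by omega, ih (by omega), Finset.prod_range_succ,
        show (r + 1) ^ 2 = r ^ 2 + (2 * (r + 1) - 1) by ring_nf; omega, pow_add]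
      ring
  have h := key m le_rfl
  rwa [Nat.sub_self, stabLow_zero, Subgroup.card_top] at h

end order

/-! ### Perfectness -/

theorem ab_tv_eq {v w : Vec} (hv : v ≠ 0) (hw : w ≠ 0) (c : F) :
    Abelianization.of (tv v c) = Abelianization.of (tv w c) := by
  obtain ⟨A, hA⟩ := exists_move hv hw
  rw [← hA, ← tv_conj, map_mul, map_mul, map_inv, mul_inv_cancel_comm]

theorem tv_add_mul_tv_sub (a b : Vec) (h : f a b = 0) (c : F) :
    tv (a + b) c * tv (a + (-1 : F) • b) c = tv a (c + c) * tv b (c + c) := by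
  have hba : f b a = 0 := by rw [sympForm_swap, h, neg_zero]
  refine sp_ext fun x => ?_
  simp only [mul_mulVec_sp, tv_mulVec, f_add_left, f_add_right, f_smul_left, f_smul_right,
    sympForm_self, h, hba]
  module

theorem tv_three (a b d : Vec) (hab : f a b = 0) (had : f a d = 0) (hbd : f b d = 0) (c : F) :
    tv (a + b + d) c * tv a c * tv b c * tv d c = tv (a + b) c * tv (a + d) c * tv (b + d) c := by
  have hba : f b a = 0 := by rw [sympForm_swap, hab, neg_zero]
  have hda : f d a = 0 := by rw [sympForm_swap, had, neg_zero]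
  have hdb : f d b = 0 := by rw [sympForm_swap, hbd, neg_zero]
  refine sp_ext fun x => ?_
  simp only [mul_mulVec_sp, tv_mulVec, f_add_left, f_add_right, f_smul_left, f_smul_right,
    sympForm_self, hab, had, hbd, hba, hda, hdb]
  module

theorem commutator_eq_top (h : 3 ≤ m ∨ (m = 2 ∧ ∃ a : F, a ≠ 0 ∧ a ≠ 1) ∨
    ∃ a : F, a ≠ 0 ∧ a ^ 2 ≠ 1) :
    commutator Sp = ⊤ := by
  suffices hz : ∀ (v : Vec) (c : F), Abelianization.of (tv v c) = 1 by
    rw [eq_top_iff, ← closure_tvSet_eq_top, Subgroup.closure_le]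
    rintro A ⟨w, c, -, hA⟩
    have hA' : A = tv w c := Subtype.ext hA
    rw [hA', SetLike.mem_coe, ← Abelianization.ker_of, MonoidHom.mem_ker, hz]
  intro v c
  by_cases hv : v = 0
  · have : tv v c = 1 := sp_ext fun x => by rw [tv_mulVec, hv]; simp
    rw [this, map_one]
  have hadd : ∀ (w : Vec) (a b : F), Abelianization.of (tv w (a + b)) =
      Abelianization.of (tv w a) * Abelianization.of (tv w b) := fun w a b => by
    rw [← tv_mul, map_mul]
  have hbig : (∃ a : F, a ≠ 0 ∧ a ^ 2 ≠ 1) → Abelianization.of (tv v c) = 1 := by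
    rintro ⟨a, ha0, ha1⟩
    have hne : a ^ 2 - 1 ≠ 0 := sub_ne_zero.2 ha1
    set d := c / (a ^ 2 - 1) with hd
    have h1 : Abelianization.of (tv v d) = Abelianization.of (tv v (a * a * d)) := by
      rw [← tv_smul]; exact ab_tv_eq hv (smul_ne_zero ha0 hv) d
    have h2 : a * a * d = d + c := by rw [hd]; field_simp; ring
    rw [h2, hadd] at h1
    exact left_eq_mul.1 h1
  let e : Fin m → Vec := fun i => Pi.single (Sum.inl i) 1
  rcases h with h3 | ⟨h2, hF⟩ | hF
  · let a := e ⟨0, by omega⟩
    let b := e ⟨1, by omega⟩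
    let d := e ⟨2, by omega⟩
    have ne : ∀ x : Vec, ∀ i, x i = 1 → x ≠ 0 := fun x i hx h0 => by simp [h0] at hx
    have key := congrArg Abelianization.of (tv_three a b d (sympForm_inl_inl _ _)
      (sympForm_inl_inl _ _) (sympForm_inl_inl _ _) c)
    simp only [map_mul] at key
    have hva : ∀ x : Vec, x ≠ 0 → Abelianization.of (tv x c) = Abelianization.of (tv v c) :=
      fun x hx => ab_tv_eq hx hv c
    rw [hva (a + b + d) (ne _ (Sum.inl ⟨0, by omega⟩) (by simp [a, b, d, e])),
      hva a (ne _ (Sum.inl ⟨0, by omega⟩) (by simp [a, e])),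
      hva b (ne _ (Sum.inl ⟨1, by omega⟩) (by simp [b, e])),
      hva d (ne _ (Sum.inl ⟨2, by omega⟩) (by simp [d, e])),
      hva (a + b) (ne _ (Sum.inl ⟨0, by omega⟩) (by simp [a, b, e])),
      hva (a + d) (ne _ (Sum.inl ⟨0, by omega⟩) (by simp [a, d, e])),
      hva (b + d) (ne _ (Sum.inl ⟨1, by omega⟩) (by simp [b, d, e]))] at key
    exact mul_eq_left.1 key
  · by_cases hsq : ∃ a : F, a ≠ 0 ∧ a ^ 2 ≠ 1
    · exact hbig hsq
    push Not at hsq
    obtain ⟨a', ha0, ha1⟩ := hF
    have hneg : a' = -1 := by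
      have := hsq a' ha0
      exact (sq_eq_one_iff.1 this).resolve_left ha1
    have h3 : (3 : F) = 0 := by
      have h20 : (2 : F) ≠ 0 := fun h20 => ha1 (by rw [hneg]; linear_combination (-1 : F) * h20)
      have := hsq 2 h20
      linear_combination this
    let a := e ⟨0, by omega⟩
    let b := e ⟨1, by omega⟩
    have key := congrArg Abelianization.of (tv_add_mul_tv_sub a b (sympForm_inl_inl _ _) c)
    have ne : ∀ x : Vec, x (Sum.inl ⟨0, by omega⟩) = 1 → x ≠ 0 := fun x hx h0 => by simp [h0] at hx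
    have hb : b ≠ 0 := fun h0 => by simpa [b, e] using congrFun h0 (Sum.inl ⟨1, by omega⟩)
    simp only [map_mul] at key
    rw [ab_tv_eq (ne (a + b) (by simp [a, b, e])) hv c,
      ab_tv_eq (ne (a + (-1 : F) • b) (by simp [a, b, e])) hv c,
      ab_tv_eq (ne a (by simp [a, e])) hv (c + c), ab_tv_eq hb hv (c + c),
      hadd] at key
    have hsqr : Abelianization.of (tv v c) * Abelianization.of (tv v c) = 1 := left_eq_mul.1 key
    have hcub : Abelianization.of (tv v c) * Abelianization.of (tv v c) *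
        Abelianization.of (tv v c) = 1 := by
      rw [← hadd, ← hadd, show c + c + c = 0 by linear_combination c * h3, tv_zero, map_one]
    rwa [hsqr, one_mul] at hcub
  · exact hbig hF

/-! ### Simplicity -/

section simple

/-- Two points are related when they are orthogonal. -/
def perp (p q : ℙ F Vec) : Prop := f p.rep q.rep = 0

theorem perp_mk {u v : Vec} (hu : u ≠ 0) (hv : v ≠ 0) :
    perp (Projectivization.mk F u hu) (Projectivization.mk F v hv) ↔ f u v = 0 := by
  obtain ⟨a, ha⟩ := Projectivization.exists_smul_eq_mk_rep F u hu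
  obtain ⟨b, hb⟩ := Projectivization.exists_smul_eq_mk_rep F v hv
  rw [perp, ← ha, ← hb, Units.smul_def, Units.smul_def, f_smul_left, f_smul_right]
  simp

theorem mk_smul' (A : Sp) {u : Vec} (hu : u ≠ 0) :
    A • Projectivization.mk F u hu =
      Projectivization.mk F ((A : Mat) *ᵥ u) ((smul_ne_zero_iff_ne A).2 hu) := rfl

theorem sp_isPretransitive : MulAction.IsPretransitive Sp (ℙ F Vec) := by
  refine ⟨fun p q => ?_⟩
  induction p using Projectivization.ind with | _ u hu =>
  induction q using Projectivization.ind with | _ v hv =>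
  obtain ⟨A, hA⟩ := exists_move hu hv
  exact ⟨A, by rw [mk_smul']; simp only [hA]⟩

theorem perp_smul (A : Sp) (p q : ℙ F Vec) : perp (A • p) (A • q) ↔ perp p q := by
  induction p using Projectivization.ind with | _ u hu =>
  induction q using Projectivization.ind with | _ v hv =>
  rw [mk_smul', mk_smul', perp_mk, perp_mk, sympForm_mulVec]

theorem li_of_ne {u v : Vec} (hu : u ≠ 0) (hv : v ≠ 0)
    (h : Projectivization.mk F u hu ≠ Projectivization.mk F v hv) :
    LinearIndependent F ![u, v] := by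
  rw [LinearIndependent.pair_iff' hu]
  intro a ha
  exact h ((Projectivization.mk_eq_mk_iff' F v u hv hu).2 ⟨a, ha⟩).symm

theorem sp_isPreprimitive (hm : 2 ≤ m) : MulAction.IsPreprimitive Sp (ℙ F Vec) := by
  have := sp_isPretransitive (F := F) (m := m)
  refine Iwasawa.isPreprimitive_of_rel perp (fun A p q h => (perp_smul A p q).2 h) ?_ ?_ ?_
  · intro p q q' hpq hpq' hiff
    induction p using Projectivization.ind with | _ u hu =>
    induction q using Projectivization.ind with | _ v hv =>
    induction q' using Projectivization.ind with | _ v' hv' =>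
    rw [perp_mk, perp_mk] at hiff
    by_cases h0 : f u v = 0
    · obtain ⟨A, hA1, hA2⟩ := exists_map_pair (li_of_ne hu hv hpq) (li_of_ne hu hv' hpq')
        (h0.trans (hiff.1 h0).symm)
      exact ⟨A, by rw [mk_smul']; simp only [hA1], by rw [mk_smul']; simp only [hA2]⟩
    · have h0' : f u v' ≠ 0 := fun h => h0 (hiff.2 h)
      obtain ⟨A, -, hA1, hA2⟩ := exists_move_pair (S := ∅) (u := u) (v := (f u v)⁻¹ • v) (u' := u)
        (v' := (f u v')⁻¹ • v') (by simp) (by simp) (by simp) (by simp)
        (by rw [f_smul_right, inv_mul_cancel₀ h0]) (by rw [f_smul_right, inv_mul_cancel₀ h0'])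
      refine ⟨A, by rw [mk_smul']; simp only [hA1], ?_⟩
      rw [mk_smul', Projectivization.mk_eq_mk_iff']
      rw [Matrix.mulVec_smul] at hA2
      refine ⟨f u v * (f u v')⁻¹, ?_⟩
      rw [mul_smul, ← hA2, smul_smul, mul_inv_cancel₀ h0, one_smul]
  · intro p q hpq
    induction p using Projectivization.ind with | _ u hu =>
    induction q using Projectivization.ind with | _ v hv =>
    by_cases h0 : f u v = 0
    · exact Or.inl ((perp_mk hu hv).2 h0)
    right
    let φ : Vec →ₗ[F] F × F := LinearMap.prod (sympB m F u) (sympB m F v)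
    have hk : LinearMap.ker φ ≠ ⊥ := by
      intro hk
      have := LinearMap.finrank_le_finrank_of_injective (LinearMap.ker_eq_bot.1 hk)
      rw [finrank_vec, Module.finrank_prod, Module.finrank_self] at this
      omega
    obtain ⟨z, hz, hz0⟩ := Submodule.exists_mem_ne_zero_of_ne_bot hk
    simp [φ, sympB_apply] at hz
    refine ⟨Projectivization.mk F z hz0, fun he => ?_, fun he => ?_, (perp_mk _ _).2 hz.1,
      (perp_mk _ _).2 (by rw [sympForm_swap, hz.2, neg_zero])⟩
    · obtain ⟨a, rfl⟩ := (Projectivization.mk_eq_mk_iff' F z u hz0 hu).1 he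
      simp only [f_smul_right] at hz
      rw [sympForm_swap u v, mul_neg, neg_eq_zero] at hz
      rcases mul_eq_zero.1 hz.2 with h | h
      · exact hz0 (by rw [h, zero_smul])
      · exact h0 h
    · obtain ⟨a, rfl⟩ := (Projectivization.mk_eq_mk_iff' F z v hz0 hv).1 he
      simp only [f_smul_right] at hz
      rcases mul_eq_zero.1 hz.1 with h | h
      · exact hz0 (by rw [h, zero_smul])
      · exact h0 h
  · intro p q hpq
    induction p using Projectivization.ind with | _ u hu =>
    induction q using Projectivization.ind with | _ v hv =>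
    by_cases h0 : f u v = 0
    swap
    · exact Or.inl fun h => h0 ((perp_mk hu hv).1 h)
    right
    obtain ⟨zu, hzu⟩ := exists_partner hu
    obtain ⟨zv, hzv⟩ := exists_partner hv
    obtain ⟨z, h1, h2⟩ : ∃ z, f u z ≠ 0 ∧ f v z ≠ 0 := by
      by_cases ha : f v zu = 0
      · by_cases hb : f u zv = 0
        · exact ⟨zu + zv, by rw [f_add_right, hzu, hb]; simp, by rw [f_add_right, ha, hzv]; simp⟩
        · exact ⟨zv, hb, by rw [hzv]; exact one_ne_zero⟩
      · exact ⟨zu, by rw [hzu]; exact one_ne_zero, ha⟩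
    have hz0 : z ≠ 0 := fun h => h1 (by rw [h, ← sympB_apply, map_zero])
    refine ⟨Projectivization.mk F z hz0, fun he => ?_, fun he => ?_,
      fun h => h1 ((perp_mk _ _).1 h), fun h => h2 (by
        rw [sympForm_swap, (perp_mk _ _).1 h, neg_zero])⟩
    · obtain ⟨a, rfl⟩ := (Projectivization.mk_eq_mk_iff' F z u hz0 hu).1 he
      exact h1 (by rw [f_smul_right, sympForm_self, mul_zero])
    · obtain ⟨a, rfl⟩ := (Projectivization.mk_eq_mk_iff' F z v hz0 hv).1 he
      exact h2 (by rw [f_smul_right, sympForm_self, mul_zero])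

/-- The group of transvections with given centre. -/
def tvHom (v : Vec) : Multiplicative F →* Sp where
  toFun c := tv v c.toAdd
  map_one' := tv_zero v
  map_mul' a b := (tv_mul v a.toAdd b.toAdd).symm

/-- The transvection groups form an Iwasawa structure. -/
noncomputable def spIwasawa (m : ℕ) (F : Type*) [Field F] :
    MulAction.IwasawaStructure (symplecticGroup (Fin m) F) (ℙ F (Fin m ⊕ Fin m → F)) where
  T p := (tvHom p.rep).range
  is_comm p := ⟨⟨by
    rintro ⟨_, a, rfl⟩ ⟨_, b, rfl⟩
    exact Subtype.ext (by simp only [Subgroup.coe_mul]; rw [← map_mul, mul_comm, map_mul])⟩⟩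
  is_conj A p := by
    induction p using Projectivization.ind with | _ u hu =>
    obtain ⟨a, ha⟩ := Projectivization.exists_smul_eq_mk_rep F ((A : Matrix (Fin m ⊕ Fin m) (Fin m ⊕ Fin m) F) *ᵥ u)
      ((smul_ne_zero_iff_ne A).2 hu)
    obtain ⟨b, hb⟩ := Projectivization.exists_smul_eq_mk_rep F u hu
    rw [mk_smul', ← ha, ← hb]
    ext B
    simp only [Subgroup.mem_pointwise_smul_iff_inv_smul_mem, MulAut.smul_def, MulAut.inv_apply,
      MulAut.conj_symm_apply, MonoidHom.mem_range]
    have e : ∀ (w : Fin m ⊕ Fin m → F) (r : Fˣ) (c : F), tv (r • w) c = tv w ((r : F) * r * c) :=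
      fun w r c => tv_smul w (r : F) c
    constructor
    · rintro ⟨c, rfl⟩
      refine ⟨Multiplicative.ofAdd (((b : F) * b)⁻¹ * ((a : F) * a * c.toAdd)), ?_⟩
      show tv (b • u) _ = A⁻¹ * tv (a • _) _ * A
      rw [e, e, ← tv_conj, toAdd_ofAdd, ← mul_assoc,
        mul_inv_cancel₀ (mul_ne_zero b.ne_zero b.ne_zero), one_mul]
      group
    · rintro ⟨c, hc⟩
      refine ⟨Multiplicative.ofAdd (((a : F) * a)⁻¹ * ((b : F) * b * c.toAdd)), ?_⟩
      show tv (a • _) _ = B
      change tv (b • u) _ = A⁻¹ * B * A at hc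
      rw [e] at hc
      rw [e, toAdd_ofAdd, ← mul_assoc, mul_inv_cancel₀ (mul_ne_zero a.ne_zero a.ne_zero), one_mul,
        ← tv_conj, hc]
      group
  is_generator := by
    rw [eq_top_iff, ← closure_tvSet_eq_top, Subgroup.closure_le]
    rintro A ⟨w, c, -, hA⟩
    have hA' : A = tv w c := Subtype.ext hA
    by_cases hw : w = 0
    · have : A = 1 := by rw [hA']; exact sp_ext fun x => by rw [tv_mulVec, hw]; simp
      rw [this]; exact one_mem _
    obtain ⟨a, ha⟩ := Projectivization.exists_smul_eq_mk_rep F w hw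
    refine Subgroup.mem_iSup_of_mem (Projectivization.mk F w hw)
      ⟨Multiplicative.ofAdd (((a : F) * a)⁻¹ * c), ?_⟩
    show tv _ _ = A
    rw [← ha, hA', Units.smul_def, tv_smul, toAdd_ofAdd, ← mul_assoc,
      mul_inv_cancel₀ (mul_ne_zero a.ne_zero a.ne_zero), one_mul]

theorem isSimpleGroup_PSp (hm : 2 ≤ m) (h : m = 2 → ∃ a : F, a ≠ 0 ∧ a ≠ 1) :
    IsSimpleGroup (Cfsg.PSp m F) := by
  have hperf : commutator Sp = ⊤ := commutator_eq_top (by
    rcases Nat.eq_or_lt_of_le hm with h2 | h3
    · exact Or.inr (Or.inl ⟨h2.symm, h h2.symm⟩)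
    · exact Or.inl h3)
  have := sp_isPreprimitive (F := F) hm
  refine Iwasawa.isSimpleGroup_center_quotient (spIwasawa m F) hperf ?_ ?_
  · intro A hA
    refine (mem_center_iff A).2 (eq_scalar_of_fixes_lines A fun v => ?_)
    by_cases hv : v = 0
    · exact ⟨0, by simp [hv]⟩
    have := hA (Projectivization.mk F v hv)
    rw [mk_smul', Projectivization.mk_eq_mk_iff'] at this
    obtain ⟨a, ha⟩ := this
    exact ⟨a, ha.symm⟩
  · set v : Vec := Pi.single (Sum.inl ⟨0, by omega⟩) 1 with hv
    refine ⟨tv v 1, fun hc => ?_⟩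
    obtain ⟨a, ha⟩ := (mem_center_iff _).1 hc
    have h1 := ha (Pi.single (Sum.inr ⟨0, by omega⟩) 1)
    rw [tv_mulVec, hv, sympForm_inr_inl, if_pos rfl] at h1
    have := congrFun h1 (Sum.inl ⟨0, by omega⟩)
    simp at this

end simple

end Cfsg.Agent.Classical.Symplectic
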