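import Mathlib
import Cfsg.Agent.Lib.Classical.OrthForms
import Cfsg.Agent.Lib.Classical.OrthSimple
import Cfsg.Agent.Lib.Forms.SpecialOrth
import Cfsg.Agent.S0306
import Cfsg.Agent.S0790
import Cfsg.Agent.S0791

/-!
# Orders of `PΩ`
-/

set_option autoImplicit false
set_option linter.unusedSectionVars false
set_option linter.unusedSimpArgs false

namespace Cfsg.Agent.Classical.OrthOrders

open Cfsg.Agent.Forms
open Cfsg.Agent.Classical.Orth Cfsg.Agent.Classical.OrthForms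

variable {F : Type*} [Field F] [Fintype F] {ι : Type} [Fintype ι] [DecidableEq ι]
variable {Q : QuadraticForm F (ι → F)}

/-- `|O| = index · |Z(Ω)| · |PΩ|`. -/
theorem natCard_O_eq : Nat.card (Cfsg.isometryGroup F ⇑Q) =
    Nat.card (Cfsg.POmega F ⇑Q) * Nat.card (Subgroup.center (Cfsg.Omega F ⇑Q)) *
      (Cfsg.Omega F ⇑Q).index := by
  rw [← Subgroup.card_eq_card_quotient_mul_card_subgroup, Subgroup.card_mul_index]

theorem char_two_of (h : (2 : F) = 0) : CharP F 2 :=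
  CharTwo.of_one_ne_zero_of_two_eq_zero one_ne_zero h

theorem natCard_O_char_two (h2 : (2 : F) = 0) (hQ : (QuadraticMap.polarBilin Q).Nondegenerate)
    (f : Frame Q) (hn : 5 ≤ Fintype.card ι) :
    Nat.card (Cfsg.isometryGroup F ⇑Q) = 2 * Nat.card (Cfsg.POmega F ⇑Q) := by
  have := char_two_of h2
  rw [natCard_O_eq, natCard_center_one hQ f hn (Or.inl h2),
    SpecialOrth.omega_index_two hQ (Or.inr (by omega)) (by omega)]
  ring

theorem gcd_four_of_even {q : ℕ} (hq : 1 < q) (h : Even q) {m : ℕ} (hm : m ≠ 0) :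
    Nat.gcd 4 (q ^ m - 1) = 1 ∧ Nat.gcd 4 (q ^ m + 1) = 1 := by
  have he : Even (q ^ m) := Nat.even_pow.2 ⟨h, hm⟩
  have key : ∀ t : ℕ, Odd t → Nat.gcd 4 t = 1 := fun t ht => by
    rw [show (4 : ℕ) = 2 ^ 2 from rfl]
    exact Nat.Coprime.pow_left 2 ((Nat.prime_two.coprime_iff_not_dvd).2
      (by rw [← even_iff_two_dvd]; exact Nat.not_even_iff_odd.2 ht))
  obtain ⟨k, hk⟩ := he
  have h0 : 0 < q ^ m := Nat.pow_pos (by omega)
  exact ⟨key _ ⟨k - 1, by omega⟩, key _ ⟨k, by omega⟩⟩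

end Cfsg.Agent.Classical.OrthOrders
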