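import Mathlib

/-!
# Determinants on centralizers of semisimple matrices
-/

set_option autoImplicit false

namespace Cfsg.Agent.Classical.CentralizerDet

open Polynomial Module

variable {F : Type*} [Field F] {V : Type*} [AddCommGroup V] [Module F V] [FiniteDimensional F V]

/-- A non-zero vector annihilated by an irreducible polynomial in `f`. -/
theorem exists_irreducible_kills [Nontrivial V] (f : Module.End F V) :
    ∃ p : F[X], Irreducible p ∧ ∃ u : V, u ≠ 0 ∧ aeval f p u = 0 := by
  have hint : IsIntegral F f := Algebra.IsIntegral.isIntegral f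
  obtain ⟨p, hp, r, hr⟩ := WfDvdMonoid.exists_irreducible_factor (minpoly.not_isUnit F f)
    (minpoly.ne_zero hint)
  refine ⟨p, hp, ?_⟩
  by_contra hall
  push Not at hall
  have hinj : Function.Injective (aeval f p) :=
    (injective_iff_map_eq_zero _).2 fun v hv => by_contra fun h => hall v h hv
  have h0 : aeval f r = 0 := by
    refine LinearMap.ext fun v => hinj ?_
    rw [← Module.End.mul_apply, ← map_mul, ← hr, minpoly.aeval]
    simp
  have hr0 : r ≠ 0 := fun e => minpoly.ne_zero hint (by rw [hr, e, mul_zero])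
  have hdeg := Polynomial.natDegree_le_of_dvd (minpoly.dvd F f h0) hr0
  rw [hr, natDegree_mul hp.ne_zero hr0] at hdeg
  have := hp.natDegree_pos
  omega

/-- An invariant complement, by averaging. -/
theorem exists_invariant_compl (f : Module.End F V) {k : ℕ} (hk : (k : F) ≠ 0) (hf : f ^ k = 1)
    {U : Submodule F V} (hU : ∀ x ∈ U, f x ∈ U) :
    ∃ W : Submodule F V, IsCompl U W ∧ ∀ x ∈ W, f x ∈ W := by
  obtain ⟨W₀, hW₀⟩ := Submodule.exists_isCompl U
  let π₀ : Module.End F V := U.subtype ∘ₗ U.projectionOnto W₀ hW₀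
  have hπ₀U : ∀ x ∈ U, π₀ x = x := fun x hx => by
    show (U.projectionOnto W₀ hW₀ x : V) = x
    rw [show x = ((⟨x, hx⟩ : U) : V) from rfl, Submodule.projectionOnto_apply_left]
  have hπ₀m : ∀ x, π₀ x ∈ U := fun x => (U.projectionOnto W₀ hW₀ x).2
  have hUpow : ∀ (i : ℕ), ∀ x ∈ U, (f ^ i) x ∈ U := fun i => by
    induction i with
    | zero => intro x hx; simpa using hx
    | succ i ih => intro x hx; rw [pow_succ']; exact hU _ (ih x hx)
  let π : Module.End F V := (k : F)⁻¹ • ∑ i ∈ Finset.range k, f ^ i * π₀ * f ^ (k - i)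
  have hπm : ∀ x, π x ∈ U := fun x => by
    simp only [π, LinearMap.smul_apply, LinearMap.sum_apply]
    exact U.smul_mem _ (Submodule.sum_mem _ fun i _ => hUpow i _ (hπ₀m _))
  have hπU : ∀ x ∈ U, π x = x := fun x hx => by
    have hterm : ∀ i ∈ Finset.range k, (f ^ i * π₀ * f ^ (k - i)) x = x := fun i hi => by
      rw [Finset.mem_range] at hi
      rw [Module.End.mul_apply, Module.End.mul_apply, hπ₀U _ (hUpow _ _ hx),
        ← Module.End.mul_apply, ← pow_add, Nat.add_sub_cancel' hi.le, hf]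
      rfl
    simp only [π, LinearMap.smul_apply, LinearMap.sum_apply]
    rw [Finset.sum_congr rfl hterm, Finset.sum_const, Finset.card_range, ← Nat.cast_smul_eq_nsmul F,
      smul_smul, inv_mul_cancel₀ hk, one_smul]
  have hcomm : f * π = π * f := by
    let T : ℕ → Module.End F V := fun i => f ^ i * π₀ * f ^ (k - i)
    have h1 : ∀ i ∈ Finset.range k, f * T i = T (i + 1) * f := fun i hi => by
      rw [Finset.mem_range] at hi
      show f * (f ^ i * π₀ * f ^ (k - i)) = f ^ (i + 1) * π₀ * f ^ (k - (i + 1)) * f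
      rw [show k - i = k - (i + 1) + 1 by omega, pow_succ, pow_succ']
      simp only [mul_assoc]
    have h2 : ∑ i ∈ Finset.range k, T (i + 1) = ∑ i ∈ Finset.range k, T i := by
      refine add_right_cancel (b := T 0) ?_
      rw [← Finset.sum_range_succ' T k, Finset.sum_range_succ T k,
        show T k = T 0 by simp [T, hf]]
    show f * ((k : F)⁻¹ • ∑ i ∈ Finset.range k, T i) = ((k : F)⁻¹ • ∑ i ∈ Finset.range k, T i) * f
    rw [mul_smul_comm, smul_mul_assoc, Finset.mul_sum, Finset.sum_congr rfl h1, ← Finset.sum_mul, h2]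
  refine ⟨LinearMap.ker π, ?_, fun x hx => ?_⟩
  · have h := LinearMap.isCompl_of_proj (f := π.codRestrict U hπm)
      (fun x => Subtype.ext (hπU x.1 x.2))
    rwa [LinearMap.ker_codRestrict] at h
  · rw [LinearMap.mem_ker] at hx ⊢
    rw [← Module.End.mul_apply, ← hcomm, Module.End.mul_apply, hx, map_zero]

/-- The centralizer of an element of order prime to the characteristic has every determinant. -/
theorem exists_commute_det [Finite F] [Nontrivial V] (f : Module.End F V) {k : ℕ}
    (hk : (k : F) ≠ 0) (hf : f ^ k = 1) (c : F) :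
    ∃ C : Module.End F V, C * f = f * C ∧ LinearMap.det C = c := by
  classical
  obtain ⟨p, hp, u, hu0, hu⟩ := exists_irreducible_kills f
  haveI : Fact (Irreducible p) := ⟨hp⟩
  let K := AdjoinRoot p
  let φ : F[X] →ₗ[F] V := (LinearMap.applyₗ u).comp (aeval f).toLinearMap
  have hφ : ∀ q, φ q = aeval f q u := fun q => rfl
  have hkill : ∀ q, p ∣ q → φ q = 0 := by
    rintro _ ⟨r, rfl⟩
    rw [hφ, mul_comm, map_mul, Module.End.mul_apply, hu, map_zero]
  have hsur : ∀ a : K, ∃ q, AdjoinRoot.mk p q = a := AdjoinRoot.mk_surjective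
  choose rep hrep using hsur
  have hψmk : ∀ q, φ (rep (AdjoinRoot.mk p q)) = φ q := fun q => by
    refine sub_eq_zero.1 ?_
    rw [← map_sub]
    exact hkill _ (AdjoinRoot.mk_eq_mk.1 (hrep _))
  let ψ : K →ₗ[F] V :=
    { toFun := fun a => φ (rep a)
      map_add' := fun a b => by
        obtain ⟨q, rfl⟩ := AdjoinRoot.mk_surjective a
        obtain ⟨r, rfl⟩ := AdjoinRoot.mk_surjective b
        show φ (rep (AdjoinRoot.mk p q + AdjoinRoot.mk p r)) =
          φ (rep (AdjoinRoot.mk p q)) + φ (rep (AdjoinRoot.mk p r))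
        rw [← map_add, hψmk, hψmk, hψmk, map_add]
      map_smul' := fun t a => by
        obtain ⟨q, rfl⟩ := AdjoinRoot.mk_surjective a
        show φ (rep (t • AdjoinRoot.mk p q)) = t • φ (rep (AdjoinRoot.mk p q))
        rw [AdjoinRoot.smul_mk, hψmk, hψmk, map_smul] }
  have hψ : ∀ q, ψ (AdjoinRoot.mk p q) = aeval f q u := hψmk
  have hψmul : ∀ (q : F[X]) (x : K), ψ (AdjoinRoot.mk p q * x) = aeval f q (ψ x) := fun q x => by
    obtain ⟨r, rfl⟩ := AdjoinRoot.mk_surjective x
    rw [← map_mul, hψ, hψ, map_mul, Module.End.mul_apply]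
  have hinj : Function.Injective ψ := (injective_iff_map_eq_zero ψ).2 fun a ha => by
    by_contra hne
    obtain ⟨q, hq⟩ := AdjoinRoot.mk_surjective a⁻¹
    refine hu0 ?_
    have h1 := hψmul q a
    rw [hq, inv_mul_cancel₀ hne, ha, map_zero, ← map_one (AdjoinRoot.mk p), hψ, map_one] at h1
    exact h1
  let U := LinearMap.range ψ
  have hU : ∀ x ∈ U, f x ∈ U := by
    rintro _ ⟨a, rfl⟩
    exact ⟨AdjoinRoot.mk p X * a, by rw [hψmul, aeval_X]⟩
  obtain ⟨W, hW, hWf⟩ := exists_invariant_compl f hk hf hU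
  haveI hKfin : FiniteDimensional F K := (AdjoinRoot.powerBasis hp.ne_zero).finite
  haveI : Finite K := Module.finite_of_finite F
  obtain ⟨a, ha⟩ := FiniteField.norm_surjective F K c
  obtain ⟨q, rfl⟩ := AdjoinRoot.mk_surjective a
  let e : K ≃ₗ[F] U := LinearEquiv.ofInjective ψ hinj
  let g : Module.End F U := e.toLinearMap ∘ₗ Algebra.lmul F K (AdjoinRoot.mk p q) ∘ₗ e.symm.toLinearMap
  have hg : ∀ x : U, (g x : V) = aeval f q (x : V) := fun x => by
    obtain ⟨b, rfl⟩ := e.surjective x
    show (e (AdjoinRoot.mk p q * e.symm (e b)) : V) = aeval f q (e b : V)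
    rw [LinearEquiv.symm_apply_apply]
    exact hψmul q b
  let E := Submodule.prodEquivOfIsCompl U W hW
  refine ⟨E.toLinearMap ∘ₗ (g.prodMap LinearMap.id) ∘ₗ E.symm.toLinearMap, ?_, ?_⟩
  · refine LinearMap.ext fun x => ?_
    obtain ⟨⟨y, z⟩, rfl⟩ := E.surjective x
    have hfx : f (E (y, z)) = E (⟨f y, hU _ y.2⟩, ⟨f z, hWf _ z.2⟩) := by simp [E]
    simp only [Module.End.mul_apply]
    rw [hfx]
    simp only [LinearMap.comp_apply, LinearEquiv.coe_coe, LinearEquiv.symm_apply_apply,
      LinearMap.prodMap_apply, LinearMap.id_apply]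
    simp only [E, Submodule.coe_prodEquivOfIsCompl', map_add, hg]
    rw [← Module.End.mul_apply, ← Module.End.mul_apply,
      show aeval f q * f = f * aeval f q by
        conv_lhs => arg 2; rw [← aeval_X (R := F) f]
        conv_rhs => arg 1; rw [← aeval_X (R := F) f]
        rw [← map_mul, ← map_mul, mul_comm]]
  · rw [LinearMap.det_conj, LinearMap.det_prodMap, LinearMap.det_id, mul_one]
    show LinearMap.det (e.toLinearMap ∘ₗ _ ∘ₗ e.symm.toLinearMap) = c
    rw [LinearMap.det_conj, ← Algebra.norm_apply, ha]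

end Cfsg.Agent.Classical.CentralizerDet
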