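import Mathlib
import Cfsg.Agent.Lib.Classical.CentralizerDet

/-!
# Semisimple endomorphisms are determined up to conjugacy by the characteristic polynomial
-/

set_option autoImplicit false

universe u v w

namespace Cfsg.Agent.Classical.SemisimpleConj

open Polynomial Module
open Cfsg.Agent.Classical.CentralizerDet

variable {F : Type u} [Field F]

/-- Multiplication by the root. -/
noncomputable def rootEnd (p : F[X]) : Module.End F (AdjoinRoot p) :=
  Algebra.lmul F _ (AdjoinRoot.root p)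

theorem charpoly_rootEnd {p : F[X]} (hp : p ≠ 0) [Module.Finite F (AdjoinRoot p)] :
    (rootEnd p).charpoly = p * C p.leadingCoeff⁻¹ := by
  rw [← AdjoinRoot.minpoly_root hp, ← AdjoinRoot.powerBasis_gen hp, ← charpoly_leftMulMatrix,
    ← Algebra.toMatrix_lmul_eq, LinearMap.charpoly_toMatrix]
  rfl

section
variable {V : Type v} [AddCommGroup V] [Module F V]

theorem coe_restrict_pow (f : Module.End F V) {W : Submodule F V} (hW : ∀ x ∈ W, f x ∈ W) (i : ℕ) :
    ∀ x : W, (((f.restrict hW) ^ i) x : V) = (f ^ i) (x : V) := by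
  induction i with
  | zero => intro x; simp
  | succ i ih =>
    intro x
    rw [pow_succ, pow_succ, Module.End.mul_apply, Module.End.mul_apply, ih]
    rfl

theorem restrict_pow_eq_one {f : Module.End F V} {k : ℕ} (hf : f ^ k = 1) {W : Submodule F V}
    (hW : ∀ x ∈ W, f x ∈ W) : (f.restrict hW) ^ k = 1 :=
  LinearMap.ext fun x => Subtype.ext (by rw [coe_restrict_pow, hf]; rfl)

theorem coe_aeval_restrict (f : Module.End F V) {W : Submodule F V} (hW : ∀ x ∈ W, f x ∈ W)
    (q : F[X]) (x : W) : (aeval (f.restrict hW) q x : V) = aeval f q (x : V) := by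
  induction q using Polynomial.induction_on' with
  | add a b ha hb => simp [ha, hb]
  | monomial i a =>
    simp [aeval_monomial, Module.End.mul_apply, coe_restrict_pow, Module.algebraMap_end_apply]

variable [FiniteDimensional F V]

theorem exists_block (f : Module.End F V) {k : ℕ} (hk : (k : F) ≠ 0) (hf : f ^ k = 1)
    {p : F[X]} (hp : Irreducible p) {u : V} (hu0 : u ≠ 0) (hu : aeval f p u = 0) :
    ∃ (W : Submodule F V) (hW : ∀ x ∈ W, f x ∈ W) (E : (AdjoinRoot p × W) ≃ₗ[F] V),
      ∀ x, E ((rootEnd p).prodMap (f.restrict hW) x) = f (E x) := by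
  classical
  haveI : Fact (Irreducible p) := ⟨hp⟩
  let φ : F[X] →ₗ[F] V := (LinearMap.applyₗ u).comp (aeval f).toLinearMap
  have hkill : ∀ q, p ∣ q → φ q = 0 := by
    rintro _ ⟨r, rfl⟩
    show aeval f (p * r) u = 0
    rw [mul_comm, map_mul, Module.End.mul_apply, hu, map_zero]
  have hsur : ∀ a : AdjoinRoot p, ∃ q, AdjoinRoot.mk p q = a := AdjoinRoot.mk_surjective
  choose rep hrep using hsur
  have hψmk : ∀ q, φ (rep (AdjoinRoot.mk p q)) = φ q := fun q => by
    refine sub_eq_zero.1 ?_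
    rw [← map_sub]
    exact hkill _ (AdjoinRoot.mk_eq_mk.1 (hrep _))
  let ψ : AdjoinRoot p →ₗ[F] V :=
    { toFun := fun a => φ (rep a)
      map_add' := fun a b => by
        obtain ⟨q, rfl⟩ := AdjoinRoot.mk_surjective a
        obtain ⟨r, rfl⟩ := AdjoinRoot.mk_surjective b
        show φ (rep (AdjoinRoot.mk p q + AdjoinRoot.mk p r)) =
          φ (rep (AdjoinRoot.mk p q)) + φ (rep (AdjoinRoot.mk p r))
        rw [← map_add, hψmk, hψmk, hψmk, map_add]
      map_smul' := fun t a => by
        obtain ⟨q, rfl⟩ := AdjoinRoot.mk_surjective a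
        show φ (rep (t • AdjoinRoot.mk p q)) = t • φ (rep (AdjoinRoot.mk p q))
        rw [AdjoinRoot.smul_mk, hψmk, hψmk, map_smul] }
  have hψ : ∀ q, ψ (AdjoinRoot.mk p q) = aeval f q u := hψmk
  have hψmul : ∀ (q : F[X]) (x : AdjoinRoot p), ψ (AdjoinRoot.mk p q * x) = aeval f q (ψ x) :=
    fun q x => by
      obtain ⟨r, rfl⟩ := AdjoinRoot.mk_surjective x
      rw [← map_mul, hψ, hψ, map_mul, Module.End.mul_apply]
  have hinj : Function.Injective ψ := (injective_iff_map_eq_zero ψ).2 fun a ha => by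
    by_contra hne
    obtain ⟨q, hq⟩ := AdjoinRoot.mk_surjective a⁻¹
    refine hu0 ?_
    have h1 := hψmul q a
    rw [hq, inv_mul_cancel₀ hne, ha, map_zero, ← map_one (AdjoinRoot.mk p), hψ, map_one] at h1
    exact h1
  have hψf : ∀ a, ψ (rootEnd p a) = f (ψ a) := fun a => by
    show ψ (AdjoinRoot.mk p X * a) = f (ψ a)
    rw [hψmul, aeval_X]
  have hU : ∀ x ∈ LinearMap.range ψ, f x ∈ LinearMap.range ψ := by
    rintro _ ⟨a, rfl⟩
    exact ⟨rootEnd p a, hψf a⟩
  obtain ⟨W, hW, hWf⟩ := exists_invariant_compl f hk hf hU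
  refine ⟨W, hWf, ((LinearEquiv.ofInjective ψ hinj).prodCongr (LinearEquiv.refl F W)).trans
    (Submodule.prodEquivOfIsCompl _ W hW), fun x => ?_⟩
  obtain ⟨a, z⟩ := x
  simp [hψf]

theorem charpoly_of_block (f : Module.End F V) {p : F[X]} (hp : p ≠ 0) {W : Submodule F V}
    (hW : ∀ x ∈ W, f x ∈ W) (E : (AdjoinRoot p × W) ≃ₗ[F] V)
    (hE : ∀ x, E ((rootEnd p).prodMap (f.restrict hW) x) = f (E x)) :
    f.charpoly = p * C p.leadingCoeff⁻¹ * (f.restrict hW).charpoly := by
  haveI : Module.Finite F (AdjoinRoot p) := (AdjoinRoot.powerBasis hp).finite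
  have hconj : E.conj ((rootEnd p).prodMap (f.restrict hW)) = f := LinearMap.ext fun v => by
    rw [LinearEquiv.conj_apply_apply, hE, LinearEquiv.apply_symm_apply]
  rw [← charpoly_rootEnd hp, ← LinearMap.charpoly_prodMap, ← LinearEquiv.charpoly_conj E, hconj]

theorem finrank_of_block {p : F[X]} (hp : p ≠ 0) {W : Submodule F V}
    (E : (AdjoinRoot p × W) ≃ₗ[F] V) : finrank F V = p.natDegree + finrank F W := by
  haveI : Module.Finite F (AdjoinRoot p) := (AdjoinRoot.powerBasis hp).finite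
  rw [← E.finrank_eq, Module.finrank_prod, (AdjoinRoot.powerBasis hp).finrank,
    AdjoinRoot.powerBasis_dim]

end

theorem exists_kills_of_dvd_charpoly : ∀ (m : ℕ) {V : Type v} [AddCommGroup V] [Module F V]
    [FiniteDimensional F V] (f : Module.End F V), finrank F V = m → ∀ {k : ℕ}, (k : F) ≠ 0 →
    f ^ k = 1 → ∀ {p : F[X]}, Irreducible p → p ∣ f.charpoly →
    ∃ u : V, u ≠ 0 ∧ aeval f p u = 0 := by
  intro m
  induction m using Nat.strong_induction_on with
  | _ m ih =>
  intro V _ _ _ f hm k hk hf p hp hdvd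
  rcases subsingleton_or_nontrivial V with hV | hV
  · refine absurd ?_ hp.not_isUnit
    have h1 : f.charpoly = 1 := eq_one_of_monic_natDegree_zero (LinearMap.charpoly_monic f)
      (by rw [LinearMap.charpoly_natDegree, Module.finrank_zero_of_subsingleton])
    exact isUnit_of_dvd_one (h1 ▸ hdvd)
  obtain ⟨q, hq, u, hu0, hu⟩ := exists_irreducible_kills f
  obtain ⟨W, hW, E, hE⟩ := exists_block f hk hf hq hu0 hu
  rw [charpoly_of_block f hq.ne_zero hW E hE, mul_assoc] at hdvd
  rcases hp.prime.dvd_or_dvd hdvd with h | h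
  · obtain ⟨r, rfl⟩ := (hp.associated_of_dvd hq h).symm.dvd
    exact ⟨u, hu0, by rw [mul_comm, map_mul, Module.End.mul_apply, hu, map_zero]⟩
  rcases hp.prime.dvd_or_dvd h with h' | h'
  · exact absurd (isUnit_of_dvd_unit h'
      (isUnit_C.2 (isUnit_iff_ne_zero.2 (inv_ne_zero (leadingCoeff_ne_zero.2 hq.ne_zero)))))
      hp.not_isUnit
  have hlt : finrank F W < m := by
    have := finrank_of_block hq.ne_zero E
    have := hq.natDegree_pos
    omega
  obtain ⟨x, hx0, hx⟩ := ih _ hlt (f.restrict hW) rfl hk (restrict_pow_eq_one hf hW) hp h'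
  exact ⟨x, by simpa using hx0, by rw [← coe_aeval_restrict f hW, hx]; rfl⟩

theorem similar_of_charpoly_eq : ∀ (m : ℕ) {V : Type v} [AddCommGroup V] [Module F V]
    [FiniteDimensional F V] {W : Type w} [AddCommGroup W] [Module F W] [FiniteDimensional F W]
    (f : Module.End F V) (g : Module.End F W), finrank F V = m → ∀ {k : ℕ}, (k : F) ≠ 0 →
    f ^ k = 1 → g ^ k = 1 → f.charpoly = g.charpoly →
    ∃ e : V ≃ₗ[F] W, ∀ x, e (f x) = g (e x) := by
  intro m
  induction m using Nat.strong_induction_on with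
  | _ m ih =>
  intro V _ _ _ W _ _ _ f g hm k hk hf hg hc
  have hfr : finrank F V = finrank F W := by
    rw [← LinearMap.charpoly_natDegree f, hc, LinearMap.charpoly_natDegree]
  rcases subsingleton_or_nontrivial V with hV | hV
  · refine ⟨LinearEquiv.ofFinrankEq V W hfr, fun x => ?_⟩
    haveI : Subsingleton W :=
      (LinearEquiv.ofFinrankEq V W hfr).symm.toEquiv.subsingleton
    exact Subsingleton.elim _ _
  obtain ⟨q, hq, u, hu0, hu⟩ := exists_irreducible_kills f
  obtain ⟨V', hV', E, hE⟩ := exists_block f hk hf hq hu0 hu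
  have hdvd : q ∣ g.charpoly := by
    rw [← hc, charpoly_of_block f hq.ne_zero hV' E hE, mul_assoc]
    exact dvd_mul_right _ _
  obtain ⟨w, hw0, hw⟩ := exists_kills_of_dvd_charpoly _ g rfl hk hg hq hdvd
  obtain ⟨W', hW', E', hE'⟩ := exists_block g hk hg hq hw0 hw
  have hc' : (f.restrict hV').charpoly = (g.restrict hW').charpoly := by
    have h := hc
    rw [charpoly_of_block f hq.ne_zero hV' E hE, charpoly_of_block g hq.ne_zero hW' E' hE'] at h
    exact mul_left_cancel₀ (mul_ne_zero hq.ne_zero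
      (C_ne_zero.2 (inv_ne_zero (leadingCoeff_ne_zero.2 hq.ne_zero)))) h
  have hlt : finrank F V' < m := by
    have := finrank_of_block hq.ne_zero E
    have := hq.natDegree_pos
    omega
  obtain ⟨e, he⟩ := ih _ hlt (f.restrict hV') (g.restrict hW') rfl hk
    (restrict_pow_eq_one hf hV') (restrict_pow_eq_one hg hW') hc'
  refine ⟨E.symm.trans (((LinearEquiv.refl F _).prodCongr e).trans E'), fun x => ?_⟩
  obtain ⟨⟨a, z⟩, rfl⟩ := E.surjective x
  rw [← hE]
  simp only [LinearEquiv.trans_apply, LinearEquiv.symm_apply_apply]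
  rw [← hE']
  simp [he]

theorem exists_matrix_conj {n : ℕ} (A B : Matrix (Fin n) (Fin n) F) {k : ℕ} (hk : (k : F) ≠ 0)
    (hA : A ^ k = 1) (hB : B ^ k = 1) (hc : A.charpoly = B.charpoly) :
    ∃ M : GL (Fin n) F, (M : Matrix (Fin n) (Fin n) F) * A = B * M := by
  obtain ⟨e, he⟩ := similar_of_charpoly_eq _ (Matrix.toLinAlgEquiv' A) (Matrix.toLinAlgEquiv' B)
    rfl hk (by rw [← map_pow, hA, map_one]) (by rw [← map_pow, hB, map_one])
    ((Matrix.charpoly_toLin' A).trans (hc.trans (Matrix.charpoly_toLin' B).symm))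
  refine ⟨⟨LinearMap.toMatrixAlgEquiv' e.toLinearMap, LinearMap.toMatrixAlgEquiv' e.symm.toLinearMap,
    by rw [← map_mul, show e.toLinearMap * e.symm.toLinearMap = 1 from
      LinearMap.ext e.apply_symm_apply, map_one],
    by rw [← map_mul, show e.symm.toLinearMap * e.toLinearMap = 1 from
      LinearMap.ext e.symm_apply_apply, map_one]⟩, ?_⟩
  apply (Matrix.toLinAlgEquiv' (R := F) (n := Fin n)).injective
  simp only [map_mul, Matrix.toLinAlgEquiv'_toMatrixAlgEquiv']
  exact LinearMap.ext he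

/-- Every monic polynomial with non-zero constant term is the characteristic polynomial of a
semisimple matrix. -/
theorem exists_matrix [Finite F] : ∀ (m : ℕ) (c : F[X]), c.natDegree = m → c.Monic → c.coeff 0 ≠ 0 →
    ∃ (A : Matrix (Fin m) (Fin m) F) (k : ℕ), (k : F) ≠ 0 ∧ A ^ k = 1 ∧ A.charpoly = c := by
  intro m
  induction m using Nat.strong_induction_on with
  | _ m ih =>
  intro c hdeg hc h0
  rcases Nat.eq_zero_or_pos m with rfl | hm
  · refine ⟨1, 1, by simp, one_pow 1, ?_⟩
    rw [eq_one_of_monic_natDegree_zero hc hdeg]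
    simp [Matrix.charpoly, Matrix.charmatrix]
  have hnu : ¬IsUnit c := fun h => by
    have := natDegree_eq_zero_of_isUnit h
    omega
  obtain ⟨p, hpm, hp, r, hr⟩ := exists_monic_irreducible_factor c hnu
  have hrm : r.Monic := hpm.of_mul_monic_left (hr ▸ hc)
  have hdr : p.natDegree + r.natDegree = m := by
    rw [← natDegree_mul hp.ne_zero hrm.ne_zero, ← hr, hdeg]
  have h00 : p.coeff 0 * r.coeff 0 ≠ 0 := by rw [← mul_coeff_zero, ← hr]; exact h0
  obtain ⟨hp0, hr0⟩ := mul_ne_zero_iff.1 h00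
  have hppos := hp.natDegree_pos
  obtain ⟨A, k, hk, hA, hAc⟩ := ih r.natDegree (by omega) r rfl hrm hr0
  haveI : Fact (Irreducible p) := ⟨hp⟩
  haveI : Module.Finite F (AdjoinRoot p) := (AdjoinRoot.powerBasis hp.ne_zero).finite
  haveI : Finite (AdjoinRoot p) := Module.finite_of_finite F
  letI := Fintype.ofFinite (AdjoinRoot p)
  have hroot : AdjoinRoot.root p ≠ 0 := fun h => by
    have h1 : p ∣ X := AdjoinRoot.mk_eq_zero.1 h
    exact hp0 (X_dvd_iff.1 (hp.associated_of_dvd irreducible_X h1).symm.dvd)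
  set l := Fintype.card (AdjoinRoot p) - 1 with hl
  have hl0 : (l : F) ≠ 0 := by
    have h1 : ((Fintype.card (AdjoinRoot p) : ℕ) : F) = 0 :=
      (algebraMap F (AdjoinRoot p)).injective (by rw [map_natCast, Nat.cast_card_eq_zero, map_zero])
    rw [hl, Nat.cast_sub Fintype.card_pos, h1]
    simp
  have hroot1 : rootEnd p ^ l = 1 := by
    rw [rootEnd, ← map_pow, FiniteField.pow_card_sub_one_eq_one _ hroot, map_one]
  let f := (rootEnd p).prodMap (Matrix.toLinAlgEquiv' A)
  have hfd : finrank F (AdjoinRoot p × (Fin r.natDegree → F)) = m := by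
    rw [Module.finrank_prod, (AdjoinRoot.powerBasis hp.ne_zero).finrank,
      AdjoinRoot.powerBasis_dim, Module.finrank_fin_fun, hdr]
  have hfpow : f ^ (l * k) = 1 := by
    have h : ∀ i, f ^ i = (rootEnd p ^ i).prodMap (Matrix.toLinAlgEquiv' A ^ i) := fun i => by
      induction i with
      | zero => rfl
      | succ i hi => rw [pow_succ, pow_succ, pow_succ, hi]; rfl
    rw [h, pow_mul, hroot1, one_pow, mul_comm l k, pow_mul, ← map_pow _ A, hA, map_one, one_pow]
    rfl
  let b := Module.finBasisOfFinrankEq F _ hfd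
  refine ⟨LinearMap.toMatrixAlgEquiv b f, l * k, by rw [Nat.cast_mul]; exact mul_ne_zero hl0 hk,
    by rw [← map_pow, hfpow, map_one], ?_⟩
  refine (LinearMap.charpoly_toMatrix f b).trans ?_
  rw [LinearMap.charpoly_prodMap, charpoly_rootEnd hp.ne_zero, hpm.leadingCoeff]
  rw [show (Matrix.toLinAlgEquiv' A).charpoly = r from (Matrix.charpoly_toLin' A).trans hAc]
  simp [hr]

end Cfsg.Agent.Classical.SemisimpleConj
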