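import Mathlib

/-!
# Norms in finite commutative rings with an involution
-/

set_option autoImplicit false

namespace Cfsg.Agent.Classical.NormSurj

open Function

variable {R : Type*} [CommRing R] [Finite R] (σ : R →+* R) (hσ : ∀ x, σ (σ x) = x)

include hσ

/-- If the involution is non-trivial on every residue field it fixes, then `a + y σ(a)` can be made
invertible. -/
theorem exists_add_mul_isUnit
    (hres : ∀ M : Ideal R, M.IsMaximal → (∀ x ∈ M, σ x ∈ M) → ∃ r, r - σ r ∉ M)
    (y : R) (hy : IsUnit y) : ∃ a, IsUnit (a + y * σ a) := by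
  classical
  have hfin : Finite (MaximalSpectrum R) := Finite.of_injective (fun M => (M.asIdeal : Set R))
    (fun M N h => MaximalSpectrum.ext (SetLike.coe_injective h))
  obtain ⟨num, hnum⟩ := Countable.exists_injective_nat (MaximalSpectrum R)
  let sw : MaximalSpectrum R → MaximalSpectrum R := fun M =>
    ⟨M.asIdeal.comap σ, Ideal.comap_isMaximal_of_surjective σ (fun x => ⟨σ x, hσ x⟩)⟩
  have hsw : ∀ M, ∀ x, x ∈ (sw M).asIdeal ↔ σ x ∈ M.asIdeal := fun M x => Iff.rfl
  have hsw2 : ∀ M, sw (sw M) = M := fun M => MaximalSpectrum.ext (Ideal.ext fun x => by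
    rw [hsw, hsw, hσ])
  have hfix : ∀ M : MaximalSpectrum R, sw M = M → ∃ a, a + y * σ a ∉ M.asIdeal := by
    intro M hM
    by_contra hall
    push Not at hall
    have hMinv : ∀ x ∈ M.asIdeal, σ x ∈ M.asIdeal := fun x hx => by
      rw [← hsw, hM]; exact hx
    obtain ⟨r, hr⟩ := hres M.asIdeal M.isMaximal hMinv
    apply hr
    have h1 := hall 1
    rw [map_one, mul_one] at h1
    have h2 := hall r
    have e : r - σ r = (r + y * σ r) - σ r * (1 + y) := by ring
    rw [e]
    exact sub_mem h2 (M.asIdeal.mul_mem_left _ h1)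
  let aM : MaximalSpectrum R → R := fun M =>
    if h : sw M = M then (hfix M h).choose else if num M < num (sw M) then 1 else 0
  obtain ⟨a, ha⟩ := Ideal.exists_forall_sub_mem_ideal (I := fun M : MaximalSpectrum R => M.asIdeal)
    (fun M N hMN => Ideal.isCoprime_iff_sup_eq.2
      (M.isMaximal.coprime_of_ne N.isMaximal fun e => hMN (MaximalSpectrum.ext e))) aM
  refine ⟨a, ?_⟩
  by_contra hu
  obtain ⟨M, hM, hmem⟩ := exists_max_ideal_of_mem_nonunits (a := a + y * σ a) hu
  set M' : MaximalSpectrum R := ⟨M, hM⟩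
  have h1 : a - aM M' ∈ M := ha M'
  have h2 : σ (a - aM (sw M')) ∈ M := (hsw M' _).1 (ha (sw M'))
  by_cases h : sw M' = M'
  · rw [h] at h2
    have e : aM M' + y * σ (aM M') =
        (a + y * σ a) - (a - aM M') - y * σ (a - aM M') := by rw [map_sub]; ring
    have hc : aM M' + y * σ (aM M') ∈ M := by
      rw [e]
      exact sub_mem (sub_mem hmem h1) (M.mul_mem_left _ h2)
    simp only [aM, dif_pos h] at hc
    exact (hfix M' h).choose_spec hc
  · have hne : num M' ≠ num (sw M') := fun e => h (hnum e).symm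
    have hs : sw (sw M') ≠ sw M' := by rw [hsw2]; exact Ne.symm h
    have e : aM M' + y * σ (aM (sw M')) =
        (a + y * σ a) - (a - aM M') - y * σ (a - aM (sw M')) := by rw [map_sub]; ring
    have hc : aM M' + y * σ (aM (sw M')) ∈ M := by
      rw [e]
      exact sub_mem (sub_mem hmem h1) (M.mul_mem_left _ h2)
    simp only [aM, dif_neg h, dif_neg hs, hsw2] at hc
    rcases lt_or_gt_of_ne hne with hlt | hlt
    · rw [if_pos hlt, if_neg (by omega), map_zero, mul_zero, add_zero] at hc
      exact hM.ne_top ((Ideal.eq_top_iff_one _).2 hc)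
    · rw [if_neg (by omega), if_pos hlt, map_one, mul_one, zero_add] at hc
      exact hM.ne_top (Ideal.eq_top_of_isUnit_mem _ hc hy)

/-- Every fixed unit is a norm. -/
theorem exists_norm (hres : ∀ M : Ideal R, M.IsMaximal → (∀ x ∈ M, σ x ∈ M) → ∃ r, r - σ r ∉ M)
    (u : R) (hu : IsUnit u) (hfu : σ u = u) : ∃ y, IsUnit y ∧ y * σ y = u := by
  classical
  let s : Rˣ →* Rˣ := Units.map σ.toMonoidHom
  have hs : ∀ z, s (s z) = z := fun z => Units.ext (hσ _)
  let f : Rˣ →* Rˣ :=
    { toFun := fun z => z * s z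
      map_one' := by simp
      map_mul' := fun a b => by rw [map_mul]; exact mul_mul_mul_comm a b (s a) (s b) }
  let g : Rˣ →* Rˣ :=
    { toFun := fun z => z * (s z)⁻¹
      map_one' := by simp
      map_mul' := fun a b => by rw [map_mul, mul_inv]; exact mul_mul_mul_comm a b (s a)⁻¹ (s b)⁻¹ }
  have hfg : f.range ≤ g.ker := by
    rintro _ ⟨z, rfl⟩
    rw [MonoidHom.mem_ker]
    show (z * s z) * (s (z * s z))⁻¹ = 1
    rw [map_mul, hs, mul_comm (s z) z, mul_inv_cancel]
  have hkg : f.ker ≤ g.range := by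
    intro z hz
    obtain ⟨a, ha⟩ := exists_add_mul_isUnit σ hσ hres (z : R) z.isUnit
    refine ⟨ha.unit, ?_⟩
    show ha.unit * (s ha.unit)⁻¹ = z
    rw [mul_inv_eq_iff_eq_mul]
    apply Units.ext
    show a + (z : R) * σ a = (z : R) * σ (a + (z : R) * σ a)
    have hz1 : (z : R) * σ (z : R) = 1 := congrArg Units.val (MonoidHom.mem_ker.1 hz)
    rw [map_add, map_mul, hσ]
    linear_combination (-a) * hz1
  have heq : f.range = g.ker := by
    refine Subgroup.eq_of_le_of_card_ge hfg ?_
    have e1 := f.ker.card_mul_index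
    have e2 := g.ker.card_mul_index
    rw [Subgroup.index_ker] at e1 e2
    have hle : Nat.card f.ker ≤ Nat.card g.range :=
      Nat.card_le_card_of_injective _ (Subgroup.inclusion_injective hkg)
    have hpos : 0 < Nat.card g.range := Nat.card_pos
    refine le_of_mul_le_mul_right ?_ hpos
    calc Nat.card g.ker * Nat.card g.range = Nat.card f.ker * Nat.card f.range := by rw [e1, e2]
      _ ≤ Nat.card g.range * Nat.card f.range := Nat.mul_le_mul_right _ hle
      _ = Nat.card f.range * Nat.card g.range := mul_comm _ _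
  have hug : hu.unit ∈ g.ker := by
    rw [MonoidHom.mem_ker]
    show hu.unit * (s hu.unit)⁻¹ = 1
    rw [mul_inv_eq_one]
    exact Units.ext hfu.symm
  rw [← heq] at hug
  obtain ⟨z, hz⟩ := hug
  exact ⟨z, z.isUnit, congrArg Units.val hz⟩

/-- The relative version, away from an idempotent. -/
theorem exists_norm_idempotent (ε : R) (hε : ε * ε = ε) (hσε : σ ε = ε)
    (hres : ∀ M : Ideal R, M.IsMaximal → (∀ x ∈ M, σ x ∈ M) → ε ∉ M → ∃ r, r - σ r ∉ M)
    (u : R) (hu : IsUnit u) (hfu : σ u = u) :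
    ∃ y, IsUnit y ∧ ε * (y * σ y) = ε * u := by
  let I : Ideal R := Ideal.span {1 - ε}
  have hI : ∀ x ∈ I, σ x ∈ I := by
    intro x hx
    obtain ⟨c, rfl⟩ := Ideal.mem_span_singleton.1 hx
    rw [map_mul, map_sub, map_one, hσε]
    exact I.mul_mem_right _ (Ideal.subset_span rfl)
  let q := Ideal.Quotient.mk I
  let σI : R ⧸ I →+* R ⧸ I :=
    Ideal.Quotient.lift I (q.comp σ) fun x hx => Ideal.Quotient.eq_zero_iff_mem.2 (hI x hx)
  have hσI : ∀ x, σI (σI x) = x := by
    intro x
    obtain ⟨x, rfl⟩ := Ideal.Quotient.mk_surjective x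
    show q (σ (σ x)) = q x
    rw [hσ]
  have : Finite (R ⧸ I) := Finite.of_surjective _ Ideal.Quotient.mk_surjective
  obtain ⟨y, -, hy⟩ := exists_norm σI hσI (fun M hM hMσ => by
    have : (M.comap q).IsMaximal := Ideal.comap_isMaximal_of_surjective q Ideal.Quotient.mk_surjective
    obtain ⟨r, hr⟩ := hres (M.comap q) this (fun x hx => hMσ (q x) hx) (fun he => by
      apply this.ne_top
      rw [Ideal.eq_top_iff_one, ← add_sub_cancel ε 1]
      refine add_mem he ?_
      show q (1 - ε) ∈ M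
      rw [Ideal.Quotient.eq_zero_iff_mem.2 (show (1 : R) - ε ∈ I from Ideal.subset_span rfl)]
      exact M.zero_mem)
    refine ⟨q r, fun h => hr ?_⟩
    show q (r - σ r) ∈ M
    rw [map_sub]
    exact h) (q u) (hu.map q) (congrArg q hfu)
  obtain ⟨w, rfl⟩ := Ideal.Quotient.mk_surjective y
  have hw : q (w * σ w) = q u := by rw [map_mul]; exact hy
  rw [Ideal.Quotient.eq] at hw
  obtain ⟨c, hc⟩ := Ideal.mem_span_singleton.1 hw
  have hεw : ε * (w * σ w) = ε * u := by
    linear_combination ε * hc - c * hε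
  refine ⟨ε * w + (1 - ε), ?_, ?_⟩
  · obtain ⟨v, hv⟩ := hu
    refine IsUnit.of_mul_eq_one (ε * (σ w * ↑v⁻¹) + (1 - ε)) ?_
    have h1 : u * (↑v⁻¹ : R) = 1 := by rw [← hv]; simp
    linear_combination (↑v⁻¹ : R) * hεw + ε * h1 + (1 + w * σ w * (↑v⁻¹ : R) - w - σ w * (↑v⁻¹ : R)) * hε
  · rw [map_add, map_sub, map_mul, map_one, hσε]
    linear_combination hεw + ((ε + 1) * (w * σ w) + (ε * 1 - 2) * 0 + (-ε) * w + (-ε) * σ w + ε - 1 ) * hε

end Cfsg.Agent.Classical.NormSurj
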