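import Mathlib
import Cfsg.Agent.Lib.Classical.NormSurj
import Cfsg.Agent.Lib.Forms.HermStd

/-!
# Hermitian invertible matrices are norms inside their own commutant
-/

set_option autoImplicit false
set_option linter.unusedSectionVars false

namespace Cfsg.Agent.Classical.UnitaryConj

open Matrix Cfsg.Agent.Forms

variable {K : Type*} [Field K] [Fintype K] {q n : ℕ} (hK : Fintype.card K = q ^ 2)

local notation "Mat" => Matrix (Fin n) (Fin n) K

/-- The adjoint for the standard hermitian form. -/
noncomputable def adj (M : Mat) : Mat := (M.map (HermStd.qHom hK))ᵀ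

theorem adj_one : adj hK (1 : Mat) = 1 := by
  show ((HermStd.qHom hK).mapMatrix (1 : Mat))ᵀ = 1
  rw [map_one, transpose_one]

theorem adj_add (M N : Mat) : adj hK (M + N) = adj hK M + adj hK N := by
  show ((HermStd.qHom hK).mapMatrix (M + N))ᵀ = _
  rw [map_add, transpose_add]
  rfl

theorem adj_mul (M N : Mat) : adj hK (M * N) = adj hK N * adj hK M := by
  simp [adj, Matrix.map_mul, Matrix.transpose_mul]

theorem adj_adj (M : Mat) : adj hK (adj hK M) = M := by
  ext i j
  simp [adj, HermStd.pow_q_q hK]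

theorem adj_algebraMap (c : K) :
    adj hK (algebraMap K Mat c) = algebraMap K Mat (c ^ q) := by
  ext i j
  rw [adj, transpose_apply, map_apply, HermStd.qHom_apply, Matrix.algebraMap_eq_diagonal,
    Matrix.algebraMap_eq_diagonal]
  by_cases h : i = j
  · subst h; simp
  · simp [h, Ne.symm h, zero_pow (show q ≠ 0 by have := HermStd.one_lt_q hK; omega)]

theorem isUnit_adj {M : Mat} (h : IsUnit M) : IsUnit (adj hK M) := by
  obtain ⟨u, rfl⟩ := h
  refine ⟨⟨adj hK (u : Mat), adj hK ((u⁻¹ : Matˣ) : Mat), ?_, ?_⟩, rfl⟩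
  · rw [← adj_mul, u.inv_mul, adj_one]
  · rw [← adj_mul, u.mul_inv, adj_one]

include hK in
/-- A semilinear anti-automorphism `τ` fixing the set `K[U]` gives an invertible `a + U τ(a)`. -/
theorem exists_twist (U : Mat) (hU : IsUnit U) (τ : Mat → Mat)
    (hadd : ∀ a b, τ (a + b) = τ a + τ b) (hmul : ∀ a b, τ (a * b) = τ b * τ a)
    (hsc : ∀ c : K, τ (algebraMap K Mat c) = algebraMap K Mat (c ^ q))
    (hτU : τ U ∈ Algebra.adjoin K {U}) (hinv : ∀ a, Commute a U → τ (τ a) = a) :
    (∃ a, (∀ z, Commute z U → Commute z a) ∧ Commute U (τ a) ∧ IsUnit (a + U * τ a)) ∧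
      (τ U = U → ∃ y, IsUnit y ∧ (∀ z, Commute z U → Commute z y) ∧ y * τ y = U) := by
  classical
  set S := Algebra.adjoin K {U} with hS
  have hcomm : ∀ a ∈ ({U} : Set Mat), ∀ b ∈ ({U} : Set Mat), a * b = b * a := by
    rintro a rfl b rfl; rfl
  letI : CommRing S := Algebra.adjoinCommRingOfComm K hcomm
  have hcz : ∀ z, Commute z U → ∀ x ∈ S, Commute z x := fun z hz x hx => by
    induction hx using Algebra.adjoin_induction with
    | mem x hx => rw [Set.mem_singleton_iff.1 hx]; exact hz
    | algebraMap c => exact Algebra.commute_algebraMap_right c z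
    | add x y _ _ hx hy => exact hx.add_right hy
    | mul x y _ _ hx hy => exact hx.mul_right hy
  have hUS : U ∈ S := Algebra.subset_adjoin rfl
  have hτS : ∀ x ∈ S, τ x ∈ S := fun x hx => by
    induction hx using Algebra.adjoin_induction with
    | mem x hx => rw [Set.mem_singleton_iff.1 hx]; exact hτU
    | algebraMap c => rw [hsc]; exact S.algebraMap_mem _
    | add x y _ _ hx hy => rw [hadd]; exact S.add_mem hx hy
    | mul x y _ _ hx hy => rw [hmul]; exact S.mul_mem hy hx
  have hone : τ 1 = 1 := by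
    have := hsc 1
    simpa using this
  have hzero : τ 0 = 0 := by
    have := hadd 0 0
    simpa using this
  let σ : S →+* S :=
    { toFun := fun x => ⟨τ x, hτS x x.2⟩
      map_one' := Subtype.ext hone
      map_mul' := fun a b => Subtype.ext (by
        show τ ((a : Mat) * b) = τ a * τ b
        rw [hmul]
        exact hcz _ (hcz _ (Commute.refl U) _ (hτS _ b.2)).symm _ (hτS _ a.2))
      map_zero' := Subtype.ext hzero
      map_add' := fun a b => Subtype.ext (hadd _ _) }
  have hσ : ∀ x, σ (σ x) = x := fun x =>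
    Subtype.ext (hinv x (hcz U (Commute.refl U) x x.2).symm)
  have hUu : IsUnit (⟨U, hUS⟩ : S) := by
    obtain ⟨v, hv⟩ := Finite.surjective_of_injective
      (f := fun x : S => (⟨U, hUS⟩ : S) * x)
      (fun a b h => Subtype.ext (hU.mul_left_cancel (congrArg Subtype.val h))) 1
    exact IsUnit.of_mul_eq_one v hv
  obtain ⟨c, hc⟩ : ∃ c : K, c - c ^ q ≠ 0 := by
    by_contra h
    push Not at h
    exact HermStd.qHom_ne_id hK (RingHom.ext fun c => (sub_eq_zero.1 (h c)).symm)
  have hres : ∀ M : Ideal S, M.IsMaximal → (∀ x ∈ M, σ x ∈ M) → ∃ r, r - σ r ∉ M := by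
    intro M hM _
    refine ⟨algebraMap K S c, fun h => hM.ne_top (Ideal.eq_top_of_isUnit_mem _ h ?_)⟩
    rw [show σ (algebraMap K S c) = algebraMap K S (c ^ q) from Subtype.ext (hsc c), ← map_sub]
    exact (Ne.isUnit hc).map _
  refine ⟨?_, fun hfix => ?_⟩
  · obtain ⟨a, ha⟩ := NormSurj.exists_add_mul_isUnit σ hσ hres _ hUu
    exact ⟨a, fun z hz => hcz z hz a a.2, hcz U (Commute.refl U) _ (hτS a a.2), ha.map S.val⟩
  · obtain ⟨y, hy, hyU⟩ := NormSurj.exists_norm σ hσ hres ⟨U, hUS⟩ hUu (Subtype.ext hfix)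
    exact ⟨y, hy.map S.val, fun z hz => hcz z hz y y.2, congrArg Subtype.val hyU⟩

/-- An invertible hermitian matrix is `Y* Y` with `Y` commuting with whatever commutes with it. -/
theorem exists_root (H : Mat) (hH : IsUnit H) (hHh : adj hK H = H) :
    ∃ Y : Matˣ, (∀ z, Commute z H → Commute z (Y : Mat)) ∧ adj hK (Y : Mat) * Y = H := by
  obtain ⟨y, hy, hyc, hyU⟩ := (exists_twist hK H hH (adj hK) (adj_add hK) (adj_mul hK)
    (adj_algebraMap hK) (by rw [hHh]; exact Algebra.subset_adjoin rfl)
    (fun a _ => adj_adj hK a)).2 hHh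
  refine ⟨hy.unit, hyc, ?_⟩
  show adj hK y * y = H
  have h1 : Commute H y := hyc H (Commute.refl H)
  refine hy.mul_left_cancel ?_
  rw [← mul_assoc, hyU, h1.eq]

/-- Membership in the general unitary group. -/
theorem mem_GU_iff (g : GL (Fin n) K) :
    g ∈ Cfsg.GU n K q ↔ adj hK (g : Mat) * (g : Mat) = 1 := by
  rw [HermStd.mem_GU_iff]
  constructor
  · intro h
    apply Matrix.transpose_injective
    rw [transpose_one, transpose_mul, adj, transpose_transpose]
    ext i j
    have hq : q ≠ 0 := by have := HermStd.one_lt_q hK; omega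
    have h1 := h (Pi.single i 1) (Pi.single j 1)
    rw [HermStd.hermForm_single_single i j hq] at h1
    rw [Matrix.one_apply, ← h1]
    simp [Cfsg.hermForm, Matrix.mul_apply, Matrix.mulVec_single, HermStd.qHom_apply]
  · intro h u v
    have h' : (g : Mat)ᵀ * (g : Mat).map (HermStd.qHom hK) = 1 := by
      have := congrArg Matrix.transpose h
      rwa [transpose_one, transpose_mul, adj, transpose_transpose] at this
    have e : ∀ a b : Fin n → K, Cfsg.hermForm n K q a b = a ⬝ᵥ (HermStd.qHom hK ∘ b) := fun a b => rfl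
    rw [e, e, show HermStd.qHom hK ∘ ((g : Mat) *ᵥ v)
      = (g : Mat).map (HermStd.qHom hK) *ᵥ (HermStd.qHom hK ∘ v) from
        funext fun i => RingHom.map_mulVec _ _ _ i]
    rw [dotProduct_mulVec, ← Matrix.mulVec_transpose, Matrix.mulVec_mulVec,
      show ((g : Mat).map (HermStd.qHom hK))ᵀ * (g : Mat) = 1 from h, one_mulVec]

end Cfsg.Agent.Classical.UnitaryConj
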