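import Mathlib

/-!
# A square matrix over a field is similar to its transpose
-/

set_option autoImplicit false

namespace Cfsg.Agent.Classical.TransposeConj

open Polynomial Module DirectSum

variable {F : Type*} [Field F]

/-- A functional on `F[X] ⧸ (P)` with no non-zero ideal in its kernel. -/
theorem exists_functional (P : F[X]) (hP : P ≠ 0) :
    ∃ φ : F[X] ⧸ Submodule.span F[X] {P} → F,
      (∀ x y, φ (x + y) = φ x + φ y) ∧ (∀ (c : F) x, φ (C c • x) = c * φ x) ∧
      ∀ r : F[X], (∀ s : F[X], φ (Submodule.Quotient.mk (r * s)) = 0) →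
        (Submodule.Quotient.mk r : F[X] ⧸ Submodule.span F[X] {P}) = 0 := by
  classical
  let g := P * C P.leadingCoeff⁻¹
  have hg : g.Monic := monic_mul_leadingCoeff_inv hP
  have hgP : g ∣ P := ⟨C P.leadingCoeff, by
    rw [mul_assoc, ← map_mul, inv_mul_cancel₀ (leadingCoeff_ne_zero.2 hP), map_one, mul_one]⟩
  have hPg : P ∣ g := dvd_mul_right _ _
  let φ₀ : F[X] → F := fun r => (r %ₘ g).coeff (g.natDegree - 1)
  have hsur : ∀ z : F[X] ⧸ Submodule.span F[X] {P}, ∃ r, Submodule.Quotient.mk r = z :=
    Submodule.Quotient.mk_surjective _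
  choose rep hrep using hsur
  have hwd : ∀ r, φ₀ (rep (Submodule.Quotient.mk r)) = φ₀ r := fun r => by
    have hd : P ∣ rep (Submodule.Quotient.mk r) - r :=
      Submodule.mem_span_singleton.1 ((Submodule.Quotient.eq _).1 (hrep (Submodule.Quotient.mk r)))
        |>.elim fun s hs => ⟨s, by rw [← hs, smul_eq_mul, mul_comm]⟩
    have h0 := (modByMonic_eq_zero_iff_dvd hg).2 (hgP.trans hd)
    rw [sub_modByMonic, sub_eq_zero] at h0
    show (rep _ %ₘ g).coeff _ = (r %ₘ g).coeff _
    rw [h0]
  refine ⟨fun z => φ₀ (rep z), fun x y => ?_, fun c x => ?_, fun r hr => ?_⟩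
  · obtain ⟨a, rfl⟩ := Submodule.Quotient.mk_surjective _ x
    obtain ⟨b, rfl⟩ := Submodule.Quotient.mk_surjective _ y
    show φ₀ (rep (Submodule.Quotient.mk a + Submodule.Quotient.mk b)) = _
    beta_reduce
    rw [← Submodule.Quotient.mk_add, hwd, hwd, hwd]
    simp [φ₀, add_modByMonic]
  · obtain ⟨a, rfl⟩ := Submodule.Quotient.mk_surjective _ x
    show φ₀ (rep (C c • Submodule.Quotient.mk a)) = c * φ₀ (rep _)
    rw [← Submodule.Quotient.mk_smul, hwd, hwd, smul_eq_mul, ← Polynomial.smul_eq_C_mul]
    simp [φ₀, smul_modByMonic]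
  · rw [Submodule.Quotient.mk_eq_zero, Submodule.mem_span_singleton]
    suffices h : P ∣ r by
      obtain ⟨s, hs⟩ := h
      exact ⟨s, by rw [hs, smul_eq_mul, mul_comm]⟩
    refine hPg.trans ((modByMonic_eq_zero_iff_dvd hg).1 ?_)
    by_contra hne
    have hlt : (r %ₘ g).natDegree < g.natDegree :=
      natDegree_modByMonic_lt r hg (fun h1 => hne (by rw [h1, modByMonic_one]))
    set d := g.natDegree
    set j := (r %ₘ g).natDegree
    obtain ⟨t, ht⟩ : ∃ t, d - 1 = j + t := ⟨d - 1 - j, by omega⟩
    have h1 := hr (X ^ t)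
    beta_reduce at h1
    rw [hwd] at h1
    have hx : (X ^ t : F[X]) %ₘ g = X ^ t :=
      (modByMonic_eq_self_iff hg).2 (degree_lt_degree (by rw [natDegree_X_pow]; omega))
    have hrr : (r * X ^ t) %ₘ g = (r %ₘ g) * X ^ t := by
      rw [mul_modByMonic, hx, (modByMonic_eq_self_iff hg).2]
      rw [degree_eq_natDegree (mul_ne_zero hne (pow_ne_zero _ X_ne_zero)),
        degree_eq_natDegree hg.ne_zero, natDegree_mul hne (pow_ne_zero _ X_ne_zero), natDegree_X_pow]
      exact Nat.cast_lt.2 (by omega)
    simp only [φ₀, hrr] at h1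
    rw [show g.natDegree - 1 = j + t from ht, coeff_mul_X_pow] at h1
    exact leadingCoeff_ne_zero.2 hne h1

/-- A matrix has a non-degenerate bilinear form for which it is self-adjoint. -/
theorem exists_selfAdjoint_form {n : ℕ} (A : Matrix (Fin n) (Fin n) F) :
    ∃ B : LinearMap.BilinForm F (Fin n → F), B.Nondegenerate ∧
      ∀ v w, B (A.mulVec v) w = B v (A.mulVec w) := by
  classical
  let f : Module.End F (Fin n → F) := Matrix.toLin' A
  let M := Module.AEval' f
  let ev := Module.AEval'.of f
  haveI : Module.Finite F[X] M := Module.Finite.of_restrictScalars_finite F F[X] M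
  have htor : Module.IsTorsion F[X] M := fun x =>
    ⟨⟨minpoly F f, mem_nonZeroDivisors_of_ne_zero (minpoly.ne_zero (Algebra.IsIntegral.isIntegral f))⟩, by
      obtain ⟨v, rfl⟩ := ev.surjective x
      show minpoly F f • ev v = 0
      refine ev.symm.injective ?_
      rw [Module.AEval.of_symm_smul, LinearEquiv.symm_apply_apply, minpoly.aeval, map_zero]
      rfl⟩
  obtain ⟨ι, hι, p, hp, e, ⟨E⟩⟩ := Module.equiv_directSum_of_isTorsion htor
  let D : ι → (Fin n → F) → F[X] := fun i v => (Submodule.Quotient.mk_surjective _ (E (ev v) i)).choose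
  have hD : ∀ i v, Submodule.Quotient.mk (D i v) = E (ev v) i := fun i v =>
    (Submodule.Quotient.mk_surjective _ (E (ev v) i)).choose_spec
  have hfun := fun i => exists_functional (p i ^ e i) (pow_ne_zero _ (hp i).ne_zero)
  choose φ hφa hφs hφn using hfun
  let β : (Fin n → F) → (Fin n → F) → F := fun v w => ∑ i, φ i (D i w • E (ev v) i)
  have hβ : ∀ v w, β v w = β w v := fun v w => Finset.sum_congr rfl fun i _ => by
    rw [← hD i v, ← hD i w, ← Submodule.Quotient.mk_smul, ← Submodule.Quotient.mk_smul,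
      smul_eq_mul, smul_eq_mul, mul_comm]
  have hsm : ∀ (t : F) v, ev (t • v) = C t • ev v := fun t v => by
    rw [map_smul]
    exact (Module.AEval.C_smul _ _ _).symm
  have haddl : ∀ v v' w, β (v + v') w = β v w + β v' w := fun v v' w => by
    simp only [β, ← Finset.sum_add_distrib]
    refine Finset.sum_congr rfl fun i _ => ?_
    rw [map_add, map_add, DirectSum.add_apply, smul_add, hφa]
  have hsmull : ∀ (t : F) v w, β (t • v) w = t * β v w := fun t v w => by
    simp only [β, Finset.mul_sum]
    refine Finset.sum_congr rfl fun i _ => ?_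
    rw [hsm, map_smul, DirectSum.smul_apply, smul_comm (D i w) (C t), hφs]
  let B : LinearMap.BilinForm F (Fin n → F) :=
    LinearMap.mk₂ F β haddl hsmull (fun v w w' => by rw [hβ, haddl, hβ w, hβ w'])
      (fun t v w => by rw [hβ, hsmull, hβ w, smul_eq_mul])
  refine ⟨B, ?_, fun v w => ?_⟩
  · have hl : ∀ v, (∀ w, B v w = 0) → v = 0 := fun v hv => by
      refine ev.injective (E.injective (DFinsupp.ext fun i => ?_))
      rw [map_zero, map_zero]
      show E (ev v) i = 0
      rw [← hD i v]
      refine hφn i _ fun s => ?_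
      let z : ⨁ j : ι, F[X] ⧸ F[X] ∙ p j ^ e j :=
        DirectSum.lof F[X] ι _ i (Submodule.Quotient.mk s)
      let w := ev.symm (E.symm z)
      have hw : E (ev w) = z := by simp [w]
      have h0 : ∑ j, φ j (D j v • E (ev w) j) = 0 := (hβ w v).trans (hv w)
      rw [Finset.sum_eq_single i, hw] at h0
      · rw [show z i = Submodule.Quotient.mk s from DirectSum.lof_apply _ _ _,
          ← Submodule.Quotient.mk_smul, smul_eq_mul] at h0
        exact h0
      · intro j _ hji
        rw [hw, show z j = 0 from DirectSum.of_eq_of_ne _ _ _ hji, smul_zero]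
        have := hφa j 0 0
        rw [add_zero] at this
        linear_combination -this
      · simp
    exact ⟨hl, fun v hv => hl v fun w => (hβ v w).trans (hv w)⟩
  · show β (A.mulVec v) w = β v (A.mulVec w)
    rw [hβ v (A.mulVec w)]
    have hX : ∀ x, E (ev (A.mulVec x)) = X • E (ev x) := fun x => by
      rw [← map_smul, Module.AEval'.X_smul_of, ← Matrix.toLin'_apply]
    simp only [β]
    refine Finset.sum_congr rfl fun i _ => ?_
    rw [hX, hX, DirectSum.smul_apply, DirectSum.smul_apply, ← hD i v, ← hD i w,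
      smul_comm (D i w) (X : F[X]), smul_comm (D i v) (X : F[X]), ← Submodule.Quotient.mk_smul,
      ← Submodule.Quotient.mk_smul, ← Submodule.Quotient.mk_smul, ← Submodule.Quotient.mk_smul]
    simp only [smul_eq_mul, mul_comm (D i w) (D i v)]

theorem isConj_transpose {n : ℕ} (A : Matrix (Fin n) (Fin n) F) : IsConj A A.transpose := by
  obtain ⟨B, hB, hA⟩ := exists_selfAdjoint_form A
  let G := LinearMap.BilinForm.toMatrix' B
  have hG : G.det ≠ 0 := LinearMap.BilinForm.nondegenerate_iff_det_ne_zero (Pi.basisFun F (Fin n)) |>.1 hB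
  have hval : ∀ v w, B v w = v ⬝ᵥ G.mulVec w := fun v w => by
    rw [← Matrix.toBilin'_apply', Matrix.toBilin'_toMatrix']
  have key : A.transpose * G = G * A := by
    refine Matrix.ext_of_mulVec_single fun j => funext fun i => ?_
    have h := hA (Pi.single i 1) (Pi.single j 1)
    rw [hval, hval, Matrix.mulVec_mulVec, dotProduct_comm, ← Matrix.vecMul_transpose A,
      dotProduct_comm, ← Matrix.dotProduct_mulVec, Matrix.mulVec_mulVec] at h
    simpa using h
  exact ⟨(Matrix.GeneralLinearGroup.mkOfDetNeZero G hG), key.symm⟩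

end Cfsg.Agent.Classical.TransposeConj
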