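import Mathlib
import Cfsg.Agent.Lib.Classical.QuadClass

/-!
# Orthogonal sums and the two types of even-dimensional quadratic forms
-/

set_option autoImplicit false

namespace Cfsg.Agent.Classical.OrthTypes

open Module Cfsg.Agent.Forms Cfsg.Agent.Forms.PlusStd
open Cfsg.Agent.Classical.OrthCount Cfsg.Agent.Classical.OrthForms Cfsg.Agent.Classical.QuadClass

variable {F : Type*} [Field F]

local notation "Pol" => QuadraticMap.polarBilin

/-- the orthogonal sum -/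
noncomputable def sumQ {ι κ : Type} (Q : QuadraticForm F (ι → F)) (R : QuadraticForm F (κ → F)) :
    QuadraticForm F (ι ⊕ κ → F) :=
  Q.comp (LinearMap.funLeft F F Sum.inl) + R.comp (LinearMap.funLeft F F Sum.inr)

theorem sumQ_apply {ι κ : Type} (Q : QuadraticForm F (ι → F)) (R : QuadraticForm F (κ → F))
    (v : ι ⊕ κ → F) : sumQ Q R v = Q (v ∘ Sum.inl) + R (v ∘ Sum.inr) := rfl

theorem sumQ_nondeg {ι κ : Type} {Q : QuadraticForm F (ι → F)} {R : QuadraticForm F (κ → F)}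
    (hQ : (Pol Q).Nondegenerate) (hR : (Pol R).Nondegenerate) : (Pol (sumQ Q R)).Nondegenerate := by
  have hp : ∀ x y, QuadraticMap.polar (sumQ Q R) x y = QuadraticMap.polar Q (x ∘ Sum.inl) (y ∘ Sum.inl)
      + QuadraticMap.polar R (x ∘ Sum.inr) (y ∘ Sum.inr) := fun x y => by
    simp only [QuadraticMap.polar, sumQ_apply]
    rw [show (x + y) ∘ Sum.inl = x ∘ Sum.inl + y ∘ Sum.inl from rfl,
      show (x + y) ∘ Sum.inr = x ∘ Sum.inr + y ∘ Sum.inr from rfl]
    ring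
  have h : ∀ x, (∀ y, QuadraticMap.polar (sumQ Q R) x y = 0) → x = 0 := by
    intro x hx
    have h1 : x ∘ Sum.inl = 0 := hQ.1 _ fun z => by
      have := hx (Sum.elim z 0)
      rw [hp, Sum.elim_comp_inl, Sum.elim_comp_inr] at this
      simpa [QuadraticMap.polarBilin_apply_apply, QuadraticMap.polar] using this
    have h2 : x ∘ Sum.inr = 0 := hR.1 _ fun z => by
      have := hx (Sum.elim 0 z)
      rw [hp, Sum.elim_comp_inl, Sum.elim_comp_inr] at this
      simpa [QuadraticMap.polarBilin_apply_apply, QuadraticMap.polar] using this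
    funext i
    rcases i with i | i
    · exact congrFun h1 i
    · exact congrFun h2 i
  exact ⟨fun x hx => h x hx, fun x hx => h x fun y => (QuadraticMap.polar_comm _ x y).trans (hx y)⟩

/-- a totally singular subspace of dimension `m` -/
def IsPlus {V : Type*} [AddCommGroup V] [Module F V] (Q : QuadraticForm F V) (m : ℕ) : Prop :=
  ∃ U : Submodule F V, (∀ u ∈ U, Q u = 0) ∧ finrank F U = m

theorem isPlus_plusQ (m : ℕ) : IsPlus (plusQ F m) m := by
  let L : (Fin m → F) →ₗ[F] (Fin m ⊕ Fin m → F) :=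
    (LinearEquiv.sumArrowLequivProdArrow (Fin m) (Fin m) F F).symm.toLinearMap ∘ₗ LinearMap.inl F _ _
  refine ⟨LinearMap.range L, ?_, ?_⟩
  · rintro _ ⟨x, rfl⟩
    rw [plusQ_apply]
    exact Finset.sum_eq_zero fun i _ => mul_eq_zero_of_right _ rfl
  · rw [LinearMap.finrank_range_of_inj, Module.finrank_pi, Fintype.card_fin]
    exact fun x y h => LinearMap.inl_injective
      ((LinearEquiv.sumArrowLequivProdArrow (Fin m) (Fin m) F F).symm.injective h)

theorem IsPlus.map {V W : Type*} [AddCommGroup V] [Module F V] [AddCommGroup W] [Module F W]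
    {Q : QuadraticForm F V} {R : QuadraticForm F W} {m : ℕ} (e : V ≃ₗ[F] W)
    (he : ∀ x, R (e x) = Q x) (h : IsPlus Q m) : IsPlus R m := by
  obtain ⟨U, hU, hd⟩ := h
  refine ⟨U.map (e : V →ₗ[F] W), ?_, by rw [LinearEquiv.finrank_map_eq, hd]⟩
  intro w hw
  obtain ⟨u, hu, rfl⟩ := Submodule.mem_map.1 hw
  exact (he u).trans (hU u hu)

theorem not_isPlus_minQ {k : ℕ} {a b : F}
    (hab : ∀ z₁ z₂ : F, z₁ ^ 2 + a * z₁ * z₂ + b * z₂ ^ 2 = 0 → z₁ = 0 ∧ z₂ = 0) :
    ¬ IsPlus (minQ F k a b) (k + 1) := fun ⟨U, hU, hd⟩ => by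
  have := finrank_le_of_minus hab U hU
  omega

variable [Fintype F]

theorem exists_zeta : ∃ ζ : F, ∀ t : F, t ^ 2 + t + ζ ≠ 0 := by
  by_contra h
  push Not at h
  have hs : Function.Surjective fun t : F => -(t ^ 2 + t) := fun ζ => by
    obtain ⟨t, ht⟩ := h ζ
    exact ⟨t, (eq_neg_of_add_eq_zero_right ht).symm⟩
  have hi := Finite.injective_iff_surjective.2 hs
  exact neg_ne_zero.2 one_ne_zero (hi (show -((-1 : F) ^ 2 + -1) = -((0 : F) ^ 2 + 0) by ring))

variable {ι κ : Type} [Fintype ι] [Fintype κ]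

/-- the normal form of each type -/
theorem normal_form {m : ℕ} {Q : QuadraticForm F (ι → F)} (hc : Fintype.card ι = 2 * m)
    (hQ : (Pol Q).Nondegenerate) :
    (IsPlus Q m ∧ ∃ e : (ι → F) ≃ₗ[F] (Fin m ⊕ Fin m → F), ∀ x, plusQ F m (e x) = Q x) ∨
    (¬ IsPlus Q m ∧ 1 ≤ m ∧ ∃ (ζ : F) (e : (ι → F) ≃ₗ[F] ((Fin (m - 1) ⊕ Fin (m - 1)) ⊕ Fin 2 → F)),
      (∀ t : F, t ^ 2 + t + ζ ≠ 0) ∧ ∀ x, minQ F (m - 1) 1 ζ (e x) = Q x) := by
  rcases classify_even m (V := ι → F) (by simpa using hc) Q hQ with ⟨e, he⟩ | ⟨hm, ζ, e, hζ, he⟩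
  · exact Or.inl ⟨(isPlus_plusQ m).map e.symm fun x => by rw [← he, e.apply_symm_apply], e, he⟩
  · refine Or.inr ⟨fun h => not_isPlus_minQ (k := m - 1) (aniso_one hζ) ?_, hm, ζ, e, hζ, he⟩
    have := h.map e he
    rwa [Nat.sub_add_cancel hm]

/-- forms of the same dimension and type are isometric -/
theorem exists_isometry {m : ℕ} {Q : QuadraticForm F (ι → F)} {R : QuadraticForm F (κ → F)}
    (hc : Fintype.card ι = 2 * m) (hc' : Fintype.card κ = 2 * m) (hQ : (Pol Q).Nondegenerate)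
    (hR : (Pol R).Nondegenerate) (h : IsPlus Q m ↔ IsPlus R m) :
    ∃ e : (ι → F) ≃ₗ[F] (κ → F), ∀ x, R (e x) = Q x := by
  rcases normal_form hc hQ with ⟨hp, e, he⟩ | ⟨hp, hm, ζ, e, hζ, he⟩ <;>
    rcases normal_form hc' hR with ⟨hp', e', he'⟩ | ⟨hp', hm', ζ', e', hζ', he'⟩
  · exact ⟨e.trans e'.symm, fun x => by rw [← he', LinearEquiv.trans_apply, e'.apply_symm_apply, he]⟩
  · exact absurd (h.1 hp) hp'
  · exact absurd (h.2 hp') hp
  · obtain ⟨c, hc⟩ := minQ_isometric (m - 1) hζ' hζ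
    exact ⟨e.trans (c.trans e'.symm), fun x => by
      rw [← he', LinearEquiv.trans_apply, LinearEquiv.trans_apply, e'.apply_symm_apply, hc, he]⟩

omit [Fintype F] in
theorem isPlus_sum {a b : ℕ} {Q : QuadraticForm F (ι → F)} {R : QuadraticForm F (κ → F)}
    (hQ : IsPlus Q a) (hR : IsPlus R b) : IsPlus (sumQ Q R) (a + b) := by
  obtain ⟨U, hU, hUd⟩ := hQ
  obtain ⟨W, hW, hWd⟩ := hR
  let L : (U × W) →ₗ[F] (ι ⊕ κ → F) :=
    (LinearEquiv.sumArrowLequivProdArrow ι κ F F).symm.toLinearMap ∘ₗ U.subtype.prodMap W.subtype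
  refine ⟨LinearMap.range L, ?_, ?_⟩
  · rintro _ ⟨⟨u, w⟩, rfl⟩
    show Q u.1 + R w.1 = 0
    rw [hU _ u.2, hW _ w.2, add_zero]
  · rw [LinearMap.finrank_range_of_inj, Module.finrank_prod, hUd, hWd]
    exact fun x y h => Function.Injective.prodMap Subtype.val_injective Subtype.val_injective
      ((LinearEquiv.sumArrowLequivProdArrow ι κ F F).symm.injective h)

theorem not_isPlus_sum {a b : ℕ} {Q : QuadraticForm F (ι → F)} {R : QuadraticForm F (κ → F)}
    (hc : Fintype.card ι = 2 * a) (hc' : Fintype.card κ = 2 * b) (hQ : (Pol Q).Nondegenerate)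
    (hR : (Pol R).Nondegenerate) (hQp : IsPlus Q a) (hRp : ¬ IsPlus R b) :
    ¬ IsPlus (sumQ Q R) (a + b) := by
  rcases normal_form hc hQ with ⟨-, e, he⟩ | ⟨h, -⟩
  swap
  · exact absurd hQp h
  rcases normal_form hc' hR with ⟨h, -⟩ | ⟨-, hb, ζ, e', hζ, he'⟩
  · exact absurd h hRp
  obtain ⟨k, rfl⟩ : ∃ k, b = k + 1 := ⟨b - 1, by omega⟩
  let σ : (Fin (a + k) ⊕ Fin (a + k)) ⊕ Fin 2 ≃ (Fin a ⊕ Fin a) ⊕ ((Fin k ⊕ Fin k) ⊕ Fin 2) :=
    (Equiv.sumCongr ((Equiv.sumCongr finSumFinEquiv.symm finSumFinEquiv.symm).trans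
      (Equiv.sumSumSumComm _ _ _ _)) (Equiv.refl _)).trans (Equiv.sumAssoc _ _ _)
  let E : (ι ⊕ κ → F) ≃ₗ[F] ((Fin (a + k) ⊕ Fin (a + k)) ⊕ Fin 2 → F) :=
    ((LinearEquiv.sumArrowLequivProdArrow ι κ F F).trans ((e.prodCongr e').trans
      (LinearEquiv.sumArrowLequivProdArrow _ _ F F).symm)).trans (LinearEquiv.funCongrLeft F F σ)
  intro hp
  refine not_isPlus_minQ (k := a + k) (aniso_one hζ) ?_
  rw [show a + k + 1 = a + (k + 1) by omega]
  refine hp.map E fun v => ?_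
  rw [sumQ_apply, ← he, ← he']
  have hE : E v = (Sum.elim (e (v ∘ Sum.inl)) (e' (v ∘ Sum.inr))) ∘ σ := by
    funext i
    show (LinearEquiv.sumArrowLequivProdArrow _ _ F F).symm
      (e (v ∘ Sum.inl), e' (v ∘ Sum.inr)) (σ i) = Sum.elim (e (v ∘ Sum.inl)) (e' (v ∘ Sum.inr)) (σ i)
    generalize σ i = z
    rcases z with j | j <;> rfl
  rw [hE, minQ_apply, minQ_apply, plusQ_apply, plusQ_apply, plusQ_apply]
  simp [Cfsg.quadFormPlus, Fin.sum_univ_add, σ]
  ring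

theorem isPlus_sum_minus {a b : ℕ} {Q : QuadraticForm F (ι → F)} {R : QuadraticForm F (κ → F)}
    (hc : Fintype.card ι = 2 * a) (hc' : Fintype.card κ = 2 * b) (hQ : (Pol Q).Nondegenerate)
    (hR : (Pol R).Nondegenerate) (hQp : ¬ IsPlus Q a) (hRp : ¬ IsPlus R b) :
    IsPlus (sumQ Q R) (a + b) := by
  rcases normal_form hc hQ with ⟨h, -⟩ | ⟨-, ha, ζ, e, hζ, he⟩
  · exact absurd h hQp
  rcases normal_form hc' hR with ⟨h, -⟩ | ⟨-, hb, ζ', e', hζ', he'⟩
  · exact absurd h hRp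
  obtain ⟨c, hcc⟩ := minQ_isometric (b - 1) hζ hζ'
  obtain ⟨u, w, huw⟩ : ∃ u w : F, u ^ 2 + u * w + ζ * w ^ 2 = -1 := by
    by_cases h2 : (2 : F) = 0
    · exact ⟨1, 0, by linear_combination h2⟩
    · have hD : (4 : F) * ζ - 1 ≠ 0 := fun h => hζ (-(1 / 2)) (by field_simp; linear_combination h)
      obtain ⟨x, y, hxy⟩ := Bases.exists_sq_add_sq h2 one_ne_zero hD (-1)
      exact ⟨x - y, 2 * y, by linear_combination hxy⟩
  let T : (Fin 2 → F) →ₗ[F] (Fin 2 → F) :=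
    { toFun := fun z => ![z 0 * u - ζ * z 1 * w, z 0 * w + z 1 * u + z 1 * w]
      map_add' := fun z z' => by ext i; fin_cases i <;> simp <;> ring
      map_smul' := fun t z => by ext i; fin_cases i <;> simp <;> ring }
  let L₁ : ((Fin (a - 1) → F) × (Fin (b - 1) → F) × (Fin 2 → F)) →ₗ[F] ((Fin (a - 1) ⊕ Fin (a - 1)) ⊕ Fin 2 → F) :=
    { toFun := fun k => Sum.elim (Sum.elim k.1 0) k.2.2
      map_add' := fun k k' => by ext ((i | i) | i) <;> simp
      map_smul' := fun t k => by ext ((i | i) | i) <;> simp }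
  let L₂ : ((Fin (a - 1) → F) × (Fin (b - 1) → F) × (Fin 2 → F)) →ₗ[F] ((Fin (b - 1) ⊕ Fin (b - 1)) ⊕ Fin 2 → F) :=
    { toFun := fun k => Sum.elim (Sum.elim k.2.1 0) (T k.2.2)
      map_add' := fun k k' => by ext ((i | i) | i) <;> simp
      map_smul' := fun t k => by ext ((i | i) | i) <;> simp }
  let L : ((Fin (a - 1) → F) × (Fin (b - 1) → F) × (Fin 2 → F)) →ₗ[F] (ι ⊕ κ → F) := (LinearEquiv.sumArrowLequivProdArrow ι κ F F).symm.toLinearMap ∘ₗ
    ((e.symm.toLinearMap ∘ₗ L₁).prod ((e'.trans c).symm.toLinearMap ∘ₗ L₂))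
  refine ⟨LinearMap.range L, ?_, ?_⟩
  · rintro _ ⟨k, rfl⟩
    show Q (e.symm (L₁ k)) + R ((e'.trans c).symm (L₂ k)) = 0
    rw [← he, e.apply_symm_apply, ← he', ← hcc, ← LinearEquiv.trans_apply (e₁₂ := e') (e₂₃ := c),
      (e'.trans c).apply_symm_apply]
    simp [L₁, L₂, T, minQ_apply, plusQ_apply, Cfsg.quadFormPlus]
    linear_combination (k.2.2 0 ^ 2 + k.2.2 0 * k.2.2 1 + ζ * k.2.2 1 ^ 2) * huw
  · rw [LinearMap.finrank_range_of_inj, Module.finrank_prod, Module.finrank_prod, Module.finrank_pi,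
      Module.finrank_pi, Module.finrank_pi, Fintype.card_fin, Fintype.card_fin, Fintype.card_fin]
    · omega
    · intro k k' h0
      have h : ((e.symm (L₁ k), (e'.trans c).symm (L₂ k)) : (ι → F) × (κ → F)) =
          (e.symm (L₁ k'), (e'.trans c).symm (L₂ k')) :=
        (LinearEquiv.sumArrowLequivProdArrow ι κ F F).symm.injective h0
      have h1 : L₁ k = L₁ k' := e.symm.injective (congrArg Prod.fst h)
      have h2 : L₂ k = L₂ k' := (e'.trans c).symm.injective (congrArg Prod.snd h)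
      refine Prod.ext ?_ (Prod.ext ?_ ?_)
      · funext i; exact congrFun h1 (.inl (.inl i))
      · funext i; exact congrFun h2 (.inl (.inl i))
      · funext i; exact congrFun h1 (.inr i)

end Cfsg.Agent.Classical.OrthTypes
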