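import Cfsg.Agent.Lib.Classical.OddOrthSpectrum

/-!
# The orthogonal side of `ω(PSp_{2n}(q)) ≠ ω(PΩ_{2n+1}(q))`
-/

set_option autoImplicit false
set_option linter.unusedSectionVars false

namespace Cfsg.Agent.Classical.OddOrthSpectrum

open Polynomial Module
open scoped Matrix
open Cfsg.Agent.Forms Cfsg.Agent.Forms.QuadStd Cfsg.Agent.Forms.Reflections
open Cfsg.Agent.Forms.PlusStd Cfsg.Agent.Classical.OmegaCrit Cfsg.Agent.Classical.OrthForms

universe u v

variable {F : Type u} [Field F]

section Three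

variable {V : Type v} [AddCommGroup V] [Module F V] [FiniteDimensional F V]
variable {B : LinearMap.BilinForm F V}

/-- an involution commuting with a non-trivial unipotent isometry of a three-space is a scalar -/
theorem three (h2 : (2 : F) ≠ 0) (hS : B.IsSymm) (hB : B.Nondegenerate) (hn : finrank F V = 3)
    {u s : Module.End F V} (hu : Isom B u) (hne : u ≠ 1) (hnil : IsNilpotent (u - 1))
    (hc : Commute u s) (hs : s ^ 2 = 1) : ∃ a : F, (a = 1 ∨ a = -1) ∧ ∀ x, s x = a • x := by
  classical
  set N := u - 1 with hN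
  have hcN : Commute N s := hc.sub_left (Commute.one_left s)
  have hN0 : N ≠ 0 := sub_ne_zero.2 hne
  have h3 : N ^ 3 = 0 := by
    obtain ⟨j, hj⟩ := hnil
    have hker : LinearMap.ker (N ^ 3) = ⊤ := by
      rcases le_or_gt 3 j with h | h
      · rw [← hn, ← Module.End.ker_pow_eq_ker_pow_finrank_of_le (hn.symm ▸ h), hj, LinearMap.ker_zero]
      · rw [LinearMap.ker_eq_top]
        exact _root_.pow_eq_zero_of_le (by omega) hj
    exact LinearMap.ker_eq_top.1 hker
  have hid : ∀ x y, B (N x) y + B x (N y) + B (N x) (N y) = 0 := fun x y => by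
    have h := hu x y
    rw [show u x = N x + x by rw [hN, LinearMap.sub_apply, Module.End.one_apply, sub_add_cancel],
      show u y = N y + y by rw [hN, LinearMap.sub_apply, Module.End.one_apply, sub_add_cancel]] at h
    simp only [map_add, LinearMap.add_apply] at h
    linear_combination h
  obtain ⟨v, hv⟩ : ∃ v, N (N v) ≠ 0 := by
    by_contra hall
    push Not at hall
    have hzero : ∀ x, B (N x) x = 0 := fun x => by
      have e1 := hid x x
      have e2 := hid x (N x)
      rw [hall x, map_zero, map_zero, add_zero, add_zero] at e2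
      rw [e2, add_zero, hS.eq x (N x)] at e1
      have : 2 * B (N x) x = 0 := by linear_combination e1
      simpa [h2] using this
    have hrank := LinearMap.finrank_range_add_finrank_ker N
    have hle : LinearMap.range N ≤ LinearMap.ker N := by
      rintro _ ⟨x, rfl⟩; exact hall x
    have h1 := Submodule.finrank_mono hle
    have hr1 : finrank F (LinearMap.range N) ≤ 1 := by omega
    obtain ⟨w0, hw0⟩ : ∃ x, N x ≠ 0 := by
      by_contra h
      push Not at h
      exact hN0 (LinearMap.ext h)
    have hspan : LinearMap.range N = Submodule.span F {N w0} := by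
      refine (Submodule.eq_of_le_of_finrank_le ((Submodule.span_singleton_le_iff_mem _ _).2 (LinearMap.mem_range_self N w0)) ?_).symm
      rw [finrank_span_singleton hw0]; exact hr1
    -- two proper subspaces cannot cover
    have hcov : ∀ x, x ∈ LinearMap.ker N ∨ x ∈ LinearMap.ker (B (N w0)) := fun x => by
      by_cases hx : N x = 0
      · exact Or.inl hx
      · right
        obtain ⟨c, hc'⟩ := Submodule.mem_span_singleton.1 (hspan ▸ LinearMap.mem_range_self N x)
        have h := hzero x
        rw [← hc', map_smul, LinearMap.smul_apply, smul_eq_mul] at h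
        exact (mul_eq_zero.1 h).resolve_left fun e => hx (by rw [← hc', e, zero_smul])
    have hall2 : ∀ x, x ∈ LinearMap.ker (B (N w0)) := fun x => by
      rcases hcov x with h | h
      · rcases hcov (x + w0) with h' | h'
        · exact absurd (by simpa [LinearMap.mem_ker.1 h] using LinearMap.mem_ker.1 h') hw0
        · rcases hcov w0 with h'' | h''
          · exact absurd (LinearMap.mem_ker.1 h'') hw0
          · simpa using sub_mem h' h''
      · exact h
    exact hw0 (hB.1 _ fun x => hall2 x)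
  have hvN : ∀ i, i < 3 → (N ^ i) v ≠ 0 := fun i hi h => hv (by
    have h' : (N ^ (2 - i) * N ^ i) v = 0 := by rw [Module.End.mul_apply, h, map_zero]
    rw [← pow_add, show 2 - i + i = 2 by omega, pow_two] at h'
    exact h')
  let w : Fin 3 → V := fun i => (N ^ (i : ℕ)) v
  have hN3v : N (N (N v)) = 0 := by
    have := LinearMap.congr_fun h3 v
    rwa [pow_succ', pow_two, Module.End.mul_apply, Module.End.mul_apply] at this
  have hw0 : w 0 = v := rfl
  have hw1 : w 1 = N v := by simp [w]
  have hw2 : w 2 = N (N v) := by simp [w, pow_two]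
  have hli : LinearIndependent F w := by
    rw [Fintype.linearIndependent_iff]
    intro g hg
    rw [Fin.sum_univ_three, hw0, hw1, hw2] at hg
    have g0 : g 0 = 0 := by
      have h := congrArg (fun x => N (N x)) hg
      simp [hN3v] at h
      exact h.resolve_right hv
    rw [g0, zero_smul, zero_add] at hg
    have g1 : g 1 = 0 := by
      have h := congrArg N hg
      simp [hN3v] at h
      exact h.resolve_right hv
    rw [g1, zero_smul, zero_add] at hg
    have g2 : g 2 = 0 := (smul_eq_zero.1 hg).resolve_right hv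
    intro i; fin_cases i <;> assumption
  let b := basisOfLinearIndependentOfCardEqFinrank hli (by simp [hn])
  have hb : ∀ i, b i = w i := fun i => by simp [b]
  obtain ⟨a, c1, c2, hsv⟩ : ∃ a c1 c2 : F, s v = a • v + c1 • N v + c2 • N (N v) :=
    ⟨b.repr (s v) 0, b.repr (s v) 1, b.repr (s v) 2, by
      conv_lhs => rw [← b.sum_repr (s v)]
      rw [Fin.sum_univ_three, hb, hb, hb, hw0, hw1, hw2]⟩
  have hsN : ∀ x, s (N x) = N (s x) := fun x => (LinearMap.congr_fun hcN.eq x).symm
  have hss : s (s v) = v := by rw [← Module.End.mul_apply, ← pow_two, hs, Module.End.one_apply]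
  rw [hsv] at hss
  simp only [map_add, map_smul, hsN, hsv, hN3v, smul_add, smul_smul, smul_zero, add_zero] at hss
  have hcoef := Fintype.linearIndependent_iff.1 hli ![a * a - 1, 2 * (a * c1), 2 * (a * c2) + c1 * c1]
    (by
      rw [Fin.sum_univ_three, hw0, hw1, hw2]
      simp only [Matrix.cons_val_zero, Matrix.cons_val_one, Matrix.cons_val]
      linear_combination (norm := module) hss)
  have e0 : a * a = 1 := sub_eq_zero.1 (by simpa using hcoef 0)
  have ha : a ≠ 0 := fun h => by rw [h, mul_zero] at e0; exact zero_ne_one e0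
  have e1 : c1 = 0 := by simpa [h2, ha] using hcoef 1
  have e2 : c2 = 0 := by simpa [h2, ha, e1] using hcoef 2
  refine ⟨a, mul_self_eq_one_iff.1 e0, fun x => ?_⟩
  refine LinearMap.congr_fun (b.ext (f₁ := s) (f₂ := a • (1 : Module.End F V)) fun i => ?_) x
  rw [hb]
  fin_cases i <;>
    simp [hw0, hw1, hw2, hsN, hsv, e1, e2]

end Three

section Orth

variable [Fintype F] {ι : Type} [Fintype ι] [DecidableEq ι] {Q : QuadraticForm F (ι → F)}

/-- the linear action as a homomorphism -/
noncomputable def actHom (Q : QuadraticForm F (ι → F)) :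
    Cfsg.isometryGroup F ⇑Q →* Module.End F (ι → F) where
  toFun g := act g
  map_one' := LinearMap.ext fun x => act_one x
  map_mul' g h := LinearMap.ext fun x => act_mul g h x

theorem actHom_injective : Function.Injective (actHom Q) := fun g h e => iso_ext fun x => by
  rw [← act_apply, ← act_apply]; exact LinearMap.congr_fun e x

theorem actHom_isom (g : Cfsg.isometryGroup F ⇑Q) : Isom (polB Q) (actHom Q g) := fun u w =>
  act_polar g u w

theorem polB_symm : (polB Q).IsSymm := ⟨fun u w => QuadraticMap.polar_comm _ u w⟩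

theorem polB_self (x : ι → F) : polB Q x x = 2 * Q x := by
  rw [polB_apply, QuadraticMap.polar_self, two_nsmul, two_mul]

theorem act_prod_reflect : ∀ (l : List (ι → F)), (∀ a ∈ l, Q a ≠ 0) →
    List.Pairwise (fun a c => QuadraticMap.polar Q a c = 0) l →
    (∀ x, (∀ a ∈ l, QuadraticMap.polar Q a x = 0) → act (l.map (reflect Q)).prod x = x) ∧
    ∀ a ∈ l, act (l.map (reflect Q)).prod a = -a
  | [], _, _ => ⟨fun x _ => act_one x, fun a ha => absurd ha (List.not_mem_nil)⟩
  | c :: l, hne, hp => by
    rw [List.pairwise_cons] at hp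
    have hc : Q c ≠ 0 := hne c List.mem_cons_self
    obtain ⟨hA, hB⟩ := act_prod_reflect l (fun a ha => hne a (List.mem_cons_of_mem _ ha)) hp.2
    have hfix : ∀ x, QuadraticMap.polar Q c x = 0 → act (reflect Q c) x = x := fun x hx => by
      rw [act_reflect, hx, mul_zero, zero_smul, sub_zero]
    refine ⟨fun x hx => ?_, fun a ha => ?_⟩
    · rw [List.map_cons, List.prod_cons, act_mul, hA x fun a ha => hx a (List.mem_cons_of_mem _ ha),
        hfix x (hx c List.mem_cons_self)]
    · rw [List.map_cons, List.prod_cons, act_mul]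
      rcases List.mem_cons.1 ha with rfl | ha
      · rw [hA a fun b hb => by rw [QuadraticMap.polar_comm]; exact hp.1 b hb, act_reflect,
          QuadraticMap.polar_self, two_nsmul, mul_add, inv_mul_cancel₀ hc, add_smul, one_smul]
        abel
      · rw [hB a ha, map_neg, hfix a (hp.1 a ha)]

/-- `theta` of an element negating an orthogonal family and fixing a complement -/
theorem theta_neg (hQ : (QuadraticMap.polarBilin Q).Nondegenerate)
    (h : Fintype.card F ≠ 2 ∨ Fintype.card ι ≠ 4) (g : Cfsg.isometryGroup F ⇑Q) {n : ℕ}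
    (w : Fin n → ι → F) (hw : ∀ i j, i ≠ j → QuadraticMap.polar Q (w i) (w j) = 0)
    (hne : ∀ i, Q (w i) ≠ 0) (U : Submodule F (ι → F))
    (hU : ∀ x ∈ U, ∀ i, QuadraticMap.polar Q (w i) x = 0)
    (htop : Submodule.span F (Set.range w) ⊔ U = ⊤)
    (hneg : ∀ i, act g (w i) = -(w i)) (hfix : ∀ x ∈ U, act g x = x) :
    theta hQ h g = ((-1) ^ n, chi (∏ i, Q (w i))) := by
  have hl : ∀ a ∈ List.ofFn w, Q a ≠ 0 := fun a ha => by
    rw [List.mem_ofFn] at ha; obtain ⟨i, rfl⟩ := ha; exact hne i
  obtain ⟨hA, hB⟩ := act_prod_reflect (Q := Q) (List.ofFn w) hl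
    (List.pairwise_ofFn.2 fun i j hij => hw i j hij.ne)
  have hg : g = ((List.ofFn w).map (reflect Q)).prod := by
    refine actHom_injective (LinearMap.ext fun x => ?_)
    have hx : x ∈ Submodule.span F (Set.range w) ⊔ U := htop ▸ Submodule.mem_top
    obtain ⟨a, ha, c, hc, rfl⟩ := Submodule.mem_sup.1 hx
    rw [map_add, map_add]
    congr 1
    · refine LinearMap.eqOn_span (R := F) (fun y hy => ?_) ha
      obtain ⟨i, rfl⟩ := hy
      show act g (w i) = act _ (w i)
      rw [hneg, hB _ ((List.mem_ofFn).2 ⟨i, rfl⟩)]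
    · show act g c = act _ c
      rw [hfix c hc, hA c fun b hb => by
        rw [List.mem_ofFn] at hb; obtain ⟨i, rfl⟩ := hb; exact hU c hc i]
  rw [hg, theta_list hQ h _ hl, List.length_ofFn, List.map_ofFn, List.prod_ofFn]
  rfl

end Orth

section Plus

variable [Fintype F] {W : Type v} [AddCommGroup W] [Module F W] [FiniteDimensional F W]

theorem plus_isotropic (k : ℕ) :
    ∃ L : Submodule F (Fin k ⊕ Fin k → F), finrank F L = k ∧
      ∀ a ∈ L, ∀ c ∈ L, polB (plusQ F k) a c = 0 := by
  let φ : (Fin k → F) →ₗ[F] (Fin k ⊕ Fin k → F) :=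
    { toFun := fun a => Sum.elim a 0
      map_add' := fun a c => by funext i; rcases i with i | i <;> simp
      map_smul' := fun t a => by funext i; rcases i with i | i <;> simp }
  refine ⟨LinearMap.range φ, ?_, ?_⟩
  · rw [LinearMap.finrank_range_of_inj (f := φ) fun a c h => funext fun i => congrFun h (Sum.inl i),
      Module.finrank_pi, Fintype.card_fin]
  · rintro _ ⟨a, rfl⟩ _ ⟨c, rfl⟩
    simp [φ, polB_apply, plusQ_polar]

theorem exists_nonsq (h2 : (2 : F) ≠ 0) : ∃ α : F, ¬ IsSquare α :=
  ⟨_, chi_eq_neg_one_iff.1 (OmegaCrit.exists_nonsquare h2).choose_spec.2⟩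

/-- an orthonormal space with square sign is of plus type -/
theorem exists_equiv_plus (h2 : (2 : F) ≠ 0) {k : ℕ} (hk : 1 ≤ k) (hsq : IsSquare ((-1 : F) ^ k))
    (B : LinearMap.BilinForm F W) (b : Basis (Fin (2 * k)) F W)
    (hb : ∀ i j, B (b i) (b j) = if i = j then 1 else 0) :
    ∃ e : W ≃ₗ[F] (Fin k ⊕ Fin k → F), ∀ u w, polB (plusQ F k) (e u) (e w) = B u w := by
  obtain ⟨α, hα⟩ := exists_nonsq (F := F) h2
  obtain ⟨k, rfl⟩ : ∃ j, k = j + 1 := ⟨k - 1, by omega⟩
  have hnd : Bases.NondegOn (polB (plusQ F (k + 1))) ⊤ := fun x _ hx =>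
    (plusQ_nondeg F (k + 1)).1 x fun y => hx y Submodule.mem_top
  obtain ⟨w, -, hwo, hw1, hwl⟩ := Bases.exists_symm_normal h2 (polB (plusQ F (k + 1))) polB_symm α hα
    (n := 2 * k + 1) ⊤ hnd (by rw [finrank_top, Module.finrank_pi]; simp; ring)
  have hne : ∀ i, polB (plusQ F (k + 1)) (w i) (w i) ≠ 0 := fun i => by
    by_cases hi : i = Fin.last (2 * k + 1)
    · subst hi
      rcases hwl with h | h <;> rw [h]
      exacts [one_ne_zero, fun h0 => hα (h0 ▸ ⟨0, by simp⟩)]
    · rw [hw1 i hi]; exact one_ne_zero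
  let b₀ : Basis (Fin (2 * k + 1 + 1)) F (Fin (k + 1) ⊕ Fin (k + 1) → F) :=
    basisOfLinearIndependentOfCardEqFinrank (Bases.linearIndependent_of_orth hwo hne) (by simp; ring)
  let b₁ : Basis (Fin (2 * (k + 1))) F (Fin (k + 1) ⊕ Fin (k + 1) → F) :=
    b₀.reindex (finCongr (by ring))
  have hb₁ : ∀ i, b₁ i = w (Fin.cast (by ring) i) := fun i => by simp [b₁, b₀]
  have hd : ∀ i j, polB (plusQ F (k + 1)) (b₁ i) (b₁ j) =
      if i = j then polB (plusQ F (k + 1)) (b₁ i) (b₁ i) else 0 := fun i j => by
    split_ifs with h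
    · rw [h]
    · rw [hb₁, hb₁, hwo _ _ fun e => h (by simpa using congrArg Fin.val e |> Fin.ext)]
  obtain ⟨L, hL, hiso⟩ := plus_isotropic (F := F) (k + 1)
  have hprod := isSquare_of_isotropic polB_symm b₁ _ hd L hL hiso
  have hlast : polB (plusQ F (k + 1)) (w (Fin.last (2 * k + 1))) (w (Fin.last (2 * k + 1))) = 1 := by
    refine hwl.resolve_right fun hl => hα ?_
    rw [Finset.prod_eq_single (Fin.cast (by ring) (Fin.last (2 * k + 1)))] at hprod
    · simp only [hb₁, Fin.cast_eq_self, hl] at hprod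
      have hsq' := hsq.mul hprod
      rwa [← mul_assoc, ← mul_pow, neg_mul_neg, one_mul, one_pow, one_mul] at hsq'
    · intro i _ hi
      rw [hb₁, hw1 _ fun e => hi (by rw [← e]; simp)]
    · simp
  have hd1 : ∀ i j, polB (plusQ F (k + 1)) (b₁ i) (b₁ j) = if i = j then 1 else 0 := fun i j => by
    rw [hd]
    split_ifs with h
    · rw [hb₁]
      by_cases hi : Fin.cast (show 2 * (k + 1) = 2 * k + 1 + 1 by ring) i = Fin.last (2 * k + 1)
      · rw [hi]; exact hlast
      · exact hw1 _ hi
    · rfl
  refine ⟨b.equiv b₁ (Equiv.refl _), fun u w => ?_⟩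
  refine LinearMap.congr_fun₂ (LinearMap.ext_basis (B := (polB (plusQ F (k + 1))).compl₁₂
    (b.equiv b₁ (Equiv.refl _)).toLinearMap (b.equiv b₁ (Equiv.refl _)).toLinearMap) (B' := B) b b
    fun i j => ?_) u w
  simp [hd1, hb]

end Plus

section Main

variable [Fintype F] {ι : Type} [Fintype ι] [DecidableEq ι] {Q : QuadraticForm F (ι → F)}

/-- `Ω_{2k+3}(q)` has no commuting elements of orders `r`, `p`, `2` -/
theorem no_triple {p : ℕ} [Fact p.Prime] [CharP F p] (h2 : (2 : F) ≠ 0)
    (hQ : (QuadraticMap.polarBilin Q).Nondegenerate) {k r e : ℕ} (hn : Fintype.card ι = 2 * k + 3)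
    (hr : r.Prime) (hr2 : r ≠ 2) (hrF : (r : F) ≠ 0) (hk : 2 ≤ k)
    (he : e = orderOf ((Fintype.card F : ℕ) : ZMod r))
    (hcase : (e = 2 * k ∧ IsSquare ((-1 : F) ^ k)) ∨ (e = k ∧ Odd k ∧ ¬ IsSquare ((-1 : F) ^ k)))
    {g₀ g₁ z : Cfsg.isometryGroup F ⇑Q} (hz : z ∈ Cfsg.Omega F ⇑Q) (hg₀ : g₀ ^ r = 1) (hg₀' : g₀ ≠ 1)
    (hg₁ : g₁ ^ p = 1) (hg₁' : g₁ ≠ 1) (hz2 : z ^ 2 = 1) (hz' : z ≠ 1) (c01 : Commute g₀ g₁)
    (c0z : Commute g₀ z) (c1z : Commute g₁ z) : False := by
  classical
  have hh : Fintype.card F ≠ 2 ∨ Fintype.card ι ≠ 4 := Or.inr (by omega)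
  have hek : e = 2 * k ∨ (Odd k ∧ e = k) := hcase.imp (fun h => h.1) fun h => ⟨h.2.1, h.1⟩
  have hS : (polB Q).IsSymm := polB_symm
  have hVn : finrank F (ι → F) = 2 * k + 3 := by rw [Module.finrank_pi, hn]
  set f := actHom Q g₀ with hf
  set u := actHom Q g₁ with hu
  set s := actHom Q z with hs
  have hfr : f ^ r = 1 := by rw [hf, ← map_pow, hg₀, map_one]
  have hup : u ^ p = 1 := by rw [hu, ← map_pow, hg₁, map_one]
  have hs2 : s ^ 2 = 1 := by rw [hs, ← map_pow, hz2, map_one]
  have cfu : Commute f u := c01.map _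
  have cfs : Commute f s := c0z.map _
  have cus : Commute u s := c1z.map _
  have hfI := actHom_isom g₀
  rw [← hf] at hfI
  let U := LinearMap.ker (f - 1)
  let W := LinearMap.range (f - 1)
  have hUmem : ∀ x, x ∈ U ↔ f x = x := fun x => by simp [U, sub_eq_zero]
  -- the decomposition
  have hdisj : ∀ x, x ∈ U → x ∈ W → x = 0 := by
    rintro x hxU ⟨y, rfl⟩
    rw [hUmem] at hxU
    have hpow : ∀ j : ℕ, (f ^ j) ((f - 1) y) = (f - 1) y := fun j => by
      induction j with
      | zero => rfl
      | succ j ih => rw [pow_succ', Module.End.mul_apply, ih, hxU]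
    have hsum : (∑ j ∈ Finset.range r, f ^ j) * (f - 1) = 0 := by rw [geom_sum_mul, hfr, sub_self]
    have h := LinearMap.congr_fun hsum y
    rw [Module.End.mul_apply, LinearMap.sum_apply, Finset.sum_congr rfl fun j _ => hpow j,
      Finset.sum_const, Finset.card_range, ← Nat.cast_smul_eq_nsmul F, LinearMap.zero_apply] at h
    exact (smul_eq_zero.1 h).resolve_left hrF
  have hUW : IsCompl U W := by
    have hd : Disjoint U W := Submodule.disjoint_def.2 hdisj
    refine ⟨hd, codisjoint_iff.2 (Submodule.eq_top_of_disjoint U W ?_ hd)⟩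
    rw [add_comm, LinearMap.finrank_range_add_finrank_ker]
  have horth : ∀ x ∈ U, ∀ y ∈ W, polB Q x y = 0 := by
    rintro x hx _ ⟨y, rfl⟩
    rw [LinearMap.sub_apply, Module.End.one_apply, map_sub]
    conv_lhs => arg 1; rw [← (hUmem x).1 hx]
    rw [hfI, sub_self]
  have hVnd : ∀ x, (∀ y, polB Q x y = 0) → x = 0 := hQ.1
  have hsplit : ∀ y, ∃ a ∈ U, ∃ c ∈ W, a + c = y := fun y =>
    Submodule.mem_sup.1 (hUW.sup_eq_top ▸ Submodule.mem_top)
  have hWnd : Bases.NondegOn (polB Q) W := fun x hx h => hVnd x fun y => by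
    obtain ⟨a, ha, c, hc, rfl⟩ := hsplit y
    rw [map_add, h c hc, hS.eq, horth a ha x hx, add_zero]
  have hUnd : Bases.NondegOn (polB Q) U := fun x hx h => hVnd x fun y => by
    obtain ⟨a, ha, c, hc, rfl⟩ := hsplit y
    rw [map_add, h a ha, horth x hx c hc, add_zero]
  have hinvW : ∀ {t : Module.End F (ι → F)}, Commute f t → ∀ x ∈ W, t x ∈ W := by
    rintro t ht _ ⟨y, rfl⟩
    exact ⟨t y, LinearMap.congr_fun ((ht.sub_left (Commute.one_left t)).eq) y⟩
  have hinvU : ∀ {t : Module.End F (ι → F)}, Commute f t → ∀ x ∈ U, t x ∈ U := fun {t} ht x hx => by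
    rw [hUmem] at hx ⊢
    rw [← Module.End.mul_apply, ht.eq, Module.End.mul_apply, hx]
  have hfW := hinvW (Commute.refl f)
  have hfix : ∀ v : W, f.restrict hfW v = v → v = 0 := fun v hv =>
    Subtype.ext (hdisj v.1 ((hUmem _).2 (congrArg Subtype.val hv)) v.2)
  have hWB := restrict_nondeg hS hWnd
  have hWI := isom_restrict hfI hfW
  have hfWr := SemisimpleConj.restrict_pow_eq_one hfr hfW
  have hWpos : 0 < finrank F W := by
    refine Nat.pos_of_ne_zero fun h => hg₀' (actHom_injective ?_)
    rw [map_one, ← hf, ← sub_eq_zero]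
    exact LinearMap.range_eq_bot.1 (Submodule.finrank_eq_zero.1 h)
  obtain ⟨hWd, hsf, -⟩ := dim_key h2 hr hr2 hrF he hk hek hWB hWI hfWr hfix
    (hVn ▸ Submodule.finrank_le W) hWpos
  have hUd : finrank F U = 3 := by
    have := Submodule.finrank_add_eq_of_isCompl hUW
    omega
  -- `u` is trivial on `W`
  have hNp : (u - 1) ^ p = 0 := by
    have h := congrArg (aeval u) (sub_pow_char (X : F[X]) 1 (p := p))
    simpa [hup] using h
  have hNW : ∀ x ∈ W, (u - 1) x ∈ W := hinvW (cfu.sub_right (Commute.one_right f))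
  have huW : ∀ x ∈ W, u x = x := fun x hx => by
    have h0 := SpectrumTools.eq_zero_of_commute (f.restrict hfW) ((u - 1).restrict hNW) hrF hfWr hsf
      (LinearMap.ext fun y => Subtype.ext (LinearMap.congr_fun (cfu.sub_right (Commute.one_right f)).eq y.1))
      ⟨p, by rw [Module.End.pow_restrict _ hNW]; exact LinearMap.ext fun y => Subtype.ext (by simp [hNp])⟩
    have := congrArg Subtype.val (LinearMap.congr_fun h0 ⟨x, hx⟩)
    exact sub_eq_zero.1 this
  -- `z` is a scalar on `U`
  have huU := hinvU cfu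
  have hsU := hinvU cfs
  obtain ⟨a, ha, hsa⟩ := three h2 (B := (polB Q).restrict U) ⟨fun x y => hS.eq x.1 y.1⟩
    (restrict_nondeg hS hUnd) hUd (isom_restrict (actHom_isom g₁) huU) (u := u.restrict huU)
    (fun h => hg₁' (actHom_injective (LinearMap.ext fun y => by
      obtain ⟨b, hb, c, hc, rfl⟩ := hsplit y
      rw [map_one, ← hu, map_add, huW c hc, Module.End.one_apply,
        show u b = b from congrArg Subtype.val (LinearMap.congr_fun h ⟨b, hb⟩)])))
    ⟨p, by
      have h := congrArg (aeval (u.restrict huU)) (sub_pow_char (X : F[X]) 1 (p := p))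
      simpa [SemisimpleConj.restrict_pow_eq_one hup huU] using h⟩
    (s := s.restrict hsU) (LinearMap.ext fun y => Subtype.ext (LinearMap.congr_fun cus.eq y.1))
    (SemisimpleConj.restrict_pow_eq_one hs2 hsU)
  have hsa' : ∀ x ∈ U, s x = a • x := fun x hx => congrArg Subtype.val (hsa ⟨x, hx⟩)
  -- `z` is a scalar on `W`
  have hsW := hinvW cfs
  obtain ⟨c, hc, hsc⟩ : ∃ c : F, (c = 1 ∨ c = -1) ∧ ∀ x ∈ W, s x = c • x := by
    let E : F → Submodule F (ι → F) := fun c => W ⊓ LinearMap.ker (s - algebraMap F _ c)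
    have hE : ∀ c x, x ∈ E c ↔ x ∈ W ∧ s x = c • x := fun c x => by
      simp [E, sub_eq_zero, Algebra.algebraMap_eq_smul_one]
    have hss : ∀ x, s (s x) = x := fun x => by
      rw [← Module.End.mul_apply, ← pow_two, hs2, Module.End.one_apply]
    have hdec : ∀ x ∈ W, ∃ a ∈ E 1, ∃ b ∈ E (-1), a + b = x := fun x hx => by
      refine ⟨(2⁻¹ : F) • (x + s x), (hE _ _).2 ⟨W.smul_mem _ (add_mem hx (hsW x hx)), ?_⟩,
        (2⁻¹ : F) • (x - s x), (hE _ _).2 ⟨W.smul_mem _ (sub_mem hx (hsW x hx)), ?_⟩, ?_⟩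
      · rw [map_smul, map_add, hss, one_smul, add_comm (s x)]
      · rw [map_smul, map_sub, hss, neg_one_smul, ← smul_neg, neg_sub]
      · rw [← smul_add, add_add_sub_cancel, ← two_smul F x, smul_smul, inv_mul_cancel₀ h2, one_smul]
    have hop : ∀ x ∈ E 1, ∀ y ∈ E (-1), polB Q x y = 0 := fun x hx y hy => by
      have h := actHom_isom z x y
      rw [← hs, ((hE _ _).1 hx).2, ((hE _ _).1 hy).2, one_smul, neg_one_smul, map_neg] at h
      have : 2 * polB Q x y = 0 := by linear_combination -h
      simpa [h2] using this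
    have hdim : ∀ c, Bases.NondegOn (polB Q) (E c) → finrank F (E c) = 0 ∨ finrank F (E c) = 2 * k := by
      intro c hnd
      rcases Nat.eq_zero_or_pos (finrank F (E c)) with h | h
      · exact Or.inl h
      · right
        have hfE : ∀ x ∈ E c, f x ∈ E c := fun x hx => by
          obtain ⟨h1, h2'⟩ := (hE _ _).1 hx
          refine (hE _ _).2 ⟨hfW x h1, ?_⟩
          rw [← Module.End.mul_apply, ← cfs.eq, Module.End.mul_apply, h2', map_smul]
        exact (dim_key h2 hr hr2 hrF he hk hek (restrict_nondeg hS hnd) (isom_restrict hfI hfE)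
          (SemisimpleConj.restrict_pow_eq_one hfr hfE) (fun v hv => Subtype.ext
            (hdisj v.1 ((hUmem _).2 (congrArg Subtype.val hv)) ((hE _ _).1 v.2).1))
          (hVn ▸ Submodule.finrank_le _) h).1
    have h1 := hdim 1 fun x hx h => hWnd x ((hE _ _).1 hx).1 fun y hy => by
      obtain ⟨p', hp', m, hm, rfl⟩ := hdec y hy
      rw [map_add, h p' hp', hop x hx m hm, add_zero]
    have h2' := hdim (-1) fun x hx h => hWnd x ((hE _ _).1 hx).1 fun y hy => by
      obtain ⟨p', hp', m, hm, rfl⟩ := hdec y hy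
      rw [map_add, h m hm, hS.eq, hop p' hp' x hx, add_zero]
    have hsum : E 1 ⊔ E (-1) = W := le_antisymm (sup_le inf_le_left inf_le_left) fun x hx => by
      obtain ⟨p', hp', m, hm, rfl⟩ := hdec x hx
      exact Submodule.add_mem_sup hp' hm
    have hbot : ∀ c, finrank F (E c) = 0 → E c = ⊥ := fun c h => Submodule.finrank_eq_zero.1 h
    rcases h1 with h1 | h1
    · refine ⟨-1, Or.inr rfl, fun x hx => ((hE (-1) x).1 ?_).2⟩
      rwa [← hsum, hbot 1 h1, bot_sup_eq] at hx
    · have hle : E (1 : F) = W := Submodule.eq_of_le_of_finrank_le inf_le_left (by omega)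
      exact ⟨1, Or.inl rfl, fun x hx => ((hE 1 x).1 (hle.symm ▸ hx)).2⟩
  have hth := (mem_omega_iff hQ hh z).1 hz
  obtain ⟨α, hα⟩ := exists_nonsq (F := F) h2
  have hα0 : α ≠ 0 := fun h => hα (h ▸ ⟨0, by simp⟩)
  have hQne : ∀ {x}, polB Q x x ≠ 0 → Q x ≠ 0 := fun {x} h h0 => h (by rw [polB_self, h0, mul_zero])
  -- orthogonal bases of `U` and `W`
  obtain ⟨bU, hbUW, hbUo, hbU1, hbUl⟩ := Bases.exists_symm_normal h2 (polB Q) hS α hα (n := 2) U hUnd hUd
  obtain ⟨k', hk'⟩ : ∃ k', 2 * k = k' + 1 := ⟨2 * k - 1, by omega⟩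
  obtain ⟨bW, hbWW, hbWo, hbW1, hbWl⟩ :=
    Bases.exists_symm_normal h2 (polB Q) hS α hα (n := k') W hWnd (hWd.trans hk')
  have hUne : ∀ i, polB Q (bU i) (bU i) ≠ 0 := fun i => by
    by_cases hi : i = Fin.last 2
    · subst hi; rcases hbUl with h | h <;> rw [h]
      exacts [one_ne_zero, hα0]
    · rw [hbU1 i hi]; exact one_ne_zero
  have hWne : ∀ i, polB Q (bW i) (bW i) ≠ 0 := fun i => by
    by_cases hi : i = Fin.last k'
    · subst hi; rcases hbWl with h | h <;> rw [h]
      exacts [one_ne_zero, hα0]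
    · rw [hbW1 i hi]; exact one_ne_zero
  have hspanU : Submodule.span F (Set.range bU) = U :=
    Submodule.eq_of_le_of_finrank_le (Submodule.span_le.2 (by rintro _ ⟨i, rfl⟩; exact hbUW i))
      (by rw [finrank_span_eq_card (Bases.linearIndependent_of_orth hbUo hUne), Fintype.card_fin, hUd])
  have hspanW : Submodule.span F (Set.range bW) = W :=
    Submodule.eq_of_le_of_finrank_le (Submodule.span_le.2 (by rintro _ ⟨i, rfl⟩; exact hbWW i))
      (by rw [finrank_span_eq_card (Bases.linearIndependent_of_orth hbWo hWne), Fintype.card_fin,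
        hWd, hk'])
  -- `z = (1 on U, -1 on W)`
  rcases hc with rfl | rfl
  · rcases ha with rfl | rfl
    · refine hz' (actHom_injective (LinearMap.ext fun y => ?_))
      obtain ⟨b, hb, c, hc, rfl⟩ := hsplit y
      rw [map_one, ← hs, map_add, hsa' b hb, hsc c hc, one_smul, one_smul, Module.End.one_apply]
    · have h := theta_neg hQ hh z bU hbUo (fun i => hQne (hUne i)) W
        (fun x hx i => horth _ (hbUW i) x hx) (by rw [hspanU, hUW.sup_eq_top])
        (fun i => (hsa' _ (hbUW i)).trans (neg_one_smul F _)) (fun x hx => (hsc x hx).trans (one_smul F x))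
      rw [hth] at h
      exact absurd (congrArg Prod.fst h) (by show (1 : ℤˣ) ≠ (-1) ^ (2 + 1); decide)
  · rcases ha with rfl | rfl
    swap
    · have h := theta_neg hQ hh z (Fin.append bU bW)
        (fun i j hij => by
          induction i using Fin.addCases with | _ i' => ?_ <;> induction j using Fin.addCases with | _ j' => ?_
          all_goals simp only [Fin.append_left, Fin.append_right]
          · exact hbUo i' j' fun e => hij (congrArg _ e)
          · exact horth _ (hbUW i') _ (hbWW j')
          · rw [QuadraticMap.polar_comm]; exact horth _ (hbUW j') _ (hbWW i')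
          · exact hbWo i' j' fun e => hij (congrArg _ e))
        (fun i => i.addCases (fun i' => by rw [Fin.append_left]; exact hQne (hUne i'))
          (fun i' => by rw [Fin.append_right]; exact hQne (hWne i'))) ⊥
        (fun x hx i => by rw [(Submodule.mem_bot F).1 hx, QuadraticMap.polar_zero_right])
        (by
          rw [sup_bot_eq, eq_top_iff, ← hUW.sup_eq_top, ← hspanU, ← hspanW]
          refine sup_le (Submodule.span_mono ?_) (Submodule.span_mono ?_) <;> rintro _ ⟨i, rfl⟩
          · exact ⟨Fin.castAdd _ i, Fin.append_left _ _ _⟩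
          · exact ⟨Fin.natAdd _ i, Fin.append_right _ _ _⟩)
        (fun i => i.addCases (fun i' => by
            rw [Fin.append_left]; exact (hsa' _ (hbUW i')).trans (neg_one_smul F _))
          (fun i' => by rw [Fin.append_right]; exact (hsc _ (hbWW i')).trans (neg_one_smul F _)))
        (fun x hx => by rw [(Submodule.mem_bot F).1 hx, map_zero])
      rw [hth] at h
      have h' := congrArg Prod.fst h
      change (1 : ℤˣ) = (-1) ^ (2 + 1 + (k' + 1)) at h'
      rw [← hk', pow_add, pow_mul] at h'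
      simp at h'
      exact absurd h' (by decide)
    have h := theta_neg hQ hh z bW hbWo (fun i => hQne (hWne i)) U
      (fun x hx i => by rw [QuadraticMap.polar_comm]; exact horth x hx _ (hbWW i))
      (by rw [hspanW, sup_comm, hUW.sup_eq_top])
      (fun i => (hsc _ (hbWW i)).trans (neg_one_smul F _)) (fun x hx => (hsa' x hx).trans (one_smul F x))
    rw [hth] at h
    have hprod : IsSquare (∏ i, Q (bW i)) := chi_eq_one_iff.1 (congrArg Prod.snd h).symm
    have hQv : ∀ i, Q (bW i) = 2⁻¹ * polB Q (bW i) (bW i) := fun i => by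
      rw [polB_self, ← mul_assoc, inv_mul_cancel₀ h2, one_mul]
    have hlast : polB Q (bW (Fin.last k')) (bW (Fin.last k')) = 1 := by
      refine hbWl.resolve_right fun hl => hα ?_
      rw [Finset.prod_congr rfl fun i _ => hQv i, Finset.prod_mul_distrib, Finset.prod_const,
        Finset.card_univ, Fintype.card_fin, Finset.prod_eq_single (Fin.last k')
          (fun i _ hi => hbW1 i hi) (by simp), hl, ← hk', pow_mul] at hprod
      obtain ⟨t, ht⟩ := hprod
      refine ⟨(2 : F) ^ k * t, ?_⟩
      have h22 : ((2 : F)⁻¹ ^ 2) ^ k * ((2 : F) ^ k * (2 : F) ^ k) = 1 := by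
        rw [← mul_pow, ← mul_pow]; field_simp; simp
      linear_combination ((2 : F) ^ k * 2 ^ k) * ht - α * h22
    let b : Basis (Fin (2 * k)) F W :=
      (basisOfLinearIndependentOfCardEqFinrank (b := fun i => (⟨bW i, hbWW i⟩ : W))
        (LinearIndependent.of_comp W.subtype (Bases.linearIndependent_of_orth hbWo hWne))
        (by simp [hWd, hk'])).reindex (finCongr hk'.symm)
    have hb : ∀ i j, (polB Q).restrict W (b i) (b j) = if i = j then 1 else 0 := fun i j => by
      show polB Q (b i : ι → F) (b j : ι → F) = _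
      simp only [b, Basis.reindex_apply, coe_basisOfLinearIndependentOfCardEqFinrank, finCongr_symm,
        finCongr_apply]
      split_ifs with hij
      · subst hij
        by_cases hi : Fin.cast hk' i = Fin.last k'
        · rw [hi]; exact hlast
        · exact hbW1 _ hi
      · exact hbWo _ _ fun e => hij (by simpa using e)
    rcases hcase with ⟨rfl, hsq⟩ | ⟨rfl, hkodd, hnsq⟩
    · obtain ⟨eW, heW⟩ := exists_equiv_plus h2 (by omega) hsq ((polB Q).restrict W) b hb
      obtain ⟨j, rfl⟩ : ∃ j, k = j + 1 := ⟨k - 1, by omega⟩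
      have hfinj : Function.Injective (f.restrict hfW) := fun x y hxy => by
        have := congrArg (fun v => ((f.restrict hfW) ^ (r - 1)) v) hxy
        simpa only [← Module.End.mul_apply, ← pow_succ, Nat.sub_add_cancel hr.one_le, hfWr,
          Module.End.one_apply] using this
      let fW : W ≃ₗ[F] W := LinearEquiv.ofInjectiveEndo (f.restrict hfW) hfinj
      let φ := (eW.symm.trans fW).trans eW
      have hself : ∀ x, 2 * plusQ F (j + 1) x = polB (plusQ F (j + 1)) x x := fun x => (polB_self x).symm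
      have hφ : ∀ x, plusQ F (j + 1) (φ x) = plusQ F (j + 1) x := fun x => by
        refine mul_left_cancel₀ h2 ?_
        rw [hself, hself]
        show polB _ (eW (fW (eW.symm x))) (eW (fW (eW.symm x))) = _
        rw [heW]
        refine (hWI (eW.symm x) (eW.symm x)).trans ?_
        rw [← heW, eW.apply_symm_apply]
      have hφpow : ∀ (i : ℕ) (x), act (isoOfEquiv (⇑(plusQ F (j + 1))) φ hφ ^ i) x =
          eW (((f.restrict hfW) ^ i) (eW.symm x)) := fun i x => by
        induction i generalizing x with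
        | zero => rw [pow_zero, pow_zero, act_one, Module.End.one_apply, eW.apply_symm_apply]
        | succ i ih =>
          rw [pow_succ, act_mul, ih, act_apply, isoOfEquiv_mulVec, pow_succ, Module.End.mul_apply]
          simp [φ, fW]
      have hord : orderOf (isoOfEquiv (⇑(plusQ F (j + 1))) φ hφ) = r := by
        have := Fact.mk hr
        refine orderOf_eq_prime (iso_ext fun x => ?_) fun h1 => ?_
        · rw [← act_apply, ← act_apply, hφpow, hfWr, act_one, Module.End.one_apply, eW.apply_symm_apply]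
        · obtain ⟨v, hv⟩ := Module.finrank_pos_iff_exists_ne_zero.1 hWpos
          refine hv (hfix v (eW.injective ?_))
          have h3 := hφpow 1 (eW v)
          rw [pow_one, pow_one, h1, act_one, eW.symm_apply_apply] at h3
          exact h3.symm
      have hdvd : r ∣ Nat.card (Cfsg.isometryGroup F ⇑(plusQ F (j + 1))) := hord ▸ orderOf_dvd_natCard _
      rw [natCard_O_plus rfl] at hdvd
      have hq1 : 1 ≤ Fintype.card F := Fintype.card_pos
      have hno : ∀ i, 0 < i → i < 2 * (j + 1) → ¬ r ∣ Fintype.card F ^ i - 1 := fun i h0 hi hd => by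
        have h1 : ((Fintype.card F : ℕ) : ZMod r) ^ i = 1 := by
          rw [← Nat.cast_pow, ← sub_eq_zero, ← Nat.cast_one, ← Nat.cast_sub (Nat.one_le_pow _ _ hq1),
            ZMod.natCast_eq_zero_iff]
          exact hd
        have := Nat.le_of_dvd h0 (he ▸ orderOf_dvd_of_pow_eq_one h1)
        omega
      rcases hr.dvd_mul.1 hdvd with hd | hd
      · rcases hr.dvd_mul.1 hd with hd | hd
        · rcases hr.dvd_mul.1 hd with hd | hd
          · exact hr2 ((Nat.prime_dvd_prime_iff_eq hr Nat.prime_two).1 hd)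
          · refine hrF ?_
            obtain ⟨n, hp, hpn⟩ := FiniteField.card F p
            have hd' := hr.dvd_of_dvd_pow hd
            rw [hpn] at hd'
            rw [(Nat.prime_dvd_prime_iff_eq hr hp).1 (hr.dvd_of_dvd_pow hd'), CharP.cast_eq_zero]
        · exact hno (j + 1) (by omega) (by omega) hd
      · obtain ⟨i, hi, hd⟩ := hr.prime.exists_mem_finset_dvd hd
        rw [Finset.mem_range] at hi
        exact hno (2 * (i + 1)) (by omega) (by omega) hd
    · obtain ⟨L, hL, hiso⟩ := exists_isotropic h2 hr hr2 hrF he hk hkodd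
        (B := (polB Q).restrict W) ⟨fun x y => hS.eq x.1 y.1⟩ hWB hWI hfWr hfix hWd
      have hsq := isSquare_of_isotropic (B := (polB Q).restrict W) ⟨fun x y => hS.eq x.1 y.1⟩ b
        (fun _ => 1) hb L hL hiso
      rw [Finset.prod_const_one, mul_one] at hsq
      exact hnsq hsq

end Main

end Cfsg.Agent.Classical.OddOrthSpectrum
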