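import Mathlib
import Cfsg.Agent.Lib.Classical.SemisimpleConj

/-!
# Matrices with a scalar power prime to the characteristic

The classes of such matrices correspond to the multisets of monic irreducible factors of
`X ^ k - c` of total degree `n`, through the characteristic polynomial.
-/

set_option autoImplicit false

namespace Cfsg.Agent.Classical.PowScalarClasses

open Polynomial Module
open scoped Matrix

universe u

variable {F : Type u} [Field F] [Fintype F]

theorem cast_exponent {k : ℕ} (hk : (k : F) ≠ 0) :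
    ((k * (Fintype.card F - 1) : ℕ) : F) ≠ 0 := by
  rw [Nat.cast_mul, Nat.cast_sub Fintype.card_pos, FiniteField.cast_card_eq_zero]
  simpa using hk

theorem pow_exponent {n k : ℕ} {c : F} (hc : c ≠ 0) {A : Matrix (Fin n) (Fin n) F}
    (hA : A ^ k = c • 1) : A ^ (k * (Fintype.card F - 1)) = 1 := by
  rw [pow_mul, hA, _root_.smul_pow, one_pow, FiniteField.pow_card_sub_one_eq_one c hc, one_smul]

/-- the irreducible factors of the characteristic polynomial divide `X ^ k - c` -/
theorem factor_dvd {n k : ℕ} {c : F} (hk : (k : F) ≠ 0) (hc : c ≠ 0)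
    {A : Matrix (Fin n) (Fin n) F} (hA : A ^ k = c • 1) {p : F[X]} (hp : Irreducible p)
    (hd : p ∣ A.charpoly) : p ∣ X ^ k - C c := by
  obtain ⟨u, hu0, hu⟩ := SemisimpleConj.exists_kills_of_dvd_charpoly _
    (Matrix.toLinAlgEquiv' A) rfl (cast_exponent hk)
    (by rw [← map_pow, pow_exponent hc hA, map_one]) hp
    (by rw [show (Matrix.toLinAlgEquiv' A).charpoly = A.charpoly from Matrix.charpoly_toLin' A]
        exact hd)
  by_contra hnd
  obtain ⟨a, b, hab⟩ := (hp.coprime_iff_not_dvd).2 hnd
  have hz : aeval (Matrix.toLinAlgEquiv' A) (X ^ k - C c) = 0 := by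
    rw [map_sub, map_pow, aeval_X, aeval_C, ← map_pow, hA, map_smul, map_one,
      Algebra.algebraMap_eq_smul_one, sub_self]
  apply hu0
  have h := congrArg (fun f : F[X] => aeval (Matrix.toLinAlgEquiv' A) f u) hab
  simp only [map_add, map_mul, map_one, LinearMap.add_apply, Module.End.mul_apply,
    Module.End.one_apply, hu, hz, map_zero, LinearMap.zero_apply, add_zero] at h
  exact h.symm

/-- every admissible multiset of factors occurs -/
theorem exists_matrix (k : ℕ) (c : F) (s : Multiset F[X])
    (hs : ∀ p ∈ s, p.Monic ∧ Irreducible p ∧ p ∣ X ^ k - C c) :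
    ∀ n, (s.map natDegree).sum = n →
      ∃ A : Matrix (Fin n) (Fin n) F, A ^ k = c • 1 ∧ A.charpoly = s.prod := by
  induction s using Multiset.induction with
  | empty =>
    intro n hn
    simp only [Multiset.map_zero, Multiset.sum_zero] at hn
    subst hn
    exact ⟨1, Subsingleton.elim _ _, by simp [Matrix.charpoly, Matrix.charmatrix]⟩
  | cons p s ih =>
    intro n hn
    obtain ⟨hpm, hp, hpd⟩ := hs p (Multiset.mem_cons_self _ _)
    obtain ⟨A, hA, hAc⟩ := ih (fun x hx => hs x (Multiset.mem_cons_of_mem hx)) _ rfl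
    rw [Multiset.map_cons, Multiset.sum_cons] at hn
    haveI : Fact (Irreducible p) := ⟨hp⟩
    haveI : Module.Finite F (AdjoinRoot p) := (AdjoinRoot.powerBasis hp.ne_zero).finite
    have hroot : AdjoinRoot.root p ^ k = algebraMap F (AdjoinRoot p) c := by
      rw [← sub_eq_zero]
      have := AdjoinRoot.mk_eq_zero.2 hpd
      rwa [map_sub, map_pow, AdjoinRoot.mk_X, AdjoinRoot.mk_C, ← AdjoinRoot.algebraMap_eq] at this
    let f := (SemisimpleConj.rootEnd p).prodMap (Matrix.toLinAlgEquiv' A)
    have hfpow : f ^ k = c • 1 := by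
      have h : ∀ i, f ^ i = (SemisimpleConj.rootEnd p ^ i).prodMap (Matrix.toLinAlgEquiv' A ^ i) := by
        intro i
        induction i with
        | zero => rfl
        | succ i hi => rw [pow_succ, pow_succ, pow_succ, hi]; rfl
      rw [h, SemisimpleConj.rootEnd, ← map_pow, hroot, ← map_pow _ A, hA, map_smul, map_one]
      refine LinearMap.ext fun x => Prod.ext ?_ ?_
      · show algebraMap F (AdjoinRoot p) c * x.1 = c • x.1
        rw [Algebra.smul_def]
      · rfl
    have hfd : finrank F (AdjoinRoot p × (Fin (s.map natDegree).sum → F)) = n := by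
      rw [Module.finrank_prod, (AdjoinRoot.powerBasis hp.ne_zero).finrank,
        AdjoinRoot.powerBasis_dim, Module.finrank_fin_fun, hn]
    let b := Module.finBasisOfFinrankEq F _ hfd
    refine ⟨LinearMap.toMatrixAlgEquiv b f, by rw [← map_pow, hfpow, map_smul, map_one], ?_⟩
    refine (LinearMap.charpoly_toMatrix f b).trans ?_
    rw [LinearMap.charpoly_prodMap, SemisimpleConj.charpoly_rootEnd hp.ne_zero, hpm.leadingCoeff,
      show (Matrix.toLinAlgEquiv' A).charpoly = A.charpoly from Matrix.charpoly_toLin' A, hAc,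
      Multiset.prod_cons]
    simp

/-- the admissible multisets -/
def Admissible (k n : ℕ) (c : F) (s : Multiset F[X]) : Prop :=
  (∀ p ∈ s, p.Monic ∧ Irreducible p ∧ p ∣ X ^ k - C c) ∧ (s.map natDegree).sum = n

theorem admissible_factors {k n : ℕ} {c : F} (hk : (k : F) ≠ 0) (hc : c ≠ 0)
    {A : Matrix (Fin n) (Fin n) F} (hA : A ^ k = c • 1) :
    ∃ s, Admissible k n c s ∧ A.charpoly = s.prod := by
  classical
  have hmonic := A.charpoly_monic
  refine ⟨UniqueFactorizationMonoid.normalizedFactors A.charpoly, ⟨fun p hp => ?_, ?_⟩, ?_⟩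
  · have hirr := UniqueFactorizationMonoid.irreducible_of_normalized_factor p hp
    refine ⟨?_, hirr, factor_dvd hk hc hA hirr
      (UniqueFactorizationMonoid.dvd_of_mem_normalizedFactors hp)⟩
    rw [← UniqueFactorizationMonoid.normalize_normalized_factor p hp]
    exact Polynomial.monic_normalize hirr.ne_zero
  all_goals
    have hprod : (UniqueFactorizationMonoid.normalizedFactors A.charpoly).prod = A.charpoly := by
      have h := UniqueFactorizationMonoid.prod_normalizedFactors hmonic.ne_zero
      refine eq_of_monic_of_associated ?_ hmonic h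
      refine monic_multiset_prod_of_monic _ (fun p => p) (fun p hp => ?_) |> fun x => by simpa using x
      rw [← UniqueFactorizationMonoid.normalize_normalized_factor p hp]
      exact Polynomial.monic_normalize
        (UniqueFactorizationMonoid.irreducible_of_normalized_factor p hp).ne_zero
  · have h := A.charpoly_natDegree_eq_dim
    rw [← hprod, natDegree_multiset_prod _
      (UniqueFactorizationMonoid.zero_notMem_normalizedFactors _), Fintype.card_fin] at h
    exact h
  · exact hprod.symm

theorem eq_of_prod_eq {k n : ℕ} {c : F} {s s' : Multiset F[X]} (hs : Admissible k n c s)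
    (hs' : Admissible k n c s') (h : s.prod = s'.prod) : s = s' := by
  classical
  have key : ∀ {m : Multiset F[X]}, Admissible k n c m →
      UniqueFactorizationMonoid.normalizedFactors m.prod = m := fun {m} hm => by
    rw [UniqueFactorizationMonoid.normalizedFactors_prod_eq m fun p hp => (hm.1 p hp).2.1]
    conv_rhs => rw [← Multiset.map_id m]
    exact Multiset.map_congr rfl fun p hp => (hm.1 p hp).1.normalize_eq_self
  rw [← key hs, h, key hs']

theorem isConj_of_charpoly {k n : ℕ} {c : F} (hk : (k : F) ≠ 0) (hc : c ≠ 0)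
    {g g' : GL (Fin n) F} (hg : (g : Matrix (Fin n) (Fin n) F) ^ k = c • 1)
    (hg' : (g' : Matrix (Fin n) (Fin n) F) ^ k = c • 1)
    (h : (g : Matrix (Fin n) (Fin n) F).charpoly = (g' : Matrix (Fin n) (Fin n) F).charpoly) :
    IsConj g g' := by
  obtain ⟨M, hM⟩ := SemisimpleConj.exists_matrix_conj _ _ (cast_exponent hk) (pow_exponent hc hg)
    (pow_exponent hc hg') h
  exact isConj_iff.2 ⟨M, mul_inv_eq_iff_eq_mul.2 (Units.ext hM)⟩

/-- **Classes with a given scalar power.** -/
theorem natCard_classes (k n : ℕ) (c : F) (hk : (k : F) ≠ 0) (hc : c ≠ 0) :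
    Nat.card {C : ConjClasses (GL (Fin n) F) // ∃ g : GL (Fin n) F,
        (g : Matrix (Fin n) (Fin n) F) ^ k = c • 1 ∧ ConjClasses.mk g = C} =
      Nat.card {s : Multiset F[X] // Admissible k n c s} := by
  classical
  have hk0 : k ≠ 0 := fun e => hk (by rw [e, Nat.cast_zero])
  have hex : ∀ s : {s : Multiset F[X] // Admissible k n c s}, ∃ g : GL (Fin n) F,
      (g : Matrix (Fin n) (Fin n) F) ^ k = c • 1 ∧
        (g : Matrix (Fin n) (Fin n) F).charpoly = s.1.prod := fun s => by
    obtain ⟨A, hA, hAc⟩ := exists_matrix k c s.1 s.2.1 n s.2.2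
    have hu : IsUnit A := by
      refine IsUnit.of_mul_eq_one (c⁻¹ • A ^ (k - 1)) ?_
      rw [mul_smul_comm, ← pow_succ', Nat.sub_add_cancel (Nat.one_le_iff_ne_zero.2 hk0), hA, smul_smul,
        inv_mul_cancel₀ hc, one_smul]
    exact ⟨hu.unit, hA, hAc⟩
  choose g hg hgc using hex
  refine (Nat.card_eq_of_bijective (fun s => (⟨ConjClasses.mk (g s), g s, hg s, rfl⟩ :
    {C : ConjClasses (GL (Fin n) F) // ∃ g : GL (Fin n) F,
      (g : Matrix (Fin n) (Fin n) F) ^ k = c • 1 ∧ ConjClasses.mk g = C})) ⟨?_, ?_⟩).symm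
  · intro s s' e
    obtain ⟨x, hx⟩ := isConj_iff.1 (ConjClasses.mk_eq_mk_iff_isConj.1 (congrArg Subtype.val e))
    refine Subtype.ext (eq_of_prod_eq s.2 s'.2 ?_)
    rw [← hgc, ← hgc, ← hx, Units.val_mul, Units.val_mul, Matrix.coe_units_inv, Matrix.charpoly_units_conj]
  · rintro ⟨_, x, hx, rfl⟩
    obtain ⟨s, hs, hsx⟩ := admissible_factors hk hc hx
    exact ⟨⟨s, hs⟩, Subtype.ext (ConjClasses.mk_eq_mk_iff_isConj.2
      (isConj_of_charpoly hk hc (hg _) hx ((hgc _).trans hsx.symm)))⟩

end Cfsg.Agent.Classical.PowScalarClasses
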