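import Mathlib
import Cfsg.Agent.Lib.Classical.PowScalarClasses

/-!
# Element orders in classical groups: common tools
-/

set_option autoImplicit false

namespace Cfsg.Agent.Classical.SpectrumTools

open Polynomial Module
open scoped Matrix
open Cfsg.Agent.Classical.PowScalarClasses (Admissible)

universe u v

section Quotient

variable {G : Type*} [Group G]

/-- elements of order prime to a central kernel lift with the same order -/
theorem exists_lift [Finite G] (Z : Subgroup G) [Z.Normal] {x : G ⧸ Z} {m : ℕ} (hx : orderOf x = m)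
    (hcop : Nat.Coprime m (Nat.card Z)) : ∃ g : G, orderOf g = m ∧ (g : G ⧸ Z) = x := by
  obtain ⟨g, rfl⟩ := QuotientGroup.mk_surjective x
  have hm : 0 < m := hx ▸ orderOf_pos _
  have hgm : g ^ m ∈ Z := by
    rw [← QuotientGroup.eq_one_iff, QuotientGroup.mk_pow, ← hx, pow_orderOf_eq_one]
  have hpow : (g ^ m) ^ Nat.card Z = 1 := by
    have h : (⟨g ^ m, hgm⟩ : Z) ^ Nat.card Z = 1 := pow_card_eq_one'
    exact congrArg Subtype.val h
  by_cases hm1 : m = 1
  · refine ⟨1, by rw [orderOf_one, hm1], ?_⟩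
    rw [hm1, orderOf_eq_one_iff] at hx
    rw [hx]; rfl
  · obtain ⟨e, -, he⟩ := Nat.exists_mul_mod_eq_one_of_coprime hcop.symm (by omega)
    have himg : ((g ^ (Nat.card Z * e) : G) : G ⧸ Z) = g := by
      rw [QuotientGroup.mk_pow, ← pow_mod_orderOf, hx, he, pow_one]
    refine ⟨g ^ (Nat.card Z * e), Nat.dvd_antisymm (orderOf_dvd_of_pow_eq_one ?_) ?_, himg⟩
    · rw [← pow_mul, show Nat.card Z * e * m = m * Nat.card Z * e by ring, pow_mul, pow_mul, hpow,
        one_pow]
    · conv_lhs => rw [← hx, ← himg]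
      exact orderOf_map_dvd (QuotientGroup.mk' Z) _

theorem orderOf_mk [Finite G] (Z : Subgroup G) [Z.Normal] {g : G}
    (hcop : Nat.Coprime (orderOf g) (Nat.card Z)) : orderOf (g : G ⧸ Z) = orderOf g := by
  refine Nat.dvd_antisymm (orderOf_map_dvd (QuotientGroup.mk' Z) _) ?_
  set a := orderOf (g : G ⧸ Z) with ha
  have hga : g ^ a ∈ Z := by
    rw [← QuotientGroup.eq_one_iff, QuotientGroup.mk_pow, ha, pow_orderOf_eq_one]
  have h1 : (g ^ a) ^ Nat.card Z = 1 := by
    have h : (⟨g ^ a, hga⟩ : Z) ^ Nat.card Z = 1 := pow_card_eq_one'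
    exact congrArg Subtype.val h
  rw [← pow_mul] at h1
  exact hcop.dvd_of_dvd_mul_right (orderOf_dvd_of_pow_eq_one h1)

/-- the product of commuting elements of order `r` and `p` modulo a central kernel -/
theorem orderOf_mk_mul (Z : Subgroup G) [Z.Normal] {s t : G} (hst : Commute s t) {r p : ℕ}
    (hr : r.Prime) (hp : p.Prime) (hrp : r ≠ p) (hs : s ^ r ∈ Z) (hs' : s ∉ Z) (ht : t ^ p ∈ Z)
    (ht' : t ∉ Z) : orderOf ((s * t : G) : G ⧸ Z) = r * p := by
  have : Fact r.Prime := ⟨hr⟩
  have : Fact p.Prime := ⟨hp⟩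
  have h1 : orderOf (s : G ⧸ Z) = r := orderOf_eq_prime
    (by rw [← QuotientGroup.mk_pow, QuotientGroup.eq_one_iff]; exact hs)
    (by rwa [Ne, QuotientGroup.eq_one_iff])
  have h2 : orderOf (t : G ⧸ Z) = p := orderOf_eq_prime
    (by rw [← QuotientGroup.mk_pow, QuotientGroup.eq_one_iff]; exact ht)
    (by rwa [Ne, QuotientGroup.eq_one_iff])
  have hc : Commute (s : G ⧸ Z) (t : G ⧸ Z) := hst.map (QuotientGroup.mk' Z)
  rw [QuotientGroup.mk_mul, hc.orderOf_mul_eq_mul_orderOf_of_coprime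
    (by rw [h1, h2]; exact (Nat.coprime_primes hr hp).2 hrp), h1, h2]

end Quotient

variable {F : Type u} [Field F] [Fintype F]

/-- the degree of an irreducible factor of a cyclotomic polynomial -/
theorem natDegree_of_dvd_cyclotomic {d : ℕ} (hd : (d : F) ≠ 0) {x : F[X]} (hx : Irreducible x)
    (hdvd : x ∣ cyclotomic d F) : x.natDegree = orderOf ((Fintype.card F : ℕ) : ZMod d) := by
  obtain ⟨c, hc⟩ := CharP.exists F
  have := hc
  obtain ⟨f, hc', hf⟩ := FiniteField.card F c
  have : Fact c.Prime := ⟨hc'⟩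
  have hn : c.Coprime d :=
    (Nat.Prime.coprime_iff_not_dvd hc').2 fun h => hd ((CharP.cast_eq_zero_iff F c d).2 h)
  rw [Polynomial.natDegree_of_dvd_cyclotomic_of_irreducible (p := c) (f := f) hf hn hdvd hx,
    ← orderOf_units, ZMod.coe_unitOfCoprime, hf]

theorem exists_factor {d : ℕ} (hd : (d : F) ≠ 0) :
    ∃ x : F[X], x.Monic ∧ Irreducible x ∧ x ∣ cyclotomic d F ∧
      x.natDegree = orderOf ((Fintype.card F : ℕ) : ZMod d) := by
  have hd0 : 0 < d := Nat.pos_of_ne_zero fun e => hd (by rw [e, Nat.cast_zero])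
  obtain ⟨x, hm, hi, r, hr⟩ := exists_monic_irreducible_factor (cyclotomic d F) (fun h => by
    have := natDegree_eq_zero_of_isUnit h
    rw [natDegree_cyclotomic] at this
    exact (Nat.totient_pos.2 hd0).ne' this)
  exact ⟨x, hm, hi, ⟨r, hr⟩, natDegree_of_dvd_cyclotomic hd hi ⟨r, hr⟩⟩

theorem dvd_X_pow_sub_one {d k : ℕ} (hdk : d ∣ k) (hk : 0 < k) {x : F[X]}
    (hx : x ∣ cyclotomic d F) : x ∣ X ^ k - C 1 := by
  rw [map_one, ← prod_cyclotomic_eq_X_pow_sub_one hk F]
  exact hx.trans (Finset.dvd_prod_of_mem _ (Nat.mem_divisors.2 ⟨hdk, hk.ne'⟩))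

theorem exists_divisor {k : ℕ} (hk : 0 < k) {x : F[X]} (hx : Irreducible x)
    (hd : x ∣ X ^ k - C 1) : ∃ d, d ∣ k ∧ x ∣ cyclotomic d F := by
  rw [map_one, ← prod_cyclotomic_eq_X_pow_sub_one hk F] at hd
  obtain ⟨d, hd', hxd⟩ := hx.prime.exists_mem_finset_dvd hd
  exact ⟨d, (Nat.mem_divisors.1 hd').1, hxd⟩

omit [Fintype F] in
theorem dvd_of_dvd_pow_sub_one {d e : ℕ} (hd : (d : F) ≠ 0) {x : F[X]} (hx : Irreducible x)
    (hxd : x ∣ cyclotomic d F) (hxe : x ∣ X ^ e - C 1) : d ∣ e := by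
  have : Fact (Irreducible x) := ⟨hx⟩
  have hd' : ((d : ℕ) : AdjoinRoot x) ≠ 0 := by
    rw [← map_natCast (algebraMap F (AdjoinRoot x))]
    exact (map_ne_zero_iff _ (algebraMap F (AdjoinRoot x)).injective).2 hd
  have : NeZero ((d : ℕ) : AdjoinRoot x) := ⟨hd'⟩
  have h1 : IsPrimitiveRoot (AdjoinRoot.root x) d := by
    rw [← isRoot_cyclotomic_iff, ← map_cyclotomic d (algebraMap F (AdjoinRoot x)), IsRoot,
      eval_map, ← aeval_def, AdjoinRoot.aeval_eq]
    exact AdjoinRoot.mk_eq_zero.2 hxd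
  have h2 : AdjoinRoot.root x ^ e = 1 := by
    rw [← sub_eq_zero]
    have := AdjoinRoot.mk_eq_zero.2 hxe
    rwa [map_sub, map_pow, AdjoinRoot.mk_X, AdjoinRoot.mk_C, map_one] at this
  exact h1.dvd_of_pow_eq_one e h2

/-- a semisimple matrix is killed by every exponent killing its factors -/
theorem pow_eq_one_of_factors {n k e : ℕ} (hk : (k : F) ≠ 0) (he : (e : F) ≠ 0)
    {A : Matrix (Fin n) (Fin n) F} (hA : A ^ k = 1) {s : Multiset F[X]}
    (hs : Admissible k n 1 s) (hAs : A.charpoly = s.prod) (hse : ∀ x ∈ s, x ∣ X ^ e - C 1) :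
    A ^ e = 1 := by
  obtain ⟨B, hB, hBc⟩ := PowScalarClasses.exists_matrix e (1 : F) s
    (fun x hx => ⟨(hs.1 x hx).1, (hs.1 x hx).2.1, hse x hx⟩) n hs.2
  rw [one_smul] at hB
  obtain ⟨M, hM⟩ := SemisimpleConj.exists_matrix_conj A B (k := k * e)
    (by rw [Nat.cast_mul]; exact mul_ne_zero hk he)
    (by rw [pow_mul, hA, one_pow]) (by rw [mul_comm, pow_mul, hB, one_pow]) (hAs.trans hBc.symm)
  have h := (SemiconjBy.pow_right (show SemiconjBy (M : Matrix (Fin n) (Fin n) F) A B from hM) e).eq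
  rw [hB, one_mul] at h
  exact M.isUnit.mul_left_cancel (h.trans (mul_one _).symm)

section Centralizer

variable {V : Type v} [AddCommGroup V] [Module F V] [FiniteDimensional F V]

omit [Fintype F] in
theorem charpoly_of_compl (f : Module.End F V) {U W : Submodule F V} (hUW : IsCompl U W)
    (hU : ∀ x ∈ U, f x ∈ U) (hW : ∀ x ∈ W, f x ∈ W) :
    f.charpoly = (f.restrict hU).charpoly * (f.restrict hW).charpoly := by
  let E := Submodule.prodEquivOfIsCompl U W hUW
  have hconj : E.conj ((f.restrict hU).prodMap (f.restrict hW)) = f := LinearMap.ext fun x => by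
    obtain ⟨⟨y, z⟩, rfl⟩ := E.surjective x
    rw [LinearEquiv.conj_apply_apply, LinearEquiv.symm_apply_apply]
    simp [E]
  rw [← LinearMap.charpoly_prodMap, ← LinearEquiv.charpoly_conj E, hconj]

omit [Fintype F] in
/-- with a squarefree characteristic polynomial there is no commuting nilpotent -/
theorem eq_zero_of_commute (f N : Module.End F V) {k : ℕ} (hk : (k : F) ≠ 0) (hf : f ^ k = 1)
    (hsf : Squarefree f.charpoly) (hc : Commute f N) (hN : IsNilpotent N) : N = 0 := by
  classical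
  by_contra hne
  have : Nontrivial (Module.End F V) := ⟨N, 0, hne⟩
  obtain ⟨j, hj⟩ : ∃ j, nilpotencyClass N = j + 2 := by
    refine ⟨nilpotencyClass N - 2, ?_⟩
    have h2 : nilpotencyClass N ≠ 0 := fun h => by
      have := pow_nilpotencyClass hN
      rw [h, pow_zero] at this
      exact hne (by rw [← one_mul N, this, zero_mul])
    have h3 : nilpotencyClass N ≠ 1 := fun h => by
      have := pow_nilpotencyClass hN
      rw [h, pow_one] at this
      exact hne this
    omega
  set M := N ^ (j + 1) with hM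
  have hM0 : M ≠ 0 := pow_pred_nilpotencyClass hN |> fun h => by
    rwa [hj] at h
  have hMM : M * M = 0 := by
    rw [hM, ← pow_add]
    exact _root_.pow_eq_zero_of_le (by omega) (pow_nilpotencyClass hN)
  have hcM : Commute f M := hc.pow_right _
  have hker : ∀ x ∈ LinearMap.ker M, f x ∈ LinearMap.ker M := fun x hx => by
    rw [LinearMap.mem_ker] at hx ⊢
    rw [← Module.End.mul_apply, ← hcM.eq, Module.End.mul_apply, hx, map_zero]
  obtain ⟨C, hC, hCf⟩ := CentralizerDet.exists_invariant_compl f hk hf hker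
  set g := f.restrict hker with hg
  let W : Submodule F (LinearMap.ker M) := (LinearMap.range M).comap (LinearMap.ker M).subtype
  have hWf : ∀ x ∈ W, g x ∈ W := by
    rintro x ⟨y, hy⟩
    exact ⟨f y, by rw [← Module.End.mul_apply, ← hcM.eq, Module.End.mul_apply, hy]; rfl⟩
  obtain ⟨D, hD, hDg⟩ := CentralizerDet.exists_invariant_compl g hk
    (SemisimpleConj.restrict_pow_eq_one hf hker) hWf
  -- `M` maps `C` onto its range
  let φ : C →ₗ[F] W := LinearMap.codRestrict W
    (LinearMap.codRestrict (LinearMap.ker M) (M.comp C.subtype) fun x => by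
      rw [LinearMap.mem_ker, LinearMap.comp_apply, ← Module.End.mul_apply, hMM, LinearMap.zero_apply])
    fun x => ⟨x, rfl⟩
  have hφ : Function.Bijective φ := by
    refine ⟨fun x y e => ?_, ?_⟩
    · have h1 : M (x - y : C) = 0 := by
        have : M x = M y := congrArg (fun z : W => ((z : LinearMap.ker M) : V)) e
        rw [Submodule.coe_sub, map_sub, this, sub_self]
      have h2 : ((x - y : C) : V) ∈ LinearMap.ker M ⊓ C :=
        Submodule.mem_inf.2 ⟨LinearMap.mem_ker.2 h1, (x - y).2⟩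
      rw [hC.inf_eq_bot, Submodule.mem_bot] at h2
      exact sub_eq_zero.1 (Subtype.ext h2)
    · rintro ⟨w, y, hy⟩
      obtain ⟨a, ha, b, hb, rfl⟩ := Submodule.mem_sup.1
        (show y ∈ LinearMap.ker M ⊔ C by rw [hC.sup_eq_top]; trivial)
      refine ⟨⟨b, hb⟩, Subtype.ext (Subtype.ext ?_)⟩
      show M b = (w : V)
      rw [map_add, LinearMap.mem_ker.1 ha, zero_add] at hy
      exact hy
  let E := LinearEquiv.ofBijective φ hφ
  have hconj : E.conj (f.restrict hCf) = g.restrict hWf := LinearMap.ext fun w => by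
    obtain ⟨x, rfl⟩ := E.surjective w
    rw [LinearEquiv.conj_apply_apply, LinearEquiv.symm_apply_apply]
    refine Subtype.ext (Subtype.ext ?_)
    show M (f x) = f (M x)
    rw [← Module.End.mul_apply, ← hcM.eq, Module.End.mul_apply]
  have hdvd : (g.restrict hWf).charpoly * (g.restrict hWf).charpoly ∣ f.charpoly := by
    rw [charpoly_of_compl f hC hker hCf, ← hg, charpoly_of_compl g hD hWf hDg,
      show (f.restrict hCf).charpoly = (g.restrict hWf).charpoly by
        rw [← hconj, LinearEquiv.charpoly_conj]]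
    exact ⟨(g.restrict hDg).charpoly, by ring⟩
  have hu := hsf _ hdvd
  have hdim : finrank F W = 0 := by
    rw [← LinearMap.charpoly_natDegree (g.restrict hWf)]
    exact natDegree_eq_zero_of_isUnit hu
  have hsub : Subsingleton W := Module.finrank_zero_iff.1 hdim
  have hCs : Subsingleton C := E.toEquiv.subsingleton
  refine hM0 (LinearMap.ext fun y => ?_)
  obtain ⟨a, ha, b, hb, rfl⟩ := Submodule.mem_sup.1
    (show y ∈ LinearMap.ker M ⊔ C by rw [hC.sup_eq_top]; trivial)
  have : b = 0 := congrArg Subtype.val (Subsingleton.elim (⟨b, hb⟩ : C) 0)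
  rw [this, add_zero, LinearMap.mem_ker.1 ha, LinearMap.zero_apply]

end Centralizer

/-- matrix form -/
theorem matrix_eq_one_of_commute {n p : ℕ} [Fact p.Prime] [CharP F p] {S U : Matrix (Fin n) (Fin n) F}
    {k : ℕ} (hk : (k : F) ≠ 0) (hS : S ^ k = 1) (hsf : Squarefree S.charpoly) (hc : Commute S U)
    {a : ℕ} (hU : U ^ p ^ a = 1) : U = 1 := by
  rw [← sub_eq_zero]
  refine (Matrix.toLinAlgEquiv' (R := F) (n := Fin n)).injective ?_
  rw [map_zero]
  refine eq_zero_of_commute (Matrix.toLinAlgEquiv' S) _ hk (by rw [← map_pow, hS, map_one])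
    (by rw [show (Matrix.toLinAlgEquiv' S).charpoly = S.charpoly from Matrix.charpoly_toLin' S]; exact hsf)
    ((hc.sub_right (Commute.one_right S)).map _) ⟨p ^ a, ?_⟩
  rw [← map_pow]
  have : (U - 1) ^ p ^ a = U ^ p ^ a - 1 := by
    have h : (Polynomial.X - 1 : Polynomial F) ^ p ^ a = Polynomial.X ^ p ^ a - 1 := by
      rw [sub_pow_char_pow, one_pow]
    simpa using congrArg (Polynomial.aeval U) h
  rw [this, hU, sub_self, map_zero]

end Cfsg.Agent.Classical.SpectrumTools
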