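import Mathlib
import Cfsg.Agent.Lib.Classical.SpectrumTools

/-!
# Irreducible factors of semisimple elements: degree bookkeeping
-/

set_option autoImplicit false

namespace Cfsg.Agent.Classical.SpectrumFactors

open Polynomial Module
open Cfsg.Agent.Classical.PowScalarClasses (Admissible)

universe u

variable {F : Type u} [Field F]

/-- distinct irreducible factors have total degree at most the dimension -/
theorem sum_le {ι : Type*} [Fintype ι] [DecidableEq ι] {A : Matrix ι ι F} (T : Finset F[X])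
    (h : ∀ x ∈ T, x.Monic ∧ Irreducible x ∧ x ∣ A.charpoly) :
    ∑ x ∈ T, x.natDegree ≤ Fintype.card ι := by
  classical
  rw [← A.charpoly_natDegree_eq_dim, ← natDegree_prod_of_monic T (fun x => x) fun x hx => (h x hx).1]
  refine natDegree_le_of_dvd (Finset.prod_dvd_of_coprime ?_ fun x hx => (h x hx).2.2)
    A.charpoly_monic.ne_zero
  intro x hx y hy hxy
  refine ((h x hx).2.1.coprime_iff_not_dvd).2 fun hd => hxy ?_
  exact eq_of_monic_of_associated (h x hx).1 (h y hy).1 ((h x hx).2.1.associated_of_dvd (h y hy).2.1 hd)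

theorem squarefree_prod {s : Multiset F[X]} (hs : ∀ x ∈ s, x.Monic ∧ Irreducible x) (hnd : s.Nodup) :
    Squarefree s.prod := by
  classical
  have h0 : s.prod ≠ 0 := (monic_multiset_prod_of_monic s (fun x => x) fun x hx => (hs x hx).1).ne_zero |>
    fun h => by simpa using h
  rw [UniqueFactorizationMonoid.squarefree_iff_nodup_normalizedFactors h0,
    UniqueFactorizationMonoid.normalizedFactors_prod_eq s fun x hx => (hs x hx).2,
    Multiset.map_congr rfl fun x hx => (hs x hx).1.normalize_eq_self, Multiset.map_id']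
  exact hnd

/-- factors of full degree make the characteristic polynomial squarefree -/
theorem squarefree_of_card_le {ι : Type*} [Fintype ι] [DecidableEq ι] {A : Matrix ι ι F} (T : Finset F[X])
    (h : ∀ x ∈ T, x.Monic ∧ Irreducible x ∧ x ∣ A.charpoly)
    (hcard : Fintype.card ι ≤ ∑ x ∈ T, x.natDegree) : Squarefree A.charpoly := by
  classical
  have hd : ∏ x ∈ T, x ∣ A.charpoly := by
    refine Finset.prod_dvd_of_coprime ?_ fun x hx => (h x hx).2.2
    intro x hx y hy hxy
    refine ((h x hx).2.1.coprime_iff_not_dvd).2 fun hd => hxy ?_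
    exact eq_of_monic_of_associated (h x hx).1 (h y hy).1 ((h x hx).2.1.associated_of_dvd (h y hy).2.1 hd)
  have hm : (∏ x ∈ T, x).Monic := monic_prod_of_monic T (fun x => x) fun x hx => (h x hx).1
  rw [eq_of_monic_of_dvd_of_natDegree_le hm A.charpoly_monic hd (by
    rw [A.charpoly_natDegree_eq_dim, natDegree_prod_of_monic T (fun x => x) fun x hx => (h x hx).1]
    exact hcard)]
  exact squarefree_prod (s := T.val) (fun x hx => ⟨(h x hx).1, (h x hx).2.1⟩) T.nodup |>
    fun h' => by rwa [Finset.prod_eq_multiset_prod, Multiset.map_id']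

theorem orderOf_dvd_orderOf {r d : ℕ} (q : ℕ) (h : r ∣ d) :
    orderOf (q : ZMod r) ∣ orderOf (q : ZMod d) := by
  have h1 := orderOf_map_dvd (ZMod.castHom h (ZMod r)).toMonoidHom (q : ZMod d)
  simpa using h1

theorem orderOf_mul_coprime {r s : ℕ} (q : ℕ) (h : r.Coprime s) :
    orderOf (q : ZMod (r * s)) = Nat.lcm (orderOf (q : ZMod r)) (orderOf (q : ZMod s)) := by
  rw [← orderOf_injective (ZMod.chineseRemainder h).toMonoidHom (ZMod.chineseRemainder h).injective,
    Prod.orderOf]
  have h1 : (ZMod.chineseRemainder h).toMonoidHom (q : ZMod (r * s)) = ((q : ℕ) : ZMod r × ZMod s) :=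
    map_natCast (ZMod.chineseRemainder h) q
  rw [h1, Prod.fst_natCast, Prod.snd_natCast]

theorem orderOf_pos_of_coprime {r q : ℕ} [NeZero r] (h : q.Coprime r) : 0 < orderOf (q : ZMod r) := by
  rw [← ZMod.coe_unitOfCoprime q h, orderOf_units]
  exact orderOf_pos _

theorem not_dvd_sub_one_iff {r q : ℕ} (hr : r.Prime) (hq : 1 ≤ q) :
    orderOf (q : ZMod r) = 1 ↔ r ∣ q - 1 := by
  rw [orderOf_eq_one_iff, ← Nat.cast_one, ← sub_eq_zero, ← Nat.cast_sub hq,
    ZMod.natCast_eq_zero_iff]

variable [Fintype F]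

/-- some factor sees the part of the order missed by `e` -/
theorem exists_factor_of_pow_ne {n k e : ℕ} (hk : (k : F) ≠ 0) (he : (e : F) ≠ 0)
    {A : Matrix (Fin n) (Fin n) F} (hA : A ^ k = 1) (hAe : A ^ e ≠ 1) :
    ∃ x : F[X], ∃ d : ℕ, x.Monic ∧ Irreducible x ∧ x ∣ A.charpoly ∧ d ∣ k ∧ x ∣ cyclotomic d F ∧
      ¬ d ∣ e := by
  obtain ⟨s, hs, hAs⟩ := PowScalarClasses.admissible_factors hk one_ne_zero (by rwa [one_smul])
  have hk0 : 0 < k := Nat.pos_of_ne_zero fun h => hk (by rw [h, Nat.cast_zero])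
  have he0 : 0 < e := Nat.pos_of_ne_zero fun h => he (by rw [h, Nat.cast_zero])
  by_contra hno
  push Not at hno
  refine hAe (SpectrumTools.pow_eq_one_of_factors hk he hA hs hAs fun x hx => ?_)
  obtain ⟨d, hdk, hxd⟩ := SpectrumTools.exists_divisor hk0 (hs.1 x hx).2.1 (hs.1 x hx).2.2
  exact SpectrumTools.dvd_X_pow_sub_one
    (hno x d (hs.1 x hx).1 (hs.1 x hx).2.1 (hAs ▸ Multiset.dvd_prod hx) hdk hxd) he0 hxd

/-- a factor of multiplicative order `d` forces `A ^ e ≠ 1` unless `d ∣ e` -/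
theorem dvd_of_pow_eq_one {n d e : ℕ} (hd : (d : F) ≠ 0) (he : (e : F) ≠ 0)
    {A : Matrix (Fin n) (Fin n) F} {x : F[X]} (hx : Irreducible x) (hxd : x ∣ cyclotomic d F)
    (hxA : x ∣ A.charpoly) (hAe : A ^ e = 1) : d ∣ e :=
  SpectrumTools.dvd_of_dvd_pow_sub_one hd hx hxd
    (PowScalarClasses.factor_dvd he one_ne_zero (by rwa [one_smul]) hx hxA)

/-- for a prime `r` the factors other than `X - 1` all have degree the order of `q` -/
theorem fac_degree {r : ℕ} (hr : r.Prime) (hrF : (r : F) ≠ 0) {x : F[X]} (hm : x.Monic)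
    (hi : Irreducible x) (hd : x ∣ X ^ r - C 1) (hne : x ≠ X - C 1) :
    x.natDegree = orderOf ((Fintype.card F : ℕ) : ZMod r) := by
  obtain ⟨d, hdr, hxd⟩ := SpectrumTools.exists_divisor hr.pos hi hd
  rcases (Nat.dvd_prime hr).1 hdr with rfl | rfl
  · rw [cyclotomic_one] at hxd
    exact absurd (eq_of_monic_of_associated hm (monic_X_sub_C 1)
      (hi.associated_of_dvd (irreducible_X_sub_C 1) (by rwa [map_one]))) hne
  · exact SpectrumTools.natDegree_of_dvd_cyclotomic hrF hi hxd

omit [Fintype F] in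
/-- a primitive factor is not `X - 1` -/
theorem ne_X_sub_one {r : ℕ} (hr : r.Prime) (hrF : (r : F) ≠ 0) {x : F[X]} (hd : x ∣ cyclotomic r F) :
    x ≠ X - C 1 := fun e => by
  have := Fact.mk hr
  rw [e, dvd_iff_isRoot, IsRoot, eval_one_cyclotomic_prime] at hd
  exact hrF hd

end Cfsg.Agent.Classical.SpectrumFactors
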