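import Mathlib
import Cfsg.Agent.Lib.Classical.JordanChains

/-!
# Conjugacy classes of unipotent matrices
-/

set_option autoImplicit false
set_option linter.unusedSectionVars false

namespace Cfsg.Agent.Classical.JordanChains

open Module

variable {F : Type*} [Field F] {V : Type*} [AddCommGroup V] [Module F V] [FiniteDimensional F V]

/-- a basis shifted by `N` consists of chains -/
theorem chains_of_shift {t : ℕ} {d : Fin t → ℕ} (hd : ∀ k, 1 ≤ d k) (N : V →ₗ[F] V)
    (b : Basis (Idx d) F V)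
    (hN : ∀ (k : Fin t) (j : ℕ) (hj : j < d k),
      N (b ⟨k, ⟨j, hj⟩⟩) = if h : j + 1 < d k then b ⟨k, ⟨j + 1, h⟩⟩ else 0) :
    Chains N d fun k => b ⟨k, ⟨0, hd k⟩⟩ := by
  have hpow : ∀ (k : Fin t) (j : ℕ), (N ^ j) (b ⟨k, ⟨0, hd k⟩⟩) =
      if h : j < d k then b ⟨k, ⟨j, h⟩⟩ else 0 := by
    intro k j
    induction j with
    | zero => rw [dif_pos (show 0 < d k from hd k)]; simp
    | succ j ih =>
      rw [pow_succ', Module.End.mul_apply, ih]
      by_cases hj : j < d k
      · rw [dif_pos hj, hN k j hj]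
      · rw [dif_neg hj, dif_neg (by omega), map_zero]
  have hfam : (fun i : Idx d => (N ^ (i.2 : ℕ)) (b ⟨i.1, ⟨0, hd i.1⟩⟩)) = b := funext fun i => by
    rw [hpow, dif_pos i.2.2]
  refine ⟨hd, fun _ => trivial, fun k => by rw [hpow, dif_neg (lt_irrefl _)], ?_, ?_⟩
  · rw [hfam]; exact b.linearIndependent
  · rw [hfam]; exact b.span_eq.ge

variable {n : ℕ}

/-- `g - 1` as an endomorphism -/
noncomputable def nil (g : GL (Fin n) F) : (Fin n → F) →ₗ[F] (Fin n → F) :=
  Matrix.toLin' ((g : Matrix (Fin n) (Fin n) F) - 1)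

/-- unipotence -/
def Unip (g : GL (Fin n) F) : Prop := IsNilpotent (nil g)

theorem nil_pow (g : GL (Fin n) F) (j : ℕ) :
    nil g ^ j = Matrix.toLin' (((g : Matrix (Fin n) (Fin n) F) - 1) ^ j) := (Matrix.toLin'_pow _ j).symm

theorem nil_pow_eq_zero (g : GL (Fin n) F) (j : ℕ) :
    nil g ^ j = 0 ↔ ((g : Matrix (Fin n) (Fin n) F) - 1) ^ j = 0 := by
  rw [nil_pow, LinearEquiv.map_eq_zero_iff]

theorem nil_eq_zero (g : GL (Fin n) F) : nil g = 0 ↔ g = 1 := by
  rw [nil, LinearEquiv.map_eq_zero_iff, sub_eq_zero]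
  exact ⟨fun h => Units.ext h, fun h => by rw [h]; rfl⟩

theorem sub_one_pow_char (p : ℕ) [Fact p.Prime] [CharP F p] (M : Matrix (Fin n) (Fin n) F) (k : ℕ) :
    (M - 1) ^ p ^ k = M ^ p ^ k - 1 := by
  have h : (Polynomial.X - 1 : Polynomial F) ^ p ^ k = Polynomial.X ^ p ^ k - 1 := by
    rw [sub_pow_char_pow, one_pow]
  simpa using congrArg (Polynomial.aeval M) h

theorem pow_char_eq_one_iff (p : ℕ) [Fact p.Prime] [CharP F p] (g : GL (Fin n) F) (k : ℕ) :
    g ^ p ^ k = 1 ↔ nil g ^ p ^ k = 0 := by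
  rw [nil_pow_eq_zero, sub_one_pow_char, sub_eq_zero, ← Units.val_pow_eq_pow_val]
  exact ⟨fun h => by rw [h]; rfl, fun h => Units.ext h⟩

theorem unip_iff (p : ℕ) [Fact p.Prime] [CharP F p] (g : GL (Fin n) F) :
    Unip g ↔ ∃ k : ℕ, orderOf g = p ^ k := by
  constructor
  · rintro ⟨j, hj⟩
    obtain ⟨k, hk⟩ : ∃ k, j ≤ p ^ k := ⟨j, (Nat.lt_pow_self (Fact.out : p.Prime).one_lt).le⟩
    have : g ^ p ^ k = 1 := (pow_char_eq_one_iff p g k).2 (_root_.pow_eq_zero_of_le hk hj)
    obtain ⟨i, -, hi⟩ := (Nat.dvd_prime_pow Fact.out).1 (orderOf_dvd_of_pow_eq_one this)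
    exact ⟨i, hi⟩
  · rintro ⟨k, hk⟩
    exact ⟨p ^ k, (pow_char_eq_one_iff p g k).1 (hk ▸ pow_orderOf_eq_one g)⟩

theorem orderOf_eq_char_iff (p : ℕ) [Fact p.Prime] [CharP F p] (g : GL (Fin n) F) :
    orderOf g = p ↔ nil g ^ p = 0 ∧ g ≠ 1 := by
  rw [orderOf_eq_prime_iff]
  have := pow_char_eq_one_iff p g 1
  rw [pow_one] at this
  rw [this]

/-- the partition of a unipotent matrix -/
noncomputable def partition (g : GL (Fin n) F) (hg : Unip g) : Nat.Partition n where
  parts := parts (exists_chains (nil g) hg).choose_spec.choose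
  parts_pos := by
    intro a ha
    obtain ⟨k, -, rfl⟩ := Multiset.mem_map.1 ha
    exact (exists_chains (nil g) hg).choose_spec.choose_spec.choose_spec.pos k
  parts_sum := by
    have := (exists_chains (nil g) hg).choose_spec.choose_spec.choose_spec.finrank_eq
    rw [Module.finrank_pi, Fintype.card_fin] at this
    exact this.symm

theorem partition_eq {g : GL (Fin n) F} (hg : Unip g) {t : ℕ} {d : Fin t → ℕ}
    {v : Fin t → Fin n → F} (h : Chains (nil g) d v) : (partition g hg).parts = parts d :=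
  (exists_chains (nil g) hg).choose_spec.choose_spec.choose_spec.parts_eq h

theorem partition_pow_eq_zero {g : GL (Fin n) F} (hg : Unip g) (j : ℕ) :
    nil g ^ j = 0 ↔ ∀ a ∈ (partition g hg).parts, a ≤ j := by
  obtain ⟨t, d, v, h⟩ := exists_chains (nil g) hg
  rw [partition_eq hg h, h.pow_eq_zero_iff]
  simp [parts]

theorem nil_conj (g c : GL (Fin n) F) (x : Fin n → F) :
    nil (c * g * c⁻¹) (Matrix.mulVec (c : Matrix (Fin n) (Fin n) F) x) =
      Matrix.mulVec (c : Matrix (Fin n) (Fin n) F) (nil g x) := by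
  simp only [nil, Matrix.toLin'_apply, Matrix.mulVec_mulVec, Units.val_mul]
  congr 1
  rw [sub_mul, mul_sub, Units.inv_mul_cancel_right, one_mul, mul_one]

/-- a matrix as a linear equivalence -/
noncomputable def glEquiv (c : GL (Fin n) F) : (Fin n → F) ≃ₗ[F] (Fin n → F) :=
  LinearEquiv.ofLinearMap (Matrix.toLin' (c : Matrix (Fin n) (Fin n) F))
    (Matrix.toLin' ((c⁻¹ : GL (Fin n) F) : Matrix (Fin n) (Fin n) F))
    (by rw [← Matrix.toLin'_mul, Units.mul_inv, Matrix.toLin'_one])
    (by rw [← Matrix.toLin'_mul, Units.inv_mul, Matrix.toLin'_one])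

theorem isConj_iff_partition {g g' : GL (Fin n) F} (hg : Unip g) (hg' : Unip g') :
    IsConj g g' ↔ partition g hg = partition g' hg' := by
  constructor
  · intro h
    obtain ⟨c, rfl⟩ := isConj_iff.1 h
    obtain ⟨t, d, v, h1⟩ := exists_chains (nil g) hg
    have h2 : Chains (nil (c * g * c⁻¹)) d fun k => glEquiv c (v k) :=
      h1.map (glEquiv c) fun x => (nil_conj g c x).symm
    exact Nat.Partition.ext ((partition_eq hg h1).trans (partition_eq hg' h2).symm)
  · intro h
    obtain ⟨t, d, v, h1⟩ := exists_chains (nil g) hg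
    obtain ⟨t', d', v', h2⟩ := exists_chains (nil g') hg'
    obtain ⟨e, he⟩ := h1.exists_conj h2 (by rw [← partition_eq hg h1, ← partition_eq hg' h2, h])
    let c : GL (Fin n) F := ⟨LinearMap.toMatrix' e.toLinearMap, LinearMap.toMatrix' e.symm.toLinearMap,
      by rw [← LinearMap.toMatrix'_comp]; simp, by rw [← LinearMap.toMatrix'_comp]; simp⟩
    refine isConj_iff.2 ⟨c, ?_⟩
    rw [mul_inv_eq_iff_eq_mul]
    refine Units.ext (Matrix.ext_iff_mulVec.2 fun x => ?_)
    have hc : ∀ y, Matrix.mulVec (c : Matrix (Fin n) (Fin n) F) y = e y := fun y => by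
      simp [c, LinearMap.toMatrix'_mulVec]
    have hx := he x
    rw [nil, nil, Matrix.toLin'_apply, Matrix.toLin'_apply, Matrix.sub_mulVec, Matrix.sub_mulVec,
      Matrix.one_mulVec, Matrix.one_mulVec, map_sub] at hx
    simp only [Units.val_mul, ← Matrix.mulVec_mulVec, hc]
    exact (sub_left_inj.1 hx)

theorem exists_unip (μ : Nat.Partition n) :
    ∃ (g : GL (Fin n) F) (hg : Unip g), partition g hg = μ := by
  classical
  let L := μ.parts.toList
  let d : Fin L.length → ℕ := fun k => L.get k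
  have hd : ∀ k, 1 ≤ d k := fun k => μ.parts_pos (Multiset.mem_toList.1 (List.get_mem L k))
  have hparts : parts d = μ.parts := by
    rw [parts, Fin.univ_val_map, List.ofFn_get, Multiset.coe_toList]
  have hcard : Fintype.card (Idx d) = n := by
    rw [Fintype.card_sigma]
    simp only [Fintype.card_fin]
    rw [← μ.parts_sum, ← hparts]
    rfl
  let b : Basis (Idx d) F (Fin n → F) :=
    (Pi.basisFun F (Fin n)).reindex (Fintype.equivFinOfCardEq hcard).symm
  let N : (Fin n → F) →ₗ[F] (Fin n → F) := b.constr F fun i =>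
    if h : (i.2 : ℕ) + 1 < d i.1 then b ⟨i.1, ⟨(i.2 : ℕ) + 1, h⟩⟩ else 0
  have hch := chains_of_shift hd N b fun k j hj => Basis.constr_basis b F _ _
  have hN : IsNilpotent N := ⟨n, (hch.pow_eq_zero_iff n).2 fun k => by
    calc d k ≤ ∑ k, d k := Finset.single_le_sum (fun _ _ => Nat.zero_le _) (Finset.mem_univ k)
      _ = n := by rw [← hch.finrank_eq]; simp⟩
  have hM : IsNilpotent (LinearMap.toMatrix' N) := hN.map (LinearMap.toMatrixAlgEquiv' (R := F) (n := Fin n))
  obtain ⟨g, hg⟩ := hM.isUnit_one_add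
  have hnil : nil g = N := by
    rw [nil, hg, add_sub_cancel_left, Matrix.toLin'_toMatrix']
  refine ⟨g, by rw [Unip, hnil]; exact hN, Nat.Partition.ext ?_⟩
  rw [partition_eq _ (hnil ▸ hch), hparts]

/-- classes of unipotent matrices are counted by partitions -/
theorem natCard_classes (P : GL (Fin n) F → Prop) (R : Nat.Partition n → Prop)
    (hP : ∀ g, P g → Unip g) (hiff : ∀ g (hg : Unip g), P g ↔ R (partition g hg)) :
    Nat.card {C : ConjClasses (GL (Fin n) F) // ∃ g : GL (Fin n) F, P g ∧ ConjClasses.mk g = C} =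
      Nat.card {μ : Nat.Partition n // R μ} := by
  classical
  choose g hg hpart using fun μ : Nat.Partition n => exists_unip (F := F) μ
  refine (Nat.card_eq_of_bijective (fun μ : {μ : Nat.Partition n // R μ} =>
    (⟨ConjClasses.mk (g μ.1), g μ.1, (hiff _ (hg _)).2 (by rw [hpart]; exact μ.2), rfl⟩ :
      {C : ConjClasses (GL (Fin n) F) // ∃ g : GL (Fin n) F, P g ∧ ConjClasses.mk g = C})) ⟨?_, ?_⟩).symm
  · intro μ μ' e
    have h := (isConj_iff_partition (hg μ.1) (hg μ'.1)).1
      (ConjClasses.mk_eq_mk_iff_isConj.1 (congrArg Subtype.val e))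
    rw [hpart, hpart] at h
    exact Subtype.ext h
  · rintro ⟨_, x, hx, rfl⟩
    refine ⟨⟨partition x (hP x hx), (hiff x _).1 hx⟩, Subtype.ext
      (ConjClasses.mk_eq_mk_iff_isConj.2 ((isConj_iff_partition (hg _) (hP x hx)).2 (hpart _)))⟩

/-- partitions with parts at most `p`, other than the trivial one -/
theorem natCard_partitions_order (p : ℕ) (hp : 1 ≤ p) :
    Nat.card {μ : Nat.Partition n // (∀ a ∈ μ.parts, a ≤ p) ∧ ¬ ∀ a ∈ μ.parts, a ≤ 1} =
      (Finset.univ.filter (fun μ : Nat.Partition n => ∀ a ∈ μ.parts, a ≤ p)).card - 1 := by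
  classical
  let one : Nat.Partition n := ⟨Multiset.replicate n 1, by
    intro a ha; rw [Multiset.eq_of_mem_replicate ha]; omega, by simp⟩
  have hone : ∀ μ : Nat.Partition n, (∀ a ∈ μ.parts, a ≤ 1) ↔ μ = one := by
    intro μ
    constructor
    · intro h
      have h1 : μ.parts = Multiset.replicate μ.parts.card 1 :=
        Multiset.eq_replicate_card.2 fun a ha => le_antisymm (h a ha) (μ.parts_pos ha)
      have h2 := μ.parts_sum
      rw [h1, Multiset.sum_replicate, smul_eq_mul, mul_one] at h2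
      exact Nat.Partition.ext (h1.trans (by rw [h2]))
    · rintro rfl a ha
      rw [Multiset.eq_of_mem_replicate ha]
  rw [Nat.card_eq_fintype_card, Fintype.card_subtype,
    ← Finset.card_erase_of_mem (show one ∈ Finset.univ.filter
      (fun μ : Nat.Partition n => ∀ a ∈ μ.parts, a ≤ p) from Finset.mem_filter.2
        ⟨Finset.mem_univ _, fun a ha => by rw [Multiset.eq_of_mem_replicate ha]; exact hp⟩)]
  congr 1
  ext μ
  simp only [Finset.mem_filter, Finset.mem_univ, true_and, Finset.mem_erase]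
  rw [hone]
  exact and_comm

end Cfsg.Agent.Classical.JordanChains
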