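import Mathlib
import Cfsg.Agent.Lib.Classical.JordanClasses

/-!
# The commutant of a nilpotent endomorphism
-/

set_option autoImplicit false
set_option linter.unusedSectionVars false

namespace Cfsg.Agent.Classical.JordanChains

open Module Matrix

variable {F : Type*} [Field F] {V : Type*} [AddCommGroup V] [Module F V] [FiniteDimensional F V]
variable {N : V →ₗ[F] V} {t : ℕ} {d : Fin t → ℕ} {v : Fin t → V}

theorem Chains.pow_basis (h : Chains N d v) (e : ℕ) (i : Idx d) :
    (N ^ e) (h.basis i) =
      if hj : (i.2 : ℕ) + e < d i.1 then h.basis ⟨i.1, ⟨(i.2 : ℕ) + e, hj⟩⟩ else 0 := by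
  rw [h.basis_apply, ← Module.End.mul_apply, ← pow_add]
  split_ifs with hj
  · rw [h.basis_apply, add_comm]
  · exact pow_eq_zero_of_le (h.kill i.1) (by omega)

theorem Chains.repr_pow (h : Chains N d v) (e : ℕ) (x : V) (i : Idx d)
    (hi : (i.2 : ℕ) + e < d i.1) :
    h.basis.repr ((N ^ e) x) ⟨i.1, ⟨(i.2 : ℕ) + e, hi⟩⟩ = h.basis.repr x i := by
  classical
  conv_lhs => rw [← h.basis.sum_repr x]
  simp only [map_sum, map_smul, h.pow_basis, Finsupp.coe_finsetSum, Finset.sum_apply,
    Finsupp.coe_smul, Pi.smul_apply, smul_eq_mul]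
  rw [Finset.sum_eq_single i]
  · rw [dif_pos hi, Basis.repr_self, Finsupp.single_eq_same, mul_one]
  · intro b _ hb
    split_ifs with hj
    · rw [Basis.repr_self, Finsupp.single_eq_of_ne, mul_zero]
      intro e'
      apply hb
      obtain ⟨l, j⟩ := i
      obtain ⟨l', j'⟩ := b
      simp only [Sigma.mk.injEq] at e'
      obtain ⟨rfl, e''⟩ := e'
      simp only [heq_eq_eq, Fin.mk.injEq, add_left_inj] at e''
      rw [Fin.ext e'']
    · simp
  · simp

theorem Chains.repr_eq_zero_of_pow (h : Chains N d v) {e : ℕ} {x : V} (hx : (N ^ e) x = 0)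
    (i : Idx d) (hi : (i.2 : ℕ) + e < d i.1) : h.basis.repr x i = 0 := by
  rw [← h.repr_pow e x i hi, hx, map_zero]
  rfl

/-- admissible coordinates of the images of the chain generators -/
abbrev Coord (d : Fin t → ℕ) : Type :=
  {p : Fin t × Idx d // d p.2.1 ≤ (p.2.2 : ℕ) + d p.1}

/-- all coordinates from the admissible ones -/
def full (c : Coord d → F) (k : Fin t) (i : Idx d) : F :=
  if hh : d i.1 ≤ (i.2 : ℕ) + d k then c ⟨(k, i), hh⟩ else 0

/-- the image of the generator -/
noncomputable def image (h : Chains N d v) (c : Coord d → F) (k : Fin t) : V :=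
  ∑ i, full c k i • h.basis i

theorem image_kill (h : Chains N d v) (c : Coord d → F) (k : Fin t) :
    (N ^ d k) (image h c k) = 0 := by
  simp only [image, map_sum, map_smul, h.pow_basis]
  refine Finset.sum_eq_zero fun i _ => ?_
  by_cases hh : d i.1 ≤ (i.2 : ℕ) + d k
  · rw [dif_neg (by omega), smul_zero]
  · rw [full, dif_neg hh, zero_smul]

/-- the commuting endomorphism -/
noncomputable def extend (h : Chains N d v) (c : Coord d → F) : V →ₗ[F] V :=
  h.basis.constr F fun i => (N ^ (i.2 : ℕ)) (image h c i.1)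

theorem extend_comm (h : Chains N d v) (c : Coord d → F) (x : V) :
    extend h c (N x) = N (extend h c x) := by
  have key : extend h c ∘ₗ N = N ∘ₗ extend h c := by
    refine h.basis.ext fun i => ?_
    have h1 := h.pow_basis 1 i
    rw [pow_one] at h1
    rw [LinearMap.comp_apply, LinearMap.comp_apply, h1, extend, Basis.constr_basis,
      ← Module.End.mul_apply, ← pow_succ']
    split_ifs with hj
    · rw [Basis.constr_basis]
    · rw [map_zero, pow_eq_zero_of_le (image_kill h c i.1) (by omega)]
  exact LinearMap.congr_fun key x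

theorem comm_pow {g : V →ₗ[F] V} (hg : ∀ x, g (N x) = N (g x)) (j : ℕ) (x : V) :
    g ((N ^ j) x) = (N ^ j) (g x) := by
  induction j generalizing x with
  | zero => simp
  | succ j ih => rw [pow_succ, Module.End.mul_apply, Module.End.mul_apply, ih, hg]

/-- the commutant in coordinates -/
noncomputable def commutantEquiv (h : Chains N d v) :
    {g : V →ₗ[F] V // ∀ x, g (N x) = N (g x)} ≃ (Coord d → F) where
  toFun g p := h.basis.repr (g.1 (v p.1.1)) p.1.2
  invFun c := ⟨extend h c, extend_comm h c⟩
  left_inv g := Subtype.ext (h.basis.ext fun i => by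
    show extend h _ (h.basis i) = _
    rw [extend, Basis.constr_basis, h.basis_apply, comm_pow g.2]
    congr 1
    rw [image]
    conv_rhs => rw [← h.basis.sum_repr (g.1 (v i.1))]
    refine Finset.sum_congr rfl fun a _ => ?_
    congr 1
    unfold full
    split_ifs with hh
    · rfl
    · refine (h.repr_eq_zero_of_pow (e := d i.1) ?_ a (by omega)).symm
      rw [← comm_pow g.2, h.kill, map_zero])
  right_inv c := funext fun p => by
    have hv : v p.1.1 = h.basis ⟨p.1.1, ⟨0, h.pos _⟩⟩ := by simp [h.basis_apply]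
    show h.basis.repr (extend h c (v p.1.1)) p.1.2 = c p
    rw [hv, extend, Basis.constr_basis]
    simp only [pow_zero, Module.End.one_apply, image, Basis.repr_sum_self, full]
    rw [dif_pos p.2]

/-- the matrix on the bottom vectors -/
def leadMat (hd : ∀ k, 1 ≤ d k) (c : Coord d → F) : Matrix (Fin t) (Fin t) F :=
  Matrix.of fun k l => if hkl : d k ≤ d l then
    c ⟨(k, ⟨l, ⟨d l - d k, by have := hd k; omega⟩⟩), by simp only; omega⟩ else 0

theorem extend_bottom (h : Chains N d v) (c : Coord d → F) (k : Fin t) :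
    extend h c ((N ^ (d k - 1)) (v k)) =
      ∑ l, leadMat h.pos c k l • (N ^ (d l - 1)) (v l) := by
  classical
  have hk := h.pos k
  rw [show (N ^ (d k - 1)) (v k) = h.basis ⟨k, ⟨d k - 1, by omega⟩⟩ by simp [h.basis_apply],
    extend, Basis.constr_basis]
  simp only [image, map_sum, map_smul, h.pow_basis]
  rw [Fintype.sum_sigma]
  refine Finset.sum_congr rfl fun l _ => ?_
  have hl := h.pos l
  by_cases hkl : d k ≤ d l
  · rw [Finset.sum_eq_single ⟨d l - d k, by omega⟩]
    · rw [dif_pos (show d l - d k + (d k - 1) < d l by omega), h.basis_apply]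
      congr 1
      · rw [full, dif_pos (show d l ≤ d l - d k + d k by omega), leadMat, Matrix.of_apply, dif_pos hkl]
      · congr 2
        simp only
        omega
    · intro j _ hj
      have hj' : (j : ℕ) ≠ d l - d k := fun e => hj (Fin.ext e)
      by_cases hh : d l ≤ (j : ℕ) + d k
      · rw [dif_neg (show ¬ (j : ℕ) + (d k - 1) < d l by omega), smul_zero]
      · rw [full, dif_neg hh, zero_smul]
    · simp
  · rw [leadMat, Matrix.of_apply, dif_neg hkl, zero_smul]
    refine Finset.sum_eq_zero fun j _ => ?_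
    rw [dif_neg (show ¬ (j : ℕ) + (d k - 1) < d l by omega), smul_zero]

theorem bottom_li (h : Chains N d v) : LinearIndependent F fun k => (N ^ (d k - 1)) (v k) := by
  let φ : Fin t → Idx d := fun k => ⟨k, ⟨d k - 1, by have := h.pos k; omega⟩⟩
  have := h.basis.linearIndependent.comp φ fun a a' e => congrArg Sigma.fst e
  simpa [φ, Function.comp_def, h.basis_apply] using this

theorem bottom_span (h : Chains N d v) {x : V} (hx : N x = 0) :
    ∃ y : Fin t → F, x = ∑ k, y k • (N ^ (d k - 1)) (v k) := by
  classical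
  refine ⟨fun k => h.basis.repr x ⟨k, ⟨d k - 1, by have := h.pos k; omega⟩⟩, ?_⟩
  conv_lhs => rw [← h.basis.sum_repr x, Fintype.sum_sigma]
  refine Finset.sum_congr rfl fun k _ => ?_
  have hk := h.pos k
  rw [Finset.sum_eq_single ⟨d k - 1, by omega⟩]
  · rw [h.basis_apply]
  · intro j _ hj
    have hj' : (j : ℕ) ≠ d k - 1 := fun e => hj (Fin.ext e)
    rw [h.repr_eq_zero_of_pow (e := 1) (by simpa using hx) ⟨k, j⟩ (by simp only; omega), zero_smul]
  · simp

theorem injective_iff_det (h : Chains N d v) (c : Coord d → F) :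
    Function.Injective (extend h c) ↔ (leadMat h.pos c).det ≠ 0 := by
  have hsum : ∀ y : Fin t → F, extend h c (∑ k, y k • (N ^ (d k - 1)) (v k)) =
      ∑ l, (y ᵥ* leadMat h.pos c) l • (N ^ (d l - 1)) (v l) := fun y => by
    simp only [map_sum, map_smul, extend_bottom, Finset.smul_sum, smul_smul, Matrix.vecMul,
      dotProduct, Finset.sum_smul]
    rw [Finset.sum_comm]
  rw [← isUnit_iff_ne_zero, ← Matrix.isUnit_iff_isUnit_det, ← Matrix.vecMul_injective_iff_isUnit]
  constructor
  · intro hinj y y' e
    have h1 : extend h c (∑ k, y k • (N ^ (d k - 1)) (v k)) =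
        extend h c (∑ k, y' k • (N ^ (d k - 1)) (v k)) := by
      rw [hsum, hsum]
      exact Finset.sum_congr rfl fun l _ => by rw [show (y ᵥ* _) l = _ from congrFun e l]
    exact funext fun k => Fintype.linearIndependent_iff.1 (bottom_li h) (y - y') (by
      simp only [Pi.sub_apply, sub_smul, Finset.sum_sub_distrib, hinj h1, sub_self]) k
      |> sub_eq_zero.1
  · intro hinj
    rw [← LinearMap.ker_eq_bot, LinearMap.ker_eq_bot']
    intro x hx
    by_contra hne
    -- the last non-zero iterate of `x`
    obtain ⟨e, he⟩ : ∃ e, (N ^ e) x = 0 := by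
      refine ⟨∑ k, d k, ?_⟩
      have := (h.pow_eq_zero_iff (∑ k, d k)).2 fun k =>
        Finset.single_le_sum (fun _ _ => Nat.zero_le _) (Finset.mem_univ k)
      rw [this, LinearMap.zero_apply]
    classical
    have hex : ∃ e, (N ^ e) x = 0 := ⟨e, he⟩
    obtain ⟨j, hj⟩ : ∃ j, Nat.find hex = j + 1 := by
      refine ⟨Nat.find hex - 1, ?_⟩
      have : Nat.find hex ≠ 0 := fun h0 => hne (by
        have := Nat.find_spec hex
        rwa [h0, pow_zero, Module.End.one_apply] at this)
      omega
    have hNz : N ((N ^ j) x) = 0 := by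
      rw [← Module.End.mul_apply, ← pow_succ', ← hj]; exact Nat.find_spec hex
    have hz : (N ^ j) x ≠ 0 := Nat.find_min hex (by omega)
    obtain ⟨y, hy⟩ := bottom_span h hNz
    have hgz : extend h c ((N ^ j) x) = 0 := by
      rw [comm_pow (extend_comm h c), hx, map_zero]
    rw [hy, hsum] at hgz
    have h0 : y ᵥ* leadMat h.pos c = (0 : Fin t → F) ᵥ* leadMat h.pos c := by
      rw [Matrix.zero_vecMul]
      exact funext (Fintype.linearIndependent_iff.1 (bottom_li h) _ hgz)
    rw [hinj h0] at hy
    exact hz (by rw [hy]; simp)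

theorem natCard_det_ne_zero (ι : Type*) [Fintype ι] [DecidableEq ι] [Fintype F] :
    Nat.card {M : Matrix ι ι F // M.det ≠ 0} =
      ∏ i : Fin (Fintype.card ι),
        (Fintype.card F ^ Fintype.card ι - Fintype.card F ^ (i : ℕ)) := by
  rw [← Matrix.card_GL_field (Fintype.card ι)]
  refine Nat.card_congr ((Equiv.subtypeEquiv (q := fun M : Matrix (Fin (Fintype.card ι)) (Fin (Fintype.card ι)) F => M.det ≠ 0)
    (Matrix.reindex (Fintype.equivFin ι) (Fintype.equivFin ι)) fun M => ?_).trans
    { toFun := fun M => Matrix.GeneralLinearGroup.mkOfDetNeZero M.1 M.2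
      invFun := fun g => ⟨g.1, g.det_ne_zero⟩
      left_inv := fun M => rfl
      right_inv := fun g => Units.ext rfl })
  rw [Matrix.det_reindex_self]

/-- the exponent of `q` in the centralizer -/
theorem natCard_commutant_units [Fintype F] (h : Chains N d v) :
    Nat.card {g : V →ₗ[F] V // (∀ x, g (N x) = N (g x)) ∧ Function.Injective g} =
      Fintype.card F ^ ((∑ k, ∑ l, min (d l) (d k)) -
          ∑ i ∈ Finset.range (Finset.univ.sup d + 1),
            (Finset.univ.filter fun k => d k = i).card ^ 2) *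
        ∏ i ∈ Finset.range (Finset.univ.sup d + 1),
          ∏ j : Fin ((Finset.univ.filter fun k => d k = i).card),
            (Fintype.card F ^ (Finset.univ.filter fun k => d k = i).card -
              Fintype.card F ^ (j : ℕ)) := by
  classical
  set D := Finset.univ.sup d with hD
  let b : Fin t → Fin (D + 1) := fun k =>
    ⟨d k, Nat.lt_succ_of_le (Finset.le_sup (f := d) (Finset.mem_univ k))⟩
  have h1 : Nat.card {g : V →ₗ[F] V // (∀ x, g (N x) = N (g x)) ∧ Function.Injective g} =
      Nat.card {c : Coord d → F // (leadMat h.pos c).det ≠ 0} :=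
    Nat.card_congr
      { toFun := fun g => ⟨commutantEquiv h ⟨g.1, g.2.1⟩, (injective_iff_det h _).1 (by
          have e : extend h (commutantEquiv h ⟨g.1, g.2.1⟩) = g.1 :=
            congrArg Subtype.val ((commutantEquiv h).symm_apply_apply ⟨g.1, g.2.1⟩)
          rw [e]
          exact g.2.2)⟩
        invFun := fun c => ⟨extend h c.1, extend_comm h c.1, (injective_iff_det h _).2 c.2⟩
        left_inv := fun g => Subtype.ext (show extend h (commutantEquiv h ⟨g.1, g.2.1⟩) = g.1 from
          congrArg Subtype.val ((commutantEquiv h).symm_apply_apply ⟨g.1, g.2.1⟩))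
        right_inv := fun c => Subtype.ext ((commutantEquiv h).apply_symm_apply c.1) }
  -- diagonal blocks
  let E : Coord d → Prop := fun p => d p.1.1 = d p.1.2.1 ∧ (p.1.2.2 : ℕ) = 0
  let Blk : Fin (D + 1) → Type := fun a => {k : Fin t // b k = a} × {k : Fin t // b k = a}
  let eE : {p // E p} ≃ (a : Fin (D + 1)) × Blk a :=
    { toFun := fun p => ⟨b p.1.1.1, ⟨p.1.1.1, rfl⟩, ⟨p.1.1.2.1, Fin.ext p.2.1.symm⟩⟩
      invFun := fun x => ⟨⟨(x.2.1.1, ⟨x.2.2.1, ⟨0, h.pos _⟩⟩), by
          have := congrArg Fin.val (x.2.1.2.trans x.2.2.2.symm)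
          simp only [b] at this
          simp only
          omega⟩, congrArg Fin.val (x.2.1.2.trans x.2.2.2.symm), rfl⟩
      left_inv := fun p => by
        obtain ⟨⟨⟨k, l, j⟩, hp⟩, he1, he2⟩ := p
        simp only at he2
        obtain rfl : j = ⟨0, h.pos l⟩ := Fin.ext he2
        rfl
      right_inv := fun x => by
        obtain ⟨a, ⟨k, hk⟩, ⟨l, hl⟩⟩ := x
        subst hk
        rfl }
  let Φ : (Coord d → F) ≃
      ((a : Fin (D + 1)) → Matrix {k : Fin t // b k = a} {k : Fin t // b k = a} F) ×
        ({p // ¬ E p} → F) :=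
    (Equiv.piEquivPiSubtypeProd E fun _ => F).trans <| Equiv.prodCongr
      (((Equiv.arrowCongr eE (Equiv.refl F)).trans (Equiv.piCurry fun a _ => F)).trans
        (Equiv.piCongrRight fun a => Equiv.curry _ _ F)) (Equiv.refl _)
  have hΦ : ∀ c, (leadMat h.pos c).det ≠ 0 ↔ ∀ a, ((Φ c).1 a).det ≠ 0 := by
    intro c
    have htri : (leadMat h.pos c).BlockTriangular b := fun i j hij => by
      rw [leadMat, Matrix.of_apply, dif_neg]
      exact not_le.2 hij
    rw [htri.det_fintype, Finset.prod_ne_zero_iff]
    simp only [Finset.mem_univ, forall_const]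
    refine forall_congr' fun a => ?_
    have e : (leadMat h.pos c).toSquareBlock b a = (Φ c).1 a := by
      ext ⟨k, hk⟩ ⟨l, hl⟩
      have hkl : d k = d l := congrArg Fin.val (hk.trans hl.symm)
      rw [Matrix.toSquareBlock_def]
      show leadMat h.pos c k l = c _
      rw [leadMat, Matrix.of_apply, dif_pos hkl.le]
      congr 1
      refine Subtype.ext (Prod.ext rfl ?_)
      show (⟨l, _⟩ : Idx d) = ⟨l, _⟩
      congr 1
      exact Fin.ext (by simp only; omega)
    rw [e]
  rw [h1, Nat.card_congr ((Equiv.subtypeEquiv Φ fun c => hΦ c).trans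
    ({ toFun := fun x => (fun a => ⟨x.1.1 a, x.2 a⟩, x.1.2)
       invFun := fun y => ⟨(fun a => (y.1 a).1, y.2), fun a => (y.1 a).2⟩
       left_inv := fun x => rfl
       right_inv := fun y => rfl } :
      {x : ((a : Fin (D + 1)) → Matrix {k : Fin t // b k = a} {k : Fin t // b k = a} F) ×
          ({p // ¬ E p} → F) // ∀ a, (x.1 a).det ≠ 0} ≃
        ((a : Fin (D + 1)) →
          {M : Matrix {k : Fin t // b k = a} {k : Fin t // b k = a} F // M.det ≠ 0}) ×
          ({p // ¬ E p} → F)))]
  rw [Nat.card_prod, Nat.card_pi, Nat.card_fun, Nat.card_eq_fintype_card (α := F), mul_comm]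
  have hcard : ∀ a : Fin (D + 1), Fintype.card {k : Fin t // b k = a} =
      (Finset.univ.filter fun k => d k = (a : ℕ)).card := fun a => by
    rw [Fintype.card_subtype]
    congr 1
    ext k
    simp [b, Fin.ext_iff]
  congr 1
  · congr 1
    have hA : Fintype.card (Coord d) = ∑ k, ∑ l, min (d l) (d k) := by
      rw [Fintype.card_subtype, Finset.card_filter, Fintype.sum_prod_type]
      refine Finset.sum_congr rfl fun k _ => ?_
      rw [Fintype.sum_sigma]
      refine Finset.sum_congr rfl fun l _ => ?_
      rw [Fin.sum_univ_eq_sum_range (fun j => if d l ≤ j + d k then 1 else 0) (d l),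
        ← Finset.card_filter]
      rw [show (Finset.range (d l)).filter (fun j => d l ≤ j + d k) =
        Finset.Ico (d l - d k) (d l) by ext j; simp; omega, Nat.card_Ico]
      omega
    have hEc : Fintype.card {p // E p} = ∑ i ∈ Finset.range (D + 1),
        (Finset.univ.filter fun k => d k = i).card ^ 2 := by
      rw [Fintype.card_congr eE, Fintype.card_sigma,
        ← Fin.sum_univ_eq_sum_range (fun i => (Finset.univ.filter fun k => d k = i).card ^ 2)]
      refine Finset.sum_congr rfl fun a _ => ?_
      rw [Fintype.card_prod, hcard, sq]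
    rw [Nat.card_eq_fintype_card, Fintype.card_subtype_compl, hA, hEc]
  · rw [← Fin.prod_univ_eq_prod_range (fun i => ∏ j : Fin ((Finset.univ.filter fun k => d k = i).card),
      (Fintype.card F ^ (Finset.univ.filter fun k => d k = i).card - Fintype.card F ^ (j : ℕ)))]
    refine Finset.prod_congr rfl fun a _ => ?_
    rw [natCard_det_ne_zero, hcard]

theorem exponent_eq (d : Fin t → ℕ) (hd : ∀ k, 1 ≤ d k) :
    (∑ k, ∑ l, min (d l) (d k)) - ∑ i ∈ Finset.range (Finset.univ.sup d + 1),
        (Finset.univ.filter fun k => d k = i).card ^ 2 =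
      2 * (∑ i ∈ Finset.range (Finset.univ.sup d + 1), ∑ j ∈ Finset.range (Finset.univ.sup d + 1),
          if i < j then i * (Finset.univ.filter fun k => d k = i).card *
            (Finset.univ.filter fun k => d k = j).card else 0) +
        ∑ i ∈ Finset.range (Finset.univ.sup d + 1),
          (i - 1) * (Finset.univ.filter fun k => d k = i).card ^ 2 := by
  classical
  set R := Finset.range (Finset.univ.sup d + 1) with hR
  set a : ℕ → ℕ := fun i => (Finset.univ.filter fun k => d k = i).card with ha
  have hmaps : ∀ k ∈ (Finset.univ : Finset (Fin t)), d k ∈ R := fun k hk => by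
    rw [hR, Finset.mem_range]
    exact Nat.lt_succ_of_le (Finset.le_sup (f := d) hk)
  have hfib : ∀ g : ℕ → ℕ, ∑ k, g (d k) = ∑ i ∈ R, a i * g i := fun g => by
    rw [← Finset.sum_fiberwise_of_maps_to hmaps]
    refine Finset.sum_congr rfl fun i _ => ?_
    rw [Finset.sum_congr rfl fun k hk => by rw [(Finset.mem_filter.1 hk).2], Finset.sum_const,
      smul_eq_mul]
  have htot : ∑ k, ∑ l, min (d l) (d k) = ∑ i ∈ R, ∑ j ∈ R, a i * a j * min j i := by
    rw [hfib fun i => ∑ l, min (d l) i]
    refine Finset.sum_congr rfl fun i _ => ?_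
    rw [hfib fun j => min j i, Finset.mul_sum]
    exact Finset.sum_congr rfl fun j _ => by ring
  have ha0 : a 0 = 0 := Finset.card_eq_zero.2
    (Finset.filter_eq_empty_iff.2 fun k _ => by have := hd k; omega)
  have hpoint : ∀ i j, a i * a j * min j i =
      (if i < j then i * a i * a j else 0) + (if j < i then j * a j * a i else 0) +
        if i = j then ((i - 1) * a i ^ 2 + a i ^ 2) else 0 := by
    intro i j
    rcases lt_trichotomy i j with h | rfl | h
    · rw [if_pos h, if_neg (by omega), if_neg (by omega), min_eq_right h.le]; ring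
    · rw [if_neg (lt_irrefl _), if_pos rfl, min_self]
      rcases Nat.eq_zero_or_pos i with h0 | h0
      · simp [h0, ha0]
      · obtain ⟨i', rfl⟩ : ∃ i', i = i' + 1 := ⟨i - 1, by omega⟩
        simp only [Nat.add_sub_cancel]; ring
    · rw [if_neg (by omega), if_pos h, if_neg (by omega), min_eq_left h.le]; ring
  rw [htot]
  simp only [hpoint, Finset.sum_add_distrib]
  have hdiag : ∑ i ∈ R, ∑ j ∈ R, (if i = j then ((i - 1) * a i ^ 2 + a i ^ 2) else 0) =
      ∑ i ∈ R, (i - 1) * a i ^ 2 + ∑ i ∈ R, a i ^ 2 := by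
    rw [← Finset.sum_add_distrib]
    refine Finset.sum_congr rfl fun i hi => ?_
    rw [Finset.sum_ite_eq, if_pos hi]
  rw [hdiag, Finset.sum_comm (f := fun i j => if j < i then j * a j * a i else 0)]
  show _ - ∑ i ∈ R, a i ^ 2 = 2 * (∑ i ∈ R, ∑ j ∈ R, if i < j then i * a i * a j else 0) +
    ∑ i ∈ R, (i - 1) * a i ^ 2
  omega

end Cfsg.Agent.Classical.JordanChains
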