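import Mathlib
import Cfsg.Agent.Lib.Classical.JordanCentralizer
import Cfsg.Agent.Lib.Forms.Bases

/-!
# Jordan chains of isometries of a non-degenerate pairing
-/

set_option autoImplicit false
set_option linter.unusedSectionVars false

namespace Cfsg.Agent.Classical.JordanForms

open Module Matrix
open Cfsg.Agent.Classical.JordanChains

variable {F : Type*} [Field F] {V : Type*} [AddCommGroup V] [Module F V] [FiniteDimensional F V]
variable {σ : F →+* F} {B : V →ₗ[F] V →ₛₗ[σ] F} {N : V →ₗ[F] V}

/-- `1 + N` preserves `B` -/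
def Inv (B : V →ₗ[F] V →ₛₗ[σ] F) (N : V →ₗ[F] V) : Prop :=
  ∀ x y, B (x + N x) (y + N y) = B x y

theorem Inv.step (hB : Inv B N) (x y : V) : B (N x) y = -B x (N y) - B (N x) (N y) := by
  have h := hB x y
  simp only [map_add, LinearMap.add_apply] at h
  linear_combination h

theorem Inv.zero_right (hB : Inv B N) {x : V} (hx : N x = 0) (y : V) : B x (N y) = 0 := by
  have h := hB.step x y
  simp only [hx, map_zero, LinearMap.zero_apply] at h
  linear_combination h

theorem Inv.vanish (hB : Inv B N) :
    ∀ (a b : ℕ) (x y : V), (N ^ (a + b)) y = 0 → B ((N ^ a) x) ((N ^ b) y) = 0 := by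
  intro a
  induction a with
  | zero =>
    intro b x y h
    rw [Nat.zero_add] at h
    rw [h, map_zero]
  | succ a ih =>
    -- descending induction on `b`
    have inner : ∀ (j b : ℕ) (x y : V), (N ^ (b + j)) y = 0 → (N ^ (a + 1 + b)) y = 0 →
        B ((N ^ (a + 1)) x) ((N ^ b) y) = 0 := by
      intro j
      induction j with
      | zero =>
        intro b x y h _
        rw [Nat.add_zero] at h
        rw [h, map_zero]
      | succ j ihj =>
        intro b x y h h'
        rw [pow_succ', Module.End.mul_apply, hB.step]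
        rw [← Module.End.mul_apply N (N ^ b), ← pow_succ',
          ih (b + 1) x y (by rw [show a + (b + 1) = a + 1 + b by omega]; exact h'),
          ← Module.End.mul_apply N (N ^ a), ← pow_succ',
          ihj (b + 1) x y (by rw [show b + 1 + j = b + (j + 1) by omega]; exact h)
            (pow_eq_zero_of_le h' (by omega))]
        simp
    intro b x y h
    exact inner (a + 1) b x y (by rw [Nat.add_comm b]; exact h) h

theorem Inv.shift (hB : Inv B N) :
    ∀ (a b : ℕ) (x y : V), (N ^ (a + b + 1)) y = 0 →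
      B ((N ^ a) x) ((N ^ b) y) = (-1) ^ a * B x ((N ^ (a + b)) y) := by
  intro a
  induction a with
  | zero => intro b x y _; simp
  | succ a ih =>
    intro b x y h
    have hv : B ((N ^ (a + 1)) x) ((N ^ (b + 1)) y) = 0 :=
      hB.vanish _ _ x y (by rw [show a + 1 + (b + 1) = a + 1 + b + 1 by omega]; exact h)
    rw [pow_succ', Module.End.mul_apply] at hv ⊢
    rw [hB.step]
    rw [pow_succ', Module.End.mul_apply] at hv
    rw [hv, ← Module.End.mul_apply N (N ^ b), ← pow_succ',
      ih (b + 1) x y (by rw [show a + (b + 1) + 1 = a + 1 + b + 1 by omega]; exact h),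
      show a + (b + 1) = a + 1 + b by omega]
    ring

variable {t : ℕ} {d : Fin t → ℕ} {v : Fin t → V}

/-- pairing of the bottom vectors with the generators -/
def topMat (B : V →ₗ[F] V →ₛₗ[σ] F) (N : V →ₗ[F] V) (d : Fin t → ℕ) (v : Fin t → V) :
    Matrix (Fin t) (Fin t) F :=
  Matrix.of fun l k => B ((N ^ (d l - 1)) (v l)) (v k)

theorem topMat_triangular (h : Chains N d v) (hB : Inv B N) :
    (topMat B N d v).BlockTriangular d := by
  intro l k hlk
  have := hB.vanish (d l - 1) 0 (v l) (v k)
    (pow_eq_zero_of_le (h.kill k) (by omega))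
  rwa [pow_zero, Module.End.one_apply] at this

theorem bottom_kill (h : Chains N d v) (k : Fin t) : N ((N ^ (d k - 1)) (v k)) = 0 := by
  rw [← Module.End.mul_apply, ← pow_succ', Nat.sub_add_cancel (h.pos k), h.kill]

theorem det_topMat_ne_zero (h : Chains N d v) (hB : Inv B N)
    (hnd : ∀ x, (∀ y, B x y = 0) → x = 0) : (topMat B N d v).det ≠ 0 := by
  classical
  intro h0
  obtain ⟨c, hc, hc0⟩ := Matrix.exists_vecMul_eq_zero_iff.2 h0
  set x := ∑ l, c l • (N ^ (d l - 1)) (v l) with hx
  have hNx : N x = 0 := by simp [hx, map_sum, bottom_kill h]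
  have hzero : B x = 0 := by
    refine h.basis.ext fun i => ?_
    rw [h.basis_apply, LinearMap.zero_apply]
    rcases i with ⟨k, ⟨j, hj⟩⟩
    cases j with
    | zero =>
      have := congrFun hc0 k
      simpa [hx, Matrix.vecMul, dotProduct, topMat] using this
    | succ j =>
      show B x ((N ^ (j + 1)) (v k)) = 0
      rw [pow_succ', Module.End.mul_apply, hB.zero_right hNx]
  have := hnd x fun y => by rw [hzero, LinearMap.zero_apply]
  exact hc (funext (Fintype.linearIndependent_iff.1 (bottom_li h) c this))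

theorem nondeg_of_det (h : Chains N d v) (hB : Inv B N) (hN : IsNilpotent N)
    (hdet : (topMat B N d v).det ≠ 0) : ∀ x, (∀ y, B x y = 0) → x = 0 := by
  classical
  intro x hx
  have hstable : ∀ z, (∀ y, B z y = 0) → ∀ y, B (N z) y = 0 := by
    intro z hz y
    obtain ⟨y', rfl⟩ : ∃ y', y' + N y' = y := by
      have hu : IsUnit (1 + N : Module.End F V) := hN.isUnit_one_add
      obtain ⟨y', hy'⟩ := ((Module.End.isUnit_iff _).1 hu).2 y
      exact ⟨y', hy'⟩
    have := hB z y'
    have hBz : B z = 0 := LinearMap.ext hz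
    rw [map_add B z (N z), hBz, zero_add, LinearMap.zero_apply] at this
    exact this
  have hall : ∀ j, ∀ y, B ((N ^ j) x) y = 0 := by
    intro j
    induction j with
    | zero => simpa using hx
    | succ j ih => intro y; rw [pow_succ', Module.End.mul_apply]; exact hstable _ ih y
  by_contra hne
  obtain ⟨e, he⟩ := hN
  have hex : ∃ e, (N ^ e) x = 0 := ⟨e, by rw [he, LinearMap.zero_apply]⟩
  obtain ⟨j, hj⟩ : ∃ j, Nat.find hex = j + 1 := by
    refine ⟨Nat.find hex - 1, ?_⟩
    have : Nat.find hex ≠ 0 := fun h0 => hne (by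
      have := Nat.find_spec hex
      rwa [h0, pow_zero, Module.End.one_apply] at this)
    omega
  have hNz : N ((N ^ j) x) = 0 := by
    rw [← Module.End.mul_apply, ← pow_succ', ← hj]; exact Nat.find_spec hex
  obtain ⟨c, hc⟩ := bottom_span h hNz
  have hc0 : c ᵥ* topMat B N d v = 0 := funext fun k => by
    have := hall j (v k)
    rw [hc] at this
    simpa [Matrix.vecMul, dotProduct, topMat] using this
  by_cases hcz : c = 0
  · exact Nat.find_min hex (by omega : j < Nat.find hex) (by rw [hc, hcz]; simp)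
  · exact hdet (Matrix.exists_vecMul_eq_zero_iff.1 ⟨c, hcz, hc0⟩)

theorem det_block_ne_zero (h : Chains N d v) (hB : Inv B N)
    (hnd : ∀ x, (∀ y, B x y = 0) → x = 0) (i : ℕ) :
    ((topMat B N d v).toSquareBlock d i).det ≠ 0 := by
  classical
  have h0 := det_topMat_ne_zero h hB hnd
  rw [(topMat_triangular h hB).det, Finset.prod_ne_zero_iff] at h0
  by_cases hi : i ∈ Finset.univ.image d
  · exact h0 i hi
  · have : IsEmpty {k : Fin t // d k = i} :=
      ⟨fun k => hi (Finset.mem_image.2 ⟨k.1, Finset.mem_univ _, k.2⟩)⟩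
    rw [Matrix.det_isEmpty]
    exact one_ne_zero

theorem topMat_swap (h : Chains N d v) (hB : Inv B N) {l k : Fin t} (hlk : d l = d k) :
    topMat B N d v l k = (-1) ^ (d k - 1) * B (v l) ((N ^ (d k - 1)) (v k)) := by
  have hk := h.pos k
  have := hB.shift (d k - 1) 0 (v l) (v k)
    (pow_eq_zero_of_le (h.kill k) (by omega))
  simpa [topMat, hlk] using this

/-- a skew-symmetric matrix with zero diagonal and non-zero determinant has even size -/
theorem even_card_of_skew {ι : Type*} [Fintype ι] [DecidableEq ι] (M : Matrix ι ι F)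
    (hdet : M.det ≠ 0) (hskew : ∀ i j, M j i = -M i j) (hdiag : ∀ i, M i i = 0) :
    Even (Fintype.card ι) := by
  have halt : LinearMap.BilinForm.IsAlt (Matrix.toBilin' M) := fun x => by
    rw [Matrix.toBilin'_apply, ← Fintype.sum_prod_type']
    refine Finset.sum_involution (fun p _ => p.swap) (fun p _ => ?_) (fun p _ hp e => hp ?_)
      (fun p _ => Finset.mem_univ _) (fun p _ => Prod.swap_swap p)
    · show x p.1 * M p.1 p.2 * x p.2 + x p.2 * M p.2 p.1 * x p.1 = 0
      rw [hskew p.1 p.2]; ring
    · obtain ⟨a, b⟩ := p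
      simp only [Prod.swap_prod_mk, Prod.mk.injEq] at e
      obtain ⟨rfl, -⟩ := e
      simp [hdiag]
  obtain ⟨m, hm⟩ := Cfsg.Agent.Forms.Bases.even_finrank_of_alt (Matrix.toBilin' M) halt
    (LinearMap.BilinForm.nondegenerate_toBilin'_iff_det_ne_zero.2 hdet)
  rw [Module.finrank_pi] at hm
  exact ⟨m, by omega⟩

section Bilin

variable {C : LinearMap.BilinForm F V}

theorem even_count_of_alt (h : Chains N d v) (hB : Inv (σ := RingHom.id F) C N)
    (hnd : ∀ x, (∀ y, C x y = 0) → x = 0) (halt : C.IsAlt) {i : ℕ} (hi : Odd i) :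
    Even (Finset.univ.filter fun k => d k = i).card := by
  classical
  rw [← Fintype.card_subtype]
  refine even_card_of_skew _ (det_block_ne_zero h hB hnd i) ?_ ?_
  · rintro ⟨l, hl⟩ ⟨k, hk⟩
    obtain ⟨e, he⟩ := hi
    simp only [Matrix.toSquareBlock_def, Matrix.of_apply]
    rw [topMat_swap h hB (hk.trans hl.symm), topMat, Matrix.of_apply,
      ← LinearMap.BilinForm.IsAlt.neg_eq halt, show d l - 1 = 2 * e by omega, pow_mul, neg_one_sq,
      one_pow, one_mul]
  · rintro ⟨l, hl⟩
    obtain ⟨e, he⟩ := hi
    simp only [Matrix.toSquareBlock_def, Matrix.of_apply]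
    rw [topMat_swap h hB rfl]
    have h2 := hB.shift e e (v l) (v l) (pow_eq_zero_of_le (h.kill l) (by omega))
    rw [halt] at h2
    rw [show d l - 1 = e + e by omega]
    rcases eq_zero_or_eq_zero_of_mul_eq_zero h2.symm with h3 | h3
    · exact absurd h3 (pow_ne_zero _ (by norm_num))
    · rw [h3, mul_zero]

theorem even_count_of_symm (h : Chains N d v) (hB : Inv (σ := RingHom.id F) C N)
    (hnd : ∀ x, (∀ y, C x y = 0) → x = 0) (hsymm : ∀ x y, C x y = C y x) (h2 : (2 : F) ≠ 0)
    {i : ℕ} (hi : Even i) (hi0 : 0 < i) :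
    Even (Finset.univ.filter fun k => d k = i).card := by
  classical
  rw [← Fintype.card_subtype]
  have key : ∀ a b : {k // d k = i},
      (topMat (σ := RingHom.id F) C N d v).toSquareBlock d i b a =
        -(topMat (σ := RingHom.id F) C N d v).toSquareBlock d i a b := by
    rintro ⟨l, hl⟩ ⟨k, hk⟩
    simp only [Matrix.toSquareBlock_def, Matrix.of_apply]
    rw [topMat_swap h hB (hk.trans hl.symm), topMat, Matrix.of_apply, hsymm (v k)]
    have ho : Odd (d l - 1) := Nat.Even.sub_odd (by omega) (hl ▸ hi) odd_one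
    rw [ho.neg_one_pow, neg_one_mul]
  refine even_card_of_skew _ (det_block_ne_zero h hB hnd i) key fun a => ?_
  have := key a a
  have h3 : (2 : F) * (topMat (σ := RingHom.id F) C N d v).toSquareBlock d i a a = 0 := by
    linear_combination this
  exact (mul_eq_zero.1 h3).resolve_left h2

end Bilin

end Cfsg.Agent.Classical.JordanForms
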