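import Cfsg.Agent.Lib.Forms.SympStd

/-!
# Regular unipotent matrices
-/

set_option autoImplicit false

namespace Cfsg.Agent.Classical.RegularUnipotent

open Matrix Module

variable {F : Type*} [Field F] {ι : Type*} [Fintype ι] [DecidableEq ι]

theorem toLin'_pow_eq (N : Matrix ι ι F) (k : ℕ) :
    (N ^ k).mulVecLin = (Matrix.toLin' N) ^ k := by
  rw [← Matrix.toLin'_apply', Matrix.toLin'_pow]

theorem finrank_ker_pow_le (N : Matrix ι ι F) (hreg : N.rank = Fintype.card ι - 1) (k : ℕ) :
    finrank F ↥(LinearMap.ker ((Matrix.toLin' N) ^ k)) ≤ k := by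
  have h1 : finrank F ↥(LinearMap.ker (Matrix.toLin' N)) ≤ 1 := by
    have h := LinearMap.finrank_range_add_finrank_ker (Matrix.toLin' N)
    rw [Module.finrank_pi, Matrix.toLin'_apply'] at h
    rw [Matrix.rank] at hreg
    rw [Matrix.toLin'_apply']
    omega
  induction k with
  | zero => simp [Module.End.one_eq_id, LinearMap.ker_id]
  | succ k ih =>
    let f := Matrix.toLin' N
    let r := f.domRestrict (LinearMap.ker (f ^ (k + 1)))
    have h := LinearMap.finrank_range_add_finrank_ker r
    have hr : LinearMap.range r ≤ LinearMap.ker (f ^ k) := by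
      rintro _ ⟨x, rfl⟩
      rw [LinearMap.mem_ker]
      show (f ^ k) (f x.1) = 0
      rw [← Module.End.mul_apply, ← pow_succ]
      exact x.2
    have hk : finrank F ↥(LinearMap.ker r) ≤ 1 := by
      refine le_trans ?_ h1
      rw [← (Submodule.equivMapOfInjective _ (Submodule.injective_subtype _) (LinearMap.ker r)).symm.finrank_eq]
      refine Submodule.finrank_mono ?_
      rintro _ ⟨x, hx, rfl⟩
      exact hx
    have := Submodule.finrank_mono hr
    have ih' : finrank F ↥(LinearMap.ker (f ^ k)) ≤ k := ih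
    show finrank F ↥(LinearMap.ker (f ^ (k + 1))) ≤ k + 1
    omega

theorem eq_ker_pow' (N : Matrix ι ι F) (hnil : N ^ Fintype.card ι = 0)
    (hreg : N.rank = Fintype.card ι - 1) (W : Submodule F (ι → F))
    (hW : ∀ v ∈ W, N *ᵥ v ∈ W) : W = LinearMap.ker ((N ^ finrank F W).mulVecLin) := by
  rw [toLin'_pow_eq]
  have hWf : ∀ v ∈ W, Matrix.toLin' N v ∈ W := fun v hv => by
    rw [Matrix.toLin'_apply]; exact hW v hv
  have hg : IsNilpotent ((Matrix.toLin' N).restrict hWf) := by
    refine ⟨Fintype.card ι, ?_⟩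
    ext x
    rw [Module.End.pow_restrict]
    simp [← Matrix.toLin'_pow, hnil]
  have hw := hg.charpoly_eq_X_pow_finrank
  have hzero : ((Matrix.toLin' N).restrict hWf) ^ finrank F W = 0 := by
    have h := LinearMap.aeval_self_charpoly ((Matrix.toLin' N).restrict hWf)
    rw [hw, map_pow, Polynomial.aeval_X] at h
    exact h
  refine Submodule.eq_of_le_of_finrank_le (fun x hx => ?_) (finrank_ker_pow_le N hreg _)
  rw [LinearMap.mem_ker]
  have := congrArg Subtype.val (LinearMap.congr_fun hzero ⟨x, hx⟩)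
  rw [Module.End.pow_restrict] at this
  exact this

theorem eq_ker_pow (u : Matrix ι ι F) (hnil : (u - 1) ^ Fintype.card ι = 0)
    (hreg : (u - 1).rank = Fintype.card ι - 1) (W : Submodule F (ι → F))
    (hW : ∀ v ∈ W, u *ᵥ v ∈ W) : W = LinearMap.ker (((u - 1) ^ finrank F W).mulVecLin) :=
  eq_ker_pow' _ hnil hreg W fun v hv => by
    rw [sub_mulVec, one_mulVec]; exact sub_mem (hW v hv) hv

theorem isotropic {m : ℕ} (u : Matrix.symplecticGroup (Fin m) F)
    (hnil : ((u : Matrix (Fin m ⊕ Fin m) (Fin m ⊕ Fin m) F) - 1) ^ (2 * m) = 0)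
    (hreg : ((u : Matrix (Fin m ⊕ Fin m) (Fin m ⊕ Fin m) F) - 1).rank = 2 * m - 1)
    (W : Submodule F (Fin m ⊕ Fin m → F))
    (hW : ∀ v ∈ W, (u : Matrix (Fin m ⊕ Fin m) (Fin m ⊕ Fin m) F) *ᵥ v ∈ W)
    (hdim : 2 * finrank F W ≤ 2 * m) :
    ∀ v ∈ W, ∀ w ∈ W, Cfsg.sympForm m F v w = 0 := by
  set A := (u : Matrix (Fin m ⊕ Fin m) (Fin m ⊕ Fin m) F) with hA
  have hpres : ∀ x y, Cfsg.sympForm m F (A *ᵥ x) (A *ᵥ y) = Cfsg.sympForm m F x y := fun x y => by
    have hu := SymplecticGroup.mem_iff'.1 u.2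
    rw [Cfsg.sympForm, Cfsg.sympForm, dotProduct_comm, Matrix.mulVec_mulVec, dotProduct_mulVec,
      ← Matrix.mulVec_transpose, Matrix.mulVec_mulVec, ← Matrix.mul_assoc, hu, dotProduct_comm]
  have hinj : Function.Injective (A *ᵥ ·) := fun x y h => by
    refine sub_eq_zero.1 ((Forms.SympStd.sympB_nondegenerate).1 _ fun z => ?_)
    have h' : A *ᵥ (x - y) = 0 := by rw [Matrix.mulVec_sub]; exact sub_eq_zero.2 h
    rw [Forms.SympStd.sympB_apply, ← hpres, h']
    simp [Cfsg.sympForm]
  let B := Forms.SympStd.sympB m F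
  have hO : ∀ v ∈ B.orthogonal W, A *ᵥ v ∈ B.orthogonal W := by
    intro v hv w hw
    obtain ⟨⟨w', hw'⟩, hww⟩ := (LinearMap.injective_iff_surjective (f := (A.mulVecLin).restrict
      (p := W) (q := W) hW)).1 (fun a b h => Subtype.ext (hinj (congrArg Subtype.val h))) ⟨w, hw⟩
    have e : A *ᵥ w' = w := congrArg Subtype.val hww
    show B w (A *ᵥ v) = 0
    rw [Forms.SympStd.sympB_apply, ← e, hpres, ← Forms.SympStd.sympB_apply]
    exact hv w' hw'
  have hc : Fintype.card (Fin m ⊕ Fin m) = 2 * m := by simp [two_mul]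
  have e1 := eq_ker_pow A (by rw [hc]; exact hnil) (by rw [hc]; exact hreg) W hW
  have e2 := eq_ker_pow A (by rw [hc]; exact hnil) (by rw [hc]; exact hreg) _ hO
  have hd : finrank F ↥(B.orthogonal W) = 2 * m - finrank F W := by
    rw [LinearMap.BilinForm.finrank_orthogonal Forms.SympStd.sympB_nondegenerate,
      Forms.SympStd.finrank_vec]
  intro v hv w hw
  have hw' : w ∈ B.orthogonal W := by
    rw [e1] at hw
    rw [e2, hd, toLin'_pow_eq]
    rw [toLin'_pow_eq] at hw
    obtain ⟨j, hj⟩ : ∃ j, 2 * m - finrank F W = j + finrank F W :=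
      ⟨2 * m - finrank F W - finrank F W, by omega⟩
    rw [LinearMap.mem_ker, hj, pow_add, Module.End.mul_apply, LinearMap.mem_ker.1 hw, map_zero]
  rw [← Forms.SympStd.sympB_apply]
  exact hw' v hv

theorem natCard_centralizer [Fintype F] {q n : ℕ} (hF : Fintype.card F = q) (hn : 1 ≤ n)
    (u : GL (Fin n) F) (hnil : ((u : Matrix (Fin n) (Fin n) F) - 1) ^ n = 0)
    (hreg : ((u : Matrix (Fin n) (Fin n) F) - 1).rank = n - 1) :
    Nat.card ↥(Subgroup.centralizer ({u} : Set (GL (Fin n) F))) = (q - 1) * q ^ (n - 1) := by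
  classical
  set N := (u : Matrix (Fin n) (Fin n) F) - 1 with hN
  obtain ⟨v₀, hv₀⟩ : ∃ v, (N ^ (n - 1)) *ᵥ v ≠ 0 := by
    by_contra hall
    push Not at hall
    have h1 := finrank_ker_pow_le N (by simpa using hreg) (n - 1)
    have h2 : LinearMap.ker ((Matrix.toLin' N) ^ (n - 1)) = ⊤ := by
      rw [← toLin'_pow_eq]
      exact eq_top_iff.2 fun x _ => hall x
    rw [h2, finrank_top, Module.finrank_pi, Fintype.card_fin] at h1
    omega
  let P : (Fin n → F) →ₗ[F] Matrix (Fin n) (Fin n) F :=
    Fintype.linearCombination F (fun i : Fin n => N ^ (i : ℕ))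
  let Φ : (Fin n → F) →ₗ[F] (Fin n → F) :=
    Fintype.linearCombination F (fun i : Fin n => (N ^ (i : ℕ)) *ᵥ v₀)
  have hPΦ : ∀ a, P a *ᵥ v₀ = Φ a := fun a => by
    simp [P, Φ, Fintype.linearCombination_apply, Matrix.sum_mulVec, Matrix.smul_mulVec]
  have hΦ : Function.Injective Φ := by
    refine (injective_iff_map_eq_zero Φ).2 fun a ha => ?_
    by_contra hne
    obtain ⟨i, hi⟩ := Function.ne_iff.1 hne
    obtain ⟨i, hi, hmin⟩ := Finset.exists_min_image (Finset.univ.filter fun i => a i ≠ 0)
      (fun i : Fin n => (i : ℕ)) ⟨i, by simpa using hi⟩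
    simp only [Finset.mem_filter, Finset.mem_univ, true_and] at hi hmin
    have hlt := i.2
    have h := congrArg (fun x => (N ^ (n - 1 - (i : ℕ))) *ᵥ x) ha
    simp only [Φ, Fintype.linearCombination_apply, Matrix.mulVec_sum, Matrix.mulVec_smul,
      Matrix.mulVec_mulVec, ← pow_add, Matrix.mulVec_zero] at h
    rw [Finset.sum_eq_single i] at h
    · rw [show n - 1 - (i : ℕ) + i = n - 1 by omega] at h
      exact hv₀ ((smul_eq_zero.1 h).resolve_left hi)
    · intro j _ hji
      by_cases hj : a j = 0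
      · rw [hj, zero_smul]
      · have h1 := hmin j hj
        have h2 : (i : ℕ) ≠ j := fun e => hji (Fin.ext e).symm
        rw [pow_eq_zero_of_le (m := n) (by omega) hnil, Matrix.zero_mulVec, smul_zero]
    · simp
  have hcP : ∀ a, Commute N (P a) := fun a => by
    simp only [P, Fintype.linearCombination_apply]
    exact Commute.sum_right _ _ _ fun i _ => ((Commute.refl N).pow_right _).smul_right _
  have hpow : ∀ g : Matrix (Fin n) (Fin n) F, Commute N g → g *ᵥ v₀ = 0 → g = 0 := by
    intro g hg h0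
    refine Matrix.toLin'.injective ?_
    rw [map_zero]
    have hspan : LinearMap.range Φ = ⊤ :=
      LinearMap.range_eq_top.2 (LinearMap.injective_iff_surjective.1 hΦ)
    refine LinearMap.ext fun x => ?_
    obtain ⟨a, rfl⟩ : ∃ a, Φ a = x := LinearMap.range_eq_top.1 hspan x
    rw [Matrix.toLin'_apply, ← hPΦ, Matrix.mulVec_mulVec,
      show g * P a = P a * g from by
        simp only [P, Fintype.linearCombination_apply, Finset.mul_sum, Finset.sum_mul]
        exact Finset.sum_congr rfl fun i _ => (((hg.pow_left _).smul_left _).eq).symm,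
      ← Matrix.mulVec_mulVec, h0, Matrix.mulVec_zero]
    rfl
  let i0 : Fin n := ⟨0, by omega⟩
  have hrange : ∀ a, a i0 = 0 → ∃ y, Φ a = N *ᵥ y := fun a ha => by
    refine ⟨∑ i : Fin n, a i • ((N ^ ((i : ℕ) - 1)) *ᵥ v₀), ?_⟩
    simp only [Φ, Fintype.linearCombination_apply, Matrix.mulVec_sum, Matrix.mulVec_smul,
      Matrix.mulVec_mulVec]
    refine Finset.sum_congr rfl fun i _ => ?_
    by_cases hi : i = i0
    · rw [hi, ha, zero_smul, zero_smul]
    · have : (i : ℕ) ≠ 0 := fun e => hi (Fin.ext e)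
      rw [← pow_succ', Nat.sub_add_cancel (by omega)]
  let S := Set.range fun y : Fin n → F => N *ᵥ y
  let e : ↥(Subgroup.centralizer ({u} : Set (GL (Fin n) F))) → {w : Fin n → F // w ∉ S} := fun g =>
    ⟨((g : GL (Fin n) F) : Matrix (Fin n) (Fin n) F) *ᵥ v₀, by
      rintro ⟨y, hy⟩
      have hc : Commute N ((g : GL (Fin n) F) : Matrix (Fin n) (Fin n) F) := by
        have := Subgroup.mem_centralizer_singleton_iff.1 g.2
        refine Commute.sub_left ?_ (Commute.one_left _)
        exact (congrArg Units.val this).symm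
      have h := congrArg (fun x => (N ^ (n - 1)) *ᵥ x) hy
      simp only [Matrix.mulVec_mulVec, ← pow_succ, Nat.sub_add_cancel hn, hnil,
        (hc.pow_left (n - 1)).eq, Matrix.zero_mulVec] at h
      rw [← Matrix.mulVec_mulVec] at h
      have := congrArg (fun x => (((g : GL (Fin n) F)⁻¹ : GL (Fin n) F) : Matrix (Fin n) (Fin n) F) *ᵥ x) h
      simp only [Matrix.mulVec_mulVec, Matrix.mulVec_zero, ← Units.val_mul, inv_mul_cancel,
        Units.val_one, Matrix.one_mul, ← Matrix.mul_assoc] at this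
      exact hv₀ this.symm⟩
  have he : Function.Bijective e := by
    refine ⟨fun g g' h => ?_, fun ⟨w, hw⟩ => ?_⟩
    · have hc : ∀ g : ↥(Subgroup.centralizer ({u} : Set (GL (Fin n) F))),
          Commute N ((g : GL (Fin n) F) : Matrix (Fin n) (Fin n) F) := fun g => by
        have := Subgroup.mem_centralizer_singleton_iff.1 g.2
        refine Commute.sub_left ?_ (Commute.one_left _)
        exact (congrArg Units.val this).symm
      refine Subtype.ext (Units.ext (sub_eq_zero.1 (hpow _ ((hc g).sub_right (hc g')) ?_)))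
      rw [Matrix.sub_mulVec]
      exact sub_eq_zero.2 (congrArg Subtype.val h)
    · obtain ⟨a, rfl⟩ := LinearMap.injective_iff_surjective.1 hΦ w
      have ha0 : a i0 ≠ 0 := fun h0 => by
        obtain ⟨y, hy⟩ := hrange a h0
        exact hw ⟨y, hy.symm⟩
      have hunit : IsUnit (P a) := by
        have hsplit : P a = a i0 • (1 : Matrix (Fin n) (Fin n) F) + N *
            ∑ i ∈ Finset.univ.erase i0, a i • N ^ ((i : ℕ) - 1) := by
          simp only [P, Fintype.linearCombination_apply]
          rw [← Finset.add_sum_erase _ _ (Finset.mem_univ i0), Finset.mul_sum]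
          refine congrArg₂ (· + ·) (by simp [i0]) (Finset.sum_congr rfl fun i hi => ?_)
          have : (i : ℕ) ≠ 0 := fun e' => (Finset.mem_erase.1 hi).1 (Fin.ext e')
          rw [mul_smul_comm, ← pow_succ', Nat.sub_add_cancel (by omega)]
        rw [hsplit]
        refine IsNilpotent.isUnit_add_left_of_commute (Commute.isNilpotent_mul_right ?_ ⟨n, hnil⟩)
          ?_ ?_
        · exact Commute.sum_right _ _ _ fun i _ => ((Commute.refl N).pow_right _).smul_right _
        · exact (isUnit_one.smul (Units.mk0 (a i0) ha0))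
        · exact Commute.smul_right (Commute.one_right _) _
      refine ⟨⟨hunit.unit, Subgroup.mem_centralizer_singleton_iff.2 (Units.ext ?_)⟩,
        Subtype.ext (hPΦ a)⟩
      show P a * (u : Matrix (Fin n) (Fin n) F) = (u : Matrix (Fin n) (Fin n) F) * P a
      rw [show (u : Matrix (Fin n) (Fin n) F) = N + 1 by rw [hN, sub_add_cancel]]
      exact (((hcP a).add_left (Commute.one_left _)).eq).symm
  rw [Nat.card_eq_of_bijective e he]
  have hS : Nat.card S = q ^ (n - 1) := by
    show Nat.card (Set.range fun y : Fin n → F => N *ᵥ y) = _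
    have hr : finrank F ↥(LinearMap.range N.mulVecLin) = n - 1 := hreg
    have := Module.natCard_eq_pow_finrank (K := F) (V := ↥(LinearMap.range N.mulVecLin))
    rw [hr, Nat.card_eq_fintype_card (α := F), hF] at this
    exact this
  have htot : Nat.card {w : Fin n → F // w ∈ S} + Nat.card {w : Fin n → F // w ∉ S} = q ^ n := by
    rw [← Nat.card_sum, Nat.card_congr (Equiv.sumCompl fun w => w ∈ S)]
    simp [hF]
  rw [show Nat.card {w : Fin n → F // w ∈ S} = Nat.card S from rfl, hS] at htot
  rw [Nat.sub_mul, one_mul, ← pow_succ', Nat.sub_add_cancel hn]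
  omega

end Cfsg.Agent.Classical.RegularUnipotent
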