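import Mathlib
import Cfsg.Agent.Lib.Classical.RegularUnipotent

/-!
# Regular nilpotent matrices: conjugacy and commutant
-/

set_option autoImplicit false

namespace Cfsg.Agent.Classical.RegularUnipotentConj

open Matrix Module

variable {F : Type*} [Field F] {n : ℕ}

local notation "Mat" => Matrix (Fin n) (Fin n) F

/-- A regular nilpotent matrix has a chain basis. -/
theorem exists_chain (N : Mat) (hnil : N ^ n = 0) (hreg : N.rank = n - 1) :
    ∃ (v₀ : Fin n → F) (b : Basis (Fin n) F (Fin n → F)),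
      ∀ i : Fin n, b i = (N ^ (i : ℕ)) *ᵥ v₀ := by
  classical
  rcases Nat.eq_zero_or_pos n with h0 | hn
  · subst h0
    exact ⟨0, Pi.basisFun F (Fin 0), fun i => i.elim0⟩
  obtain ⟨v₀, hv₀⟩ : ∃ v, (N ^ (n - 1)) *ᵥ v ≠ 0 := by
    by_contra hall
    push Not at hall
    have h1 := RegularUnipotent.finrank_ker_pow_le N (by simpa using hreg) (n - 1)
    have h2 : LinearMap.ker ((Matrix.toLin' N) ^ (n - 1)) = ⊤ := by
      rw [← RegularUnipotent.toLin'_pow_eq]
      exact eq_top_iff.2 fun x _ => hall x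
    rw [h2, finrank_top, Module.finrank_pi, Fintype.card_fin] at h1
    omega
  have hli : LinearIndependent F (fun i : Fin n => (N ^ (i : ℕ)) *ᵥ v₀) := by
    rw [Fintype.linearIndependent_iff]
    intro a ha
    by_contra hne
    push Not at hne
    obtain ⟨i, hi⟩ := hne
    obtain ⟨i, hi, hmin⟩ := Finset.exists_min_image (Finset.univ.filter fun i => a i ≠ 0)
      (fun i : Fin n => (i : ℕ)) ⟨i, by simpa using hi⟩
    simp only [Finset.mem_filter, Finset.mem_univ, true_and] at hi hmin
    have hlt := i.2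
    have h := congrArg (fun x => (N ^ (n - 1 - (i : ℕ))) *ᵥ x) ha
    simp only [Matrix.mulVec_sum, Matrix.mulVec_smul, Matrix.mulVec_mulVec, ← pow_add,
      Matrix.mulVec_zero] at h
    rw [Finset.sum_eq_single i] at h
    · rw [show n - 1 - (i : ℕ) + i = n - 1 by omega] at h
      exact hv₀ ((smul_eq_zero.1 h).resolve_left hi)
    · intro j _ hji
      by_cases hj : a j = 0
      · rw [hj, zero_smul]
      · have h1 := hmin j hj
        have h2 : (i : ℕ) ≠ j := fun e => hji (Fin.ext e).symm
        rw [pow_eq_zero_of_le (m := n) (by omega) hnil, Matrix.zero_mulVec, smul_zero]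
    · simp
  have : Nonempty (Fin n) := ⟨⟨0, hn⟩⟩
  refine ⟨v₀, basisOfLinearIndependentOfCardEqFinrank hli (by simp), fun i => ?_⟩
  rw [coe_basisOfLinearIndependentOfCardEqFinrank]

/-- Two regular nilpotent matrices of the same size are similar. -/
theorem exists_conj (N N' : Mat) (hnil : N ^ n = 0) (hreg : N.rank = n - 1) (hnil' : N' ^ n = 0)
    (hreg' : N'.rank = n - 1) : ∃ g : GL (Fin n) F, (g : Mat) * N = N' * (g : Mat) := by
  classical
  obtain ⟨v, b, hb⟩ := exists_chain N hnil hreg
  obtain ⟨v', b', hb'⟩ := exists_chain N' hnil' hreg'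
  let e : (Fin n → F) ≃ₗ[F] (Fin n → F) := b.equiv b' (Equiv.refl _)
  have hk : ∀ k : ℕ, e ((N ^ k) *ᵥ v) = (N' ^ k) *ᵥ v' := fun k => by
    by_cases hk : k < n
    · have h := b.equiv_apply ⟨k, hk⟩ b' (Equiv.refl _)
      rw [hb, Equiv.refl_apply, hb'] at h
      exact h
    · rw [pow_eq_zero_of_le (not_lt.1 hk) hnil, pow_eq_zero_of_le (not_lt.1 hk) hnil',
        zero_mulVec, zero_mulVec, map_zero]
  have he : e.toLinearMap ∘ₗ N.mulVecLin = N'.mulVecLin ∘ₗ e.toLinearMap := b.ext fun i => by
    simp only [LinearMap.comp_apply, LinearEquiv.coe_coe, Matrix.mulVecLin_apply, hb]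
    rw [mulVec_mulVec, ← pow_succ', hk, hk, mulVec_mulVec, ← pow_succ']
  refine ⟨Matrix.GeneralLinearGroup.mkOfDetNeZero (LinearMap.toMatrix' e.toLinearMap) ?_, ?_⟩
  · rw [LinearMap.det_toMatrix']
    exact (LinearEquiv.isUnit_det' e).ne_zero
  · show LinearMap.toMatrix' e.toLinearMap * N = N' * LinearMap.toMatrix' e.toLinearMap
    apply Matrix.toLin'.injective
    rw [Matrix.toLin'_mul, Matrix.toLin'_mul, Matrix.toLin'_toMatrix', Matrix.toLin'_apply',
      Matrix.toLin'_apply']
    exact he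

/-- The commutant of a regular nilpotent matrix consists of polynomials in it. -/
theorem exists_eq_add_of_commute (N c : Mat) (hn : 1 ≤ n) (hnil : N ^ n = 0)
    (hreg : N.rank = n - 1) (hc : Commute N c) :
    ∃ (a : F) (M : Mat), c = a • (1 : Mat) + N * M ∧ Commute N M := by
  classical
  obtain ⟨v, b, hb⟩ := exists_chain N hnil hreg
  set a := fun i => b.repr (c *ᵥ v) i
  let P : Mat := ∑ i : Fin n, a i • N ^ (i : ℕ)
  have hPN : Commute N P :=
    Commute.sum_right _ _ _ fun i _ => ((Commute.refl N).pow_right _).smul_right _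
  have hv : c *ᵥ v = P *ᵥ v := by
    simp only [P, sum_mulVec, smul_mulVec, ← hb]
    exact (b.sum_repr _).symm
  have hcP : c = P := by
    apply Matrix.toLin'.injective
    refine b.ext fun i => ?_
    rw [Matrix.toLin'_apply, Matrix.toLin'_apply, hb, mulVec_mulVec, mulVec_mulVec,
      ← (hc.pow_left _).eq, ← (hPN.pow_left _).eq, ← mulVec_mulVec, ← mulVec_mulVec, hv]
  let i0 : Fin n := ⟨0, by omega⟩
  refine ⟨a i0, ∑ i ∈ Finset.univ.erase i0, a i • N ^ ((i : ℕ) - 1), ?_, ?_⟩
  · rw [hcP]
    simp only [P]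
    rw [← Finset.add_sum_erase _ _ (Finset.mem_univ i0), Finset.mul_sum]
    refine congrArg₂ (· + ·) (by simp [i0]) (Finset.sum_congr rfl fun i hi => ?_)
    have : (i : ℕ) ≠ 0 := fun e' => (Finset.mem_erase.1 hi).1 (Fin.ext e')
    rw [mul_smul_comm, ← pow_succ', Nat.sub_add_cancel (by omega)]
  · exact Commute.sum_right _ _ _ fun i _ => ((Commute.refl N).pow_right _).smul_right _

/-- A scalar plus a nilpotent matrix. -/
theorem det_smul_one_add (a : F) (M : Mat) (hM : IsNilpotent M) :
    (a • (1 : Mat) + M).det = a ^ n := by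
  have h := (Matrix.isNilpotent_charpoly_sub_pow_of_isNilpotent hM).eq_zero
  rw [sub_eq_zero, Fintype.card_fin] at h
  have h2 := congrArg (Polynomial.eval (-a)) h
  rw [Matrix.eval_charpoly, Polynomial.eval_pow, Polynomial.eval_X] at h2
  have e : Matrix.scalar (Fin n) (-a) - M = -(a • (1 : Mat) + M) := by
    rw [Matrix.scalar_apply, ← Matrix.smul_one_eq_diagonal, neg_smul, neg_add, sub_eq_add_neg]
  rw [e, Matrix.det_neg, Fintype.card_fin, neg_pow a n] at h2
  exact mul_left_cancel₀ (pow_ne_zero n (neg_ne_zero.2 one_ne_zero)) h2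

theorem det_of_commute (N c : Mat) (hn : 1 ≤ n) (hnil : N ^ n = 0) (hreg : N.rank = n - 1)
    (hc : Commute N c) : ∃ a : F, c.det = a ^ n := by
  obtain ⟨a, M, rfl, hM⟩ := exists_eq_add_of_commute N c hn hnil hreg hc
  exact ⟨a, det_smul_one_add a _ (hM.isNilpotent_mul_right ⟨n, hnil⟩)⟩

/-- The shift matrix. -/
def shift (F : Type*) [Field F] (n : ℕ) : Matrix (Fin n) (Fin n) F :=
  Matrix.of fun i j => if (i : ℕ) + 1 = (j : ℕ) then 1 else 0

theorem shift_pow_self : (shift F n) ^ n = 0 := by
  have ht : (shift F n).IsUpperTriangular := fun i j (hij : j < i) => by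
    have : (j : ℕ) < i := hij
    simp only [shift, Matrix.of_apply]
    rw [if_neg (by omega)]
  have h := Matrix.aeval_self_charpoly (shift F n)
  rw [Matrix.charpoly_of_isUpperTriangular _ ht] at h
  have h0 : ∀ i : Fin n, shift F n i i = 0 := fun i => by simp [shift]
  simpa [h0] using h

theorem rank_shift : (shift F n).rank = n - 1 := by
  classical
  rcases Nat.eq_zero_or_pos n with h0 | hn
  · subst h0
    exact le_antisymm (Matrix.rank_le_card_width _) (Nat.zero_le _)
  obtain ⟨k, rfl⟩ : ∃ k, n = k + 1 := ⟨n - 1, by omega⟩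
  rw [Nat.add_sub_cancel]
  refine le_antisymm ?_ ?_
  · refine Nat.le_of_lt_succ (lt_of_le_of_ne (le_trans (Matrix.rank_le_card_width _)
      (by simp)) fun h => ?_)
    have hu := shift_pow_self (F := F) (n := k + 1)
    have hd : (shift F (k + 1)).det = 0 := by
      have := congrArg Matrix.det hu
      rw [Matrix.det_pow, Matrix.det_zero] at this
      exact pow_eq_zero_iff (by omega) |>.1 this
    obtain ⟨v, hv, hv0⟩ := Matrix.exists_mulVec_eq_zero_iff.2 hd
    have h2 := LinearMap.finrank_range_add_finrank_ker (shift F (k + 1)).mulVecLin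
    rw [← Matrix.rank, h, Module.finrank_pi, Fintype.card_fin] at h2
    have h3 : LinearMap.ker (shift F (k + 1)).mulVecLin = ⊥ := Submodule.finrank_eq_zero.1 (by omega)
    exact hv ((LinearMap.ker_eq_bot'.1 h3) v hv0)
  · refine le_trans (le_of_eq ?_) (Matrix.rank_submatrix_le (shift F (k + 1)) Fin.castSucc Fin.succ)
    rw [show (shift F (k + 1)).submatrix Fin.castSucc Fin.succ = 1 from ?_, Matrix.rank_one,
      Fintype.card_fin]
    ext i j
    simp [shift, Matrix.one_apply, Fin.ext_iff]

end Cfsg.Agent.Classical.RegularUnipotentConj
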