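import Mathlib
import Cfsg.Agent.Lib.Classical.NormSurj
import Cfsg.Agent.Lib.Forms.Bases

/-!
# Semisimple isometries conjugate in the general linear group

Away from the eigenvalues `±1` a linear conjugation of two semisimple isometries can be corrected to
an isometry.
-/

set_option autoImplicit false
set_option linter.unusedSectionVars false

namespace Cfsg.Agent.Classical.FormConj

open Matrix Module

variable (F : Type*) [Field F]

section average

variable {R : Type*} [Ring R] [Algebra F R]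

/-- The average of the first `s` powers. -/
def avg (s : ℕ) (a : R) : R := algebraMap F R (s : F)⁻¹ * ∑ i ∈ Finset.range s, a ^ i

open scoped _root_.Classical in
/-- The average of the powers of `-a`, when `-1` is another possible eigenvalue. -/
noncomputable def negAvg (s : ℕ) (a : R) : R :=
  if (-1 : F) ^ s = 1 ∧ (2 : F) ≠ 0 then avg F s (-a) else 0

/-- The complement of the two averages. -/
noncomputable def rest (s : ℕ) (a : R) : R := 1 - avg F s a - negAvg F s a

variable {F} {s : ℕ} {a : R}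

theorem mul_avg (h : a ^ s = 1) : a * avg F s a = avg F s a := by
  have h0 := mul_geom_sum a s
  rw [h, sub_self, sub_mul, one_mul, sub_eq_zero] at h0
  rw [avg, ← mul_assoc, ← Algebra.commutes, mul_assoc, h0]

theorem avg_mul_of_fix {c : R} (hs : (s : F) ≠ 0) (h : a * c = c) : avg F s a * c = c := by
  have h1 : ∀ i, a ^ i * c = c := by
    intro i
    induction i with
    | zero => simp
    | succ i ih => rw [pow_succ, mul_assoc, h, ih]
  rw [avg, mul_assoc, Finset.sum_mul, Finset.sum_congr rfl (fun i _ => h1 i), Finset.sum_const,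
    Finset.card_range, ← Nat.cast_smul_eq_nsmul F, ← Algebra.smul_def, smul_smul,
    inv_mul_cancel₀ hs, one_smul]

theorem avg_mul_self (hs : (s : F) ≠ 0) (h : a ^ s = 1) : avg F s a * avg F s a = avg F s a :=
  avg_mul_of_fix hs (mul_avg h)

theorem neg_pow_eq (h : a ^ s = 1) (hn : (-1 : F) ^ s = 1) : (-a) ^ s = 1 := by
  rw [neg_pow, h, mul_one, ← map_one (algebraMap F R), ← map_neg, ← map_pow, hn, map_one]

theorem mul_negAvg (h : a ^ s = 1) : a * negAvg F s a = -negAvg F s a := by
  rw [negAvg]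
  split_ifs with hc
  · have := mul_avg (F := F) (neg_pow_eq h hc.1)
    rw [neg_mul] at this
    rw [eq_neg_iff_add_eq_zero]
    nth_rw 2 [← this]
    rw [add_neg_cancel]
  · simp

theorem negAvg_mul_self (hs : (s : F) ≠ 0) (h : a ^ s = 1) :
    negAvg F s a * negAvg F s a = negAvg F s a := by
  rw [negAvg]
  split_ifs with hc
  · exact avg_mul_self hs (neg_pow_eq h hc.1)
  · simp

theorem avg_mul_map {c : R} {b : R} (h : c * a = b * c) : c * avg F s a = avg F s b * c := by
  have h1 : ∀ i, c * a ^ i = b ^ i * c := by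
    intro i
    induction i with
    | zero => simp
    | succ i ih => rw [pow_succ, ← mul_assoc, ih, mul_assoc, h, ← mul_assoc, ← pow_succ]
  rw [avg, avg, ← mul_assoc, ← Algebra.commutes, mul_assoc, mul_assoc, Finset.mul_sum,
    Finset.sum_mul, Finset.sum_congr rfl (fun i _ => h1 i)]

theorem negAvg_mul_map {c : R} {b : R} (h : c * a = b * c) :
    c * negAvg F s a = negAvg F s b * c := by
  rw [negAvg, negAvg]
  split_ifs
  · exact avg_mul_map (by rw [mul_neg, neg_mul, h])
  · simp

theorem rest_mul_map {c : R} {b : R} (h : c * a = b * c) :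
    c * rest F s a = rest F s b * c := by
  rw [rest, rest, mul_sub, mul_sub, sub_mul, sub_mul, mul_one, one_mul, avg_mul_map h,
    negAvg_mul_map h]

theorem avg_mul_negAvg (h : a ^ s = 1) : avg F s a * negAvg F s a = 0 := by
  by_cases hc : (-1 : F) ^ s = 1 ∧ (2 : F) ≠ 0
  · have h1 : avg F s a * a = avg F s a := by
      rw [← avg_mul_map (c := a) (a := a) (b := a) rfl, mul_avg h]
    have h2 : avg F s a * negAvg F s a = -(avg F s a * negAvg F s a) := by
      conv_lhs => rw [← h1, mul_assoc, mul_negAvg h, mul_neg]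
    have h3 : (2 : F) • (avg F s a * negAvg F s a) = 0 := by
      rw [two_smul]
      nth_rw 2 [h2]
      rw [add_neg_cancel]
    exact (smul_eq_zero.1 h3).resolve_left hc.2
  · rw [negAvg, if_neg hc, mul_zero]

theorem negAvg_mul_avg (h : a ^ s = 1) : negAvg F s a * avg F s a = 0 := by
  have h1 : a * negAvg F s a = negAvg F s a * a :=
    negAvg_mul_map (c := a) (a := a) (b := a) rfl
  rw [avg_mul_map (c := negAvg F s a) (a := a) (b := a) h1.symm, avg_mul_negAvg h]

theorem rest_mul_avg (hs : (s : F) ≠ 0) (h : a ^ s = 1) : rest F s a * avg F s a = 0 := by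
  rw [rest, sub_mul, sub_mul, one_mul, avg_mul_self hs h, negAvg_mul_avg h, sub_self, sub_zero]

theorem avg_mul_rest (hs : (s : F) ≠ 0) (h : a ^ s = 1) : avg F s a * rest F s a = 0 := by
  rw [rest, mul_sub, mul_sub, mul_one, avg_mul_self hs h, avg_mul_negAvg h, sub_self, sub_zero]

theorem rest_mul_negAvg (hs : (s : F) ≠ 0) (h : a ^ s = 1) : rest F s a * negAvg F s a = 0 := by
  rw [rest, sub_mul, sub_mul, one_mul, negAvg_mul_self hs h, avg_mul_negAvg h, sub_zero, sub_self]

theorem negAvg_mul_rest (hs : (s : F) ≠ 0) (h : a ^ s = 1) : negAvg F s a * rest F s a = 0 := by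
  rw [rest, mul_sub, mul_sub, mul_one, negAvg_mul_self hs h, negAvg_mul_avg h, sub_zero, sub_self]

theorem rest_mul_self (hs : (s : F) ≠ 0) (h : a ^ s = 1) : rest F s a * rest F s a = rest F s a := by
  nth_rw 1 [rest]
  rw [sub_mul, sub_mul, one_mul, avg_mul_rest hs h, negAvg_mul_rest hs h, sub_zero, sub_zero]

variable {S : Type*} [Ring S] [Algebra F S]

theorem map_avg (φ : R →ₐ[F] S) : φ (avg F s a) = avg F s (φ a) := by
  simp [avg, map_sum]

theorem map_negAvg (φ : R →ₐ[F] S) : φ (negAvg F s a) = negAvg F s (φ a) := by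
  rw [negAvg, negAvg]
  split_ifs <;> simp [map_avg]

theorem map_rest (φ : R →ₐ[F] S) : φ (rest F s a) = rest F s (φ a) := by
  simp [rest, map_avg, map_negAvg]

theorem avg_one (hs : (s : F) ≠ 0) : avg F s (1 : R) = 1 := by
  have := avg_mul_of_fix (F := F) (a := (1 : R)) (c := 1) hs (one_mul _)
  rwa [mul_one] at this

end average

variable {F}
variable {ι : Type*} [Fintype ι] [DecidableEq ι]

local notation "Mat" => Matrix ι ι F

/-- The adjoint with respect to the form with invertible Gram matrix `Γ`. -/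
noncomputable def adj (Γ : Matˣ) (M : Mat) : Mat := (↑Γ⁻¹ : Mat) * Mᵀ * (↑Γ : Mat)

section adjoint

variable (Γ : (Matrix ι ι F)ˣ)

theorem adj_one : adj Γ (1 : Mat) = 1 := by simp [adj]

theorem adj_add (M N : Mat) : adj Γ (M + N) = adj Γ M + adj Γ N := by
  simp [adj, transpose_add, mul_add, add_mul]

theorem adj_mul (M N : Mat) : adj Γ (M * N) = adj Γ N * adj Γ M := by
  simp only [adj, transpose_mul, mul_assoc]
  rw [← mul_assoc (↑Γ : Mat) (↑Γ⁻¹ : Mat), Units.mul_inv, one_mul]

theorem adj_algebraMap (x : F) : adj Γ (algebraMap F Mat x) = algebraMap F Mat x := by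
  rw [adj, Algebra.algebraMap_eq_smul_one, transpose_smul, transpose_one, mul_smul_comm, mul_one,
    smul_mul_assoc, Units.inv_mul]

theorem adj_neg (M : Mat) : adj Γ (-M) = -adj Γ M := by simp [adj]

theorem adj_zero : adj Γ (0 : Mat) = 0 := by simp [adj]

theorem adj_sub (M N : Mat) : adj Γ (M - N) = adj Γ M - adj Γ N := by
  rw [sub_eq_add_neg, adj_add, adj_neg, ← sub_eq_add_neg]

theorem form_mulVec (M : Mat) (u v : ι → F) :
    (M *ᵥ u) ⬝ᵥ ((↑Γ : Mat) *ᵥ v) = u ⬝ᵥ ((↑Γ : Mat) *ᵥ (adj Γ M *ᵥ v)) := by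
  rw [adj, mulVec_mulVec, ← mul_assoc, ← mul_assoc, Units.mul_inv, one_mul, dotProduct_comm,
    dotProduct_mulVec, ← mulVec_transpose, mulVec_mulVec, dotProduct_comm]

theorem adj_adj {c : F} (hΓ : (↑Γ : Mat)ᵀ = c • (↑Γ : Mat)) (hc : c * c = 1) (M : Mat) :
    adj Γ (adj Γ M) = M := by
  have hi : (↑Γ⁻¹ : Mat)ᵀ = c • (↑Γ⁻¹ : Mat) := by
    have h : ((↑Γ : Mat) * (↑Γ⁻¹ : Mat))ᵀ = 1 := by rw [Units.mul_inv, transpose_one]
    rw [transpose_mul, hΓ, mul_smul_comm] at h
    have h2 := congrArg (fun Z => c • (Z * (↑Γ⁻¹ : Mat))) h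
    simp only [smul_mul_assoc, smul_smul, hc, one_smul, one_mul, mul_assoc, Units.mul_inv,
      mul_one] at h2
    exact h2
  rw [adj, adj, transpose_mul, transpose_mul, transpose_transpose, hΓ, hi]
  simp only [smul_mul_assoc, mul_smul_comm, smul_smul, hc, one_smul, mul_assoc, Units.inv_mul,
    mul_one]
  rw [← mul_assoc, Units.inv_mul, one_mul]

theorem preserves_iff (M : Mat) :
    Mᵀ * (↑Γ : Mat) * M = (↑Γ : Mat) ↔ adj Γ M * M = 1 := by
  simp only [adj, mul_assoc]; rw [Units.inv_mul_eq_iff_eq_mul, mul_one]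

theorem adj_pow (M : Mat) (k : ℕ) : adj Γ (M ^ k) = adj Γ M ^ k := by
  induction k with
  | zero => simp [adj_one]
  | succ k ih => rw [pow_succ, adj_mul, ih, pow_succ']

theorem adj_avg {c : F} (hΓ : (↑Γ : Mat)ᵀ = c • (↑Γ : Mat)) (hc : c * c = 1) {s : ℕ}
    (hs : (s : F) ≠ 0) {A : Mat} (hA : adj Γ A * A = 1) (hAs : A ^ s = 1) :
    adj Γ (avg F s A) = avg F s A := by
  have hz : ∀ t : Finset ℕ, adj Γ (∑ i ∈ t, A ^ i) = ∑ i ∈ t, adj Γ A ^ i := by
    intro t
    induction t using Finset.induction with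
    | empty => simp [adj_zero]
    | insert i t hi ih => rw [Finset.sum_insert hi, Finset.sum_insert hi, adj_add, ih, adj_pow]
  have he : adj Γ (avg F s A) = avg F s (adj Γ A) := by
    rw [avg, avg, adj_mul, adj_algebraMap, hz, ← Algebra.commutes]
  have hfix : adj Γ A * avg F s A = avg F s A := by
    conv_lhs => rw [← mul_avg (F := F) hAs, ← mul_assoc, hA, one_mul]
  have h1 : adj Γ (avg F s A) * avg F s A = avg F s A := by
    rw [he]
    exact avg_mul_of_fix hs hfix
  have h2 := congrArg (adj Γ) h1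
  rw [adj_mul, adj_adj Γ hΓ hc] at h2
  exact h2.symm.trans h1

theorem adj_negAvg {c : F} (hΓ : (↑Γ : Mat)ᵀ = c • (↑Γ : Mat)) (hc : c * c = 1) {s : ℕ}
    (hs : (s : F) ≠ 0) {A : Mat} (hA : adj Γ A * A = 1) (hAs : A ^ s = 1) :
    adj Γ (negAvg F s A) = negAvg F s A := by
  rw [negAvg]
  split_ifs with h
  · exact adj_avg Γ hΓ hc hs (by rw [adj_neg, neg_mul_neg, hA]) (neg_pow_eq hAs h.1)
  · exact adj_zero Γ

theorem adj_rest {c : F} (hΓ : (↑Γ : Mat)ᵀ = c • (↑Γ : Mat)) (hc : c * c = 1) {s : ℕ}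
    (hs : (s : F) ≠ 0) {A : Mat} (hA : adj Γ A * A = 1) (hAs : A ^ s = 1) :
    adj Γ (rest F s A) = rest F s A := by
  rw [rest, adj_sub, adj_sub, adj_one, adj_avg Γ hΓ hc hs hA hAs, adj_negAvg Γ hΓ hc hs hA hAs]

/-- A conjugation of semisimple isometries can be made isometric off the eigenvalues `±1`. -/
theorem exists_partial [Finite F] {c : F} (hΓ : (↑Γ : Mat)ᵀ = c • (↑Γ : Mat)) (hc : c * c = 1)
    (A B : Mat) (hA : adj Γ A * A = 1) (hB : adj Γ B * B = 1) {s : ℕ} (hs : (s : F) ≠ 0)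
    (hAs : A ^ s = 1) (X : Matˣ) (hX : (↑X : Mat) * A = B * (↑X : Mat)) :
    ∃ G : Matˣ, (↑G : Mat) * A = B * (↑G : Mat) ∧
      adj Γ (↑G : Mat) * (↑G : Mat) * rest F s A = rest F s A := by
  classical
  set H := adj Γ (↑X : Mat) * (↑X : Mat) with hH
  have hHu : IsUnit H := by
    refine IsUnit.mul ?_ X.isUnit
    exact (Γ⁻¹.isUnit.mul ((Matrix.isUnit_transpose _).2 X.isUnit)).mul Γ.isUnit
  have hHh : adj Γ H = H := by rw [hH, adj_mul, adj_adj Γ hΓ hc]
  have hA' : A * adj Γ A = 1 := mul_eq_one_comm.1 hA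
  have hAH : A * H = H * A := by
    have h1 : adj Γ A * H * A = H := by
      rw [hH, ← mul_assoc, ← adj_mul, mul_assoc, hX, adj_mul, mul_assoc, ← mul_assoc (adj Γ B),
        hB, one_mul]
    conv_lhs => rw [← h1]
    rw [← mul_assoc, ← mul_assoc, hA', one_mul]
  have hs0 : 1 ≤ s := Nat.one_le_iff_ne_zero.2 fun h => hs (by rw [h, Nat.cast_zero])
  have hadjA : adj Γ A = A ^ (s - 1) := by
    calc adj Γ A = adj Γ A * A ^ s := by rw [hAs, mul_one]
      _ = adj Γ A * A * A ^ (s - 1) := by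
        rw [mul_assoc (adj Γ A) A, ← pow_succ', Nat.sub_add_cancel hs0]
      _ = A ^ (s - 1) := by rw [hA, one_mul]
  set S := Algebra.adjoin F ({H, A} : Set Mat) with hS
  have hcomm : ∀ a ∈ ({H, A} : Set Mat), ∀ b ∈ ({H, A} : Set Mat), a * b = b * a := by
    rintro a (rfl | rfl) b (rfl | rfl)
    · rfl
    · exact hAH.symm
    · exact hAH
    · rfl
  letI : CommRing S := Algebra.adjoinCommRingOfComm F hcomm
  have hHS : H ∈ S := Algebra.subset_adjoin (Set.mem_insert _ _)
  have hAS : A ∈ S := Algebra.subset_adjoin (Set.mem_insert_of_mem _ rfl)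
  have hadjS : ∀ x ∈ S, adj Γ x ∈ S := fun x hx => by
    induction hx using Algebra.adjoin_induction with
    | mem x hx =>
      rcases hx with rfl | rfl
      · rw [hHh]; exact hHS
      · rw [hadjA]; exact pow_mem hAS _
    | algebraMap r => rw [adj_algebraMap]; exact S.algebraMap_mem _
    | add x y _ _ hx hy => rw [adj_add]; exact S.add_mem hx hy
    | mul x y _ _ hx hy => rw [adj_mul]; exact S.mul_mem hy hx
  let σ : S →+* S :=
    { toFun := fun x => ⟨adj Γ x, hadjS x x.2⟩
      map_one' := Subtype.ext (adj_one Γ)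
      map_mul' := fun a b => by
        have h : (⟨adj Γ ((a : Mat) * b), hadjS _ (a * b).2⟩ : S)
            = ⟨adj Γ (b : Mat), hadjS _ b.2⟩ * ⟨adj Γ (a : Mat), hadjS _ a.2⟩ :=
          Subtype.ext (adj_mul Γ _ _)
        exact h.trans (mul_comm _ _)
      map_zero' := Subtype.ext (adj_zero Γ)
      map_add' := fun a b => Subtype.ext (adj_add Γ _ _) }
  have hσ : ∀ x, σ (σ x) = x := fun x => Subtype.ext (adj_adj Γ hΓ hc _)
  set aS : S := ⟨A, hAS⟩
  have haS : aS ^ s = 1 := Subtype.ext hAs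
  set ε : S := rest F s aS
  have hεval : (ε : Mat) = rest F s A := map_rest S.val
  have hσε : σ ε = ε := Subtype.ext (by
    show adj Γ (ε : Mat) = ε
    rw [hεval]
    exact adj_rest Γ hΓ hc hs hA hAs)
  have hres : ∀ M : Ideal S, M.IsMaximal → (∀ x ∈ M, σ x ∈ M) → ε ∉ M → ∃ r, r - σ r ∉ M := by
    intro M hM _ hεM
    refine ⟨aS, fun hmem => hεM ?_⟩
    letI : Field (S ⧸ M) := Ideal.Quotient.field M
    let π := Ideal.Quotient.mkₐ F M
    have h1 : π aS = π (σ aS) := by
      rw [← sub_eq_zero, ← map_sub]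
      exact Ideal.Quotient.eq_zero_iff_mem.2 hmem
    have h2 : π aS * π aS = 1 := by
      nth_rw 1 [h1]
      rw [← map_mul]
      exact (congrArg π (Subtype.ext hA : σ aS * aS = 1)).trans (map_one π)
    have h3 : π aS ^ s = 1 := by rw [← map_pow, haS, map_one]
    refine Ideal.Quotient.eq_zero_iff_mem.1 (show π ε = 0 from ?_)
    rw [map_rest, rest]
    rcases mul_self_eq_one_iff.1 h2 with h | h
    · have hz : negAvg F s (π aS) = 0 := by
        have := avg_mul_negAvg (F := F) (a := π aS) h3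
        rwa [h, avg_one hs, one_mul, ← h] at this
      rw [hz, h, avg_one hs, sub_self, sub_zero]
    · by_cases h20 : (2 : F) = 0
      · have h11 : π aS = 1 := by
          rw [h]
          have : (-1 : F) = 1 := by linear_combination -h20
          rw [← map_one (algebraMap F (S ⧸ M)), ← map_neg, this]
        have hz : negAvg F s (π aS) = 0 := by
          rw [negAvg, if_neg (fun hh => hh.2 h20)]
        rw [hz, h11, avg_one hs, sub_self, sub_zero]
      · have hn : (-1 : F) ^ s = 1 := by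
          apply (algebraMap F (S ⧸ M)).injective
          rw [map_pow, map_neg, map_one, ← h, h3]
        have hf : negAvg F s (π aS) = 1 := by
          rw [negAvg, if_pos ⟨hn, h20⟩, h, neg_neg, avg_one hs]
        have he : avg F s (π aS) = 0 := by
          have := avg_mul_negAvg (F := F) (a := π aS) h3
          rwa [hf, mul_one] at this
        rw [he, hf, sub_zero, sub_self]
  have hHuS : IsUnit (⟨H, hHS⟩ : S) := by
    obtain ⟨v, hv⟩ := Finite.surjective_of_injective
      (f := fun x : S => (⟨H, hHS⟩ : S) * x)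
      (fun a b h => Subtype.ext (hHu.mul_left_cancel (congrArg Subtype.val h))) 1
    exact IsUnit.of_mul_eq_one v hv
  obtain ⟨y, hy, hyε⟩ := NormSurj.exists_norm_idempotent σ hσ ε (rest_mul_self hs haS) hσε hres
    ⟨H, hHS⟩ hHuS (Subtype.ext hHh)
  obtain ⟨yu, rfl⟩ := hy
  let G : Matˣ := X * (Units.map S.val.toMonoidHom yu)⁻¹
  have hGv : (↑G : Mat) = (↑X : Mat) * ((↑yu⁻¹ : S) : Mat) := rfl
  refine ⟨G, ?_, ?_⟩
  · have hcA : ((↑yu⁻¹ : S) : Mat) * A = A * ((↑yu⁻¹ : S) : Mat) :=
      congrArg Subtype.val (mul_comm (↑yu⁻¹ : S) aS)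
    rw [hGv, mul_assoc, hcA, ← mul_assoc, hX, mul_assoc]
  · have key : σ (↑yu⁻¹ : S) * ⟨H, hHS⟩ * (↑yu⁻¹ : S) * ε = ε := by
      have h1 : σ (↑yu⁻¹ : S) * σ (↑yu : S) = 1 := by rw [← map_mul, Units.inv_mul, map_one]
      have h2 : (↑yu⁻¹ : S) * (↑yu : S) = 1 := Units.inv_mul yu
      linear_combination (-(σ (↑yu⁻¹ : S) * (↑yu⁻¹ : S))) * hyε
        + (σ (↑yu⁻¹ : S) * σ (↑yu : S) * ε) * h2 + ε * h1
    have := congrArg Subtype.val key
    simp only [MulMemClass.coe_mul, hεval] at this
    rw [hGv, adj_mul, mul_assoc (adj Γ _) (adj Γ (↑X : Mat)), ← mul_assoc (adj Γ (↑X : Mat)), ← hH,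
      ← mul_assoc]
    exact this

end adjoint

/-- Nondegenerate alternating subspaces of equal dimension are isometric. -/
theorem exists_alt_iso {V : Type*} [AddCommGroup V] [Module F V] [FiniteDimensional F V]
    (B : LinearMap.BilinForm F V) (hA : B.IsAlt) (W W' : Submodule F V)
    (hW : Forms.Bases.NondegOn B W) (hW' : Forms.Bases.NondegOn B W')
    (hd : finrank F W = finrank F W') :
    ∃ L : V →ₗ[F] V, (∀ v ∈ W, L v ∈ W') ∧ ∀ v ∈ W, ∀ w ∈ W, B (L v) (L w) = B v w := by
  classical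
  obtain ⟨k, e, f, h⟩ := Forms.Bases.exists_sympFamily B hA W hW
  obtain ⟨k', e', f', h'⟩ := Forms.Bases.exists_sympFamily B hA W' hW'
  obtain rfl : k = k' := by
    have := h.finrank_eq
    have := h'.finrank_eq
    omega
  let φ := Fintype.linearCombination F (Sum.elim e f)
  let φ' := Fintype.linearCombination F (Sum.elim e' f')
  have hker : LinearMap.ker φ = ⊥ :=
    LinearMap.ker_eq_bot.2 (linearIndependent_iff_injective_fintypeLinearCombination.1 h.linearIndependent)
  obtain ⟨π, hπ⟩ := φ.exists_leftInverse_of_injective hker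
  have hB : B.compl₁₂ φ' φ' = B.compl₁₂ φ φ := by
    refine LinearMap.ext_basis (Pi.basisFun F _) (Pi.basisFun F _) fun i j => ?_
    simp only [LinearMap.compl₁₂_apply, Pi.basisFun_apply, φ, φ',
      Fintype.linearCombination_apply_single, one_smul]
    have hs : ∀ u v, B v u = - B u v := fun u v => (LinearMap.IsAlt.neg hA u v).symm
    rcases i with i | i <;> rcases j with j | j
    · simp [h.ee, h'.ee]
    · simp [h.ef, h'.ef]
    · simp only [Sum.elim_inl, Sum.elim_inr]
      rw [hs (e j) (f i), hs (e' j) (f' i), h.ef, h'.ef]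
    · simp [h.ff, h'.ff]
  have hmem : ∀ v ∈ W, ∃ a, φ a = v := fun v hv => by
    have h2 : v ∈ LinearMap.range φ := by
      rw [Fintype.range_linearCombination]
      exact h.span hv
    exact h2
  refine ⟨φ' ∘ₗ π, fun v hv => ?_, fun v hv w hw => ?_⟩
  · have : LinearMap.range φ' ≤ W' := by
      rw [Fintype.range_linearCombination, Submodule.span_le]
      rintro _ ⟨i | i, rfl⟩
      · exact h'.e_mem i
      · exact h'.f_mem i
    exact this ⟨π v, rfl⟩
  · obtain ⟨a, rfl⟩ := hmem v hv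
    obtain ⟨b, rfl⟩ := hmem w hw
    have ha : π (φ a) = a := LinearMap.congr_fun hπ a
    have hb : π (φ b) = b := LinearMap.congr_fun hπ b
    rw [LinearMap.comp_apply, LinearMap.comp_apply, ha, hb]
    exact LinearMap.congr_fun₂ hB a b

end Cfsg.Agent.Classical.FormConj
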