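import Mathlib
import Cfsg.Agent.Lib.Classical.RegularUnipotentConj
import Cfsg.Agent.Lib.Classical.FormConj

/-!
# Regular unipotent isometries of a non-degenerate alternating form, odd characteristic
-/

set_option autoImplicit false
set_option linter.unusedSectionVars false

namespace Cfsg.Agent.Classical.SympRegular

open Matrix Module
open Cfsg.Agent.Classical.FormConj (adj)

variable {F : Type*} [Field F] [Fintype F] {n : ℕ}

local notation "Mat" => Matrix (Fin n) (Fin n) F

variable (Γ : (Matrix (Fin n) (Fin n) F)ˣ)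

theorem adj_smul (c : F) (M : Mat) : adj Γ (c • M) = c • adj Γ M := by
  simp [adj, transpose_smul]

theorem adj_pow (M : Mat) (k : ℕ) : adj Γ (M ^ k) = (adj Γ M) ^ k := by
  induction k with
  | zero => simpa using FormConj.adj_one Γ
  | succ k ih => rw [pow_succ, FormConj.adj_mul, ih, ← pow_succ']

theorem adj_sum {ι : Type*} (s : Finset ι) (f : ι → Mat) :
    adj Γ (∑ i ∈ s, f i) = ∑ i ∈ s, adj Γ (f i) :=
  map_sum (AddMonoidHom.mk' (adj Γ) (FormConj.adj_add Γ)) f s

theorem eq_zero_of_isNilpotent_smul_one (hn : 1 ≤ n) {a : F}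
    (h : IsNilpotent (a • (1 : Mat))) : a = 0 := by
  obtain ⟨k, hk⟩ := h
  rw [smul_pow, one_pow, smul_eq_zero] at hk
  have : Nonempty (Fin n) := ⟨⟨0, hn⟩⟩
  exact eq_zero_of_pow_eq_zero (hk.resolve_right one_ne_zero)

theorem isUnit_smul_one_add {a : F} (ha : a ≠ 0) {M : Mat} (hM : IsNilpotent M) :
    IsUnit (a • (1 : Mat) + M) := by
  rw [Matrix.isUnit_iff_isUnit_det, RegularUnipotentConj.det_smul_one_add a M hM]
  exact (pow_ne_zero n ha).isUnit

/-- A regular nilpotent skew matrix. -/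
structure Datum (S : Mat) : Prop where
  pos : 1 ≤ n
  two : (2 : F) ≠ 0
  nil : S ^ n = 0
  reg : S.rank = n - 1
  skew : adj Γ S = -S
  alt : (↑Γ : Mat)ᵀ = (-1 : F) • (↑Γ : Mat)

variable {Γ} {S : Matrix (Fin n) (Fin n) F}

namespace Datum

variable (d : Datum Γ S)
include d

theorem adj_adj (M : Mat) : adj Γ (adj Γ M) = M :=
  FormConj.adj_adj Γ d.alt (by ring) M

theorem commute_adj {x : Mat} (h : Commute S x) : Commute S (adj Γ x) := by
  have e := congrArg (adj Γ) h.eq
  rw [FormConj.adj_mul, FormConj.adj_mul, d.skew, mul_neg, neg_mul, neg_inj] at e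
  exact e.symm

theorem exists_coeff {x : Mat} (h : Commute S x) :
    ∃ a : Fin n → F, x = ∑ i : Fin n, a i • S ^ (i : ℕ) := by
  obtain ⟨v, b, hb⟩ := RegularUnipotentConj.exists_chain S d.nil d.reg
  set a := fun i => b.repr (x *ᵥ v) i
  refine ⟨a, ?_⟩
  set P : Mat := ∑ i : Fin n, a i • S ^ (i : ℕ)
  have hPS : Commute S P :=
    Commute.sum_right _ _ _ fun i _ => ((Commute.refl S).pow_right _).smul_right _
  have hv : x *ᵥ v = P *ᵥ v := by
    simp only [P, sum_mulVec, smul_mulVec, ← hb]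
    exact (b.sum_repr _).symm
  apply Matrix.toLin'.injective
  refine b.ext fun i => ?_
  rw [Matrix.toLin'_apply, Matrix.toLin'_apply, hb, mulVec_mulVec, mulVec_mulVec,
    ← (h.pow_left _).eq, ← (hPS.pow_left _).eq, ← mulVec_mulVec, ← mulVec_mulVec, hv]

theorem comm_all {x y : Mat} (hx : Commute S x) (hy : Commute S y) : Commute x y := by
  obtain ⟨a, rfl⟩ := d.exists_coeff hy
  exact Commute.sum_right _ _ _ fun i _ => (hx.symm.pow_right _).smul_right _

theorem exists_scalar {x : Mat} (h : Commute S x) : ∃ a : F, IsNilpotent (x - a • (1 : Mat)) := by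
  obtain ⟨a, M, rfl, hM⟩ :=
    RegularUnipotentConj.exists_eq_add_of_commute S x d.pos d.nil d.reg h
  exact ⟨a, by rw [add_sub_cancel_left]; exact hM.isNilpotent_mul_right ⟨n, d.nil⟩⟩

theorem commute_sub_one {x : Mat} (h : Commute S x) (a : F) : Commute S (x - a • (1 : Mat)) :=
  h.sub_right ((Commute.one_right S).smul_right a)

theorem scalar_unique {x : Mat} (h : Commute S x) {a b : F} (ha : IsNilpotent (x - a • (1 : Mat)))
    (hb : IsNilpotent (x - b • (1 : Mat))) : a = b := by
  refine sub_eq_zero.1 (eq_zero_of_isNilpotent_smul_one d.pos ?_)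
  have := (d.comm_all (d.commute_sub_one h b) (d.commute_sub_one h a)).isNilpotent_sub hb ha
  rwa [sub_sub_sub_cancel_left, ← sub_smul] at this

theorem scalar_mul {x y : Mat} (hx : Commute S x) (hy : Commute S y) {a b : F}
    (ha : IsNilpotent (x - a • (1 : Mat))) (hb : IsNilpotent (y - b • (1 : Mat))) :
    IsNilpotent (x * y - (a * b) • (1 : Mat)) := by
  have e : x * y - (a * b) • (1 : Mat) =
      (x - a • (1 : Mat)) * y + (a • (1 : Mat)) * (y - b • (1 : Mat)) := by
    rw [sub_mul, mul_sub, smul_mul_smul_comm, mul_one]; abel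
  rw [e]
  have c1 : Commute S ((x - a • (1 : Mat)) * y) := (d.commute_sub_one hx a).mul_right hy
  have c2 : Commute S (a • (1 : Mat) * (y - b • (1 : Mat))) :=
    ((Commute.one_right S).smul_right a).mul_right (d.commute_sub_one hy b)
  exact (d.comm_all c1 c2).isNilpotent_add
    ((d.comm_all (d.commute_sub_one hx a) hy).isNilpotent_mul_right ha)
    (((Commute.one_left _).smul_left a).isNilpotent_mul_left hb)

theorem isUnit_of_scalar {x : Mat} {a : F} (ha : a ≠ 0) (h : IsNilpotent (x - a • (1 : Mat))) :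
    IsUnit x := by
  rw [← add_sub_cancel (a • (1 : Mat)) x]
  exact isUnit_smul_one_add ha h

theorem scalar_ne_zero {x : Mat} (hu : IsUnit x) {a : F} (h : IsNilpotent (x - a • (1 : Mat))) :
    a ≠ 0 := by
  rintro rfl
  rw [zero_smul, sub_zero] at h
  have : Nonempty (Fin n) := ⟨⟨0, d.pos⟩⟩
  exact h.not_isUnit hu

theorem skew_nil {x : Mat} (h : Commute S x) (hx : adj Γ x = -x) :
    IsNilpotent (x - (0 : F) • (1 : Mat)) := by
  obtain ⟨a, ha⟩ := d.exists_scalar h
  have h' : IsNilpotent (adj Γ x - a • (1 : Mat)) := by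
    obtain ⟨k, hk⟩ := ha
    refine ⟨k, ?_⟩
    have e : adj Γ x - a • (1 : Mat) = adj Γ (x - a • (1 : Mat)) := by
      rw [FormConj.adj_sub, adj_smul, FormConj.adj_one]
    rw [e, ← adj_pow, hk, FormConj.adj_zero]
  rw [hx] at h'
  have h'' : IsNilpotent (x - (-a) • (1 : Mat)) := by
    have := h'.neg
    rwa [neg_sub, sub_neg_eq_add, add_comm, ← sub_neg_eq_add, ← neg_smul] at this
  have := d.scalar_unique h ha h''
  have h0 : a = 0 := by
    have e : 2 * a = 0 := by linear_combination this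
    exact (mul_eq_zero.1 e).resolve_left d.two
  rwa [h0] at ha

/-- Symmetric unipotent members of the commutant have unique such square roots. -/
theorem exists_sqrt {z : Mat} (hz : Commute S z) (hzs : adj Γ z = z)
    (hz1 : IsNilpotent (z - (1 : F) • (1 : Mat))) :
    ∃! e : Mat, (Commute S e ∧ adj Γ e = e ∧ IsNilpotent (e - (1 : F) • (1 : Mat))) ∧ e * e = z := by
  let T := {e : Mat // Commute S e ∧ adj Γ e = e ∧ IsNilpotent (e - (1 : F) • (1 : Mat))}
  let f : T → T := fun e => ⟨e.1 * e.1, e.2.1.mul_right e.2.1, by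
    rw [FormConj.adj_mul, e.2.2.1], by
    simpa using d.scalar_mul e.2.1 e.2.1 e.2.2.2 e.2.2.2⟩
  have hf : Function.Injective f := fun e e' h => by
    have h' : e.1 * e.1 = e'.1 * e'.1 := congrArg Subtype.val h
    have hu : IsUnit (e.1 + e'.1) := by
      refine isUnit_of_scalar d (a := 1 + 1) (by rw [one_add_one_eq_two]; exact d.two) ?_
      rw [add_smul, add_sub_add_comm]
      exact (d.comm_all (d.commute_sub_one e.2.1 1) (d.commute_sub_one e'.2.1 1)).isNilpotent_add
        e.2.2.2 e'.2.2.2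
    have h0 : (e.1 + e'.1) * (e.1 - e'.1) = 0 := by
      rw [mul_sub, add_mul, add_mul, (d.comm_all e.2.1 e'.2.1).eq, h']
      abel
    exact Subtype.ext (sub_eq_zero.1 (hu.mul_right_eq_zero.1 h0))
  have : Finite T := Subtype.finite
  obtain ⟨e, he⟩ := (Finite.injective_iff_surjective.1 hf) ⟨z, hz, hzs, hz1⟩
  refine ⟨e.1, ⟨e.2, congrArg Subtype.val he⟩, fun e' ⟨he', hee'⟩ => ?_⟩
  exact congrArg Subtype.val (hf (a₁ := ⟨e', he'⟩) (a₂ := e) (by
    rw [he]; exact Subtype.ext hee'))

theorem natCard_skew {m : ℕ} (hm : n = 2 * m) :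
    Nat.card {x : Mat // Commute S x ∧ adj Γ x = -x} = Fintype.card F ^ m := by
  classical
  obtain ⟨v, b, hb⟩ := RegularUnipotentConj.exists_chain S d.nil d.reg
  let P : (Fin n → F) → Mat := fun a => ∑ i : Fin n, a i • S ^ (i : ℕ)
  have hinj : Function.Injective P := fun a a' h => by
    have h' := congrArg (fun M : Mat => b.repr (M *ᵥ v)) h
    simp only [P, sum_mulVec, smul_mulVec, ← hb] at h'
    funext i
    simpa [map_sum, Finsupp.single_apply] using DFunLike.congr_fun h' i
  have hadj : ∀ a, adj Γ (P a) = P fun i => (-1) ^ (i : ℕ) * a i := fun a => by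
    simp only [P, adj_sum, adj_smul, adj_pow, d.skew]
    refine Finset.sum_congr rfl fun i _ => ?_
    rw [← neg_one_smul F S, smul_pow, smul_smul, mul_comm]
  have hneg : ∀ a, -P a = P (-a) := fun a => by simp [P, Finset.sum_neg_distrib]
  let emb : (Fin m → F) → Fin n → F := fun c i =>
    if h : Odd (i : ℕ) then c ⟨(i : ℕ) / 2, by omega⟩ else 0
  have hcard : Fintype.card F ^ m = Nat.card (Fin m → F) := by simp
  rw [hcard]
  refine (Nat.card_eq_of_bijective (fun c => (⟨P (emb c), ?_, ?_⟩ :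
    {x : Mat // Commute S x ∧ adj Γ x = -x})) ⟨?_, ?_⟩).symm
  · exact Commute.sum_right _ _ _ fun i _ => ((Commute.refl S).pow_right _).smul_right _
  · rw [hadj, hneg]
    congr 1
    funext i
    by_cases h : Odd (i : ℕ)
    · simp [h.neg_one_pow]
    · simp [emb, h]
  · intro c c' h
    have h' := hinj (congrArg Subtype.val h)
    funext j
    have := congrFun h' ⟨2 * (j : ℕ) + 1, by omega⟩
    simp only [emb, dif_pos (odd_two_mul_add_one (j : ℕ))] at this
    have ej : (⟨(2 * (j : ℕ) + 1) / 2, by omega⟩ : Fin m) = j := Fin.ext (by simp only; omega)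
    rwa [ej] at this
  · rintro ⟨x, hx, hxs⟩
    obtain ⟨a, rfl⟩ := d.exists_coeff hx
    refine ⟨fun j => a ⟨2 * (j : ℕ) + 1, by omega⟩, Subtype.ext (congrArg P (funext fun i => ?_))⟩
    have ha := hinj ((hadj a).symm.trans (hxs.trans (hneg a)))
    have hi := congrFun ha i
    by_cases h : Odd (i : ℕ)
    · simp only [emb, dif_pos h]
      congr 1
      refine Fin.ext ?_
      obtain ⟨k, hk⟩ := h
      simp only
      omega
    · simp only [emb, dif_neg h]
      rw [(Nat.not_odd_iff_even.1 h).neg_one_pow, Pi.neg_apply, one_mul] at hi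
      have e : 2 * a i = 0 := by linear_combination hi
      exact ((mul_eq_zero.1 e).resolve_left d.two).symm

/-- The isometries commuting with `S`. -/
theorem natCard_isometries {m : ℕ} (hm : n = 2 * m) :
    Nat.card {x : Mat // Commute S x ∧ adj Γ x * x = 1} = 2 * Fintype.card F ^ m := by
  classical
  rw [← d.natCard_skew hm]
  have hz : ∀ o : {x : Mat // Commute S x ∧ adj Γ x = -x},
      Commute S (1 + o.1 * o.1) ∧ adj Γ (1 + o.1 * o.1) = 1 + o.1 * o.1 ∧
      IsNilpotent (1 + o.1 * o.1 - (1 : F) • (1 : Mat)) := fun o => by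
    refine ⟨(Commute.one_right S).add_right (o.2.1.mul_right o.2.1), ?_, ?_⟩
    · rw [FormConj.adj_add, FormConj.adj_one, FormConj.adj_mul, o.2.2, neg_mul_neg]
    · rw [one_smul, add_sub_cancel_left]
      simpa using d.scalar_mul o.2.1 o.2.1 (d.skew_nil o.2.1 o.2.2) (d.skew_nil o.2.1 o.2.2)
  choose r hr hru using fun o => d.exists_sqrt (hz o).1 (hz o).2.1 (hz o).2.2
  have hmk : ∀ (o : {x : Mat // Commute S x ∧ adj Γ x = -x}) (e : Mat), Commute S e → adj Γ e = e →
      e * e = 1 + o.1 * o.1 → Commute S (e + o.1) ∧ adj Γ (e + o.1) * (e + o.1) = 1 :=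
    fun o e h1 h2 h3 => ⟨h1.add_right o.2.1, by
      rw [FormConj.adj_add, h2, o.2.2, add_mul, mul_add, mul_add, neg_mul, neg_mul, h3,
        (d.comm_all h1 o.2.1).eq]
      abel⟩
  let g : {x : Mat // Commute S x ∧ adj Γ x = -x} × Bool →
      {x : Mat // Commute S x ∧ adj Γ x * x = 1} := fun p =>
    ⟨(if p.2 then r p.1 else -r p.1) + p.1.1, by
      obtain ⟨o, s⟩ := p
      cases s
      · exact hmk o (-r o) (hr o).1.1.neg_right (by rw [FormConj.adj_neg, (hr o).1.2.1])
          (by rw [neg_mul_neg]; exact (hr o).2)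
      · exact hmk o (r o) (hr o).1.1 (hr o).1.2.1 (hr o).2⟩
  have hg : Function.Bijective g := by
    constructor
    · rintro ⟨o, s⟩ ⟨o', s'⟩ h
      have h1 : (if s then r o else -r o) + o.1 = (if s' then r o' else -r o') + o'.1 :=
        congrArg Subtype.val h
      have h2 := congrArg (adj Γ) h1
      have hse : ∀ (o : {x : Mat // Commute S x ∧ adj Γ x = -x}) (s : Bool),
          adj Γ (if s then r o else -r o) = if s then r o else -r o := fun o s => by
        cases s
        · simp [FormConj.adj_neg, (hr o).1.2.1]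
        · simp [(hr o).1.2.1]
      rw [FormConj.adj_add, FormConj.adj_add, hse, hse, o.2.2, o'.2.2] at h2
      have h3 : (2 : F) • o.1 = (2 : F) • o'.1 := by
        rw [two_smul, two_smul]
        calc o.1 + o.1 = ((if s then r o else -r o) + o.1) - ((if s then r o else -r o) + -o.1) := by
              abel
          _ = o'.1 + o'.1 := by rw [h1, h2]; abel
      obtain rfl : o = o' := Subtype.ext (smul_right_injective _ d.two h3)
      have h4 := add_right_cancel h1
      have hne : r o ≠ -r o := fun hh => by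
        have hru' : IsUnit (r o) := isUnit_of_scalar d one_ne_zero (hr o).1.2.2
        have h5 : (2 : F) • r o = 0 := by
          rw [two_smul]; nth_rw 2 [hh]; rw [add_neg_cancel]
        have : Nonempty (Fin n) := ⟨⟨0, d.pos⟩⟩
        exact hru'.ne_zero ((smul_eq_zero.1 h5).resolve_left d.two)
      cases s <;> cases s'
      · rfl
      · exact absurd h4.symm hne
      · exact absurd h4 hne
      · rfl
    · rintro ⟨x, hx, hxx⟩
      set e : Mat := (2⁻¹ : F) • (x + adj Γ x) with he
      have ho : Commute S ((2⁻¹ : F) • (x - adj Γ x)) ∧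
          adj Γ ((2⁻¹ : F) • (x - adj Γ x)) = -((2⁻¹ : F) • (x - adj Γ x)) :=
        ⟨(hx.sub_right (d.commute_adj hx)).smul_right _, by
          rw [adj_smul, FormConj.adj_sub, d.adj_adj, ← smul_neg, neg_sub]⟩
      set o : {x : Mat // Commute S x ∧ adj Γ x = -x} := ⟨_, ho⟩
      have hes : Commute S e := (hx.add_right (d.commute_adj hx)).smul_right _
      have hea : adj Γ e = e := by rw [he, adj_smul, FormConj.adj_add, d.adj_adj, add_comm]
      have hxeo : e + o.1 = x := by
        show (2⁻¹ : F) • (x + adj Γ x) + (2⁻¹ : F) • (x - adj Γ x) = x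
        rw [← smul_add, show x + adj Γ x + (x - adj Γ x) = (2 : F) • x by rw [two_smul]; abel,
          smul_smul, inv_mul_cancel₀ d.two, one_smul]
      have hee : e * e = 1 + o.1 * o.1 := by
        have hc := (d.comm_all hes o.2.1).eq
        have h' := hxx
        rw [← hxeo, FormConj.adj_add, hea, o.2.2, add_mul, mul_add, mul_add, neg_mul, neg_mul,
          hc] at h'
        rw [← h']; abel
      obtain ⟨a, ha⟩ := d.exists_scalar hes
      have ha2 : a * a = 1 := d.scalar_unique (hes.mul_right hes) (d.scalar_mul hes hes ha ha)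
        (by rw [hee]; exact (hz o).2.2)
      rcases mul_self_eq_one_iff.1 ha2 with rfl | rfl
      · exact ⟨(o, true), Subtype.ext (by
          show r o + o.1 = x
          rw [← hru o e ⟨⟨hes, hea, ha⟩, hee⟩, hxeo])⟩
      · exact ⟨(o, false), Subtype.ext (by
          show -r o + o.1 = x
          rw [← hru o (-e) ⟨⟨hes.neg_right, by rw [FormConj.adj_neg, hea], by
            rw [← isNilpotent_neg_iff, neg_sub, sub_neg_eq_add, add_comm, ← sub_neg_eq_add,
              ← neg_smul]
            exact ha⟩, by rw [neg_mul_neg, hee]⟩, neg_neg, hxeo])⟩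
  rw [← Nat.card_eq_of_bijective g hg, Nat.card_prod, Nat.card_eq_two_iff.2
    ⟨false, true, by simp, by ext x; cases x <;> simp⟩, mul_comm]

end Datum

/-- The skew part of a regular unipotent isometry. -/
theorem datum_of_unipotent (hn : 1 ≤ n) (h2 : (2 : F) ≠ 0)
    (halt : (↑Γ : Mat)ᵀ = (-1 : F) • (↑Γ : Mat)) (u : Mat) (hu : adj Γ u * u = 1)
    (hnil : (u - 1) ^ n = 0) (hreg : (u - 1).rank = n - 1) :
    Datum Γ (u - adj Γ u) ∧ ∀ x : Mat, Commute (u - adj Γ u) x ↔ Commute u x := by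
  have hu' : u * adj Γ u = 1 := mul_eq_one_comm.1 hu
  set v := adj Γ u with hv
  have huv : Commute u v := hu'.trans hu.symm
  have hS : u - v = (u - 1) * (1 + v) := by
    rw [sub_mul, mul_add, mul_add, hu', one_mul, one_mul, mul_one]; abel
  have hvn : IsNilpotent (v - 1) := by
    have e : v - 1 = -(v * (u - 1)) := by rw [mul_sub, hu, mul_one, neg_sub]
    rw [e]
    exact ((huv.symm.sub_right (Commute.one_right v)).isNilpotent_mul_left ⟨n, hnil⟩).neg
  have h1v : IsUnit (1 + v) := by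
    rw [show 1 + v = (2 : F) • (1 : Mat) + (v - 1) by rw [two_smul]; abel]
    exact isUnit_smul_one_add h2 hvn
  have hc : Commute (u - 1) (1 + v) :=
    ((Commute.one_right u).add_right huv).sub_left (Commute.one_left _)
  have d : Datum Γ (u - v) := by
    refine ⟨hn, h2, ?_, ?_, ?_, halt⟩
    · rw [hS, hc.mul_pow, hnil, zero_mul]
    · rw [hS, Matrix.rank_mul_eq_left_of_isUnit_det _ _ ((Matrix.isUnit_iff_isUnit_det _).1 h1v), hreg]
    · rw [FormConj.adj_sub, hv, FormConj.adj_adj Γ halt (by ring), neg_sub]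
  refine ⟨d, fun x => ⟨fun h => ?_, fun h => ?_⟩⟩
  · exact d.comm_all ((Commute.refl u).sub_left huv.symm) h
  · refine h.sub_left ?_
    calc v * x = v * x * (u * v) := by rw [hu', mul_one]
      _ = v * (x * u) * v := by simp only [mul_assoc]
      _ = v * (u * x) * v := by rw [h.eq]
      _ = x * v := by simp only [← mul_assoc, hu, one_mul]

/-- Number of isometries commuting with a regular unipotent one. -/
theorem natCard_commuting {m : ℕ} (hm : n = 2 * m) (hn : 1 ≤ n) (h2 : (2 : F) ≠ 0)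
    (halt : (↑Γ : Mat)ᵀ = (-1 : F) • (↑Γ : Mat)) (u : Mat) (hu : adj Γ u * u = 1)
    (hnil : (u - 1) ^ n = 0) (hreg : (u - 1).rank = n - 1) :
    Nat.card {x : Mat // adj Γ x * x = 1 ∧ Commute u x} = 2 * Fintype.card F ^ m := by
  obtain ⟨d, hd⟩ := datum_of_unipotent hn h2 halt u hu hnil hreg
  rw [← d.natCard_isometries hm]
  exact Nat.card_congr (Equiv.subtypeEquivRight fun x => by rw [hd, and_comm])

/-- Two classes of regular unipotent isometries. -/
theorem dichotomy (hn : 1 ≤ n) (h2 : (2 : F) ≠ 0)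
    (halt : (↑Γ : Mat)ᵀ = (-1 : F) • (↑Γ : Mat)) (u₀ : Mat) (hu₀ : adj Γ u₀ * u₀ = 1)
    (hnil₀ : (u₀ - 1) ^ n = 0) (hreg₀ : (u₀ - 1).rank = n - 1) (ε : F) (hε : ¬ IsSquare ε)
    (X₀ : Matˣ) (hX₀ : adj Γ (↑X₀ : Mat) * (↑X₀ : Mat) = ε • 1) :
    (∀ u : Mat, adj Γ u * u = 1 → (u - 1) ^ n = 0 → (u - 1).rank = n - 1 →
      ∃ g : Matˣ, adj Γ (↑g : Mat) * (↑g : Mat) = 1 ∧
        ((↑g : Mat) * u₀ = u * (↑g : Mat) ∨
          (↑g : Mat) * ((↑X₀ : Mat) * u₀ * (↑X₀⁻¹ : Mat)) = u * (↑g : Mat))) ∧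
    ∀ g : Matˣ, adj Γ (↑g : Mat) * (↑g : Mat) = 1 →
      (↑g : Mat) * u₀ ≠ ((↑X₀ : Mat) * u₀ * (↑X₀⁻¹ : Mat)) * (↑g : Mat) := by
  classical
  obtain ⟨d, hd⟩ := datum_of_unipotent hn h2 halt u₀ hu₀ hnil₀ hreg₀
  refine ⟨fun u hu hnil hreg => ?_, fun g hg hcon => ?_⟩
  · obtain ⟨X, hX⟩ := RegularUnipotentConj.exists_conj (u₀ - 1) (u - 1) hnil₀ hreg₀ hnil hreg
    have hX' : (↑X : Mat) * u₀ = u * (↑X : Mat) := by
      rwa [mul_sub, sub_mul, mul_one, one_mul, sub_left_inj] at hX
    set h := adj Γ (↑X : Mat) * (↑X : Mat) with hh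
    have hha : adj Γ h = h := by rw [hh, FormConj.adj_mul, d.adj_adj]
    have h1 : adj Γ u₀ * h * u₀ = h := by
      rw [hh, ← mul_assoc, ← FormConj.adj_mul, mul_assoc, hX', FormConj.adj_mul, mul_assoc,
        ← mul_assoc (adj Γ u), hu, one_mul]
    have hc : Commute u₀ h := by
      show u₀ * h = h * u₀
      conv_lhs => rw [← h1]
      rw [← mul_assoc, ← mul_assoc, mul_eq_one_comm.1 hu₀, one_mul]
    have hcS := (hd h).2 hc
    obtain ⟨a, ha⟩ := d.exists_scalar hcS
    have hXu : IsUnit (adj Γ (↑X : Mat)) :=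
      (Γ⁻¹.isUnit.mul ((Matrix.isUnit_transpose _).2 X.isUnit)).mul Γ.isUnit
    have ha0 := d.scalar_ne_zero (hXu.mul X.isUnit) ha
    obtain ⟨c, r, hc', hr⟩ : ∃ c r : F, (c = 1 ∨ c = ε) ∧ a = c * r * r := by
      by_cases hs : IsSquare a
      · obtain ⟨r, hr⟩ := hs
        exact ⟨1, r, Or.inl rfl, by rw [hr, one_mul]⟩
      · obtain ⟨r, hr⟩ : IsSquare (a * ε⁻¹) := by
          have hε0 : ε ≠ 0 := fun e => hε (e ▸ IsSquare.zero)
          have hF : ringChar F ≠ 2 := fun h => h2 (by
            have : CharP F 2 := ringChar.of_eq h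
            exact CharTwo.two_eq_zero)
          rw [← quadraticChar_one_iff_isSquare (mul_ne_zero ha0 (inv_ne_zero hε0)), map_mul,
            quadraticChar_neg_one_iff_not_isSquare.2 hs,
            quadraticChar_neg_one_iff_not_isSquare.2 (fun h => hε (by
              obtain ⟨t, ht⟩ := h; exact ⟨t⁻¹, by rw [← inv_inv ε, ht, mul_inv]⟩))]
          norm_num
        have hε0 : ε ≠ 0 := fun e => hε (e ▸ IsSquare.zero)
        exact ⟨ε, r, Or.inr rfl, by rw [mul_assoc, ← hr, mul_comm a, mul_inv_cancel_left₀ hε0]⟩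
    have hcr : c ≠ 0 ∧ r ≠ 0 := by
      rw [hr] at ha0; simp only [mul_ne_zero_iff] at ha0; exact ⟨ha0.1.1, ha0.2⟩
    set z := (c * r * r)⁻¹ • h with hzdef
    have hz : Commute (u₀ - adj Γ u₀) z := hcS.smul_right _
    have hzs : adj Γ z = z := by rw [hzdef, adj_smul, hha]
    have hz1 : IsNilpotent (z - (1 : F) • (1 : Mat)) := by
      rw [show z - (1 : F) • (1 : Mat) = (c * r * r)⁻¹ • (h - a • (1 : Mat)) by
        rw [hzdef, smul_sub, smul_smul, hr, inv_mul_cancel₀ (mul_ne_zero (mul_ne_zero hcr.1 hcr.2) hcr.2)]]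
      exact ha.smul _
    obtain ⟨e, ⟨⟨heS, hea, he1⟩, hee⟩, -⟩ := d.exists_sqrt hz hzs hz1
    set y := r • e with hy
    have hyu : IsUnit y := by
      refine d.isUnit_of_scalar (a := r) hcr.2 ?_
      rw [hy, show r • e - r • (1 : Mat) = r • (e - (1 : F) • (1 : Mat)) by rw [smul_sub, one_smul]]
      exact he1.smul _
    have hyy : c • (adj Γ y * y) = h := by
      rw [hy, adj_smul, hea, smul_mul_smul_comm, hee, hzdef, smul_smul, smul_smul, ← mul_assoc,
        mul_inv_cancel₀ (mul_ne_zero (mul_ne_zero hcr.1 hcr.2) hcr.2), one_smul]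
    set Y := X * hyu.unit⁻¹ with hY
    have hYh : adj Γ (↑Y : Mat) * (↑Y : Mat) = c • 1 := by
      rw [hY, Units.val_mul, FormConj.adj_mul, mul_assoc, ← mul_assoc _ (↑X : Mat), ← hh, ← hyy,
        smul_mul_assoc, mul_smul_comm, mul_assoc (adj Γ y), IsUnit.mul_val_inv, mul_one,
        ← FormConj.adj_mul, IsUnit.mul_val_inv, FormConj.adj_one]
    have hyc : Commute u₀ y := ((hd e).1 heS).smul_right r
    have hYu : (↑Y : Mat) * u₀ = u * (↑Y : Mat) := by
      have hi : Commute u₀ (↑hyu.unit⁻¹ : Mat) := Commute.units_inv_right hyc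
      rw [hY, Units.val_mul, mul_assoc, ← hi.eq, ← mul_assoc, hX', mul_assoc]
    rcases hc' with rfl | rfl
    · exact ⟨Y, by rw [hYh, one_smul], Or.inl hYu⟩
    · refine ⟨Y * X₀⁻¹, ?_, Or.inr ?_⟩
      · have hXi : adj Γ (↑X₀⁻¹ : Mat) * adj Γ (↑X₀ : Mat) = 1 := by
          rw [← FormConj.adj_mul, Units.mul_inv, FormConj.adj_one]
        rw [Units.val_mul, FormConj.adj_mul, mul_assoc, ← mul_assoc (adj Γ (↑Y : Mat)), hYh,
          ← hX₀, ← mul_assoc, ← mul_assoc, hXi, one_mul, Units.mul_inv]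
      · rw [Units.val_mul]
        simp only [mul_assoc, Units.inv_mul_cancel_left]
        rw [← mul_assoc, hYu, mul_assoc]
  · set z : Mat := (↑X₀⁻¹ : Mat) * (↑g : Mat) with hz
    have hzc : Commute u₀ z := by
      show u₀ * z = z * u₀
      rw [hz, mul_assoc, hcon]
      simp only [← mul_assoc, Units.inv_mul, one_mul]
    have hzS := (hd z).2 hzc
    obtain ⟨b, hb⟩ := d.exists_scalar hzS
    have key : ε • (adj Γ z * z) = 1 := by
      have e : (↑g : Mat) = (↑X₀ : Mat) * z := by rw [hz, Units.mul_inv_cancel_left]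
      clear_value z
      rw [e, FormConj.adj_mul, mul_assoc (adj Γ z), ← mul_assoc (adj Γ (↑X₀ : Mat)), hX₀,
        smul_mul_assoc, one_mul, mul_smul_comm] at hg
      exact hg
    have hb' : IsNilpotent (adj Γ z - b • (1 : Mat)) := by
      obtain ⟨k, hk⟩ := hb
      refine ⟨k, ?_⟩
      rw [show adj Γ z - b • (1 : Mat) = adj Γ (z - b • (1 : Mat)) by
        rw [FormConj.adj_sub, adj_smul, FormConj.adj_one], ← adj_pow, hk, FormConj.adj_zero]
    have hS := (d.commute_adj hzS).mul_right hzS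
    have h3 := (d.scalar_mul (d.commute_adj hzS) hzS hb' hb).smul ε
    rw [smul_sub, key, smul_smul] at h3
    have h4 : IsNilpotent ((1 : Mat) - (1 : F) • (1 : Mat)) := by simp
    have := d.scalar_unique (Commute.one_right _) h3 h4
    refine hε ⟨b⁻¹, ?_⟩
    have hb0 : b ≠ 0 := fun e => by rw [e] at this; simp at this
    field_simp
    linear_combination this

end Cfsg.Agent.Classical.SympRegular
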