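import Mathlib
import Cfsg.Agent.Lib.Classical.SympRegular

/-!
# Regular unipotents of the standard symplectic group
-/

set_option autoImplicit false
set_option linter.unusedSectionVars false

namespace Cfsg.Agent.Classical.SympRegularStd

open Matrix
open Cfsg.Agent.Classical.FormConj (adj)
open Cfsg.Agent.Classical.RegularUnipotentConj (shift)

variable {F : Type*} [Field F] {m : ℕ}

local notation "M2" => Matrix (Fin m ⊕ Fin m) (Fin m ⊕ Fin m) F
local notation "MN" => Matrix (Fin (2 * m)) (Fin (2 * m)) F

/-- The indexing. -/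
def idx (m : ℕ) : Fin m ⊕ Fin m ≃ Fin (2 * m) := finSumFinEquiv.trans (finCongr (two_mul m).symm)

/-- Reindexing of matrices. -/
def re (F : Type*) [Field F] (m : ℕ) :
    Matrix (Fin m ⊕ Fin m) (Fin m ⊕ Fin m) F ≃ₐ[F] Matrix (Fin (2 * m)) (Fin (2 * m)) F :=
  Matrix.reindexAlgEquiv F F (idx m)

theorem re_transpose (A : M2) : re F m Aᵀ = (re F m A)ᵀ := rfl

theorem rank_re (A : M2) : (re F m A).rank = A.rank := Matrix.rank_reindex _ _ _

theorem J_sq : Matrix.J (Fin m) F * Matrix.J (Fin m) F = -1 := Matrix.J_squared _ _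

/-- The Gram matrix. -/
def gram (F : Type*) [Field F] (m : ℕ) : (Matrix (Fin (2 * m)) (Fin (2 * m)) F)ˣ :=
  ⟨re F m (Matrix.J (Fin m) F), -re F m (Matrix.J (Fin m) F),
    by rw [mul_neg, ← map_mul, J_sq, map_neg, map_one, neg_neg],
    by rw [neg_mul, ← map_mul, J_sq, map_neg, map_one, neg_neg]⟩

theorem gram_alt : (↑(gram F m) : MN)ᵀ = (-1 : F) • (↑(gram F m) : MN) := by
  show (re F m (Matrix.J (Fin m) F))ᵀ = _
  rw [← re_transpose, Matrix.J_transpose, map_neg, neg_one_smul]
  rfl

theorem mem_iff (A : M2) :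
    A ∈ Matrix.symplecticGroup (Fin m) F ↔ adj (gram F m) (re F m A) * re F m A = 1 := by
  rw [SymplecticGroup.mem_iff', ← FormConj.preserves_iff, ← re_transpose]
  show _ ↔ re F m Aᵀ * re F m (Matrix.J (Fin m) F) * re F m A = re F m (Matrix.J (Fin m) F)
  rw [← map_mul, ← map_mul, (re F m).injective.eq_iff]

theorem cond_iff (A : M2) :
    ((A - 1) ^ (2 * m) = 0 ↔ (re F m A - 1) ^ (2 * m) = 0) ∧
      ((A - 1).rank = (re F m A - 1).rank) := by
  have e : re F m A - 1 = re F m (A - 1) := by rw [map_sub, map_one]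
  rw [e, rank_re]
  refine ⟨?_, rfl⟩
  rw [← map_pow, map_eq_zero_iff _ (re F m).injective]

/-- Symplectic matrices as isometries of the reindexed form. -/
def toIso : Matrix.symplecticGroup (Fin m) F ≃ {x : MN // adj (gram F m) x * x = 1} :=
  (re F m).toEquiv.subtypeEquiv fun A => mem_iff A

/-- A regular unipotent symplectic matrix. -/
theorem exists_regular (hm : 1 ≤ m) : ∃ u : M2, u ∈ Matrix.symplecticGroup (Fin m) F ∧
    (u - 1) ^ (2 * m) = 0 ∧ (u - 1).rank = 2 * m - 1 := by
  classical
  set N : Matrix (Fin m) (Fin m) F := shift F m with hN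
  have hNn : IsNilpotent N := ⟨m, RegularUnipotentConj.shift_pow_self⟩
  have hLu : IsUnit (1 + N) := hNn.isUnit_one_add
  have hLd := (Matrix.isUnit_iff_isUnit_det _).1 hLu
  set L : Matrix (Fin m) (Fin m) F := 1 + N with hL
  let last : Fin m := ⟨m - 1, by omega⟩
  let zero : Fin m := ⟨0, by omega⟩
  set E : Matrix (Fin m) (Fin m) F := Matrix.single last last 1 with hE
  set D : Matrix (Fin m) (Fin m) F := (L⁻¹)ᵀ with hD
  have hD1 : D - 1 = -(D * Nᵀ) := by
    have h1 : L⁻¹ * L = 1 := Matrix.nonsing_inv_mul _ hLd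
    have h2 : L⁻¹ - 1 = -(N * L⁻¹) := by
      have h3 : (1 + N) * L⁻¹ = 1 := Matrix.mul_nonsing_inv _ hLd
      rw [add_mul, one_mul] at h3
      rw [← h3]; abel
    rw [hD, ← Matrix.transpose_one, ← Matrix.transpose_sub, h2, transpose_neg, transpose_mul]
  have hDn : (D - 1) ^ m = 0 := by
    have hc : Commute D Nᵀ := by
      have hc' : Commute N L⁻¹ := by
        have hNL : Commute N L := (Commute.one_right N).add_right (Commute.refl N)
        calc N * L⁻¹ = L⁻¹ * (L * N) * L⁻¹ := by
              rw [← mul_assoc L⁻¹, Matrix.nonsing_inv_mul _ hLd, one_mul]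
          _ = L⁻¹ * N := by
              rw [← hNL.eq, mul_assoc, mul_assoc, Matrix.mul_nonsing_inv _ hLd, mul_one]
      show D * Nᵀ = Nᵀ * D
      rw [hD, ← transpose_mul, ← transpose_mul, hc'.eq]
    rw [hD1, neg_pow, hc.mul_pow, show Nᵀ ^ m = 0 by
      rw [← Matrix.transpose_pow, hN, RegularUnipotentConj.shift_pow_self, transpose_zero],
      mul_zero, mul_zero]
  set U : M2 := Matrix.fromBlocks L (L * E) 0 D with hU
  refine ⟨U, ?_, ?_, ?_⟩
  · rw [SymplecticGroup.mem_iff', hU, Matrix.J, Matrix.fromBlocks_transpose]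
    simp only [Matrix.fromBlocks_multiply, transpose_zero, zero_mul, mul_zero, add_zero, zero_add,
      mul_one, mul_neg, neg_mul]
    have h1 : Lᵀ * D = 1 := by
      rw [hD, ← transpose_mul, Matrix.nonsing_inv_mul _ hLd, transpose_one]
    have h2 : Dᵀ * L = 1 := by rw [hD, transpose_transpose, Matrix.nonsing_inv_mul _ hLd]
    have h3 : Dᵀ * (L * E) = E := by rw [← mul_assoc, h2, one_mul]
    have h4 : (L * E)ᵀ * D = E := by
      have : Eᵀ = E := by rw [hE, Matrix.transpose_single]
      rw [transpose_mul, mul_assoc, h1, mul_one, this]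
    rw [h1, h2, h3, h4]
    simp
  · have hblk : U - 1 = Matrix.fromBlocks N (L * E) 0 (D - 1) := by
      rw [hU, ← Matrix.fromBlocks_one, sub_eq_add_neg, Matrix.fromBlocks_neg, Matrix.fromBlocks_add]
      congr 1 <;> simp [hL, sub_eq_add_neg]
    have hp : ∀ k : ℕ, ∃ X, (U - 1) ^ k = Matrix.fromBlocks (N ^ k) X 0 ((D - 1) ^ k) := by
      intro k
      induction k with
      | zero => exact ⟨0, by rw [pow_zero, pow_zero, pow_zero, Matrix.fromBlocks_one]⟩
      | succ k ih =>
        obtain ⟨X, hX⟩ := ih
        exact ⟨N ^ k * (L * E) + X * (D - 1), by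
          rw [pow_succ, hX, hblk, Matrix.fromBlocks_multiply]; simp [pow_succ]⟩
    obtain ⟨X, hX⟩ := hp m
    rw [two_mul, pow_add, hX, hN, RegularUnipotentConj.shift_pow_self, hDn, Matrix.fromBlocks_multiply]
    simp
  · have hblk : U - 1 = Matrix.fromBlocks N (L * E) 0 (D - 1) := by
      rw [hU, ← Matrix.fromBlocks_one, sub_eq_add_neg, Matrix.fromBlocks_neg, Matrix.fromBlocks_add]
      congr 1 <;> simp [hL, sub_eq_add_neg]
    have hker : LinearMap.ker (U - 1).mulVecLin = Submodule.span F {Pi.single (Sum.inl zero) 1} := by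
      refine le_antisymm (fun v hv => ?_) ?_
      · set x := v ∘ Sum.inl with hx
        set y := v ∘ Sum.inr with hy
        rw [LinearMap.mem_ker, Matrix.mulVecLin_apply, hblk, Matrix.fromBlocks_mulVec] at hv
        have hbot := congrArg (· ∘ Sum.inr) hv
        have htop := congrArg (· ∘ Sum.inl) hv
        simp only [Sum.elim_comp_inr, Sum.elim_comp_inl, Matrix.zero_mulVec, zero_add] at hbot htop
        have hbot' : Nᵀ *ᵥ y = 0 := by
          have h := congrArg (fun z => -(Lᵀ *ᵥ z)) hbot
          simp only [hD1, Matrix.neg_mulVec, Matrix.mulVec_neg, neg_neg, Matrix.mulVec_mulVec] at h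
          rw [← mul_assoc, hD, ← transpose_mul, Matrix.nonsing_inv_mul _ hLd, transpose_one,
            one_mul] at h
          exact h.trans (by simp)
        have hy0 : ∀ i : Fin m, i ≠ last → y i = 0 := fun i hi => by
          have hlt : (i : ℕ) + 1 < m := by
            have : (i : ℕ) ≠ m - 1 := fun e => hi (Fin.ext e)
            omega
          have h := congrFun hbot' ⟨(i : ℕ) + 1, hlt⟩
          rw [Matrix.mulVec, dotProduct, Finset.sum_eq_single i] at h
          · simpa [hN, shift] using h
          · intro j _ hj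
            have : ¬ ((j : ℕ) + 1 = (i : ℕ) + 1) := fun e => hj (Fin.ext (by omega))
            simp [hN, shift, show (j : ℕ) ≠ (i : ℕ) from fun e => hj (Fin.ext e)]
          · simp
        have hEy : E *ᵥ y = Pi.single last (y last) := by
          rw [hE, Matrix.single_mulVec]; simp [Pi.single, Function.update_apply]
        have hNlast : ∀ z : Fin m → F, (N *ᵥ z) last = 0 := fun z => by
          show ∑ j, N last j * z j = 0
          refine Finset.sum_eq_zero fun j _ => ?_
          have hj := j.2
          have : ¬ ((last : ℕ) + 1 = (j : ℕ)) := by show ¬ (m - 1 + 1 = (j : ℕ)); omega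
          simp only [hN, shift, Matrix.of_apply, if_neg this, zero_mul]
        have hlast : y last = 0 := by
          have h := congrFun htop last
          rw [← Matrix.mulVec_mulVec, hEy, hL, Matrix.add_mulVec, Matrix.one_mulVec] at h
          have hNll : N last last = 0 := by simp [hN, shift]
          simpa [hNlast, hNll] using h
        have hyz : y = 0 := funext fun i => by
          by_cases hi : i = last
          · rw [hi]; exact hlast
          · exact hy0 i hi
        have hyz' : v ∘ Sum.inr = 0 := hyz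
        rw [hyz', Matrix.mulVec_zero, add_zero] at htop
        have hx0 : ∀ i : Fin m, i ≠ zero → x i = 0 := fun i hi => by
          have hpos : 0 < (i : ℕ) := Nat.pos_of_ne_zero fun e => hi (Fin.ext e)
          have h := congrFun htop ⟨(i : ℕ) - 1, by omega⟩
          rw [Matrix.mulVec, dotProduct, Finset.sum_eq_single i] at h
          · simpa [hN, hx, shift, show (i : ℕ) - 1 + 1 = i by omega] using h
          · intro j _ hj
            have : ¬ ((i : ℕ) - 1 + 1 = (j : ℕ)) := fun e => hj (Fin.ext (by omega))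
            simp [hN, shift, this]
          · simp
        refine Submodule.mem_span_singleton.2 ⟨x zero, funext fun s => ?_⟩
        rcases s with i | i
        · by_cases hi : i = zero
          · subst hi; simp [hx]
          · have h' := hx0 i hi
            simp only [hx, Function.comp_apply] at h'
            simp [hi, h']
        · have h' := congrFun hyz i
          simp only [hy, Function.comp_apply] at h'
          simp [h']
      · rw [Submodule.span_singleton_le_iff_mem, LinearMap.mem_ker, Matrix.mulVecLin_apply,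
          Matrix.mulVec_single_one, hblk]
        funext s
        rcases s with i | i
        · simp [Matrix.col, hN, shift, zero]
        · simp [Matrix.col]
    have h := LinearMap.finrank_range_add_finrank_ker (U - 1).mulVecLin
    rw [hker, finrank_span_singleton (by simp), Module.finrank_pi, Fintype.card_sum,
      Fintype.card_fin] at h
    rw [Matrix.rank]
    omega

/-- A similitude. -/
theorem exists_similitude (c : F) (hc : c ≠ 0) :
    ∃ X : MNˣ, adj (gram F m) (↑X : MN) * (↑X : MN) = c • 1 := by
  have hd : ∀ a : F, (Matrix.fromBlocks (a • 1) 0 0 1 : M2) * Matrix.fromBlocks (a⁻¹ • 1) 0 0 1 =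
      Matrix.fromBlocks ((a * a⁻¹) • 1) 0 0 1 := fun a => by
    simp [Matrix.fromBlocks_multiply, smul_smul, mul_comm]
  let D : M2ˣ := ⟨Matrix.fromBlocks (c • 1) 0 0 1, Matrix.fromBlocks (c⁻¹ • 1) 0 0 1,
    by rw [hd, mul_inv_cancel₀ hc, one_smul, Matrix.fromBlocks_one],
    by have := hd c⁻¹; rw [inv_inv] at this
       rw [this, inv_mul_cancel₀ hc, one_smul, Matrix.fromBlocks_one]⟩
  refine ⟨Units.map (re F m).toRingHom.toMonoidHom D, ?_⟩
  show adj (gram F m) (re F m (Matrix.fromBlocks (c • 1) 0 0 1)) *
    re F m (Matrix.fromBlocks (c • 1) 0 0 1) = c • 1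
  have h : (Matrix.fromBlocks (c • 1) 0 0 1 : M2)ᵀ * Matrix.J (Fin m) F *
      Matrix.fromBlocks (c • 1) 0 0 1 = c • Matrix.J (Fin m) F := by
    rw [Matrix.J, Matrix.fromBlocks_transpose]
    simp [Matrix.fromBlocks_multiply, Matrix.fromBlocks_smul, transpose_smul]
  have h' := congrArg (re F m) h
  rw [map_mul, map_mul, map_smul, re_transpose] at h'
  have h'' := congrArg (fun Z => (↑(gram F m)⁻¹ : MN) * Z) h'
  simp only [← mul_assoc, mul_smul_comm] at h''
  exact h''.trans (by rw [show re F m (Matrix.J (Fin m) F) = (↑(gram F m) : MN) from rfl, Units.inv_mul])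

end Cfsg.Agent.Classical.SympRegularStd
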