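import Mathlib
import Cfsg.Prelude.Def_JordanBlocks
import Cfsg.Agent.Lib.Classical.JordanForms
import Cfsg.Agent.Lib.Classical.SympRegularStd
import Cfsg.Agent.Lib.Classical.RegularUnipotentConj
import Cfsg.Agent.S2581

/-!
# Invariant forms of unipotent Jordan types
-/

set_option autoImplicit false
set_option linter.unusedSectionVars false

namespace Cfsg.Agent.Classical.JordanFormsExist

open Module Matrix
open Cfsg.Agent.Classical.JordanChains (Idx)
open Cfsg.Agent.Classical.RegularUnipotentConj (shift)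

variable {F : Type*} [Field F]

theorem jordanBlock_eq (i : ℕ) : Cfsg.jordanBlock i F = 1 + (shift F i)ᵀ := by
  ext a b
  simp only [Cfsg.jordanBlock, shift, Matrix.of_apply, Matrix.add_apply, Matrix.one_apply,
    Matrix.transpose_apply, Fin.ext_iff]
  by_cases h : (a : ℕ) = b
  · rw [if_pos h, if_pos h, if_neg (by omega), add_zero]
  · rw [if_neg h, if_neg h, zero_add]
    exact if_congr eq_comm rfl rfl

theorem shiftT_pow (i : ℕ) : ((shift F i)ᵀ) ^ i = 0 := by
  rw [← Matrix.transpose_pow, RegularUnipotentConj.shift_pow_self, Matrix.transpose_zero]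

theorem rank_shiftT (i : ℕ) : ((shift F i)ᵀ).rank = i - 1 := by
  rw [Matrix.rank_transpose, RegularUnipotentConj.rank_shift]

/-- an invariant invertible matrix of a single block -/
theorem exists_pairBlock (i : ℕ) : ∃ P : Matrix (Fin i) (Fin i) F,
    P.det ≠ 0 ∧ (Cfsg.jordanBlock i F)ᵀ * P * Cfsg.jordanBlock i F = P := by
  classical
  set S : Matrix (Fin i) (Fin i) F := shift F i with hS
  have hs : IsNilpotent S := ⟨i, RegularUnipotentConj.shift_pow_self⟩
  have hu := hs.isUnit_one_add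
  have hd := (Matrix.isUnit_iff_isUnit_det _).1 hu
  set M : Matrix (Fin i) (Fin i) F := (1 + S)⁻¹ with hM
  have h1 : M * (1 + S) = 1 := Matrix.nonsing_inv_mul _ hd
  have h2 : (1 + S) * M = 1 := Matrix.mul_nonsing_inv _ hd
  have hc : Commute M S := by
    have h : (1 + S) * M = M * (1 + S) := h2.trans h1.symm
    rw [add_mul, mul_add, one_mul, mul_one, add_left_cancel_iff] at h
    exact h.symm
  have e : M - 1 = -(M * S) := by
    rw [mul_add, mul_one] at h1
    rw [← h1]; abel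
  obtain ⟨g, hg⟩ := RegularUnipotentConj.exists_conj Sᵀ (M - 1) (shiftT_pow i) (rank_shiftT i)
    (by rw [e, neg_pow, hc.mul_pow, RegularUnipotentConj.shift_pow_self, mul_zero, mul_zero])
    (by
      rw [e, ← neg_mul, Matrix.rank_mul_eq_right_of_isUnit_det _ _
        ((Matrix.isUnit_iff_isUnit_det _).1 (Units.isUnit ⟨M, _, h1, h2⟩).neg),
        RegularUnipotentConj.rank_shift])
  refine ⟨(g : Matrix (Fin i) (Fin i) F), g.det_ne_zero, ?_⟩
  rw [sub_mul, one_mul] at hg
  rw [jordanBlock_eq, Matrix.transpose_add, Matrix.transpose_one, Matrix.transpose_transpose,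
    mul_assoc, mul_add, mul_one, hg, add_sub_cancel, ← mul_assoc, h2, one_mul]

/-- an invariant alternating form of a single block of even size -/
theorem exists_altBlock (i : ℕ) (hi : Even i) : ∃ K : Matrix (Fin i) (Fin i) F,
    (K + (-1 : F) • Kᵀ).det ≠ 0 ∧
      (Cfsg.jordanBlock i F)ᵀ * (K + (-1 : F) • Kᵀ) * Cfsg.jordanBlock i F = K + (-1 : F) • Kᵀ := by
  classical
  obtain ⟨m, rfl⟩ := hi.exists_two_nsmul _
  rw [smul_eq_mul]
  rcases Nat.eq_zero_or_pos m with rfl | hm
  · have : IsEmpty (Fin (2 * 0)) := ⟨fun a => absurd a.2 (by omega)⟩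
    exact ⟨0, by rw [Matrix.det_isEmpty]; exact one_ne_zero, Matrix.ext fun a => isEmptyElim a⟩
  obtain ⟨u, hu, hnil, hrank⟩ := SympRegularStd.exists_regular (F := F) hm
  set Γ := SympRegularStd.gram F m with hΓ
  set U := SympRegularStd.re F m u with hU
  have hinv : Uᵀ * (Γ : Matrix (Fin (2 * m)) (Fin (2 * m)) F) * U = Γ :=
    (FormConj.preserves_iff Γ U).2 ((SympRegularStd.mem_iff u).1 hu)
  obtain ⟨X, hX⟩ := RegularUnipotentConj.exists_conj (shift F (2 * m))ᵀ (U - 1) (shiftT_pow _)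
    (rank_shiftT _) ((SympRegularStd.cond_iff u).1.1 hnil)
    ((SympRegularStd.cond_iff u).2 ▸ hrank)
  set K₀ := SympRegularStd.re F m (Matrix.fromBlocks 0 0 1 0) with hK₀
  have hK : (Γ : Matrix (Fin (2 * m)) (Fin (2 * m)) F) = K₀ + (-1 : F) • K₀ᵀ := by
    show SympRegularStd.re F m (Matrix.J (Fin m) F) = _
    rw [hK₀, ← SympRegularStd.re_transpose, ← map_smul, ← map_add, Matrix.J,
      Matrix.fromBlocks_transpose, Matrix.fromBlocks_smul, Matrix.fromBlocks_add]
    simp
  have e : (X : Matrix (Fin (2 * m)) (Fin (2 * m)) F)ᵀ * K₀ * (X : Matrix (Fin (2 * m)) (Fin (2 * m)) F) +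
      (-1 : F) • ((X : Matrix (Fin (2 * m)) (Fin (2 * m)) F)ᵀ * K₀ * (X : Matrix (Fin (2 * m)) (Fin (2 * m)) F))ᵀ =
      (X : Matrix (Fin (2 * m)) (Fin (2 * m)) F)ᵀ * Γ * (X : Matrix (Fin (2 * m)) (Fin (2 * m)) F) := by
    rw [hK, mul_add, add_mul, mul_smul_comm, smul_mul_assoc, Matrix.transpose_mul,
      Matrix.transpose_mul, Matrix.transpose_transpose, mul_assoc _ K₀ᵀ]
  refine ⟨_, by rw [e]; simpa [Matrix.det_mul, Matrix.det_transpose, mul_ne_zero_iff] using
    (⟨⟨X.det_ne_zero, Matrix.GeneralLinearGroup.det_ne_zero (Γ : GL (Fin (2 * m)) F)⟩, X.det_ne_zero⟩ : (_ ∧ _) ∧ _), ?_⟩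
  rw [e]
  have hXJ : (X : Matrix (Fin (2 * m)) (Fin (2 * m)) F) * Cfsg.jordanBlock (2 * m) F = U * (X : Matrix (Fin (2 * m)) (Fin (2 * m)) F) := by
    rw [jordanBlock_eq, mul_add, mul_one, hX, sub_mul, one_mul, add_sub_cancel]
  calc (Cfsg.jordanBlock (2 * m) F)ᵀ * ((X : Matrix (Fin (2 * m)) (Fin (2 * m)) F)ᵀ * Γ * (X : Matrix (Fin (2 * m)) (Fin (2 * m)) F)) *
        Cfsg.jordanBlock (2 * m) F
      = ((X : Matrix (Fin (2 * m)) (Fin (2 * m)) F) * Cfsg.jordanBlock (2 * m) F)ᵀ * Γ *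
          ((X : Matrix (Fin (2 * m)) (Fin (2 * m)) F) * Cfsg.jordanBlock (2 * m) F) := by
        simp only [Matrix.transpose_mul, mul_assoc]
    _ = (X : Matrix (Fin (2 * m)) (Fin (2 * m)) F)ᵀ * (Uᵀ * Γ * U) * (X : Matrix (Fin (2 * m)) (Fin (2 * m)) F) := by
        rw [hXJ]; simp only [Matrix.transpose_mul, mul_assoc]
    _ = _ := by rw [hinv]

theorem jordan_shift {t : ℕ} {d : Fin t → ℕ} (hd : ∀ k, 1 ≤ d k) :
    JordanChains.Chains (Matrix.toLin' (Cfsg.jordanTypeMatrix d F - 1)) d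
      fun k => Pi.basisFun F (Idx d) ⟨k, ⟨0, hd k⟩⟩ :=
  JordanChains.chains_of_shift hd _ _ (Cfsg.Agent.S2581.shift d)

theorem inv_toBilin {ι : Type*} [Fintype ι] [DecidableEq ι] (G J : Matrix ι ι F)
    (h : Jᵀ * G * J = G) :
    JordanForms.Inv (σ := RingHom.id F) (Matrix.toBilin' G) (Matrix.toLin' (J - 1)) := by
  intro x y
  simp only [Matrix.toLin'_apply, Matrix.sub_mulVec, Matrix.one_mulVec, add_sub_cancel,
    Matrix.toBilin'_apply']
  rw [Matrix.mulVec_mulVec, dotProduct_mulVec, ← Matrix.mulVec_transpose,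
    Matrix.mulVec_mulVec, Matrix.transpose_mul, mul_assoc]
  conv_rhs => rw [dotProduct_mulVec, ← Matrix.mulVec_transpose, ← h]
  simp only [Matrix.transpose_mul, mul_assoc, Matrix.mulVec_mulVec, Matrix.transpose_transpose,
    dotProduct_mulVec, ← Matrix.mulVec_transpose]

/-- an invariant symmetric form of a single block of odd size -/
theorem exists_symmBlock (h2 : (2 : F) ≠ 0) (i : ℕ) (hi : Odd i) :
    ∃ K : Matrix (Fin i) (Fin i) F, (K + (1 : F) • Kᵀ).det ≠ 0 ∧
      (Cfsg.jordanBlock i F)ᵀ * (K + (1 : F) • Kᵀ) * Cfsg.jordanBlock i F = K + (1 : F) • Kᵀ := by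
  classical
  obtain ⟨P, hP, hPinv⟩ := exists_pairBlock (F := F) i
  let d : Fin 1 → ℕ := fun _ => i
  let e : Idx d ≃ Fin i := Equiv.uniqueSigma fun k : Fin 1 => Fin (d k)
  set J := Cfsg.jordanTypeMatrix d F with hJ
  have hJe : (Cfsg.jordanBlock i F).submatrix e e = J := by
    ext ⟨a, a'⟩ ⟨b, b'⟩
    obtain rfl : a = 0 := Subsingleton.elim _ _
    obtain rfl : b = 0 := Subsingleton.elim _ _
    rw [hJ, Cfsg.jordanTypeMatrix, Matrix.blockDiagonal'_apply_eq, Matrix.submatrix_apply]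
    rfl
  have hinvT : (Cfsg.jordanBlock i F)ᵀ * Pᵀ * Cfsg.jordanBlock i F = Pᵀ := by
    conv_rhs => rw [← hPinv]
    simp only [Matrix.transpose_mul, Matrix.transpose_transpose, mul_assoc]
  refine ⟨P, ?_, by rw [one_smul, mul_add, add_mul, hPinv, hinvT]⟩
  rw [one_smul]
  set G := P.submatrix e e with hG
  have hsub : ∀ M : Matrix (Fin i) (Fin i) F,
      (Cfsg.jordanBlock i F)ᵀ * M * Cfsg.jordanBlock i F = M →
      Jᵀ * M.submatrix e e * J = M.submatrix e e := fun M hM => by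
    rw [← hJe, Matrix.transpose_submatrix, Matrix.submatrix_mul_equiv, Matrix.submatrix_mul_equiv, hM]
  have hch := jordan_shift (F := F) (d := d) fun _ => by have := hi.pos; simp only [d]; omega
  have hBinv := inv_toBilin _ _ (hsub P hPinv)
  have hCinv := inv_toBilin _ _ (hsub (P + Pᵀ) (by rw [mul_add, add_mul, hPinv, hinvT]))
  have hN : IsNilpotent (Matrix.toLin' (J - 1)) :=
    ⟨i, (hch.pow_eq_zero_iff i).2 fun _ => le_rfl⟩
  rw [← Matrix.det_submatrix_equiv_self e]
  refine LinearMap.BilinForm.nondegenerate_toBilin'_iff_det_ne_zero.1 ?_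
  have hnd : ∀ x, (∀ y, Matrix.toBilin' ((P + Pᵀ).submatrix e e) x y = 0) → x = 0 := by
    refine JordanForms.nondeg_of_det hch hCinv hN ?_
    rw [Matrix.det_fin_one]
    have hdB := JordanForms.det_topMat_ne_zero hch hBinv
      (LinearMap.BilinForm.nondegenerate_toBilin'_iff_det_ne_zero.2
        (by rw [Matrix.det_submatrix_equiv_self]; exact hP)).1
    rw [Matrix.det_fin_one] at hdB
    have hflip : ∀ x y, Matrix.toBilin' (Pᵀ.submatrix e e) x y = Matrix.toBilin' G y x := fun x y => by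
      rw [Matrix.toBilin'_apply', Matrix.toBilin'_apply', ← Matrix.transpose_submatrix,
        Matrix.mulVec_transpose, dotProduct_comm, ← dotProduct_mulVec]
    have hsw := JordanForms.topMat_swap hch hBinv (l := 0) (k := 0) rfl
    have hev : (-1 : F) ^ (d 0 - 1) = 1 := (Nat.Odd.sub_odd hi odd_one).neg_one_pow
    rw [hev, one_mul] at hsw
    simp only [JordanForms.topMat, Matrix.of_apply] at hdB hsw ⊢
    rw [Matrix.submatrix_add, Pi.add_apply, Pi.add_apply, map_add, LinearMap.add_apply,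
      LinearMap.add_apply, hflip, ← hsw, ← two_mul]
    exact mul_ne_zero h2 hdB
  exact (LinearMap.IsRefl.nondegenerate_iff_separatingLeft fun x y hxy => by
    rw [Matrix.toBilin'_apply'] at hxy ⊢
    rw [dotProduct_mulVec, ← Matrix.mulVec_transpose, dotProduct_comm,
      Matrix.transpose_submatrix, Matrix.transpose_add, Matrix.transpose_transpose, add_comm]
    exact hxy).2 hnd

/-- an involution of the blocks preserving sizes -/
theorem exists_involution {t : ℕ} (d : Fin t → ℕ) : ∃ π : Fin t ≃ Fin t,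
    (∀ k, π (π k) = k) ∧ (∀ k, d (π k) = d k) ∧
      ∀ k, π k = k → ¬ Even (Finset.univ.filter fun l => d l = d k).card := by
  classical
  have hfib : ∀ i : ℕ, ∃ f : {k // d k = i} → {k // d k = i},
      (∀ x, f (f x) = x) ∧ (Even (Finset.univ.filter fun l => d l = i).card → ∀ x, f x ≠ x) := by
    intro i
    by_cases he : Even (Finset.univ.filter fun l => d l = i).card
    · obtain ⟨a, ha⟩ := he
      let e : {k // d k = i} ≃ Fin a ⊕ Fin a := Fintype.equivOfCardEq (by
        rw [Fintype.card_subtype, ha, Fintype.card_sum, Fintype.card_fin])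
      refine ⟨fun x => e.symm (e x).swap, fun x => by simp, fun _ x hx => ?_⟩
      have := congrArg e hx
      simp only [Equiv.apply_symm_apply] at this
      rcases hx' : e x with b | b <;> simp [hx'] at this
    · exact ⟨id, fun _ => rfl, fun h => absurd h he⟩
  choose f hf hfree using hfib
  have htr : ∀ (i : ℕ) (x : {k // d k = i}), (f (d x.1) ⟨x.1, rfl⟩).1 = (f i x).1 := by
    rintro i ⟨k, hk⟩
    subst hk
    rfl
  have hinv : Function.Involutive fun k => (f (d k) ⟨k, rfl⟩).1 := fun k => by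
    show (f (d (f (d k) ⟨k, rfl⟩).1) ⟨(f (d k) ⟨k, rfl⟩).1, rfl⟩).1 = k
    rw [htr, hf]
  exact ⟨hinv.toPerm, hinv, fun k => (f (d k) ⟨k, rfl⟩).2,
    fun k hk he => hfree _ he ⟨k, rfl⟩ (Subtype.ext hk)⟩

/-- a form invariant under a Jordan type pairing the blocks by a given involution -/
theorem exists_formPi {t : ℕ} (d : Fin t → ℕ) (ε : F) (hε : ε ≠ 0) (good : ℕ → Prop)
    (π : Fin t ≃ Fin t) (hπ : ∀ k, π (π k) = k) (hπd : ∀ k, d (π k) = d k)
    (hfixed : ∀ i, good i → ∃ K : Matrix (Fin i) (Fin i) F, (K + ε • Kᵀ).det ≠ 0 ∧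
      (Cfsg.jordanBlock i F)ᵀ * (K + ε • Kᵀ) * Cfsg.jordanBlock i F = K + ε • Kᵀ)
    (hgood : ∀ k, π k = k → good (d k)) :
    ∃ K : Matrix (Idx d) (Idx d) F, (K + ε • Kᵀ).det ≠ 0 ∧
      (Cfsg.jordanTypeMatrix d F)ᵀ * (K + ε • Kᵀ) * Cfsg.jordanTypeMatrix d F = K + ε • Kᵀ ∧
      ∀ a b, (K + ε • Kᵀ) a b ≠ 0 → b.1 = π a.1 := by
  classical
  choose P hPdet hPinv using fun i : ℕ => exists_pairBlock (F := F) i
  have hS : ∀ i, ∃ K : Matrix (Fin i) (Fin i) F, good i → (K + ε • Kᵀ).det ≠ 0 ∧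
      (Cfsg.jordanBlock i F)ᵀ * (K + ε • Kᵀ) * Cfsg.jordanBlock i F = K + ε • Kᵀ := fun i => by
    by_cases h : good i
    · obtain ⟨K, hK⟩ := hfixed i h; exact ⟨K, fun _ => hK⟩
    · exact ⟨0, fun h' => absurd h' h⟩
  choose S hS using hS
  let nat : (i : ℕ) → Matrix (Fin i) (Fin i) F → ℕ → ℕ → F := fun i M a b =>
    if h : a < i ∧ b < i then M ⟨a, h.1⟩ ⟨b, h.2⟩ else 0
  have hnat : ∀ i (M : Matrix (Fin i) (Fin i) F) (a b : Fin i), nat i M a b = M a b := fun i M a b =>
    dif_pos ⟨a.2, b.2⟩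
  let Kf : Fin t → ℕ → ℕ → F := fun k =>
    if k < π k then nat _ (P (d k)) else if k = π k then nat _ (S (d k)) else 0
  have hfam : ∀ (fam : (i : ℕ) → Matrix (Fin i) (Fin i) F) (k : Fin t) (a b : Fin (d k)),
      nat (d (π k)) (fam (d (π k))) a b = fam (d k) a b := fun fam k a b => by
    rw [hπd k]; exact hnat _ _ _ _
  let R : (k : Fin t) → Matrix (Fin (d k)) (Fin (d k)) F := fun k =>
    Matrix.of fun a b => Kf k a b + ε * Kf (π k) b a
  have hR : ∀ k, (R k).det ≠ 0 ∧
      (Cfsg.jordanBlock (d k) F)ᵀ * R k * Cfsg.jordanBlock (d k) F = R k := by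
    intro k
    rcases lt_trichotomy k (π k) with h | h | h
    · have e : R k = P (d k) := by
        ext a b
        simp only [R, Kf, Matrix.of_apply, hπ, if_pos h, if_neg h.not_gt, if_neg h.ne', hnat,
          Pi.zero_apply, mul_zero, add_zero]
      rw [e]; exact ⟨hPdet _, hPinv _⟩
    · have e : R k = S (d k) + ε • (S (d k))ᵀ := by
        ext a b
        simp only [R, Kf, Matrix.of_apply, ← h, lt_irrefl, if_false, if_true, hnat, Matrix.add_apply,
          Matrix.smul_apply, Matrix.transpose_apply, smul_eq_mul]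
        rw [hfam S k b a]
      rw [e]
      exact hS _ (hgood k h.symm)
    · have e : R k = ε • (P (d k))ᵀ := by
        ext a b
        simp only [R, Kf, Matrix.of_apply, hπ, hfam P, if_pos h, if_neg h.not_gt, if_neg h.ne', hnat,
          Pi.zero_apply, zero_add, Matrix.smul_apply, Matrix.transpose_apply, smul_eq_mul]
      rw [e]
      refine ⟨by rw [Matrix.det_smul, Matrix.det_transpose]; exact mul_ne_zero (pow_ne_zero _ hε) (hPdet _), ?_⟩
      rw [mul_smul_comm, smul_mul_assoc]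
      congr 1
      conv_rhs => rw [← hPinv]
      simp only [Matrix.transpose_mul, Matrix.transpose_transpose, mul_assoc]
  let φ : Idx d ≃ Idx d := Equiv.sigmaCongr π fun k => finCongr (hπd k).symm
  let K : Matrix (Idx d) (Idx d) F :=
    Matrix.of fun a b => if b.1 = π a.1 then Kf a.1 a.2 b.2 else 0
  have hK : K + ε • Kᵀ = (Matrix.blockDiagonal' R).submatrix id φ := by
    ext ⟨k, a⟩ ⟨l, b⟩
    rw [Matrix.submatrix_apply]
    show _ = Matrix.blockDiagonal' R ⟨k, a⟩ ⟨π l, Fin.cast (hπd l).symm b⟩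
    by_cases h : k = π l
    · subst h
      rw [Matrix.blockDiagonal'_apply_eq]
      simp only [K, R, Matrix.add_apply, Matrix.smul_apply, Matrix.transpose_apply, Matrix.of_apply,
        hπ, if_true, smul_eq_mul, Fin.val_cast]
    · rw [Matrix.blockDiagonal'_apply_ne _ _ _ h]
      have h' : l ≠ π k := fun e => h (by rw [e, hπ])
      simp [K, h, h']
  have hφJ : (Cfsg.jordanTypeMatrix d F).submatrix φ φ = Cfsg.jordanTypeMatrix d F := by
    ext ⟨k, a⟩ ⟨l, b⟩
    show Cfsg.jordanTypeMatrix d F ⟨π k, Fin.cast (hπd k).symm a⟩ ⟨π l, Fin.cast (hπd l).symm b⟩ = _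
    by_cases h : k = l
    · subst h
      simp [Cfsg.jordanTypeMatrix, Cfsg.jordanBlock]
    · rw [Cfsg.jordanTypeMatrix, Matrix.blockDiagonal'_apply_ne _ _ _ (π.injective.ne h),
        Matrix.blockDiagonal'_apply_ne _ _ _ h]
  refine ⟨K, ?_, ?_, fun a b hab => by_contra fun h => hab ?_⟩
  · rw [hK, ← isUnit_iff_ne_zero, ← Matrix.isUnit_iff_isUnit_det]
    refine (Matrix.isUnit_submatrix_equiv (A := Matrix.blockDiagonal' R) (Equiv.refl _) φ).2
      (IsUnit.of_mul_eq_one (Matrix.blockDiagonal' fun k => (R k)⁻¹) ?_)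
    rw [← Matrix.blockDiagonal'_mul, ← Matrix.blockDiagonal'_one]
    congr 1
    funext k
    exact Matrix.mul_nonsing_inv _ (isUnit_iff_ne_zero.2 (hR k).1)
  · rw [hK]
    conv_lhs => arg 2; rw [← hφJ]
    rw [show ((Cfsg.jordanTypeMatrix d F)ᵀ) = ((Cfsg.jordanTypeMatrix d F)ᵀ).submatrix id id from rfl,
      ← Matrix.submatrix_mul _ _ id id φ Function.bijective_id, Matrix.submatrix_mul_equiv]
    congr 1
    simp only [Cfsg.jordanTypeMatrix, Matrix.blockDiagonal'_transpose, ← Matrix.blockDiagonal'_mul]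
    congr 1
    funext k
    exact (hR k).2
  · have h' : a.1 ≠ π b.1 := fun e => h (by rw [e, hπ])
    simp [K, h, h']

/-- a form invariant under a Jordan type from forms on the single blocks -/
theorem exists_form {t : ℕ} (d : Fin t → ℕ) (ε : F) (hε : ε ≠ 0) (good : ℕ → Prop)
    (hfixed : ∀ i, good i → ∃ K : Matrix (Fin i) (Fin i) F, (K + ε • Kᵀ).det ≠ 0 ∧
      (Cfsg.jordanBlock i F)ᵀ * (K + ε • Kᵀ) * Cfsg.jordanBlock i F = K + ε • Kᵀ)
    (hcount : ∀ k, ¬ good (d k) → Even (Finset.univ.filter fun l => d l = d k).card) :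
    ∃ K : Matrix (Idx d) (Idx d) F, (K + ε • Kᵀ).det ≠ 0 ∧
      (Cfsg.jordanTypeMatrix d F)ᵀ * (K + ε • Kᵀ) * Cfsg.jordanTypeMatrix d F = K + ε • Kᵀ := by
  obtain ⟨π, hπ, hπd, hπfix⟩ := exists_involution d
  obtain ⟨K, h1, h2, -⟩ := exists_formPi d ε hε good π hπ hπd hfixed
    fun k hk => by_contra fun hg => hπfix k hk (hcount k hg)
  exact ⟨K, h1, h2⟩

/-- in characteristic two an isometry of the polar form preserves some quadratic form -/
theorem exists_quad [Finite F] [CharP F 2] {ι : Type*} [Fintype ι] [DecidableEq ι]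
    (K J : Matrix ι ι F) (hinv : Jᵀ * (K + Kᵀ) * J = K + Kᵀ) :
    ∃ Q : QuadraticForm F (ι → F), QuadraticMap.polarBilin Q = Matrix.toBilin' (K + Kᵀ) ∧
      ∀ x, Q (J *ᵥ x) = Q x := by
  classical
  set M := Jᵀ * K * J - K with hM
  have hMs : M + Mᵀ = 0 := by
    have e : Mᵀ = Jᵀ * Kᵀ * J - Kᵀ := by
      rw [hM, Matrix.transpose_sub, Matrix.transpose_mul, Matrix.transpose_mul,
        Matrix.transpose_transpose, mul_assoc]
    rw [e, hM]
    rw [mul_add, add_mul] at hinv
    linear_combination (norm := abel) hinv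
  choose s hs using fun i => FiniteField.isSquare_of_char_two (F := F) (ringChar.eq F 2) (M i i)
  have hpol : ∀ A : Matrix ι ι F,
      QuadraticMap.polarBilin (LinearMap.BilinMap.toQuadraticMap (Matrix.toBilin' A)) =
        Matrix.toBilin' (A + Aᵀ) := fun A => by
    rw [LinearMap.BilinMap.polarBilin_toQuadraticMap, map_add]
    congr 1
    refine LinearMap.ext₂ fun x y => ?_
    rw [LinearMap.flip_apply, Matrix.toBilin'_apply', Matrix.toBilin'_apply', Matrix.mulVec_transpose,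
      dotProduct_comm x, ← dotProduct_mulVec]
  have hquad : ∀ x : ι → F, Matrix.toBilin' M x x = (∑ i, s i * x i) ^ 2 := by
    intro x
    set QM := LinearMap.BilinMap.toQuadraticMap (Matrix.toBilin' M) with hQM
    have hadd : ∀ a b, QM (a + b) = QM a + QM b := fun a b => by
      have := QuadraticMap.map_add QM a b
      have h0 : QuadraticMap.polar QM a b = 0 := by
        rw [← QuadraticMap.polarBilin_apply_apply, hQM, hpol, hMs, map_zero]; rfl
      rw [this, h0, add_zero]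
    let f : (ι → F) →+ F := AddMonoidHom.mk' QM hadd
    have hx : x = ∑ i, x i • Pi.single i (1 : F) := pi_eq_sum_univ' x
    show f x = _
    conv_lhs => rw [hx]
    rw [map_sum, sum_pow_char 2]
    refine Finset.sum_congr rfl fun i _ => ?_
    show QM (x i • Pi.single i (1 : F)) = _
    rw [QuadraticMap.map_smul, hQM, LinearMap.BilinMap.toQuadraticMap_apply,
      Matrix.toBilin'_single, smul_eq_mul, hs i]
    ring
  let sl : (ι → F) →ₗ[F] F := ∑ i, s i • LinearMap.proj i
  have hsl : ∀ x, sl x = ∑ i, s i * x i := fun x => by simp [sl]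
  have hker : sl ∈ LinearMap.range (Matrix.toLin' (J - 1)).dualMap := by
    rw [LinearMap.range_dualMap_eq_dualAnnihilator_ker, Submodule.mem_dualAnnihilator]
    intro x hx
    have hJx : J *ᵥ x = x := sub_eq_zero.1 (by
      simpa [Matrix.sub_mulVec, Matrix.one_mulVec] using LinearMap.mem_ker.1 hx)
    have h := hquad x
    rw [hM, Matrix.toBilin'_apply', Matrix.sub_mulVec, dotProduct_sub, mul_assoc,
      ← Matrix.mulVec_mulVec, dotProduct_mulVec, Matrix.vecMul_transpose,
      ← Matrix.mulVec_mulVec, hJx, sub_self] at h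
    rw [hsl]
    exact eq_zero_of_pow_eq_zero h.symm
  obtain ⟨ℓ, hℓ⟩ := hker
  refine ⟨LinearMap.BilinMap.toQuadraticMap (Matrix.toBilin' K) + QuadraticMap.linMulLin ℓ ℓ,
    ?_, fun x => ?_⟩
  · refine LinearMap.ext₂ fun a b => ?_
    rw [QuadraticMap.polarBilin_apply_apply, FunLike.coe_add, QuadraticMap.polar_add,
      ← QuadraticMap.polarBilin_apply_apply, hpol]
    have : QuadraticMap.polar (QuadraticMap.linMulLin ℓ ℓ) a b = 0 := by
      simp only [QuadraticMap.polar, QuadraticMap.linMulLin_apply, map_add]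
      linear_combination (ℓ a * ℓ b) * CharTwo.two_eq_zero (R := F)
    rw [this, add_zero]
  · have hl : ℓ (J *ᵥ x) - ℓ x = sl x := by
      rw [← hℓ, LinearMap.dualMap_apply, Matrix.toLin'_apply, Matrix.sub_mulVec, Matrix.one_mulVec,
        map_sub]
    have hK : Matrix.toBilin' K (J *ᵥ x) (J *ᵥ x) = Matrix.toBilin' K x x + sl x ^ 2 := by
      rw [hsl, ← hquad, hM, map_sub, LinearMap.sub_apply, LinearMap.sub_apply, add_sub_cancel,
        Matrix.toBilin'_apply', Matrix.toBilin'_apply', mul_assoc, ← Matrix.mulVec_mulVec _ Jᵀ,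
        ← Matrix.mulVec_mulVec, dotProduct_mulVec x Jᵀ, Matrix.vecMul_transpose]
    simp only [_root_.add_apply, LinearMap.BilinMap.toQuadraticMap_apply,
      QuadraticMap.linMulLin_apply, hK]
    linear_combination ((ℓ (J *ᵥ x) - ℓ x) + sl x) * hl +
      (sl x ^ 2 + ℓ x * (ℓ (J *ᵥ x) - ℓ x)) * CharTwo.two_eq_zero (R := F)

end Cfsg.Agent.Classical.JordanFormsExist
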