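import Mathlib
import Cfsg.Prelude.Def_Classical
import Cfsg.Agent.Lib.Classical.JordanFormsExist

/-!
# Jordan types occurring in the classical groups
-/

set_option autoImplicit false
set_option linter.unusedSectionVars false

namespace Cfsg.Agent.Classical.JordanFormsType

open Module Matrix
open Cfsg.Agent.Classical.JordanChains (Idx)

variable {F : Type*} [Field F] {ι : Type*} [Fintype ι] [DecidableEq ι]

theorem toBilin_congr (G C : Matrix ι ι F) (x y : ι → F) :
    Matrix.toBilin' (Cᵀ * G * C) x y = Matrix.toBilin' G (C *ᵥ x) (C *ᵥ y) := by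
  rw [Matrix.toBilin'_apply', Matrix.toBilin'_apply', mul_assoc, ← Matrix.mulVec_mulVec,
    dotProduct_mulVec, Matrix.vecMul_transpose, ← Matrix.mulVec_mulVec]

theorem toBilin_reindex {κ : Type*} [Fintype κ] [DecidableEq κ] (M : Matrix ι ι F) (e : κ ≃ ι)
    (x y : κ → F) :
    Matrix.toBilin' (M.submatrix e e) x y = Matrix.toBilin' M (x ∘ e.symm) (y ∘ e.symm) := by
  rw [Matrix.toBilin'_apply', Matrix.toBilin'_apply', Matrix.submatrix_mulVec_equiv]
  exact (Fintype.sum_equiv e _ _ fun i => by simp [Function.comp]).trans rfl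

theorem det_ne_zero_of_inv {G J : Matrix ι ι F} (hG : G.det ≠ 0) (h : Jᵀ * G * J = G) :
    J.det ≠ 0 := fun h0 => hG (by rw [← h, Matrix.det_mul, h0, mul_zero])

/-- the form seen on the Jordan basis -/
theorem exists_pulled {t : ℕ} (d : Fin t → ℕ) (e : Idx d ≃ ι) {G A : Matrix ι ι F}
    (hG : G.det ≠ 0) (hA : Aᵀ * G * A = G)
    (hc : IsConj (Matrix.reindex e e (Cfsg.jordanTypeMatrix d F)) A) :
    ∃ C : Matrix ι ι F, C.det ≠ 0 ∧
      (Cfsg.jordanTypeMatrix d F)ᵀ * (Cᵀ * G * C).submatrix e e * Cfsg.jordanTypeMatrix d F =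
        (Cᵀ * G * C).submatrix e e ∧ ((Cᵀ * G * C).submatrix e e).det ≠ 0 := by
  obtain ⟨c, hc⟩ := hc
  have hC : (c : Matrix ι ι F).det ≠ 0 :=
    ((Matrix.isUnit_iff_isUnit_det _).1 c.isUnit).ne_zero
  refine ⟨c, hC, ?_, ?_⟩
  · set J' := Matrix.reindex e e (Cfsg.jordanTypeMatrix d F) with hJ'
    have hJ : Cfsg.jordanTypeMatrix d F = J'.submatrix e e := by
      rw [hJ', Matrix.reindex_apply, Matrix.submatrix_submatrix]; simp
    rw [hJ, Matrix.transpose_submatrix, Matrix.submatrix_mul_equiv, Matrix.submatrix_mul_equiv]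
    congr 1
    calc J'ᵀ * ((c : Matrix ι ι F)ᵀ * G * c) * J'
        = ((c : Matrix ι ι F) * J')ᵀ * G * ((c : Matrix ι ι F) * J') := by
          simp only [Matrix.transpose_mul, mul_assoc]
      _ = (c : Matrix ι ι F)ᵀ * (Aᵀ * G * A) * c := by
          rw [hc.eq]; simp only [Matrix.transpose_mul, mul_assoc]
      _ = _ := by rw [hA]
  · rw [Matrix.det_submatrix_equiv_self, Matrix.det_mul, Matrix.det_mul, Matrix.det_transpose]
    exact mul_ne_zero (mul_ne_zero hC hG) hC

theorem even_count_alt {t : ℕ} {d : Fin t → ℕ} (hd : ∀ k, 1 ≤ d k) (e : Idx d ≃ ι)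
    {G A : Matrix ι ι F} (hG : G.det ≠ 0) (halt : (Matrix.toBilin' G).IsAlt)
    (hA : Aᵀ * G * A = G) (hc : IsConj (Matrix.reindex e e (Cfsg.jordanTypeMatrix d F)) A)
    {i : ℕ} (hi : Odd i) : Even (Finset.univ.filter fun k => d k = i).card := by
  obtain ⟨C, _, hinv, hdet⟩ := exists_pulled d e hG hA hc
  refine JordanForms.even_count_of_alt (JordanFormsExist.jordan_shift hd)
    (JordanFormsExist.inv_toBilin _ _ hinv)
    (LinearMap.BilinForm.nondegenerate_toBilin'_iff_det_ne_zero.2 hdet).1 (fun x => ?_) hi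
  rw [toBilin_reindex, toBilin_congr]
  exact halt _

theorem even_count_symm {t : ℕ} {d : Fin t → ℕ} (hd : ∀ k, 1 ≤ d k) (e : Idx d ≃ ι)
    {G A : Matrix ι ι F} (hG : G.det ≠ 0)
    (hsymm : ∀ x y, Matrix.toBilin' G x y = Matrix.toBilin' G y x) (h2 : (2 : F) ≠ 0)
    (hA : Aᵀ * G * A = G) (hc : IsConj (Matrix.reindex e e (Cfsg.jordanTypeMatrix d F)) A)
    {i : ℕ} (hi : Even i) (hi0 : 0 < i) : Even (Finset.univ.filter fun k => d k = i).card := by
  obtain ⟨C, _, hinv, hdet⟩ := exists_pulled d e hG hA hc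
  refine JordanForms.even_count_of_symm (JordanFormsExist.jordan_shift hd)
    (JordanFormsExist.inv_toBilin _ _ hinv)
    (LinearMap.BilinForm.nondegenerate_toBilin'_iff_det_ne_zero.2 hdet).1 (fun x y => ?_) h2 hi hi0
  rw [toBilin_reindex, toBilin_reindex, toBilin_congr, toBilin_congr]
  exact hsymm _ _

/-- the matrix of the polar form is preserved by an isometry -/
theorem polar_matrix_inv (Q : QuadraticForm F (ι → F)) (A : Matrix ι ι F)
    (hA : ∀ x, Q (A *ᵥ x) = Q x) :
    Aᵀ * LinearMap.BilinForm.toMatrix' (QuadraticMap.polarBilin Q) * A =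
      LinearMap.BilinForm.toMatrix' (QuadraticMap.polarBilin Q) := by
  refine Matrix.toBilin'.injective (LinearMap.ext₂ fun x y => ?_)
  rw [toBilin_congr, Matrix.toBilin'_toMatrix', QuadraticMap.polarBilin_apply_apply,
    QuadraticMap.polarBilin_apply_apply]
  simp only [QuadraticMap.polar, ← Matrix.mulVec_add, hA]

/-- the reindexed Jordan matrix, as an isometry -/
theorem exists_isometry {N t : ℕ} (d : Fin t → ℕ) (hsum : ∑ k, d k = N)
    (Q : QuadraticForm F (Idx d → F)) (hQ : (QuadraticMap.polarBilin Q).Nondegenerate)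
    (hinv : ∀ x, Q (Cfsg.jordanTypeMatrix d F *ᵥ x) = Q x) :
    ∃ Q' : QuadraticForm F (Fin N → F), (QuadraticMap.polarBilin Q').Nondegenerate ∧
      ∃ e : Idx d ≃ Fin N, ∃ A : ↥(Cfsg.isometryGroup F ⇑Q'),
        IsConj (Matrix.reindex e e (Cfsg.jordanTypeMatrix d F))
          ((A : Matrix.GeneralLinearGroup (Fin N) F) : Matrix (Fin N) (Fin N) F) := by
  classical
  let e : Idx d ≃ Fin N := Fintype.equivFinOfCardEq (by
    rw [Fintype.card_sigma]; simpa using hsum)
  let L : (Fin N → F) →ₗ[F] (Idx d → F) := LinearMap.funLeft F F e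
  refine ⟨Q.comp L, ?_, e, ?_⟩
  · have hpol : ∀ x y, QuadraticMap.polarBilin (Q.comp L) x y =
        QuadraticMap.polarBilin Q (L x) (L y) := fun x y => by
      simp [QuadraticMap.polarBilin_apply_apply, QuadraticMap.polar, QuadraticMap.comp_apply]
    have hL : Function.Surjective L := fun z => ⟨fun i => z (e.symm i), funext fun i => by
      show z (e.symm (e i)) = z i
      rw [e.symm_apply_apply]⟩
    have hLi : Function.Injective L := fun a b hab => funext fun i => by
      have := congrFun hab (e.symm i)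
      simpa [L, LinearMap.funLeft] using this
    refine ⟨fun x hx => hLi ((hQ.1 (L x) fun z => ?_).trans (map_zero L).symm),
      fun y hy => hLi ((hQ.2 (L y) fun z => ?_).trans (map_zero L).symm)⟩
    · obtain ⟨y, rfl⟩ := hL z; rw [← hpol]; exact hx y
    · obtain ⟨x, rfl⟩ := hL z; rw [← hpol]; exact hy x
  · set J := Cfsg.jordanTypeMatrix d F with hJ
    have hdet : J.det ≠ 0 :=
      det_ne_zero_of_inv (G := LinearMap.BilinForm.toMatrix' (QuadraticMap.polarBilin Q))
        (LinearMap.BilinForm.nondegenerate_toBilin'_iff_det_ne_zero.1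
          (by rw [Matrix.toBilin'_toMatrix']; exact hQ))
        (polar_matrix_inv Q J hinv)
    refine ⟨⟨Matrix.GeneralLinearGroup.mkOfDetNeZero (Matrix.reindex e e J)
      (by rw [Matrix.det_reindex_self]; exact hdet), fun u _ => ?_⟩, IsConj.refl _⟩
    show Q (L (Matrix.reindex e e J *ᵥ u)) = Q (L u)
    rw [← hinv (L u)]
    congr 1
    rw [Matrix.reindex_apply, Matrix.submatrix_mulVec_equiv]
    funext i
    simp [L, LinearMap.funLeft, Function.comp_def]

end Cfsg.Agent.Classical.JordanFormsType
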