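import Mathlib
import Cfsg.Agent.Lib.Classical.PowScalarClasses

/-!
# Inversion on the irreducible factors of `X ^ r - 1`

`star r p` is the characteristic polynomial of the inverse of the root of `p`. It is an involution
on the factors; for `p ≠ X - 1` and `r` prime it fixes `p` exactly when the degree of `p` is even.
-/

set_option autoImplicit false

namespace Cfsg.Agent.Classical.StarFactor

open Polynomial Module
open scoped Matrix
open Cfsg.Agent.Classical.PowScalarClasses (Admissible)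

universe u

variable {F : Type u} [Field F]

/-- the matrix of the root -/
noncomputable def comp (p : F[X]) (hp : p ≠ 0) :
    Matrix (Fin (AdjoinRoot.powerBasis hp).dim) (Fin (AdjoinRoot.powerBasis hp).dim) F :=
  Algebra.leftMulMatrix (AdjoinRoot.powerBasis hp).basis (AdjoinRoot.root p)

open _root_.Classical in
/-- the factor belonging to the inverse roots -/
noncomputable def star (r : ℕ) (p : F[X]) : F[X] :=
  if hp : p ≠ 0 then (comp p hp ^ (r - 1)).charpoly else p

theorem charpoly_comp (p : F[X]) (hp : p.Monic) : (comp p hp.ne_zero).charpoly = p := by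
  rw [comp]
  conv_lhs => arg 1; rw [show AdjoinRoot.root p = (AdjoinRoot.powerBasis hp.ne_zero).gen from
    (AdjoinRoot.powerBasis_gen hp.ne_zero).symm]
  rw [charpoly_leftMulMatrix, AdjoinRoot.powerBasis_gen, AdjoinRoot.minpoly_root hp.ne_zero,
    hp.leadingCoeff, inv_one, map_one, mul_one]

theorem root_pow (r : ℕ) {p : F[X]} (hd : p ∣ X ^ r - C 1) : AdjoinRoot.root p ^ r = 1 := by
  rw [← sub_eq_zero]
  have := AdjoinRoot.mk_eq_zero.2 hd
  rwa [map_sub, map_pow, AdjoinRoot.mk_X, AdjoinRoot.mk_C, map_one] at this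

theorem comp_pow (r : ℕ) {p : F[X]} (hp : p ≠ 0) (hd : p ∣ X ^ r - C 1) : comp p hp ^ r = 1 := by
  rw [comp, ← map_pow, root_pow r hd, map_one]

variable [Fintype F] {r : ℕ}

/-- a matrix with given factors, with the factors of its inverse -/
theorem exists_matrix_inv (hr : r ≠ 0) (s : Multiset F[X])
    (hs : ∀ p ∈ s, p.Monic ∧ Irreducible p ∧ p ∣ X ^ r - C 1) :
    ∀ n, (s.map natDegree).sum = n → ∃ A : Matrix (Fin n) (Fin n) F,
      A ^ r = 1 ∧ A.charpoly = s.prod ∧ (A ^ (r - 1)).charpoly = (s.map (star r)).prod := by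
  classical
  induction s using Multiset.induction with
  | empty =>
    intro n hn
    simp only [Multiset.map_zero, Multiset.sum_zero] at hn
    subst hn
    exact ⟨1, one_pow r, by simp [Matrix.charpoly, Matrix.charmatrix],
      by simp [Matrix.charpoly, Matrix.charmatrix]⟩
  | cons p s ih =>
    intro n hn
    obtain ⟨hpm, hp, hpd⟩ := hs p (Multiset.mem_cons_self _ _)
    obtain ⟨A, hA, hAc, hAi⟩ := ih (fun x hx => hs x (Multiset.mem_cons_of_mem hx)) _ rfl
    rw [Multiset.map_cons, Multiset.sum_cons] at hn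
    let e : Fin (AdjoinRoot.powerBasis hp.ne_zero).dim ⊕ Fin (s.map natDegree).sum ≃ Fin n :=
      finSumFinEquiv.trans (finCongr (by rw [AdjoinRoot.powerBasis_dim, hn]))
    let B := Matrix.fromBlocks (comp p hp.ne_zero) 0 0 A
    have hB : ∀ k, B ^ k = Matrix.fromBlocks (comp p hp.ne_zero ^ k) 0 0 (A ^ k) := fun k => by
      induction k with
      | zero => simp [B, Matrix.fromBlocks_one]
      | succ k ihk => rw [pow_succ, ihk, Matrix.fromBlocks_multiply]; simp [pow_succ, B]
    refine ⟨Matrix.reindexAlgEquiv F F e B, ?_, ?_, ?_⟩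
    · rw [← map_pow, hB, comp_pow r hp.ne_zero hpd, hA, Matrix.fromBlocks_one, map_one]
    · rw [Matrix.reindexAlgEquiv_apply, Matrix.charpoly_reindex, Matrix.charpoly_fromBlocks_zero₁₂,
        charpoly_comp p hpm, hAc, Multiset.prod_cons]
    · rw [← map_pow, hB, Matrix.reindexAlgEquiv_apply, Matrix.charpoly_reindex,
        Matrix.charpoly_fromBlocks_zero₁₂, hAi, Multiset.map_cons, Multiset.prod_cons, star,
        dif_pos hp.ne_zero]

theorem pow_one_iff {n : ℕ} (A : Matrix (Fin n) (Fin n) F) :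
    A ^ r = (1 : F) • 1 ↔ A ^ r = 1 := by rw [one_smul]

/-- the factors of the inverse -/
theorem charpoly_inv_of {n : ℕ} (hri : (r : F) ≠ 0) {A : Matrix (Fin n) (Fin n) F} (hA : A ^ r = 1)
    {s : Multiset F[X]} (hs : Admissible r n 1 s) (hAs : A.charpoly = s.prod) :
    (A ^ (r - 1)).charpoly = (s.map (star r)).prod := by
  have hr : r ≠ 0 := fun e => hri (by rw [e, Nat.cast_zero])
  obtain ⟨B, hB, hBc, hBi⟩ := exists_matrix_inv hr s hs.1 n hs.2
  obtain ⟨M, hM⟩ := SemisimpleConj.exists_matrix_conj A B hri hA hB (hAs.trans hBc.symm)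
  have hc : SemiconjBy (M : Matrix (Fin n) (Fin n) F) A B := hM
  have h2 : (M : Matrix (Fin n) (Fin n) F) * A ^ (r - 1) * ((M⁻¹ : GL (Fin n) F) : Matrix (Fin n) (Fin n) F)
      = B ^ (r - 1) := by
    rw [(hc.pow_right _).eq, mul_assoc, Units.mul_inv, mul_one]
  rw [← hBi, ← h2, Matrix.coe_units_inv, Matrix.charpoly_units_conj]

theorem pow_sub_one_sq {M : Type*} [Monoid M] {a : M} (ha : a ^ r = 1) (hr : 1 ≤ r) :
    (a ^ (r - 1)) ^ (r - 1) = a := by
  obtain ⟨k, rfl⟩ : ∃ k, r = k + 1 := ⟨r - 1, by omega⟩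
  rw [Nat.add_sub_cancel, ← pow_mul]
  rcases Nat.eq_zero_or_pos k with rfl | hk
  · simpa using ha.symm
  · rw [show k * k = (k + 1) * (k - 1) + 1 by
      obtain ⟨j, rfl⟩ : ∃ j, k = j + 1 := ⟨k - 1, by omega⟩
      simp only [Nat.add_sub_cancel]; ring, pow_succ, pow_mul, ha, one_pow, one_mul]

/-- a factor different from `X - 1` -/
structure Fac (r : ℕ) (p : F[X]) : Prop where
  monic : p.Monic
  irr : Irreducible p
  dvd : p ∣ X ^ r - C 1
  ne : p ≠ X - C 1

theorem star_X_sub_one (hri : (r : F) ≠ 0) : star r (X - C (1 : F)) = X - C 1 := by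
  have hd : (X - C (1 : F)) ∣ X ^ r - C 1 := by
    rw [map_one]; exact sub_one_dvd_pow_sub_one _ _
  have h := charpoly_inv_of hri (n := 1) (A := 1) (one_pow r) (s := {X - C (1 : F)})
    ⟨fun p hp => by
      rw [Multiset.mem_singleton.1 hp]
      exact ⟨monic_X_sub_C 1, irreducible_X_sub_C 1, hd⟩,
     by rw [Multiset.map_singleton, Multiset.sum_singleton, natDegree_X_sub_C]⟩
    (by rw [Multiset.prod_singleton, Matrix.charpoly_one]; simp)
  rw [one_pow, Multiset.map_singleton, Multiset.prod_singleton] at h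
  rw [← h, Matrix.charpoly_one]
  simp

theorem Fac.star_star (hri : (r : F) ≠ 0) {p : F[X]} (hp : p.Monic) (hi : Irreducible p)
    (hd : p ∣ X ^ r - C 1) {s : Multiset F[X]}
    (hs : Admissible r (AdjoinRoot.powerBasis hp.ne_zero).dim 1 s)
    (h : star r p = s.prod) : (s.map (star r)).prod = p := by
  have hr : 1 ≤ r := Nat.one_le_iff_ne_zero.2 fun e => hri (by rw [e, Nat.cast_zero])
  have h1 : (comp p hp.ne_zero ^ (r - 1)) ^ r = 1 := by
    rw [← pow_mul, mul_comm, pow_mul, comp_pow r hp.ne_zero hd, one_pow]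
  rw [star, dif_pos hp.ne_zero] at h
  rw [← charpoly_inv_of hri h1 hs h, pow_sub_one_sq (comp_pow r hp.ne_zero hd) hr, charpoly_comp p hp]

variable [hr : Fact r.Prime]

theorem Fac.primitive {p : F[X]} (hp : Fac r p) :
    IsPrimitiveRoot (AdjoinRoot.root p) r := by
  haveI : Fact (Irreducible p) := ⟨hp.irr⟩
  have h1 : AdjoinRoot.root p ≠ 1 := fun e => hp.ne <| by
    have : AdjoinRoot.mk p (X - C 1) = 0 := by
      rw [map_sub, AdjoinRoot.mk_X, AdjoinRoot.mk_C, map_one, e, sub_self]
    exact eq_of_monic_of_associated hp.monic (monic_X_sub_C 1)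
      (hp.irr.associated_of_dvd (irreducible_X_sub_C 1) (AdjoinRoot.mk_eq_zero.1 this))
  have := orderOf_eq_prime (root_pow r hp.dvd) h1
  exact this ▸ IsPrimitiveRoot.orderOf _

/-- `star` of a factor, given that all factors have degree `i` -/
theorem Fac.star_fac (hri : (r : F) ≠ 0) {i : ℕ} (hdeg : ∀ x : F[X], Fac r x → x.natDegree = i)
    {p : F[X]} (hp : Fac r p) : Fac r (star r p) ∧ star r (star r p) = p := by
  classical
  have hr1 : 1 ≤ r := hr.out.one_le
  haveI : Fact (Irreducible p) := ⟨hp.irr⟩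
  set M := comp p hp.monic.ne_zero with hM
  have hMr : M ^ r = 1 := comp_pow r hp.monic.ne_zero hp.dvd
  have hM1 : (M ^ (r - 1)) ^ r = 1 := by rw [← pow_mul, mul_comm, pow_mul, hMr, one_pow]
  obtain ⟨s, hs, hsp⟩ := PowScalarClasses.admissible_factors hri one_ne_zero
    (k := r) (A := M ^ (r - 1)) (by rw [one_smul]; exact hM1)
  have hstar : star r p = s.prod := by rw [star, dif_pos hp.monic.ne_zero, ← hM, hsp]
  have hne : ∀ x ∈ s, x ≠ X - C 1 := by
    intro x hx e
    subst e
    obtain ⟨u, hu0, hu⟩ := SemisimpleConj.exists_kills_of_dvd_charpoly _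
      (Matrix.toLinAlgEquiv' (M ^ (r - 1))) rfl hri (by rw [← map_pow, hM1, map_one])
      (irreducible_X_sub_C (1 : F))
      (by rw [show (Matrix.toLinAlgEquiv' (M ^ (r - 1))).charpoly = _ from Matrix.charpoly_toLin' _, hsp]
          exact Multiset.dvd_prod hx)
    rw [map_sub, aeval_X, aeval_C, map_one, LinearMap.sub_apply, Module.End.one_apply, sub_eq_zero,
      Matrix.toLinAlgEquiv'_apply] at hu
    have hk : ∀ k : ℕ, (M ^ (r - 1)) ^ k *ᵥ u = u := fun k => by
      induction k with
      | zero => rw [pow_zero, Matrix.one_mulVec]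
      | succ k ih => rw [pow_succ, ← Matrix.mulVec_mulVec, hu, ih]
    have hMu : M *ᵥ u = u := by
      have := hk (r - 1)
      rwa [pow_sub_one_sq hMr hr1] at this
    set b := (AdjoinRoot.powerBasis hp.monic.ne_zero).basis with hb
    obtain ⟨y, hy⟩ : ∃ y, b.repr y = Finsupp.equivFunOnFinite.symm u :=
      b.repr.surjective _
    have hy' : (b.repr y : Fin _ → F) = u := by rw [hy]; rfl
    have : AdjoinRoot.root p * y = y := by
      refine b.repr.injective (DFunLike.coe_injective ?_)
      rw [← Algebra.leftMulMatrix_mulVec_repr b, hy']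
      exact hMu
    have hy0 : y ≠ 0 := fun e => hu0 (by rw [← hy', e, map_zero]; rfl)
    exact hp.primitive.ne_one hr.out.one_lt (mul_right_cancel₀ hy0 (this.trans (one_mul y).symm))
  have hfac : ∀ x ∈ s, Fac r x := fun x hx =>
    ⟨(hs.1 x hx).1, (hs.1 x hx).2.1, (hs.1 x hx).2.2, hne x hx⟩
  have hcard : Multiset.card s = 1 := by
    have h := hs.2
    rw [Multiset.map_congr rfl fun x hx => hdeg x (hfac x hx), Multiset.map_const', Multiset.sum_replicate,
      smul_eq_mul, AdjoinRoot.powerBasis_dim, hdeg p hp] at h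
    have : 0 < i := hdeg p hp ▸ hp.irr.natDegree_pos
    exact Nat.eq_of_mul_eq_mul_right this (h.trans (one_mul i).symm)
  obtain ⟨x, rfl⟩ := Multiset.card_eq_one.1 hcard
  rw [Multiset.prod_singleton] at hstar
  refine ⟨hstar ▸ hfac x (Multiset.mem_singleton_self x), ?_⟩
  have h2 := Fac.star_star hri hp.monic hp.irr hp.dvd hs (by rw [Multiset.prod_singleton, hstar])
  rw [Multiset.map_singleton, Multiset.prod_singleton] at h2
  rw [hstar, h2]

omit hr in
theorem aeval_star {p : F[X]} (hp : p ≠ 0) :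
    aeval (AdjoinRoot.root p ^ (r - 1)) (star r p) = 0 := by
  apply Algebra.leftMulMatrix_injective (AdjoinRoot.powerBasis hp).basis
  rw [← Polynomial.aeval_algHom_apply, map_zero, map_pow, star, dif_pos hp]
  exact Matrix.aeval_self_charpoly _

/-- **`star` fixes a factor exactly when its degree is even.** -/
theorem Fac.star_eq_iff (hri : (r : F) ≠ 0) (hr2 : r ≠ 2) {i : ℕ}
    (hdeg : ∀ x : F[X], Fac r x → x.natDegree = i) {p : F[X]} (hp : Fac r p) :
    star r p = p ↔ Even i := by
  classical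
  haveI : Fact (Irreducible p) := ⟨hp.irr⟩
  have hp0 := hp.monic.ne_zero
  haveI : Module.Finite F (AdjoinRoot p) := (AdjoinRoot.powerBasis hp0).finite
  haveI : Finite (AdjoinRoot p) := Module.finite_of_finite F
  have hgal : Nat.card (AdjoinRoot p ≃ₐ[F] AdjoinRoot p) = i := by
    rw [IsGalois.card_aut_eq_finrank, (AdjoinRoot.powerBasis hp0).finrank, AdjoinRoot.powerBasis_dim,
      hdeg p hp]
  have hinvne : AdjoinRoot.root p ^ (r - 1) ≠ AdjoinRoot.root p := by
    intro e
    have h2 := hr.out.two_le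
    have := hp.primitive.pow_inj (show r - 1 < r by omega) (show 1 < r by omega) (by rwa [pow_one])
    omega
  constructor
  · intro h
    have hz := aeval_star (r := r) hp0
    rw [h] at hz
    let φ : AdjoinRoot p →ₐ[F] AdjoinRoot p :=
      AdjoinRoot.liftAlgHom p (Algebra.ofId F _) (AdjoinRoot.root p ^ (r - 1)) hz
    have hφ : φ (AdjoinRoot.root p) = AdjoinRoot.root p ^ (r - 1) :=
      AdjoinRoot.liftAlgHom_root _ _ _ _
    let σ : AdjoinRoot p ≃ₐ[F] AdjoinRoot p :=
      AlgEquiv.ofBijective φ (Finite.injective_iff_bijective.1 φ.toRingHom.injective)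
    have hσ2 : σ ^ 2 = 1 := by
      refine AlgEquiv.ext fun x => ?_
      have : φ.comp φ = AlgHom.id F _ := AdjoinRoot.algHom_ext (by
        rw [AlgHom.comp_apply, hφ, map_pow, hφ, pow_sub_one_sq (root_pow r hp.dvd) hr.out.one_le]
        rfl)
      rw [pow_two]
      exact congrArg (fun f : AdjoinRoot p →ₐ[F] AdjoinRoot p => f x) this
    have hσ1 : σ ≠ 1 := fun e => hinvne (by
      rw [← hφ]
      exact congrArg (fun f : AdjoinRoot p ≃ₐ[F] AdjoinRoot p => f (AdjoinRoot.root p)) e)
    haveI : Fact (Nat.Prime 2) := ⟨Nat.prime_two⟩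
    rw [← hgal, even_iff_two_dvd, ← orderOf_eq_prime hσ2 hσ1]
    exact orderOf_dvd_natCard _
  · intro hi
    haveI : Fact (Nat.Prime 2) := ⟨Nat.prime_two⟩
    haveI : Finite (AdjoinRoot p ≃ₐ[F] AdjoinRoot p) :=
      Finite.of_injective (fun f => (f : AdjoinRoot p → AdjoinRoot p)) DFunLike.coe_injective
    obtain ⟨σ, hσ⟩ := exists_prime_orderOf_dvd_card' (G := AdjoinRoot p ≃ₐ[F] AdjoinRoot p) 2
      (by rw [hgal]; exact even_iff_two_dvd.1 hi)
    set z := AdjoinRoot.root p with hz
    have hz1 : σ z ^ r = 1 := by rw [← map_pow, root_pow r hp.dvd, map_one]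
    haveI : NeZero r := ⟨hr.out.ne_zero⟩
    obtain ⟨k, hk, hkz⟩ := hp.primitive.eq_pow_of_pow_eq_one hz1
    have hσσ : σ (σ z) = z := by
      have h2 : σ ^ 2 = 1 := hσ ▸ pow_orderOf_eq_one σ
      rw [pow_two] at h2
      exact congrArg (fun f : AdjoinRoot p ≃ₐ[F] AdjoinRoot p => f z) h2
    have hkk : (k * k : ZMod r) = 1 := by
      rw [← hkz, map_pow, ← hkz, ← pow_mul] at hσσ
      rw [← Nat.cast_mul, ← Nat.cast_one, ZMod.natCast_eq_natCast_iff]
      have h3 : z ^ (k * k) = z ^ 1 := by rw [pow_one]; exact hσσ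
      rw [(isOfFinOrder_iff_pow_eq_one.2 ⟨r, hr.out.pos, root_pow r hp.dvd⟩ : IsOfFinOrder z).pow_eq_pow_iff_modEq,
        ← hp.primitive.eq_orderOf] at h3
      exact h3
    have hzneg : σ z = z ^ (r - 1) := by
      rcases mul_self_eq_one_iff.1 hkk with h1 | h1
      · exfalso
        rw [← Nat.cast_one, ZMod.natCast_eq_natCast_iff] at h1
        have hk1 : k = 1 := by
          have := h1
          rwa [Nat.ModEq, Nat.mod_eq_of_lt hk, Nat.mod_eq_of_lt hr.out.one_lt] at this
        have : σ = 1 := by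
          refine AlgEquiv.coe_toAlgHom_injective (AdjoinRoot.algHom_ext ?_)
          show σ z = z
          rw [← hkz, hk1, pow_one]
        rw [this, orderOf_one] at hσ
        norm_num at hσ
      · rw [← hkz]
        congr 1
        have hc : ((r - 1 : ℕ) : ZMod r) = -1 := by
          rw [Nat.cast_sub hr.out.one_le]; simp
        rw [← hc, ZMod.natCast_eq_natCast_iff, Nat.ModEq, Nat.mod_eq_of_lt hk,
          Nat.mod_eq_of_lt (show r - 1 < r by have := hr.out.pos; omega)] at h1
        exact h1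
    have h1 : aeval (σ z) p = 0 := by
      rw [Polynomial.aeval_algHom_apply σ z p, AdjoinRoot.aeval_eq, AdjoinRoot.mk_self, map_zero]
    obtain ⟨hsf, -⟩ := hp.star_fac hri hdeg
    rw [hzneg] at h1
    rw [minpoly.eq_of_irreducible_of_monic hsf.irr (aeval_star hp0) hsf.monic,
      ← minpoly.eq_of_irreducible_of_monic hp.irr h1 hp.monic]

end Cfsg.Agent.Classical.StarFactor
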