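import Mathlib
import Cfsg.Agent.Lib.Classical.StarFactor
import Cfsg.Agent.Lib.Classical.JordanFormsType
import Cfsg.Agent.Lib.Forms.SympStd

/-!
# Symplectic elements of prime order with given characteristic polynomial
-/

set_option autoImplicit false
set_option linter.unusedSectionVars false

namespace Cfsg.Agent.Classical.SympRealise

open Polynomial Module
open scoped Matrix
open Cfsg.Agent.Classical.StarFactor (Fac comp)

universe u

variable {F : Type u} [Field F]

/-- the multiset is realised by an isometry of a non-degenerate alternating form -/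
def Real (r : ℕ) (s : Multiset F[X]) : Prop :=
  ∃ (n : ℕ) (A G : Matrix (Fin n) (Fin n) F), G.det ≠ 0 ∧ (Matrix.toBilin' G).IsAlt ∧
    Aᵀ * G * A = G ∧ A ^ r = 1 ∧ A.charpoly = s.prod

theorem toBilin_blocks {ι κ : Type*} [Fintype ι] [Fintype κ] [DecidableEq ι] [DecidableEq κ]
    (G : Matrix ι ι F) (H : Matrix κ κ F) (x : ι ⊕ κ → F) :
    Matrix.toBilin' (Matrix.fromBlocks G 0 0 H) x x =
      Matrix.toBilin' G (x ∘ Sum.inl) (x ∘ Sum.inl) + Matrix.toBilin' H (x ∘ Sum.inr) (x ∘ Sum.inr) := by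
  simp only [Matrix.toBilin'_apply', Matrix.fromBlocks_mulVec, Matrix.zero_mulVec, add_zero, zero_add,
    dotProduct, Fintype.sum_sum_type, Function.comp_apply, Sum.elim_inl, Sum.elim_inr]

/-- transport to `Fin` -/
theorem real_of_fintype {ι : Type*} [Fintype ι] [DecidableEq ι] {r : ℕ} {s : Multiset F[X]}
    (A G : Matrix ι ι F) (hG : G.det ≠ 0) (halt : (Matrix.toBilin' G).IsAlt)
    (hA : Aᵀ * G * A = G) (hr : A ^ r = 1) (hc : A.charpoly = s.prod) : Real r s := by
  let e := Fintype.equivFin ι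
  refine ⟨_, Matrix.reindexAlgEquiv F F e A, Matrix.reindex e e G,
    by rw [Matrix.det_reindex_self]; exact hG, fun x => ?_, ?_,
    by rw [← map_pow, hr, map_one],
    by rw [Matrix.reindexAlgEquiv_apply, Matrix.charpoly_reindex, hc]⟩
  · rw [Matrix.reindex_apply, JordanFormsType.toBilin_reindex]
    exact halt _
  · simp only [Matrix.reindexAlgEquiv_apply, Matrix.reindex_apply, Matrix.transpose_submatrix,
      Matrix.submatrix_mul_equiv, hA]

theorem Real.zero (r : ℕ) : Real r (0 : Multiset F[X]) :=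
  ⟨0, 1, 1, by simp, fun x => by rw [Matrix.toBilin'_apply]; simp,
    Subsingleton.elim _ _, one_pow r, by simp [Matrix.charpoly, Matrix.charmatrix]⟩

theorem Real.add {r : ℕ} {s t : Multiset F[X]} (hs : Real r s) (ht : Real r t) :
    Real r (s + t) := by
  obtain ⟨n, A, G, hG, hGa, hA, hAr, hAc⟩ := hs
  obtain ⟨m, B, H, hH, hHa, hB, hBr, hBc⟩ := ht
  refine real_of_fintype (Matrix.fromBlocks A 0 0 B) (Matrix.fromBlocks G 0 0 H) ?_ ?_ ?_ ?_ ?_
  · rw [Matrix.det_fromBlocks_zero₁₂]; exact mul_ne_zero hG hH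
  · intro x
    rw [toBilin_blocks, hGa, hHa, add_zero]
  · simp [Matrix.fromBlocks_transpose, Matrix.fromBlocks_multiply, hA, hB]
  · have : ∀ k, (Matrix.fromBlocks A 0 0 B) ^ k = Matrix.fromBlocks (A ^ k) 0 0 (B ^ k) := fun k => by
      induction k with
      | zero => simp [Matrix.fromBlocks_one]
      | succ k ih => rw [pow_succ, ih, Matrix.fromBlocks_multiply]; simp [pow_succ]
    rw [this, hAr, hBr, Matrix.fromBlocks_one]
  · rw [Matrix.charpoly_fromBlocks_zero₁₂, hAc, hBc, Multiset.prod_add]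

variable [Fintype F] {r : ℕ}

/-- the hyperbolic sum of a factor and its inverse -/
theorem real_pair (hr : 1 ≤ r) {p : F[X]} (hp : p.Monic) (hd : p ∣ X ^ r - C 1) :
    Real r {p, StarFactor.star r p} := by
  set M := comp p hp.ne_zero with hM
  have hMr : M ^ r = 1 := StarFactor.comp_pow r hp.ne_zero hd
  refine real_of_fintype (Matrix.fromBlocks M 0 0 (M ^ (r - 1))ᵀ) (Matrix.fromBlocks 0 1 (-1) 0)
    ?_ ?_ ?_ ?_ ?_
  · have h : IsUnit (Matrix.fromBlocks (0 : Matrix _ _ F) 1 (-1) 0 :
        Matrix (Fin (AdjoinRoot.powerBasis hp.ne_zero).dim ⊕ Fin (AdjoinRoot.powerBasis hp.ne_zero).dim) _ F) :=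
      IsUnit.of_mul_eq_one (Matrix.fromBlocks 0 (-1) 1 0) (by
        rw [Matrix.fromBlocks_multiply]; simp)
    exact ((Matrix.isUnit_iff_isUnit_det _).1 h).ne_zero
  · intro x
    simp only [Matrix.toBilin'_apply', Matrix.fromBlocks_mulVec, Matrix.zero_mulVec, zero_add,
      add_zero, Matrix.one_mulVec, Matrix.neg_mulVec, dotProduct, Fintype.sum_sum_type,
      Function.comp_apply, Sum.elim_inl, Sum.elim_inr, Pi.neg_apply, mul_neg, Finset.sum_neg_distrib]
    rw [← sub_eq_add_neg, sub_eq_zero]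
    exact Finset.sum_congr rfl fun i _ => mul_comm _ _
  · have h1 : M ^ (r - 1) * M = 1 := by rw [← pow_succ, Nat.sub_add_cancel hr, hMr]
    have h2 : M * M ^ (r - 1) = 1 := by rw [← pow_succ', Nat.sub_add_cancel hr, hMr]
    simp only [Matrix.fromBlocks_transpose, Matrix.fromBlocks_multiply, Matrix.transpose_zero,
      Matrix.transpose_transpose, mul_zero, zero_mul, mul_one, add_zero, zero_add, mul_neg, neg_mul, neg_zero]
    rw [← Matrix.transpose_mul, h1, Matrix.transpose_one]
  · have : ∀ k, (Matrix.fromBlocks M 0 0 (M ^ (r - 1))ᵀ) ^ k =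
        Matrix.fromBlocks (M ^ k) 0 0 ((M ^ (r - 1))ᵀ ^ k) := fun k => by
      induction k with
      | zero => simp [Matrix.fromBlocks_one]
      | succ k ih => rw [pow_succ, ih, Matrix.fromBlocks_multiply]; simp [pow_succ]
    rw [this, hMr, ← Matrix.transpose_pow, ← pow_mul, mul_comm, pow_mul, hMr, one_pow,
      Matrix.transpose_one, Matrix.fromBlocks_one]
  · rw [Matrix.charpoly_fromBlocks_zero₁₂, Matrix.charpoly_transpose, StarFactor.charpoly_comp p hp,
      Multiset.insert_eq_cons, Multiset.prod_cons, Multiset.prod_singleton]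
    congr 1
    rw [StarFactor.star, dif_pos hp.ne_zero]

variable [hr : Fact r.Prime]

omit hr in
/-- the trace form of a factor with a root conjugate to its inverse -/
theorem real_single' {p : F[X]} (hm : p.Monic) (hi : Irreducible p) (hd : p ∣ X ^ r - C 1) (hr1 : 1 ≤ r)
    (haev : aeval (AdjoinRoot.root p ^ (r - 1)) p = 0)
    (hne : AdjoinRoot.root p ^ (r - 1) ≠ AdjoinRoot.root p) : Real r {p} := by
  classical
  have : Fact (Irreducible p) := ⟨hi⟩
  have hp0 := hm.ne_zero
  have : Module.Finite F (AdjoinRoot p) := (AdjoinRoot.powerBasis hp0).finite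
  have : Finite (AdjoinRoot p) := Module.finite_of_finite F
  set z := AdjoinRoot.root p with hz
  let φ : AdjoinRoot p →ₐ[F] AdjoinRoot p :=
    AdjoinRoot.liftAlgHom p (Algebra.ofId F _) (z ^ (r - 1)) haev
  have hφ : φ z = z ^ (r - 1) := AdjoinRoot.liftAlgHom_root _ _ _ _
  let σ : AdjoinRoot p ≃ₐ[F] AdjoinRoot p :=
    AlgEquiv.ofBijective φ (Finite.injective_iff_bijective.1 φ.toRingHom.injective)
  have hσz : σ z = z ^ (r - 1) := hφ
  have hσσ : ∀ x, σ (σ x) = x := by
    have : φ.comp φ = AlgHom.id F _ := AdjoinRoot.algHom_ext (by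
      rw [AlgHom.comp_apply, hφ, map_pow, hφ,
        StarFactor.pow_sub_one_sq (StarFactor.root_pow r hd) hr1]
      rfl)
    exact fun x => congrArg (fun f : AdjoinRoot p →ₐ[F] AdjoinRoot p => f x) this
  set δ := z - σ z with hδ
  have hδ0 : δ ≠ 0 := by
    rw [hδ, hσz, sub_ne_zero]
    exact hne.symm
  have hzz : z * σ z = 1 := by
    rw [hσz, ← pow_succ', Nat.sub_add_cancel hr1, StarFactor.root_pow r hd]
  let bf : AdjoinRoot p →ₗ[F] AdjoinRoot p →ₗ[F] F :=
    ((LinearMap.mul F (AdjoinRoot p)).comp (LinearMap.mulLeft F δ)).compl₂ σ.toLinearMap |>.compr₂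
      (Algebra.trace F (AdjoinRoot p))
  have hbf : ∀ x y, bf x y = Algebra.trace F (AdjoinRoot p) (δ * x * σ y) := fun x y => rfl
  set b := (AdjoinRoot.powerBasis hp0).basis with hb
  let E : (Fin (AdjoinRoot.powerBasis hp0).dim → F) ≃ₗ[F] AdjoinRoot p := b.equivFun.symm
  let B : LinearMap.BilinForm F (Fin (AdjoinRoot.powerBasis hp0).dim → F) :=
    bf.compl₁₂ E.toLinearMap E.toLinearMap
  have hB : ∀ x y, B x y = bf (E x) (E y) := fun x y => rfl
  have hcompE : ∀ x, E (comp p hp0 *ᵥ x) = z * E x := by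
    intro x
    have h := Algebra.leftMulMatrix_mulVec_repr b z (E x)
    have hx : (b.repr (E x) : Fin _ → F) = x := E.symm_apply_apply x
    rw [hx] at h
    show E (Algebra.leftMulMatrix b z *ᵥ x) = z * E x
    rw [h]
    exact E.apply_symm_apply (z * E x)
  refine real_of_fintype (comp p hp0) (LinearMap.BilinForm.toMatrix' B) ?_ ?_ ?_
    (StarFactor.comp_pow r hp0 hd) (by rw [StarFactor.charpoly_comp p hm, Multiset.prod_singleton])
  · refine LinearMap.BilinForm.nondegenerate_toBilin'_iff_det_ne_zero.1 ?_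
    rw [Matrix.toBilin'_toMatrix']
    have hnd := traceForm_nondegenerate F (AdjoinRoot p)
    refine ⟨fun x hx => ?_, fun y hy => ?_⟩
    · have h1 : δ * E x = 0 := hnd.1 _ fun w => by
        have := hx (E.symm (σ w))
        rw [hB, hbf, E.apply_symm_apply, hσσ] at this
        exact this
      exact E.map_eq_zero_iff.1 ((mul_eq_zero.1 h1).resolve_left hδ0)
    · have h1 : σ (E y) = 0 := hnd.1 _ fun w => by
        have := hy (E.symm (δ⁻¹ * w))
        rw [hB, hbf, E.apply_symm_apply, ← mul_assoc, mul_inv_cancel₀ hδ0, one_mul,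
          mul_comm] at this
        exact this
      exact E.map_eq_zero_iff.1 (σ.injective (h1.trans (map_zero σ).symm))
  · intro x
    rw [Matrix.toBilin'_toMatrix', hB, hbf,
      show δ * E x * σ (E x) = z * (E x * σ (E x)) - σ (z * (E x * σ (E x))) by
        rw [map_mul, map_mul, hσσ, hδ]; ring,
      map_sub, Algebra.trace_eq_of_algEquiv, sub_self]
  · refine Matrix.toBilin'.injective (LinearMap.ext₂ fun x y => ?_)
    rw [JordanFormsType.toBilin_congr, Matrix.toBilin'_toMatrix', hB, hB, hbf, hbf, hcompE, hcompE,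
      map_mul σ]
    congr 1
    linear_combination (δ * E x * σ (E y)) * hzz

/-- the trace form of a self-inverse factor -/
theorem real_single (hri : (r : F) ≠ 0) (hr2 : r ≠ 2) {i : ℕ}
    (hdeg : ∀ x : F[X], Fac r x → x.natDegree = i) {p : F[X]} (hp : Fac r p)
    (hs : StarFactor.star r p = p) : Real r {p} := by
  have haev := StarFactor.aeval_star (r := r) hp.monic.ne_zero
  rw [hs] at haev
  refine real_single' hp.monic hp.irr hp.dvd hr.out.one_le haev fun e => ?_
  have := hp.primitive.pow_inj (show r - 1 < r by have := hr.out.pos; omega)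
    (show 1 < r from hr.out.one_lt) (by rwa [pow_one])
  have := hr.out.two_le
  omega

/-- a self-inverse multiset of factors of even total degree is realised -/
theorem real_of_invariant (hri : (r : F) ≠ 0) (hr2 : r ≠ 2) {i : ℕ}
    (hdeg : ∀ x : F[X], Fac r x → x.natDegree = i) (s : Multiset F[X])
    (hs : ∀ p ∈ s, p.Monic ∧ Irreducible p ∧ p ∣ X ^ r - C 1) (hinv : s.map (StarFactor.star r) = s)
    (hev : Even (s.map natDegree).sum) : Real r s := by
  classical
  induction hk : Multiset.card s using Nat.strong_induction_on generalizing s with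
  | _ k ih =>
  by_cases hall : ∀ p ∈ s, p = X - C 1
  · have hrep : s = Multiset.replicate (Multiset.card s) (X - C 1) :=
      Multiset.eq_replicate_card.2 hall
    rw [hrep] at hev
    rw [Multiset.map_replicate, natDegree_X_sub_C, Multiset.sum_replicate, smul_eq_mul, mul_one] at hev
    obtain ⟨c, hc⟩ := hev
    rw [hrep, hc]
    clear hc hrep hall hk
    induction c with
    | zero => exact Real.zero r
    | succ c ihc =>
      have h1 := real_pair (F := F) hr.out.one_le (monic_X_sub_C (1 : F))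
        (by rw [map_one]; exact sub_one_dvd_pow_sub_one _ _)
      rw [StarFactor.star_X_sub_one hri] at h1
      rw [show c + 1 + (c + 1) = (c + c) + 2 by omega, Multiset.replicate_add]
      exact ihc.add h1
  · push Not at hall
    obtain ⟨p, hp, hpne⟩ := hall
    have hpf : Fac r p := ⟨(hs p hp).1, (hs p hp).2.1, (hs p hp).2.2, hpne⟩
    obtain ⟨hsf, hss⟩ := hpf.star_fac hri hdeg
    have hs' : StarFactor.star r p ∈ s := by
      rw [← hinv]; exact Multiset.mem_map_of_mem _ hp
    by_cases hfix : StarFactor.star r p = p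
    · obtain ⟨t, rfl⟩ := Multiset.exists_cons_of_mem hp
      rw [Multiset.map_cons, hfix, Multiset.cons_inj_right] at hinv
      have hevi : Even i := (hpf.star_eq_iff hri hr2 hdeg).1 hfix
      rw [Multiset.map_cons, Multiset.sum_cons, hdeg p hpf, Nat.even_add] at hev
      have h1 := ih (Multiset.card t) (by rw [← hk, Multiset.card_cons]; omega) t
        (fun x hx => hs x (Multiset.mem_cons_of_mem hx)) hinv (hev.1 hevi) rfl
      rw [← Multiset.singleton_add]
      exact (real_single hri hr2 hdeg hpf hfix).add h1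
    · obtain ⟨t, rfl⟩ := Multiset.exists_cons_of_mem hp
      obtain ⟨t', rfl⟩ := Multiset.exists_cons_of_mem
        ((Multiset.mem_cons.1 hs').resolve_left hfix)
      rw [Multiset.map_cons, Multiset.map_cons, hss, Multiset.cons_swap, Multiset.cons_inj_right,
        Multiset.cons_inj_right] at hinv
      rw [Multiset.map_cons, Multiset.map_cons, Multiset.sum_cons, Multiset.sum_cons,
        hdeg p hpf, hdeg _ hsf, ← add_assoc, Nat.even_add] at hev
      have h1 := ih (Multiset.card t')
        (by rw [← hk, Multiset.card_cons, Multiset.card_cons]; omega) t'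
        (fun x hx => hs x (Multiset.mem_cons_of_mem (Multiset.mem_cons_of_mem hx))) hinv
        (hev.1 ⟨i, rfl⟩) rfl
      rw [show p ::ₘ StarFactor.star r p ::ₘ t' = ({p, StarFactor.star r p} : Multiset F[X]) + t' by
        simp [Multiset.insert_eq_cons]]
      exact (real_pair hr.out.one_le hpf.monic hpf.dvd).add h1

omit hr in
/-- isometry groups of alternating forms move into the standard symplectic group -/
theorem exists_transport {m : ℕ} {ι : Type*} [Fintype ι] [DecidableEq ι] (G : Matrix ι ι F)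
    (hG : G.det ≠ 0) (halt : (Matrix.toBilin' G).IsAlt) (hι : Fintype.card ι = 2 * m) :
    ∃ φ : Matrix ι ι F ≃ₐ[F] Matrix (Fin m ⊕ Fin m) (Fin m ⊕ Fin m) F,
      (∀ A, Aᵀ * G * A = G → φ A ∈ Matrix.symplecticGroup (Fin m) F) ∧
        ∀ A, (φ A).charpoly = A.charpoly := by
  classical
  let e : ι ≃ Fin m ⊕ Fin m := (Fintype.equivFin ι).trans
    ((finCongr (hι.trans (two_mul m))).trans finSumFinEquiv.symm)
  set G₀ := Matrix.reindex e e G with hG₀
  have hG₀det : G₀.det ≠ 0 := by rw [hG₀, Matrix.det_reindex_self]; exact hG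
  have halt₀ : (Matrix.toBilin' G₀).IsAlt := fun x => by
    rw [hG₀, Matrix.reindex_apply, JordanFormsType.toBilin_reindex]; exact halt _
  obtain ⟨b, hb1, hb2, hb3⟩ := Cfsg.Agent.Forms.Bases.exists_sympBasis (Matrix.toBilin' G₀) halt₀
    (LinearMap.BilinForm.nondegenerate_toBilin'_iff_det_ne_zero.2 hG₀det) (m := m)
    (by rw [Module.finrank_pi, Fintype.card_sum, Fintype.card_fin]; omega)
  let P : Matrix (Fin m ⊕ Fin m) (Fin m ⊕ Fin m) F := Matrix.of fun x a => b a.swap x
  have hP : ∀ a, P *ᵥ Pi.single a 1 = b a.swap := fun a => by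
    rw [Matrix.mulVec_single_one]; rfl
  have hPG : Pᵀ * G₀ * P = Matrix.J (Fin m) F := by
    ext a c
    rw [← Matrix.toBilin'_single (Pᵀ * G₀ * P) a c, JordanFormsType.toBilin_congr, hP, hP]
    rcases a with i | i <;> rcases c with j | j <;>
      simp only [Sum.swap_inl, Sum.swap_inr, hb1, hb2, hb3, Matrix.J, Matrix.fromBlocks_apply₁₁,
        Matrix.fromBlocks_apply₁₂, Matrix.fromBlocks_apply₂₁, Matrix.fromBlocks_apply₂₂,
        Matrix.zero_apply, Matrix.neg_apply, Matrix.one_apply]
    rw [← LinearMap.BilinForm.IsAlt.neg_eq halt₀, hb1]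
    simp only [eq_comm]
  have hPdet : IsUnit P.det := isUnit_iff_ne_zero.2 fun h0 =>
    (Matrix.isUnit_det_J (Fin m) F).ne_zero (by rw [← hPG, Matrix.det_mul, h0, mul_zero])
  let u : (Matrix (Fin m ⊕ Fin m) (Fin m ⊕ Fin m) F)ˣ :=
    ((Matrix.isUnit_iff_isUnit_det P).2 hPdet).unit
  have hu : (u : Matrix (Fin m ⊕ Fin m) (Fin m ⊕ Fin m) F) = P := rfl
  let cj : Matrix (Fin m ⊕ Fin m) (Fin m ⊕ Fin m) F ≃ₐ[F] Matrix (Fin m ⊕ Fin m) (Fin m ⊕ Fin m) F :=
    MulSemiringAction.toAlgEquiv F _ (ConjAct.toConjAct u⁻¹)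
  have hcj : ∀ X, cj X = (↑u⁻¹ : Matrix (Fin m ⊕ Fin m) (Fin m ⊕ Fin m) F) * X * P := fun X => by
    show ConjAct.toConjAct u⁻¹ • X = _
    rw [ConjAct.units_smul_def, ConjAct.ofConjAct_toConjAct, inv_inv, hu]
  refine ⟨(Matrix.reindexAlgEquiv F F e).trans cj, fun A hA => ?_, fun A => ?_⟩
  · set A₀ := Matrix.reindexAlgEquiv F F e A with hA₀
    have hA₀G : A₀ᵀ * G₀ * A₀ = G₀ := by
      rw [hA₀, hG₀]
      simp only [Matrix.reindexAlgEquiv_apply, Matrix.reindex_apply, Matrix.transpose_submatrix,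
        Matrix.submatrix_mul_equiv, hA]
    rw [AlgEquiv.trans_apply, hcj, ← hA₀]
    have hPA : P * ((↑u⁻¹ : Matrix (Fin m ⊕ Fin m) (Fin m ⊕ Fin m) F) * A₀ * P) = A₀ * P := by
      rw [← hu]; simp [mul_assoc]
    rw [SymplecticGroup.mem_iff']
    conv_lhs => rw [← hPG]
    calc _ = (P * ((↑u⁻¹ : Matrix (Fin m ⊕ Fin m) (Fin m ⊕ Fin m) F) * A₀ * P))ᵀ * G₀ * (P * ((↑u⁻¹ : Matrix (Fin m ⊕ Fin m) (Fin m ⊕ Fin m) F) * A₀ * P)) := by
          simp only [Matrix.transpose_mul, mul_assoc]
      _ = Pᵀ * (A₀ᵀ * G₀ * A₀) * P := by rw [hPA]; simp only [Matrix.transpose_mul, mul_assoc]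
      _ = _ := by rw [hA₀G, hPG]
  · rw [AlgEquiv.trans_apply, hcj, Matrix.charpoly_mul_comm, ← hu, ← mul_assoc, Units.mul_inv, one_mul,
      Matrix.reindexAlgEquiv_apply, Matrix.charpoly_reindex]

omit hr in
/-- in the standard symplectic group -/
theorem exists_symplectic {m : ℕ} {s : Multiset F[X]} (h : Real r s)
    (hdim : s.prod.natDegree = 2 * m) :
    ∃ A : Matrix.symplecticGroup (Fin m) F, A ^ r = 1 ∧
      (A : Matrix (Fin m ⊕ Fin m) (Fin m ⊕ Fin m) F).charpoly = s.prod := by
  classical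
  obtain ⟨n, A, G, hG, halt, hA, hAr, hAc⟩ := h
  obtain ⟨φ, hφ, hφc⟩ := exists_transport (m := m) G hG halt
    (by rw [← hdim, ← hAc, Matrix.charpoly_natDegree_eq_dim])
  refine ⟨⟨φ A, hφ A hA⟩, Subtype.ext ?_, (hφc A).trans hAc⟩
  show φ A ^ r = 1
  rw [← map_pow, hAr, map_one]

omit hr in
/-- an even number of fixed eigenvalues -/
theorem real_ones (hr1 : 1 ≤ r) (hri : (r : F) ≠ 0) (c : ℕ) :
    Real r (Multiset.replicate (2 * c) (X - C (1 : F))) := by
  induction c with
  | zero => exact Real.zero r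
  | succ c ihc =>
    have h1 := real_pair (F := F) hr1 (monic_X_sub_C (1 : F))
      (by rw [map_one]; exact sub_one_dvd_pow_sub_one _ _)
    rw [StarFactor.star_X_sub_one hri] at h1
    rw [show 2 * (c + 1) = 2 * c + 2 by omega, Multiset.replicate_add]
    exact ihc.add h1

end Cfsg.Agent.Classical.SympRealise
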