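import Mathlib
import Cfsg.Agent.Lib.Classical.SympRealise
import Cfsg.Agent.Lib.Classical.Symplectic
import Cfsg.Agent.Lib.Classical.SpectrumFactors
import Cfsg.Agent.S2586

/-!
# Eigenvalues of symplectic elements come in inverse pairs
-/

set_option autoImplicit false

namespace Cfsg.Agent.Classical.SpectrumSymp

open Polynomial Module
open scoped Matrix

universe u

variable {F : Type u} [Field F] [Fintype F]

theorem center_coprime {n m : ℕ} (hn : 1 ≤ n) (hm : Odd m ∨ m.Coprime (Fintype.card F - 1)) :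
    m.Coprime (Nat.card (Subgroup.center (Matrix.symplecticGroup (Fin n) F))) := by
  rw [Cfsg.Agent.Classical.Symplectic.natCard_center hn]
  rcases hm with hm | hm
  · exact (Nat.coprime_two_right.2 hm).coprime_dvd_right (Nat.gcd_dvd_left _ _)
  · exact hm.coprime_dvd_right (Nat.gcd_dvd_right _ _)

omit [Fintype F] in
theorem mem_center_iff {n : ℕ} (A : Matrix.symplecticGroup (Fin n) F) :
    A ∈ Subgroup.center (Matrix.symplecticGroup (Fin n) F) ↔
      ∃ c : F, (A : Matrix (Fin n ⊕ Fin n) (Fin n ⊕ Fin n) F) = c • 1 := by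
  rw [Cfsg.Agent.Classical.Symplectic.mem_center_iff]
  refine exists_congr fun c => ⟨fun h => Matrix.ext fun i j => ?_, fun h v => by
    rw [h, Matrix.smul_mulVec, Matrix.one_mulVec]⟩
  have := congrFun (h (Pi.single j 1)) i
  rw [Matrix.mulVec_single_one] at this
  rw [Matrix.smul_apply, Matrix.one_apply]
  simpa [Pi.single_apply] using this

theorem primitive_root {d : ℕ} (hd : (d : F) ≠ 0) {x : F[X]} (hx : Irreducible x)
    (hxd : x ∣ cyclotomic d F) : IsPrimitiveRoot (AdjoinRoot.root x) d := by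
  have : Fact (Irreducible x) := ⟨hx⟩
  have hd' : ((d : ℕ) : AdjoinRoot x) ≠ 0 := by
    rw [← map_natCast (algebraMap F (AdjoinRoot x))]
    exact (map_ne_zero_iff _ (algebraMap F (AdjoinRoot x)).injective).2 hd
  have : NeZero ((d : ℕ) : AdjoinRoot x) := ⟨hd'⟩
  rw [← isRoot_cyclotomic_iff, ← map_cyclotomic d (algebraMap F (AdjoinRoot x)), IsRoot,
    eval_map, ← aeval_def, AdjoinRoot.aeval_eq]
  exact AdjoinRoot.mk_eq_zero.2 hxd

theorem pow_eq_inv_iff {M : Type*} [CommMonoid M] {z : M} {d k a : ℕ} (hz : IsPrimitiveRoot z d) (hd : 0 < d)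
    (hdk : d ∣ k) (hk : 0 < k) : z ^ (k - 1) = z ^ a ↔ (a : ZMod d) = -1 := by
  have hfin : IsOfFinOrder z := isOfFinOrder_iff_pow_eq_one.2 ⟨d, hd, hz.pow_eq_one⟩
  rw [hfin.pow_eq_pow_iff_modEq, ← hz.eq_orderOf, ← ZMod.natCast_eq_natCast_iff,
    Nat.cast_sub hk, (ZMod.natCast_eq_zero_iff k d).2 hdk, Nat.cast_one, zero_sub, eq_comm]

/-- if `q ^ j ≡ -1 (mod d)`, the inverse of the root is a conjugate -/
theorem aeval_inv {d k j : ℕ} (hd : (d : F) ≠ 0) (hdk : d ∣ k) (hk : 0 < k) {x : F[X]}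
    (hx : Irreducible x) (hxd : x ∣ cyclotomic d F)
    (hj : ((Fintype.card F : ℕ) : ZMod d) ^ j = -1) :
    aeval (AdjoinRoot.root x ^ (k - 1)) x = 0 := by
  have : Fact (Irreducible x) := ⟨hx⟩
  have : Module.Finite F (AdjoinRoot x) := (AdjoinRoot.powerBasis hx.ne_zero).finite
  have hd0 : 0 < d := Nat.pos_of_dvd_of_pos hdk hk
  rw [(pow_eq_inv_iff (primitive_root hd hx hxd) hd0 hdk hk (a := Fintype.card F ^ j)).2
    (by rw [Nat.cast_pow]; exact hj)]
  have h := Polynomial.aeval_algHom_apply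
    (FiniteField.frobeniusAlgEquivOfAlgebraic F (AdjoinRoot x) ^ j) (AdjoinRoot.root x) x
  rw [AdjoinRoot.aeval_eq, AdjoinRoot.mk_self, map_zero, AlgEquiv.coe_pow,
    FiniteField.coe_frobeniusAlgEquivOfAlgebraic_iterate] at h
  exact h

theorem exists_neg_one {d k : ℕ} (hd : (d : F) ≠ 0) (hdk : d ∣ k) (hk : 0 < k) {x : F[X]}
    (hx : Irreducible x) (hxd : x ∣ cyclotomic d F)
    (h : aeval (AdjoinRoot.root x ^ (k - 1)) x = 0) :
    ∃ j, ((Fintype.card F : ℕ) : ZMod d) ^ j = -1 := by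
  have : Fact (Irreducible x) := ⟨hx⟩
  have : Module.Finite F (AdjoinRoot x) := (AdjoinRoot.powerBasis hx.ne_zero).finite
  let φ : AdjoinRoot x →ₐ[F] AdjoinRoot x :=
    AdjoinRoot.liftAlgHom x (Algebra.ofId F _) (AdjoinRoot.root x ^ (k - 1)) h
  have hφ : φ (AdjoinRoot.root x) = AdjoinRoot.root x ^ (k - 1) := AdjoinRoot.liftAlgHom_root _ _ _ _
  have : Finite (AdjoinRoot x) := Module.finite_of_finite F
  obtain ⟨⟨j, hj⟩, he⟩ := (FiniteField.bijective_frobeniusAlgEquivOfAlgebraic_pow F (AdjoinRoot x)).2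
    (AlgEquiv.ofBijective φ (Finite.injective_iff_bijective.1 φ.toRingHom.injective))
  have h2 := congrArg (fun f : AdjoinRoot x ≃ₐ[F] AdjoinRoot x => f (AdjoinRoot.root x)) he
  simp only [AlgEquiv.coe_pow, FiniteField.coe_frobeniusAlgEquivOfAlgebraic_iterate] at h2
  refine ⟨j, ?_⟩
  have h3 := (pow_eq_inv_iff (primitive_root hd hx hxd) (Nat.pos_of_dvd_of_pos hdk hk) hdk hk
    (a := Fintype.card F ^ j)).1 (hφ.symm.trans h2.symm)
  rwa [Nat.cast_pow] at h3

/-- the eigenvalues of a symplectic element are closed under inversion -/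
theorem aeval_inv_charpoly {n k : ℕ} (hk : (k : F) ≠ 0) {g : Matrix.symplecticGroup (Fin n) F}
    (hg : g ^ k = 1) {x : F[X]} (hxm : x.Monic) (hx : Irreducible x)
    (hxA : x ∣ (g : Matrix (Fin n ⊕ Fin n) (Fin n ⊕ Fin n) F).charpoly) :
    aeval (AdjoinRoot.root x ^ (k - 1)) (g : Matrix (Fin n ⊕ Fin n) (Fin n ⊕ Fin n) F).charpoly = 0 := by
  classical
  let φ := Matrix.reindexAlgEquiv F F (finSumFinEquiv : Fin n ⊕ Fin n ≃ Fin (n + n))
  have hφc : ∀ M, (φ M).charpoly = M.charpoly := fun M => Matrix.charpoly_reindex _ M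
  set A := (g : Matrix (Fin n ⊕ Fin n) (Fin n ⊕ Fin n) F) with hA
  have hAk : φ A ^ k = 1 := by
    rw [← map_pow, show A ^ k = 1 from congrArg Subtype.val hg, map_one]
  obtain ⟨s, hs, hAs⟩ := PowScalarClasses.admissible_factors hk one_ne_zero (A := φ A)
    (by rw [one_smul, hAk])
  have hinv := StarFactor.charpoly_inv_of hk hAk hs hAs
  rw [← map_pow, hφc] at hinv
  have hxs : x ∈ s := by
    obtain ⟨z, hz, hxz⟩ := hx.prime.exists_mem_multiset_dvd (show x ∣ s.prod by rw [← hAs, hφc]; exact hxA)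
    exact eq_of_monic_of_associated hxm (hs.1 z hz).1 (hx.associated_of_dvd (hs.1 z hz).2.1 hxz) ▸ hz
  have hconj : A.charpoly = (A ^ (k - 1)).charpoly := by
    have h := Cfsg.Agent.S2586.result g
    have hgi : g⁻¹ = g ^ (k - 1) := inv_eq_of_mul_eq_one_left (by
      rw [← pow_succ, Nat.sub_add_cancel (Nat.one_le_iff_ne_zero.2 fun e => hk (by rw [e, Nat.cast_zero])), hg])
    rw [hgi] at h
    obtain ⟨c, hc⟩ := h
    rw [← Matrix.charpoly_units_conj c A, ← Matrix.coe_units_inv, hc.eq, mul_assoc, Units.mul_inv, mul_one]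
    rfl
  rw [hconj, hinv]
  obtain ⟨y, hy⟩ := Multiset.dvd_prod (Multiset.mem_map_of_mem (StarFactor.star k) hxs)
  rw [hy, map_mul, StarFactor.aeval_star hx.ne_zero, zero_mul]

/-- the factor of the inverse eigenvalues -/
theorem exists_partner {n k d : ℕ} (hk : (k : F) ≠ 0) {g : Matrix.symplecticGroup (Fin n) F}
    (hg : g ^ k = 1) {x : F[X]} (hxm : x.Monic) (hx : Irreducible x)
    (hxA : x ∣ (g : Matrix (Fin n ⊕ Fin n) (Fin n ⊕ Fin n) F).charpoly) (hdk : d ∣ k)
    (hxd : x ∣ cyclotomic d F) :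
    ∃ y : F[X], y.Monic ∧ Irreducible y ∧
      y ∣ (g : Matrix (Fin n ⊕ Fin n) (Fin n ⊕ Fin n) F).charpoly ∧ y ∣ cyclotomic d F ∧
      (y = x → ∃ j, ((Fintype.card F : ℕ) : ZMod d) ^ j = -1) := by
  have : Fact (Irreducible x) := ⟨hx⟩
  have : Module.Finite F (AdjoinRoot x) := (AdjoinRoot.powerBasis hx.ne_zero).finite
  have hk0 : 0 < k := Nat.pos_of_ne_zero fun e => hk (by rw [e, Nat.cast_zero])
  have hd : (d : F) ≠ 0 := fun h => hk (by
    obtain ⟨c, hc⟩ := hdk; rw [hc, Nat.cast_mul, h, zero_mul])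
  have hint : IsIntegral F (AdjoinRoot.root x ^ (k - 1)) := IsIntegral.of_finite F _
  refine ⟨minpoly F (AdjoinRoot.root x ^ (k - 1)), minpoly.monic hint, minpoly.irreducible hint,
    minpoly.dvd F _ (aeval_inv_charpoly hk hg hxm hx hxA), minpoly.dvd F _ ?_, fun e => ?_⟩
  · rw [aeval_def, ← eval_map, map_cyclotomic]
    have hcop : (k - 1).Coprime d := by
      have h1 : (k - 1).Coprime k := by
        obtain ⟨c, rfl⟩ : ∃ c, k = c + 1 := ⟨k - 1, by omega⟩
        simp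
      exact h1.coprime_dvd_right hdk
    exact ((primitive_root hd hx hxd).pow_of_coprime _ hcop).isRoot_cyclotomic
      (Nat.pos_of_dvd_of_pos hdk hk0)
  · refine exists_neg_one hd hdk hk0 hx hxd ?_
    have := minpoly.aeval F (AdjoinRoot.root x ^ (k - 1))
    rwa [e] at this

end Cfsg.Agent.Classical.SpectrumSymp
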