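import Mathlib
import Cfsg.Agent.Lib.Classical.Linear

/-!
# Permutation models of small linear groups from a finite set of objects
-/

namespace Cfsg.Agent.Classical.PermModel

open Matrix

set_option linter.unusedSectionVars false

/-- A group of bijections of finitely many objects gives a homomorphism, as soon as each member of a
generating set permutes the objects like some element of `H`. -/
theorem exists_hom_of_objects {G X ι H : Type*} [Group G] [Group H] (act : G → X → X)
    (act_one : ∀ x, act 1 x = x) (act_mul : ∀ g h x, act (g * h) x = act g (act h x))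
    (η : H → ι → ι) (η_one : ∀ i, η 1 i = i) (η_mul : ∀ a b i, η (a * b) i = η a (η b i))
    (faithful : ∀ a b, (∀ i, η a i = η b i) → a = b)
    (P : ι → X) (hP : Function.Injective P) (S : Set G) (hgen : Subgroup.closure S = ⊤)
    (h : ∀ s ∈ S, ∃ a, ∀ i, act s (P i) = P (η a i)) :
    ∃ f : G →* H, ∀ g i, act g (P i) = P (η (f g) i) := by
  have key : ∀ g : G, ∃ a, ∀ i, act g (P i) = P (η a i) := by
    intro g
    have hg : g ∈ Subgroup.closure S := hgen ▸ Subgroup.mem_top g
    induction hg using Subgroup.closure_induction with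
    | mem x hx => exact h x hx
    | one => exact ⟨1, fun i => by rw [act_one, η_one]⟩
    | mul x y _ _ hx hy =>
      obtain ⟨a, ha⟩ := hx
      obtain ⟨b, hb⟩ := hy
      exact ⟨a * b, fun i => by rw [act_mul, hb, ha, η_mul]⟩
    | inv x _ hx =>
      obtain ⟨a, ha⟩ := hx
      refine ⟨a⁻¹, fun i => ?_⟩
      have := ha (η a⁻¹ i)
      rw [← η_mul, mul_inv_cancel, η_one] at this
      rw [← this, ← act_mul, inv_mul_cancel, act_one]
  choose f hf using key
  refine ⟨MonoidHom.mk' f fun g k => faithful _ _ fun i => hP ?_, hf⟩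
  rw [← hf, act_mul, hf, hf, ← η_mul]

variable {n : Type*} [Fintype n] [DecidableEq n] {R : Type*} [CommRing R] [DecidableEq R]

/-- The two-sided action of a group element on a finite set of matrices. -/
def setAct (τ : Matrix.SpecialLinearGroup n R → Matrix n n R) (g : Matrix.SpecialLinearGroup n R)
    (s : Finset (Matrix n n R)) : Finset (Matrix n n R) :=
  s.image fun x => g.1 * x * τ g

theorem setAct_mul (τ : Matrix.SpecialLinearGroup n R → Matrix n n R)
    (hτ : ∀ g h, τ (g * h) = τ h * τ g) (g h : Matrix.SpecialLinearGroup n R)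
    (s : Finset (Matrix n n R)) : setAct τ (g * h) s = setAct τ g (setAct τ h s) := by
  rw [setAct, setAct, setAct, Finset.image_image]
  refine Finset.image_congr fun x _ => ?_
  show (g * h).1 * x * τ (g * h) = g.1 * (h.1 * x * τ h) * τ g
  rw [hτ, show (g * h).1 = g.1 * h.1 from rfl]
  simp only [Matrix.mul_assoc]

theorem setAct_eq_self (τ : Matrix.SpecialLinearGroup n R → Matrix n n R)
    (z : Matrix.SpecialLinearGroup n R) (h : ∀ x : Matrix n n R, z.1 * x * τ z = x)
    (s : Finset (Matrix n n R)) : setAct τ z s = s := by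
  rw [setAct, Finset.image_congr (fun x _ => h x), Finset.image_id']

/-- Inverse of a two by two special linear matrix, explicitly. -/
def adj2 (g : Matrix.SpecialLinearGroup (Fin 2) R) : Matrix (Fin 2) (Fin 2) R :=
  !![g.1 1 1, -g.1 0 1; -g.1 1 0, g.1 0 0]

theorem adj2_eq (g : Matrix.SpecialLinearGroup (Fin 2) R) :
    adj2 g = ((g⁻¹ : Matrix.SpecialLinearGroup (Fin 2) R) : Matrix (Fin 2) (Fin 2) R) := by
  rw [Matrix.SpecialLinearGroup.coe_inv, Matrix.adjugate_fin_two]; rfl

theorem adj2_mul (g h : Matrix.SpecialLinearGroup (Fin 2) R) :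
    adj2 (g * h) = adj2 h * adj2 g := by
  rw [adj2_eq, adj2_eq, adj2_eq, _root_.mul_inv_rev, Matrix.SpecialLinearGroup.coe_mul]

theorem adj2_center (z : Matrix.SpecialLinearGroup (Fin 2) R)
    (hz : z ∈ Subgroup.center (Matrix.SpecialLinearGroup (Fin 2) R))
    (x : Matrix (Fin 2) (Fin 2) R) : z.1 * x * adj2 z = x := by
  obtain ⟨r, -, hr⟩ := Matrix.SpecialLinearGroup.mem_center_iff.1 hz
  rw [← hr, (Matrix.scalar_commute r (fun r' => Commute.all r r') x).eq, hr, adj2_eq, Matrix.mul_assoc]
  have : z.1 * (z⁻¹).1 = (1 : Matrix (Fin 2) (Fin 2) R) := congrArg Subtype.val (mul_inv_cancel z)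
  rw [this, Matrix.mul_one]

/-- An embedding of a simple `PSL` from conjugation on a finite family of finite sets of matrices. -/
theorem exists_injective_hom {F : Type*} [Field F] [DecidableEq F] {H ι : Type*} [Group H]
    (η : H → ι → ι) (η_one : ∀ i, η 1 i = i) (η_mul : ∀ a b i, η (a * b) i = η a (η b i))
    (faithful : ∀ a b, (∀ i, η a i = η b i) → a = b)
    (τ : Matrix.SpecialLinearGroup n F → Matrix n n F) (hτ : ∀ g h, τ (g * h) = τ h * τ g)
    (hτc : ∀ z ∈ Subgroup.center (Matrix.SpecialLinearGroup n F), ∀ x, z.1 * x * τ z = x)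
    (P : ι → Finset (Matrix n n F)) (hP : Function.Injective P)
    (S : Set (Matrix.SpecialLinearGroup n F)) (hgen : Subgroup.closure S = ⊤)
    (h : ∀ s ∈ S, ∃ a, ∀ i, setAct τ s (P i) = P (η a i))
    (hs : IsSimpleGroup (Matrix.ProjectiveSpecialLinearGroup n F))
    (hmove : ∃ g i, setAct τ g (P i) ≠ P i) :
    ∃ f : Matrix.ProjectiveSpecialLinearGroup n F →* H, Function.Injective f := by
  obtain ⟨f, hf⟩ := exists_hom_of_objects (setAct τ)
    (fun x => setAct_eq_self τ 1 (hτc 1 (one_mem _)) x) (setAct_mul τ hτ) η η_one η_mul faithful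
    P hP S hgen h
  have hker : Subgroup.center (Matrix.SpecialLinearGroup n F) ≤ f.ker := by
    intro z hz
    refine faithful _ _ fun i => hP ?_
    rw [← hf, η_one, setAct_eq_self τ z (hτc z hz)]
  refine ⟨QuotientGroup.lift _ f hker, ?_⟩
  rw [← MonoidHom.ker_eq_bot_iff]
  refine (hs.eq_bot_or_eq_top_of_normal _ inferInstance).resolve_right fun htop => ?_
  obtain ⟨g, i, hgi⟩ := hmove
  have hg1 : f g = 1 := by
    have : (g : Matrix.ProjectiveSpecialLinearGroup n F) ∈ (QuotientGroup.lift _ f hker).ker :=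
      htop ▸ Subgroup.mem_top _
    exact this
  exact hgi (by rw [hf, hg1, η_one])

theorem closure_of_unit_transvections {F : Type*} [Field F] (T : Set F)
    (hT : ∀ c : F, c ∈ AddSubgroup.closure T) :
    Subgroup.closure {g : Matrix.SpecialLinearGroup n F | ∃ (i j : n) (h : i ≠ j) (c : F), c ∈ T ∧
      g = Matrix.SpecialLinearGroup.transvection h c} = ⊤ := by
  refine Linear.eq_top_of_transvection_mem _ fun i j hij c => ?_
  induction hT c using AddSubgroup.closure_induction with
  | mem x hx => exact Subgroup.subset_closure ⟨i, j, hij, x, hx, rfl⟩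
  | zero => rw [Matrix.SpecialLinearGroup.transvection_coeff_zero]; exact one_mem _
  | add x y _ _ hx hy => rw [Matrix.SpecialLinearGroup.transvection_add]; exact mul_mem hx hy
  | neg x _ hx => rw [← Matrix.SpecialLinearGroup.transvection_inv]; exact inv_mem hx

theorem mem_addClosure_one {p : ℕ} (c : ZMod p) : c ∈ AddSubgroup.closure ({1} : Set (ZMod p)) := by
  obtain ⟨k, rfl⟩ := ZMod.intCast_surjective c
  rw [AddSubgroup.mem_closure_singleton]
  exact ⟨k, by simp⟩

theorem closure_zmod_transvections (p : ℕ) [Fact p.Prime] :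
    Subgroup.closure {g : Matrix.SpecialLinearGroup n (ZMod p) | ∃ (i j : n) (h : i ≠ j),
      g = Matrix.SpecialLinearGroup.transvection h 1} = ⊤ := by
  rw [eq_top_iff, ← closure_of_unit_transvections ({1} : Set (ZMod p)) mem_addClosure_one]
  refine Subgroup.closure_mono ?_
  rintro g ⟨i, j, h, c, rfl, rfl⟩
  exact ⟨i, j, h, rfl⟩

end Cfsg.Agent.Classical.PermModel
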