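import Mathlib

/-!
# Eigenvalues of three by three unitary matrices of determinant one: exponent bookkeeping
-/

namespace Cfsg.Agent.Classical.PSUThree

open Polynomial

theorem gcd_facts (q : ℕ) (hq : 2 ≤ q) :
    Nat.gcd 3 (q + 1) ∣ q + 1 ∧ Nat.gcd 3 (q + 1) ∣ q - 2 ∧ Nat.gcd 3 (q + 1) ∣ q ^ 2 - 1 ∧
      Nat.gcd 3 (q + 1) ∣ q ^ 2 - q + 1 := by
  have h1 := Nat.gcd_dvd_right 3 (q + 1)
  have h3 := Nat.gcd_dvd_left 3 (q + 1)
  obtain ⟨k, rfl⟩ : ∃ k, q = k + 2 := ⟨q - 2, by omega⟩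
  have h2 : Nat.gcd 3 (k + 2 + 1) ∣ k := by
    have := Nat.dvd_sub h1 h3
    simpa using this
  refine ⟨h1, by simpa using h2, ?_, ?_⟩
  · rw [show (k + 2) ^ 2 - 1 = (k + 3) * (k + 1) by
      rw [Nat.sub_eq_iff_eq_add (Nat.one_le_pow _ _ (by omega))]; ring]
    exact h1.mul_right _
  · rw [show (k + 2) ^ 2 - (k + 2) + 1 = k * (k + 3) + 3 by
      have : k + 2 ≤ (k + 2) ^ 2 := Nat.le_self_pow (by norm_num) _
      zify [this]; ring]
    exact dvd_add (h1.mul_left _) h3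

theorem dvd_of_mul_gcd {A k q : ℕ} (h : A ∣ k * Nat.gcd 3 (q + 1))
    (hd : Nat.gcd 3 (q + 1) ∣ A) : A / Nat.gcd 3 (q + 1) ∣ k := by
  have hpos : 0 < Nat.gcd 3 (q + 1) := Nat.gcd_pos_of_pos_left _ (by norm_num)
  obtain ⟨B, rfl⟩ := hd
  rw [Nat.mul_div_cancel_left _ hpos]
  rw [mul_comm k] at h
  exact Nat.dvd_of_mul_dvd_mul_left hpos h

/-- the three arithmetical lower bounds -/
theorem lower_singer {q k : ℕ} (hq : 2 ≤ q) (h : q ^ 2 - q + 1 ∣ k * (q + 1)) :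
    (q ^ 2 - q + 1) / Nat.gcd 3 (q + 1) ∣ k := by
  apply dvd_of_mul_gcd _ (gcd_facts q hq).2.2.2
  rw [← Nat.gcd_mul_left]
  refine Nat.dvd_gcd ?_ h
  obtain ⟨j, rfl⟩ : ∃ j, q = j + 2 := ⟨q - 2, by omega⟩
  have e : (j + 2) ^ 2 - (j + 2) + 1 = j * (j + 2 + 1) + 3 := by
    have : j + 2 ≤ (j + 2) ^ 2 := Nat.le_self_pow (by norm_num) _
    zify [this]; ring
  rw [e] at h ⊢
  have h' : j * (j + 2 + 1) + 3 ∣ k * (j * (j + 2 + 1) + 3) := Dvd.intro_left k rfl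
  rw [show k * (j * (j + 2 + 1) + 3) = j * (k * (j + 2 + 1)) + k * 3 by ring] at h'
  exact (Nat.dvd_add_right (h.mul_left j)).1 h'

theorem lower_split {q k : ℕ} (hq : 2 ≤ q) (h1 : q ^ 2 - 1 ∣ k * (q + 1))
    (h2 : q ^ 2 - 1 ∣ k * (q - 2)) : (q ^ 2 - 1) / Nat.gcd 3 (q + 1) ∣ k := by
  apply dvd_of_mul_gcd _ (gcd_facts q hq).2.2.1
  rw [← Nat.gcd_mul_left]
  refine Nat.dvd_gcd ?_ h1
  have : q ^ 2 - 1 ∣ k * (q + 1) - k * (q - 2) := Nat.dvd_sub h1 h2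
  rwa [← Nat.mul_sub, show q + 1 - (q - 2) = 3 by omega] at this

theorem lower_unip {q k : ℕ} (hq : 2 ≤ q) (h : q + 1 ∣ 3 * k) :
    (q + 1) / Nat.gcd 3 (q + 1) ∣ k := by
  apply dvd_of_mul_gcd _ (gcd_facts q hq).1
  rw [← Nat.gcd_mul_left]
  exact Nat.dvd_gcd (by rwa [mul_comm]) (Dvd.intro_left k rfl)

variable {Ω : Type*} [Field Ω] {q : ℕ}

theorem ne_zero_of_mul {x y : Ω} (h : x * y = 1) : x ≠ 0 ∧ y ≠ 0 :=
  ⟨left_ne_zero_of_mul_eq_one h, right_ne_zero_of_mul_eq_one h⟩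

theorem pow_eq_one_of_dvd {x : Ω} {a b : ℕ} (h : x ^ a = 1) (hd : a ∣ b) : x ^ b = 1 := by
  obtain ⟨c, rfl⟩ := hd; rw [pow_mul, h, one_pow]

/-- if `y` is the conjugate of `x` and `x ^ ((q+1)N) = 1` then `y ^ N = x ^ N` -/
theorem conj_pow_eq {x y : Ω} (h : y * x ^ q = 1) {N : ℕ} (hN : x ^ ((q + 1) * N) = 1) :
    y ^ N = x ^ N := by
  have h1 : (y * x ^ q) ^ N = 1 := by rw [h, one_pow]
  rw [mul_pow, ← pow_mul] at h1
  have h2 : x ^ N * x ^ (q * N) = 1 := by rw [← pow_add, ← hN]; ring_nf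
  have hx : x ^ (q * N) ≠ 0 := (ne_zero_of_mul h1).2
  exact mul_right_cancel₀ hx (h1.trans h2.symm)

theorem case_split (hq : 2 ≤ q) {x y z : Ω} (hx : y * x ^ q = 1) (hy : x * y ^ q = 1)
    (hxyz : x * y * z = 1) :
    y ^ ((q ^ 2 - 1) / Nat.gcd 3 (q + 1)) = x ^ ((q ^ 2 - 1) / Nat.gcd 3 (q + 1)) ∧
      z ^ ((q ^ 2 - 1) / Nat.gcd 3 (q + 1)) = x ^ ((q ^ 2 - 1) / Nat.gcd 3 (q + 1)) := by
  obtain ⟨hd1, hd2, hd3, -⟩ := gcd_facts q hq
  have hx0 : x ≠ 0 := (ne_zero_of_mul hy).1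
  have hxx : x ^ (q ^ 2 - 1) = 1 := by
    have h1 : y ^ q * x ^ (q * q) = 1 := by rw [pow_mul, ← mul_pow, hx, one_pow]
    have h2 : x ^ (q * q) = x := mul_left_cancel₀ (ne_zero_of_mul h1).1
      (h1.trans (by rw [mul_comm, hy]))
    refine mul_right_cancel₀ hx0 ?_
    rw [← pow_succ, one_mul, Nat.sub_add_cancel (Nat.one_le_pow _ _ (by omega)), sq, h2]
  have hz : z = x ^ (q - 1) := by
    apply mul_left_cancel₀ hx0
    rw [← pow_succ', Nat.sub_add_cancel (by omega)]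
    have hy0 : y ≠ 0 := (ne_zero_of_mul hx).1
    apply mul_left_cancel₀ hy0
    rw [hx, ← hxyz]; ring
  set d := Nat.gcd 3 (q + 1)
  set N := (q ^ 2 - 1) / d with hN
  have hN1 : x ^ ((q + 1) * N) = 1 := pow_eq_one_of_dvd hxx
    (by obtain ⟨e, he⟩ := hd1; exact ⟨e, by rw [he, hN, mul_right_comm, Nat.mul_div_cancel' hd3]⟩)
  have hN2 : x ^ ((q - 2) * N) = 1 := pow_eq_one_of_dvd hxx
    (by obtain ⟨e, he⟩ := hd2; exact ⟨e, by rw [he, hN, mul_right_comm, Nat.mul_div_cancel' hd3]⟩)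
  refine ⟨conj_pow_eq hx hN1, ?_⟩
  rw [hz, ← pow_mul, show (q - 1) * N = (q - 2) * N + N by
    rw [← Nat.succ_mul]; congr 1; omega, pow_add, hN2, one_mul]

theorem case_singer (hq : 2 ≤ q) {x y z : Ω} (hy : y * x ^ q = 1) (hz : z * y ^ q = 1)
    (hxyz : x * y * z = 1) :
    y ^ ((q ^ 2 - q + 1) / Nat.gcd 3 (q + 1)) = x ^ ((q ^ 2 - q + 1) / Nat.gcd 3 (q + 1)) ∧
      z ^ ((q ^ 2 - q + 1) / Nat.gcd 3 (q + 1)) = x ^ ((q ^ 2 - q + 1) / Nat.gcd 3 (q + 1)) := by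
  obtain ⟨hd1, -, -, hd4⟩ := gcd_facts q hq
  have hy0 : y ≠ 0 := (ne_zero_of_mul hy).1
  have hx0 : x ≠ 0 := fun h => by rw [h, zero_mul, zero_mul] at hxyz; exact zero_ne_one hxyz
  have hzx : z = x ^ (q * q) := by
    have h1 : y ^ q * x ^ (q * q) = 1 := by rw [pow_mul, ← mul_pow, hy, one_pow]
    exact mul_left_cancel₀ (ne_zero_of_mul h1).1 (by rw [h1, mul_comm, hz])
  have hxm : x ^ (q ^ 2 - q + 1) = 1 := by
    apply mul_right_cancel₀ (pow_ne_zero q hx0)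
    rw [one_mul, ← pow_add, show q ^ 2 - q + 1 + q = q * q + 1 by
      have : q ≤ q ^ 2 := Nat.le_self_pow (by norm_num) _
      rw [sq] at this ⊢; omega, pow_succ, ← hzx]
    apply mul_left_cancel₀ hy0
    rw [hy, ← hxyz]; ring
  set d := Nat.gcd 3 (q + 1)
  set N := (q ^ 2 - q + 1) / d with hN
  have hN1 : x ^ ((q + 1) * N) = 1 := pow_eq_one_of_dvd hxm
    (by obtain ⟨e, he⟩ := hd1; exact ⟨e, by rw [he, hN, mul_right_comm, Nat.mul_div_cancel' hd4]⟩)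
  have h1 := conj_pow_eq hy hN1
  refine ⟨h1, (conj_pow_eq hz ?_).trans h1⟩
  rw [mul_comm, pow_mul, h1, ← pow_mul, mul_comm, hN1]

theorem case_repeat (hq : 2 ≤ q) {x z : Ω} (hx : x * x ^ q = 1) (hxz : x * x * z = 1) :
    z ^ ((q + 1) / Nat.gcd 3 (q + 1)) = x ^ ((q + 1) / Nat.gcd 3 (q + 1)) := by
  obtain ⟨hd1, -, -, -⟩ := gcd_facts q hq
  set N := (q + 1) / Nat.gcd 3 (q + 1) with hN
  have hq1 : x ^ (q + 1) = 1 := by rw [pow_succ', hx]
  have h3 : x ^ (3 * N) = 1 := pow_eq_one_of_dvd hq1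
    (by obtain ⟨e, he⟩ := Nat.gcd_dvd_left 3 (q + 1)
        exact ⟨e, by nth_rw 1 [he]; rw [hN, mul_right_comm, Nat.mul_div_cancel' hd1]⟩)
  have hx0 : x ≠ 0 := (ne_zero_of_mul hx).1
  have h1 : (x * x * z) ^ N = 1 := by rw [hxz, one_pow]
  apply mul_left_cancel₀ (pow_ne_zero (2 * N) hx0)
  rw [← pow_add, show 2 * N + N = 3 * N by ring, h3, ← h1]
  ring

/-- the conjugation map is injective -/
theorem conj_inj {a b s : Ω} (ha : a * s ^ q = 1) (hb : b * s ^ q = 1) : a = b :=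
  mul_right_cancel₀ (ne_zero_of_mul ha).2 (ha.trans hb.symm)

/-- The possible exponents for three eigenvalues. -/
theorem exponent_cases (hq : 2 ≤ q) {x y z : Ω} (hxyz : x * y * z = 1)
    (hx : x * x ^ q = 1 ∨ x * y ^ q = 1 ∨ x * z ^ q = 1)
    (hy : y * x ^ q = 1 ∨ y * y ^ q = 1 ∨ y * z ^ q = 1)
    (hz : z * x ^ q = 1 ∨ z * y ^ q = 1 ∨ z * z ^ q = 1) :
    (x ≠ y ∧ x ≠ z ∧ y ≠ z ∧ ∃ N ∈ [q + 1, (q ^ 2 - 1) / Nat.gcd 3 (q + 1),
        (q ^ 2 - q + 1) / Nat.gcd 3 (q + 1)], y ^ N = x ^ N ∧ z ^ N = x ^ N) ∨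
      (y ^ ((q + 1) / Nat.gcd 3 (q + 1)) = x ^ ((q + 1) / Nat.gcd 3 (q + 1)) ∧
        z ^ ((q + 1) / Nat.gcd 3 (q + 1)) = x ^ ((q + 1) / Nat.gcd 3 (q + 1))) := by
  -- a repeated eigenvalue
  have rep : ∀ a b : Ω, a * a * b = 1 → (a * a ^ q = 1 ∨ a * b ^ q = 1) →
      (b * a ^ q = 1 ∨ b * b ^ q = 1) →
      b ^ ((q + 1) / Nat.gcd 3 (q + 1)) = a ^ ((q + 1) / Nat.gcd 3 (q + 1)) := by
    intro a b hab ha hb
    rcases ha with ha | ha
    · exact case_repeat hq ha hab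
    · rcases hb with hb | hb
      · have h : (a * a * b) ^ q = 1 := by rw [hab, one_pow]
        have h' : b * b * a = 1 := by
          have := congrArg₂ (· * ·) (congrArg₂ (· * ·) hb hb) ha
          simp only [one_mul] at this
          calc b * b * a = b * b * a * (a * a * b) ^ q := by rw [h, mul_one]
            _ = b * a ^ q * (b * a ^ q) * (a * b ^ q) := by ring
            _ = 1 := this
        have : a = b := by
          have hb0 : a * b ≠ 0 := mul_ne_zero (ne_zero_of_mul ha).1 (ne_zero_of_mul hb).1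
          apply mul_right_cancel₀ hb0
          calc a * (a * b) = a * a * b := by ring
            _ = b * b * a := by rw [hab, h']
            _ = b * (a * b) := by ring
        rw [this]
      · rw [conj_inj ha hb]
  by_cases hxy : x = y
  · subst hxy
    exact Or.inr ⟨rfl, rep x z hxyz (hx.elim Or.inl (·.elim Or.inl Or.inr))
      (hz.elim Or.inl (·.elim Or.inl Or.inr))⟩
  by_cases hxz : x = z
  · subst hxz
    refine Or.inr ⟨?_, rfl⟩
    exact rep x y (by rw [← hxyz]; ring) (hx.elim Or.inl (·.elim Or.inr Or.inl))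
      (hy.elim Or.inl (·.elim Or.inr Or.inl))
  by_cases hyz : y = z
  · subst hyz
    have e := rep y x (by rw [← hxyz]; ring) (hy.elim Or.inr (·.elim Or.inl Or.inl))
      (hx.elim Or.inr (·.elim Or.inl Or.inl))
    exact Or.inr ⟨e.symm, e.symm⟩
  refine Or.inl ⟨hxy, hxz, hyz, ?_⟩
  have inj : ∀ {a b s : Ω}, a ≠ b → a * s ^ q = 1 → b * s ^ q = 1 → False :=
    fun hne ha hb => hne (conj_inj ha hb)
  have fixed : x * x ^ q = 1 → y * y ^ q = 1 → z * z ^ q = 1 →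
      y ^ (q + 1) = x ^ (q + 1) ∧ z ^ (q + 1) = x ^ (q + 1) := by
    intro h1 h2 h3
    simp [pow_succ', h1, h2, h3]
  rcases hx with hx | hx | hx <;> rcases hy with hy | hy | hy <;> rcases hz with hz | hz | hz
  all_goals first
    | exact (inj hxy hx hy).elim
    | exact (inj hxz hx hz).elim
    | exact (inj hyz hy hz).elim
    | exact ⟨q + 1, by simp, fixed hx hy hz⟩
    | exact ⟨_, by simp, case_split hq hy hx hxyz⟩
    | exact ⟨_, by simp, (case_split hq hz hx (by rw [← hxyz]; ring)).symm⟩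
    | exact ⟨_, by simp, (fun h => ⟨h.2.symm, h.1.trans h.2.symm⟩)
        (case_split hq (x := y) (y := z) (z := x) hz hy (by rw [← hxyz]; ring))⟩
    | exact ⟨_, by simp, case_singer hq hy hz hxyz⟩
    | exact ⟨_, by simp, (case_singer hq hz hy (by rw [← hxyz]; ring)).symm⟩

end Cfsg.Agent.Classical.PSUThree
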