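import Mathlib
import Cfsg.Agent.Lib.Classical.PSUThreeRoots

/-!
# Eigenvalues and scalar powers of three by three matrices
-/

namespace Cfsg.Agent.Classical.PSUThree

open Polynomial Matrix

variable {F : Type*} [Field F] {Ω : Type*} [Field Ω] (f : F →+* Ω)

theorem exists_eigvec {M : Matrix (Fin 3) (Fin 3) Ω} {r : Ω} (hr : M.charpoly.IsRoot r) :
    ∃ v : Fin 3 → Ω, v ≠ 0 ∧ M *ᵥ v = r • v := by
  rw [IsRoot, eval_charpoly] at hr
  obtain ⟨v, hv0, hv⟩ := Matrix.exists_mulVec_eq_zero_iff.2 hr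
  refine ⟨v, hv0, ?_⟩
  rw [Matrix.sub_mulVec, sub_eq_zero] at hv
  rw [← hv, Matrix.scalar_apply, ← Matrix.smul_one_eq_diagonal, Matrix.smul_mulVec,
    Matrix.one_mulVec]

theorem isRoot_of_eigvec {M : Matrix (Fin 3) (Fin 3) Ω} {r : Ω} {v : Fin 3 → Ω} (hv0 : v ≠ 0)
    (hv : M *ᵥ v = r • v) : M.charpoly.IsRoot r := by
  rw [IsRoot, eval_charpoly]
  refine Matrix.exists_mulVec_eq_zero_iff.1 ⟨v, hv0, ?_⟩
  rw [Matrix.sub_mulVec, hv, Matrix.scalar_apply, ← Matrix.smul_one_eq_diagonal, Matrix.smul_mulVec, Matrix.one_mulVec,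
    sub_self]

theorem pow_eigvec {M : Matrix (Fin 3) (Fin 3) Ω} {r : Ω} {v : Fin 3 → Ω}
    (hv : M *ᵥ v = r • v) (N : ℕ) : (M ^ N) *ᵥ v = r ^ N • v := by
  induction N with
  | zero => simp
  | succ N ih =>
    rw [pow_succ, ← mulVec_mulVec, hv, Matrix.mulVec_smul, ih, smul_smul, pow_succ']

/-- eigenvalues of a scalar power -/
theorem root_pow_of_scalar {M : Matrix (Fin 3) (Fin 3) F} {N : ℕ} {a : F}
    (h : M ^ N = a • (1 : Matrix (Fin 3) (Fin 3) F)) {r : Ω}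
    (hr : (f.mapMatrix M).charpoly.IsRoot r) : r ^ N = f a := by
  obtain ⟨v, hv0, hv⟩ := exists_eigvec hr
  have h1 : f.mapMatrix M ^ N = f a • (1 : Matrix (Fin 3) (Fin 3) Ω) := by
    rw [← map_pow, h]
    ext i j
    simp [Matrix.one_apply, apply_ite f]
  have h2 := pow_eigvec hv N
  rw [h1, Matrix.smul_mulVec, Matrix.one_mulVec] at h2
  obtain ⟨i, hi⟩ := Function.ne_iff.1 hv0
  exact (mul_right_cancel₀ hi (congrFun h2 i)).symm

/-- a scalar power from a divisibility -/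
theorem scalar_of_dvd {M : Matrix (Fin 3) (Fin 3) F} {N : ℕ} {K : Ω}
    (h : (f.mapMatrix M).charpoly ∣ X ^ N - C K) :
    ∃ a : F, M ^ N = a • (1 : Matrix (Fin 3) (Fin 3) F) := by
  have h0 : aeval (f.mapMatrix M) (X ^ N - C K) = 0 := by
    obtain ⟨s, hs⟩ := h
    rw [hs, map_mul, Matrix.aeval_self_charpoly, zero_mul]
  rw [map_sub, map_pow, aeval_X, aeval_C, sub_eq_zero, ← map_pow,
    Algebra.algebraMap_eq_smul_one] at h0
  refine ⟨(M ^ N) 0 0, ?_⟩
  have e : ∀ i j, f ((M ^ N) i j) = if i = j then K else 0 := by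
    intro i j
    have := congrFun (congrFun h0 i) j
    simpa [Matrix.one_apply] using this
  ext i j
  apply f.injective
  rw [e]
  simp [Matrix.one_apply, apply_ite f, e]

theorem exists_roots [IsAlgClosed Ω] (M : Matrix (Fin 3) (Fin 3) Ω) :
    ∃ x y z : Ω, M.charpoly = (X - C x) * (X - C y) * (X - C z) ∧ x * y * z = M.det := by
  have hs := IsAlgClosed.splits M.charpoly
  have hc : M.charpoly.roots.card = 3 := by
    rw [← hs.natDegree_eq_card_roots, Matrix.charpoly_natDegree_eq_dim, Fintype.card_fin]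
  obtain ⟨x, y, z, he⟩ := Multiset.card_eq_three.1 hc
  refine ⟨x, y, z, ?_, ?_⟩
  · conv_lhs => rw [hs.eq_prod_roots_of_monic M.charpoly_monic, he]
    simp [mul_assoc]
  · rw [M.det_eq_prod_roots_charpoly, he]
    simp [mul_assoc]

theorem factor_dvd {N : ℕ} {r K : Ω} (h : r ^ N = K) : X - C r ∣ (X ^ N - C K : Polynomial Ω) := by
  rw [dvd_iff_isRoot]
  simp [h]

/-- distinct eigenvalues -/
theorem scalar_of_distinct {M : Matrix (Fin 3) (Fin 3) F} {N : ℕ} {x y z : Ω}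
    (hc : (f.mapMatrix M).charpoly = (X - C x) * (X - C y) * (X - C z)) (hxy : x ≠ y)
    (hxz : x ≠ z) (hyz : y ≠ z) (hy : y ^ N = x ^ N) (hz : z ^ N = x ^ N) :
    ∃ a : F, M ^ N = a • (1 : Matrix (Fin 3) (Fin 3) F) := by
  apply scalar_of_dvd f (K := x ^ N)
  rw [hc]
  have hcop : ∀ {a b : Ω}, a ≠ b → IsCoprime (X - C a : Polynomial Ω) (X - C b) :=
    fun h => isCoprime_X_sub_C_of_isUnit_sub (sub_ne_zero.2 h).isUnit
  exact IsCoprime.mul_dvd (IsCoprime.mul_left (hcop hxz) (hcop hyz))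
    (IsCoprime.mul_dvd (hcop hxy) (factor_dvd rfl) (factor_dvd hy)) (factor_dvd hz)

/-- eigenvalues with a common power, and the characteristic at least three -/
theorem scalar_of_char (p : ℕ) [Fact p.Prime] [CharP Ω p] (hp : 3 ≤ p)
    {M : Matrix (Fin 3) (Fin 3) F} {N : ℕ} {x y z : Ω}
    (hc : (f.mapMatrix M).charpoly = (X - C x) * (X - C y) * (X - C z))
    (hy : y ^ N = x ^ N) (hz : z ^ N = x ^ N) :
    ∃ a : F, M ^ (p * N) = a • (1 : Matrix (Fin 3) (Fin 3) F) := by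
  apply scalar_of_dvd f (K := (x ^ N) ^ p)
  rw [hc]
  have h3 : (X - C x) * (X - C y) * (X - C z) ∣ (X ^ N - C (x ^ N) : Polynomial Ω) ^ 3 := by
    rw [show (X ^ N - C (x ^ N) : Polynomial Ω) ^ 3 = (X ^ N - C (x ^ N)) * (X ^ N - C (x ^ N)) *
      (X ^ N - C (x ^ N)) by ring]
    exact mul_dvd_mul (mul_dvd_mul (factor_dvd rfl) (factor_dvd hy)) (factor_dvd hz)
  refine h3.trans ((pow_dvd_pow _ hp).trans (dvd_of_eq ?_))
  rw [sub_pow_char, ← pow_mul, ← map_pow C, mul_comm N p]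

/-- three distinct roots determine the characteristic polynomial -/
theorem charpoly_eq_of_roots {M : Matrix (Fin 3) (Fin 3) Ω} {x y z : Ω}
    (hx : M.charpoly.IsRoot x) (hy : M.charpoly.IsRoot y) (hz : M.charpoly.IsRoot z)
    (hxy : x ≠ y) (hxz : x ≠ z) (hyz : y ≠ z) :
    M.charpoly = (X - C x) * (X - C y) * (X - C z) := by
  have hcop : ∀ {a b : Ω}, a ≠ b → IsCoprime (X - C a : Polynomial Ω) (X - C b) :=
    fun h => isCoprime_X_sub_C_of_isUnit_sub (sub_ne_zero.2 h).isUnit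
  have hd : (X - C x) * (X - C y) * (X - C z) ∣ M.charpoly :=
    IsCoprime.mul_dvd (IsCoprime.mul_left (hcop hxz) (hcop hyz))
      (IsCoprime.mul_dvd (hcop hxy) (dvd_iff_isRoot.2 hx) (dvd_iff_isRoot.2 hy))
      (dvd_iff_isRoot.2 hz)
  refine (eq_of_monic_of_associated ?_ M.charpoly_monic ?_).symm
  · exact ((monic_X_sub_C x).mul (monic_X_sub_C y)).mul (monic_X_sub_C z)
  · refine associated_of_dvd_of_natDegree_le hd M.charpoly_monic.ne_zero ?_
    rw [Matrix.charpoly_natDegree_eq_dim, Fintype.card_fin,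
      natDegree_mul ((monic_X_sub_C x).mul (monic_X_sub_C y)).ne_zero (monic_X_sub_C z).ne_zero,
      natDegree_mul (monic_X_sub_C x).ne_zero (monic_X_sub_C y).ne_zero]
    simp

/-- the eigenvalues of a unitary matrix are closed under `r ↦ r ^ (-q)` -/
theorem root_conj {q : ℕ} (φ : F →+* F) (hφ : ∀ a, φ a = a ^ q) (ψ : Ω →+* Ω)
    (hψ : ∀ a, ψ a = a ^ q) {M : Matrix (Fin 3) (Fin 3) F}
    (hM : (M.map φ)ᵀ * M = 1) [IsAlgClosed Ω] {r : Ω}
    (hr : (f.mapMatrix M).charpoly.IsRoot r) :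
    ∃ s : Ω, (f.mapMatrix M).charpoly.IsRoot s ∧ r * s ^ q = 1 := by
  set A := f.mapMatrix M with hA
  have h1 : (ψ.mapMatrix A)ᵀ * A = 1 := by
    have := congrArg f.mapMatrix hM
    rw [map_mul, map_one] at this
    rw [← this]
    congr 1
    ext i j
    simp [hA, hφ, hψ]
  obtain ⟨v, hv0, hv⟩ := exists_eigvec hr
  have h2 : r • ((ψ.mapMatrix A)ᵀ *ᵥ v) = v := by
    rw [← Matrix.mulVec_smul, ← hv, mulVec_mulVec, h1, one_mulVec]
  have hr0 : r ≠ 0 := fun h => hv0 (by rw [← h2, h, zero_smul])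
  have h3 : (ψ.mapMatrix A)ᵀ *ᵥ v = r⁻¹ • v := by
    rw [eq_inv_smul_iff₀ hr0]; exact h2
  have h4 : (ψ.mapMatrix A).charpoly.IsRoot r⁻¹ := by
    rw [← charpoly_transpose]; exact isRoot_of_eigvec hv0 h3
  obtain ⟨x, y, z, hc, -⟩ := exists_roots A
  have h5 : (ψ.mapMatrix A).charpoly = (X - C (x ^ q)) * (X - C (y ^ q)) * (X - C (z ^ q)) := by
    rw [RingHom.mapMatrix_apply, charpoly_map, hc]
    simp [hψ]
  rw [h5] at h4
  simp only [IsRoot, eval_mul, eval_sub, eval_X, eval_C, mul_eq_zero, sub_eq_zero] at h4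
  obtain ⟨s, hs, e⟩ : ∃ s, A.charpoly.IsRoot s ∧ r⁻¹ = s ^ q := by
    rcases h4 with (h | h) | h
    · exact ⟨x, by simp [hc], h⟩
    · exact ⟨y, by simp [hc], h⟩
    · exact ⟨z, by simp [hc], h⟩
  exact ⟨s, hs, by rw [← e, mul_inv_cancel₀ hr0]⟩

end Cfsg.Agent.Classical.PSUThree
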