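import Cfsg.Agent.Lib.Classical.UnitaryBasic
import Cfsg.Agent.Lib.Classical.SpectrumTools
import Cfsg.Agent.SimpleFacts.UnitarySemisimple
import Cfsg.Agent.Lib.Classical.PSUThreeEigen

/-!
# The element orders of `PSU₃(q)`, `q` odd
-/

namespace Cfsg.Agent.Classical.PSUThree

open Polynomial Matrix
open Cfsg.Agent.Forms
open Cfsg.Agent.SimpleFacts

variable {F : Type*} [Field F] [Fintype F] {q : ℕ}

theorem mk_pow_eq_one (hF : Fintype.card F = q ^ 2) (g : Cfsg.SU 3 F q) (N : ℕ) :
    (QuotientGroup.mk g : Cfsg.PSU 3 F q) ^ N = 1 ↔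
      ∃ a : F, Unitary.mat g ^ N = a • (1 : Matrix (Fin 3) (Fin 3) F) := by
  rw [← QuotientGroup.mk_pow, QuotientGroup.eq_one_iff,
    Unitary.mem_center_iff hF (by norm_num)]
  constructor <;> rintro ⟨a, ha⟩ <;> refine ⟨a, ?_⟩
  · rw [← ha]
    induction N generalizing a with
    | zero => rfl
    | succ N ih => simp [Unitary.mat, pow_succ]
  · rw [← ha]
    simp [Unitary.mat]

section Upper

variable (p : ℕ) [Fact p.Prime] [CharP F p]
include p

theorem exists_exponent (hF : Fintype.card F = q ^ 2) : ∃ e : ℕ, 1 ≤ e ∧ q = p ^ e := by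
  obtain ⟨n, hp, hn⟩ := FiniteField.card F p
  have hd : q ∣ p ^ (n : ℕ) := by rw [← hn, hF]; exact dvd_pow_self q two_ne_zero
  obtain ⟨e, -, rfl⟩ := (Nat.dvd_prime_pow hp).1 hd
  refine ⟨e, Nat.one_le_iff_ne_zero.2 fun h => ?_, rfl⟩
  have := HermStd.one_lt_q hF
  rw [h, pow_zero] at this
  omega

theorem exists_psi (hF : Fintype.card F = q ^ 2) :
    ∃ ψ : AlgebraicClosure F →+* AlgebraicClosure F, ∀ a, ψ a = a ^ q := by
  haveI : CharP (AlgebraicClosure F) p :=
    charP_of_injective_algebraMap (algebraMap F (AlgebraicClosure F)).injective p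
  obtain ⟨e, -, rfl⟩ := exists_exponent p hF
  exact ⟨iterateFrobenius (AlgebraicClosure F) p e, fun a => iterateFrobenius_def p e a⟩

theorem q_three_le (hp : p ≠ 2) (hF : Fintype.card F = q ^ 2) : 3 ≤ q := by
  obtain ⟨e, he, rfl⟩ := exists_exponent p hF
  have := (Fact.out : p.Prime).two_le
  calc 3 ≤ p := by omega
    _ = p ^ 1 := (pow_one p).symm
    _ ≤ p ^ e := Nat.pow_le_pow_right (by omega) he

/-- the four exponents -/
def exps (p q : ℕ) : List ℕ :=
  [q + 1, p * ((q + 1) / Nat.gcd 3 (q + 1)), (q ^ 2 - 1) / Nat.gcd 3 (q + 1),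
    (q ^ 2 - q + 1) / Nat.gcd 3 (q + 1)]

theorem pow_exps (hp : p ≠ 2) (hF : Fintype.card F = q ^ 2) (x : Cfsg.PSU 3 F q) :
    ∃ N ∈ exps p q, x ^ N = 1 := by
  obtain ⟨g, rfl⟩ := QuotientGroup.mk_surjective x
  have hq3 := q_three_le p hp hF
  let Ω := AlgebraicClosure F
  let f := algebraMap F Ω
  haveI : CharP Ω p := charP_of_injective_algebraMap f.injective p
  have hp3 : 3 ≤ p := by have := (Fact.out : p.Prime).two_le; omega
  obtain ⟨ψ, hψ⟩ := exists_psi p hF
  set M := Unitary.mat g with hMdef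
  obtain ⟨x, y, z, hc, hdet⟩ := exists_roots (f.mapMatrix M)
  have hxyz : x * y * z = 1 := by
    rw [hdet, ← RingHom.map_det, hMdef, Unitary.mat,
      Matrix.SpecialLinearGroup.det_coe, map_one]
  have hadj : (M.map (HermStd.qHom hF))ᵀ * M = 1 :=
    (UnitaryConj.mem_GU_iff hF (Matrix.SpecialLinearGroup.toGL g.1)).1 g.2
  have hroot : ∀ r : Ω, (f.mapMatrix M).charpoly.IsRoot r →
      r * x ^ q = 1 ∨ r * y ^ q = 1 ∨ r * z ^ q = 1 := by
    intro r hr
    obtain ⟨s, hs, e⟩ := root_conj f (HermStd.qHom hF) (fun a => HermStd.qHom_apply hF a) ψ hψ hadj hr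
    rw [hc] at hs
    simp only [IsRoot, eval_mul, eval_sub, eval_X, eval_C, mul_eq_zero, sub_eq_zero] at hs
    rcases hs with (h | h) | h
    · exact Or.inl (h ▸ e)
    · exact Or.inr (Or.inl (h ▸ e))
    · exact Or.inr (Or.inr (h ▸ e))
  rcases exponent_cases (by omega) hxyz (hroot x (by rw [hc]; simp))
    (hroot y (by rw [hc]; simp)) (hroot z (by rw [hc]; simp)) with ⟨hxy, hxz, hyz, N, hN, e1, e2⟩ | ⟨e1, e2⟩
  · refine ⟨N, ?_, (mk_pow_eq_one hF g N).2 (scalar_of_distinct f hc hxy hxz hyz e1 e2)⟩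
    simp only [exps, List.mem_cons, List.not_mem_nil, or_false] at hN ⊢
    tauto
  · exact ⟨_, by simp [exps], (mk_pow_eq_one hF g _).2 (scalar_of_char f p hp3 hc e1 e2)⟩

end Upper

section Lower

variable (hF : Fintype.card F = q ^ 2)
include hF

theorem exists_order_units : ∃ a : F, a ≠ 0 ∧ orderOf a = q ^ 2 - 1 := by
  obtain ⟨z, hz⟩ := IsCyclic.exists_generator (α := Fˣ)
  refine ⟨(z : F), z.ne_zero, ?_⟩
  rw [orderOf_units, orderOf_eq_card_of_forall_mem_zpowers hz, Nat.card_units,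
    Nat.card_eq_fintype_card, hF]

theorem exists_norm_one_order : ∃ a : F, a ≠ 0 ∧ orderOf a = q + 1 := by
  obtain ⟨a, ha0, ha⟩ := exists_order_units hF
  have := HermStd.one_lt_q hF
  refine ⟨a ^ (q - 1), pow_ne_zero _ ha0, ?_⟩
  have hsq : q ^ 2 - 1 = (q + 1) * (q - 1) := by rw [← Nat.sq_sub_sq, one_pow]
  rw [orderOf_pow_of_dvd (by omega) (by rw [ha, hsq]; exact dvd_mul_left _ _),
    ha, hsq, Nat.mul_div_cancel _ (by omega)]

/-- diagonal element of order `q + 1` -/
theorem order_diag : ∃ x : Cfsg.PSU 3 F q, orderOf x = q + 1 := by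
  obtain ⟨a, ha0, ha⟩ := exists_norm_one_order hF
  have ha1 : a ^ (q + 1) = 1 := by rw [← ha]; exact pow_orderOf_eq_one a
  have hd : ∀ i, (![a, a⁻¹, 1] : Fin 3 → F) i ^ (q + 1) = 1 := by
    intro i; fin_cases i <;> simp [ha1, inv_pow]
  let g : Cfsg.SU 3 F q := Unitary.suMk (Matrix.diagonal ![a, a⁻¹, 1])
    (by simp [Matrix.det_diagonal, Fin.prod_univ_three, ha0]) (Unitary.diag_preserves hF _ hd)
  have hg : Unitary.mat g = Matrix.diagonal ![a, a⁻¹, 1] := rfl
  refine ⟨QuotientGroup.mk g, Nat.dvd_antisymm (orderOf_dvd_of_pow_eq_one ?_) ?_⟩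
  · rw [mk_pow_eq_one hF]
    refine ⟨1, ?_⟩
    rw [hg, Matrix.diagonal_pow, one_smul, ← Matrix.diagonal_one]
    congr 1
    funext i
    exact hd i
  · obtain ⟨c, hc⟩ := (mk_pow_eq_one hF g _).1
      (pow_orderOf_eq_one (QuotientGroup.mk g : Cfsg.PSU 3 F q))
    rw [hg, Matrix.diagonal_pow] at hc
    have h0 := congrFun (congrFun hc 0) 0
    have h2 := congrFun (congrFun hc 2) 2
    simp at h0 h2
    conv_lhs => rw [← ha]
    exact orderOf_dvd_of_pow_eq_one (h0.trans h2.symm)

/-- a torus element times a transvection -/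
theorem order_unip (p : ℕ) [Fact p.Prime] [CharP F p] :
    ∃ x : Cfsg.PSU 3 F q, orderOf x = p * ((q + 1) / Nat.gcd 3 (q + 1)) := by
  have hq := HermStd.one_lt_q hF
  obtain ⟨a, ha0, ha⟩ := exists_norm_one_order hF
  have ha1 : a ^ (q + 1) = 1 := by rw [← ha]; exact pow_orderOf_eq_one a
  have hd : ∀ i, (![a, a, (a * a)⁻¹] : Fin 3 → F) i ^ (q + 1) = 1 := by
    intro i; fin_cases i <;> simp [ha1, inv_pow, mul_pow]
  let s : Cfsg.SU 3 F q := Unitary.suMk (Matrix.diagonal ![a, a, (a * a)⁻¹])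
    (by simp [Matrix.det_diagonal, Fin.prod_univ_three]; field_simp)
    (Unitary.diag_preserves hF _ hd)
  have hs : Unitary.mat s = Matrix.diagonal ![a, a, (a * a)⁻¹] := rfl
  obtain ⟨v, hv, hv0, hv1, hv2⟩ := Unitary.exists_isotropic_pair hF (0 : Fin 3) 1 (by decide)
  obtain ⟨c, hc0, hc⟩ := Unitary.exists_traceZero hF
  set t := Unitary.tvu hF hv hc with ht
  have hsv : Unitary.mat s *ᵥ v = a • v := by
    funext i
    rw [hs, Matrix.mulVec_diagonal, Pi.smul_apply, smul_eq_mul]
    fin_cases i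
    · simp
    · simp
    · simp [hv2 2 (by decide) (by decide)]
  have hst : Commute s t := by
    apply Unitary.SU_ext
    intro x
    rw [Unitary.mul_mulVec, Unitary.mul_mulVec, ht, Unitary.tvu_mulVec, Unitary.tvu_mulVec,
      Matrix.mulVec_add, Matrix.mulVec_smul, hsv, smul_smul]
    congr 2
    have h1 := Unitary.SU_H s x v
    rw [hsv, Unitary.H_smul_right] at h1
    rw [← h1]
    have : a ^ q * a = 1 := by rw [← pow_succ, ha1]
    linear_combination (c * Cfsg.hermForm 3 F q (Unitary.mat s *ᵥ x) v) * this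
  have htpow : ∀ k : ℕ, ∀ x, Unitary.mat (t ^ k) *ᵥ x =
      x + ((k : F) * c * Cfsg.hermForm 3 F q x v) • v := by
    intro k
    induction k with
    | zero => intro x; simp [Unitary.mat]
    | succ k ih =>
      intro x
      rw [pow_succ', Unitary.mul_mulVec, ih, ht, Unitary.tvu_mulVec, Unitary.H_add_left,
        Unitary.H_smul_left, hv, mul_zero, add_zero, add_assoc, ← add_smul, Nat.cast_succ]
      congr 2
      ring
  set Z := Subgroup.center (Cfsg.SU 3 F q)
  have hp := (Fact.out : p.Prime)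
  have hvne : v ≠ 0 := fun h => by rw [h] at hv0; exact zero_ne_one hv0
  obtain ⟨w, hw⟩ : ∃ w, Cfsg.hermForm 3 F q w v ≠ 0 := by
    by_contra hno
    push Not at hno
    exact hvne (Unitary.eq_zero_of_H hF fun w => (Unitary.H_eq_zero_comm hF).1 (hno w))
  have hto : orderOf (QuotientGroup.mk t : Cfsg.PSU 3 F q) = p := by
    refine orderOf_eq_prime ?_ ?_
    · rw [← QuotientGroup.mk_pow]
      have : t ^ p = 1 := Unitary.SU_ext fun x => by
        rw [htpow, CharP.cast_eq_zero, zero_mul, zero_mul, zero_smul, add_zero]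
        simp [Unitary.mat]
      rw [this]; rfl
    · rw [Ne, QuotientGroup.eq_one_iff, Unitary.mem_center_iff hF (by norm_num)]
      rintro ⟨b, hb⟩
      have hb1 : b = 1 := by
        have h := congrArg (· *ᵥ v) hb
        simp only [Unitary.tvu_mulVec, ht, hv, mul_zero, zero_smul, add_zero, Matrix.smul_mulVec,
          Matrix.one_mulVec] at h
        have := congrFun h 0
        rw [Pi.smul_apply, smul_eq_mul, hv0, mul_one] at this
        exact this.symm
      have h := congrArg (· *ᵥ w) hb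
      simp only [Unitary.tvu_mulVec, ht, hb1, one_smul, Matrix.one_mulVec, add_eq_left,
        smul_eq_zero, mul_eq_zero] at h
      tauto
  have hso : orderOf (QuotientGroup.mk s : Cfsg.PSU 3 F q) = (q + 1) / Nat.gcd 3 (q + 1) := by
    obtain ⟨hd1, -, -, -⟩ := gcd_facts q (by omega)
    refine Nat.dvd_antisymm (orderOf_dvd_of_pow_eq_one ?_) ?_
    · rw [mk_pow_eq_one hF]
      refine ⟨a ^ ((q + 1) / Nat.gcd 3 (q + 1)), ?_⟩
      rw [hs, Matrix.diagonal_pow, Matrix.smul_one_eq_diagonal]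
      congr 1
      have e := case_repeat (q := q) (by omega) (x := a) (z := (a * a)⁻¹)
        (by rw [← pow_succ', ha1]) (mul_inv_cancel₀ (mul_ne_zero ha0 ha0))
      funext i
      fin_cases i
      · simp
      · simp
      · simpa using e
    · obtain ⟨b, hb⟩ := (mk_pow_eq_one hF s _).1
        (pow_orderOf_eq_one (QuotientGroup.mk s : Cfsg.PSU 3 F q))
      rw [hs, Matrix.diagonal_pow] at hb
      have h0 := congrFun (congrFun hb 0) 0
      have h2 := congrFun (congrFun hb 2) 2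
      simp at h0 h2
      apply lower_unip (by omega)
      rw [← ha]
      apply orderOf_dvd_of_pow_eq_one
      have hb0 : b ≠ 0 := by rw [← h0]; exact pow_ne_zero _ ha0
      rw [mul_pow, inv_pow, h0] at h2
      field_simp at h2
      rw [mul_comm, pow_mul, h0]
      linear_combination -h2
  refine ⟨QuotientGroup.mk t * QuotientGroup.mk s, ?_⟩
  have hcomm : Commute (QuotientGroup.mk t : Cfsg.PSU 3 F q) (QuotientGroup.mk s) :=
    (hst.map (QuotientGroup.mk' Z)).symm
  rw [hcomm.orderOf_mul_eq_mul_orderOf_of_coprime ?_, hto, hso]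
  rw [hto, hso]
  refine (Nat.Prime.coprime_iff_not_dvd hp).2 fun hdvd => ?_
  obtain ⟨e, he, hq'⟩ := exists_exponent p hF
  have h1 : p ∣ q + 1 := hdvd.trans (Nat.div_dvd_of_dvd (Nat.gcd_dvd_right _ _))
  have h2 : p ∣ q := by rw [hq']; exact dvd_pow_self p (by omega)
  exact hp.one_lt.ne' (Nat.dvd_one.1 ((Nat.dvd_add_right h2).1 h1))

/-- a semisimple element with given eigenvalues -/
theorem exists_semisimple (c : F[X]) (hc : c.Monic) (hd : c.natDegree = 3) (h0 : c.coeff 0 = -1)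
    (hti : UnitarySemisimple.ti hF c = c) :
    ∃ g : Cfsg.SU 3 F q, (Unitary.mat g).charpoly = c := by
  obtain ⟨B, -, -, -, hB, hBc⟩ := UnitarySemisimple.exists_unitary hF c hc hd
    (by rw [h0]; exact neg_ne_zero.2 one_ne_zero) hti
  have hdet : B.det = 1 := by
    rw [det_eq_sign_charpoly_coeff, hBc, h0, Fintype.card_fin]; norm_num
  have hpres := (UnitaryConj.mem_GU_iff hF
    (Matrix.GeneralLinearGroup.mkOfDetNeZero B (by rw [hdet]; exact one_ne_zero))).2 hB
  exact ⟨Unitary.suMk B hdet hpres, hBc⟩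

theorem order_semisimple (g : Cfsg.SU 3 F q) (N : ℕ) {x y z : AlgebraicClosure F}
    (hx : ((algebraMap F (AlgebraicClosure F)).mapMatrix (Unitary.mat g)).charpoly.IsRoot x)
    (hy : ((algebraMap F (AlgebraicClosure F)).mapMatrix (Unitary.mat g)).charpoly.IsRoot y)
    (hz : ((algebraMap F (AlgebraicClosure F)).mapMatrix (Unitary.mat g)).charpoly.IsRoot z)
    (hxy : x ≠ y) (hxz : x ≠ z) (hyz : y ≠ z) (e1 : y ^ N = x ^ N) (e2 : z ^ N = x ^ N)
    (hmin : ∀ k, y ^ k = x ^ k → z ^ k = x ^ k → N ∣ k) :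
    orderOf (QuotientGroup.mk g : Cfsg.PSU 3 F q) = N := by
  refine Nat.dvd_antisymm (orderOf_dvd_of_pow_eq_one ?_) ?_
  · rw [mk_pow_eq_one hF]
    exact scalar_of_distinct _ (charpoly_eq_of_roots hx hy hz hxy hxz hyz) hxy hxz hyz e1 e2
  · obtain ⟨a, ha⟩ := (mk_pow_eq_one hF g _).1
      (pow_orderOf_eq_one (QuotientGroup.mk g : Cfsg.PSU 3 F q))
    exact hmin _ (by rw [root_pow_of_scalar _ ha hy, root_pow_of_scalar _ ha hx])
      (by rw [root_pow_of_scalar _ ha hz, root_pow_of_scalar _ ha hx])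

theorem ti_linear {a : F} (ha : a ≠ 0) :
    UnitarySemisimple.ti hF (X - C a) = X - C (a ^ q)⁻¹ := by
  have hc : (X - C a).coeff 0 ≠ 0 := by simpa using ha
  have hm := UnitarySemisimple.ti_monic hF hc
  have hd := UnitarySemisimple.natDegree_ti hF hc
  rw [natDegree_X_sub_C] at hd
  rw [eq_X_add_C_of_natDegree_le_one hd.le, show (UnitarySemisimple.ti hF (X - C a)).coeff 1 = 1 by
    rw [← hd]; exact hm, C_1, one_mul, UnitarySemisimple.ti_coeff_zero hF (monic_X_sub_C a)]
  have : ((-a) ^ q) = -(a ^ q) := by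
    rw [← HermStd.qHom_apply hF, map_neg, HermStd.qHom_apply]
  simp [this, inv_neg, sub_eq_add_neg]

theorem order_split (hq : 3 ≤ q) :
    ∃ x : Cfsg.PSU 3 F q, orderOf x = (q ^ 2 - 1) / Nat.gcd 3 (q + 1) := by
  obtain ⟨a, ha0, ha⟩ := exists_order_units hF
  have hpow : ∀ k, a ^ k = 1 → q ^ 2 - 1 ∣ k := fun k h => ha ▸ orderOf_dvd_of_pow_eq_one h
  have haq : a ^ (q ^ 2 - 1) = 1 := by rw [← ha]; exact pow_orderOf_eq_one a
  set b := (a ^ q)⁻¹ with hb
  set c := a ^ (q - 1) with hc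
  have hb0 : b ≠ 0 := inv_ne_zero (pow_ne_zero _ ha0)
  have hc0 : c ≠ 0 := pow_ne_zero _ ha0
  have hq2 : 1 ≤ q ^ 2 := Nat.one_le_pow _ _ (by omega)
  have hab : a * b ^ q = 1 := by
    have h1 : a ^ (q * q) = a := by
      rw [← sq, show q ^ 2 = q ^ 2 - 1 + 1 by omega, pow_succ, haq, one_mul]
    rw [hb, inv_pow, ← pow_mul, h1, mul_inv_cancel₀ ha0]
  have hba : b * a ^ q = 1 := inv_mul_cancel₀ (pow_ne_zero _ ha0)
  have hcc : c * c ^ q = 1 := by
    rw [← pow_succ', hc, ← pow_mul, mul_comm, ← Nat.sq_sub_sq, one_pow, haq]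
  have habc : a * b * c = 1 := by
    apply mul_right_cancel₀ (pow_ne_zero q ha0)
    rw [one_mul, show a * b * c * a ^ q = (b * a ^ q) * (a * c) by ring, hba, one_mul, hc,
      ← pow_succ', Nat.sub_add_cancel (by omega)]
  have hinv : ∀ {u v : F}, u * v = 1 → v⁻¹ = u := fun h =>
    (eq_inv_of_mul_eq_one_left h).symm
  obtain ⟨g, hg⟩ := exists_semisimple hF ((X - C a) * (X - C b) * (X - C c))
    (((monic_X_sub_C a).mul (monic_X_sub_C b)).mul (monic_X_sub_C c))
    (by rw [natDegree_mul ((monic_X_sub_C a).mul (monic_X_sub_C b)).ne_zero (monic_X_sub_C c).ne_zero,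
      natDegree_mul (monic_X_sub_C a).ne_zero (monic_X_sub_C b).ne_zero]; simp)
    (by simp [mul_coeff_zero]; linear_combination habc)
    (by rw [UnitarySemisimple.ti_mul, UnitarySemisimple.ti_mul, ti_linear hF ha0, ti_linear hF hb0,
      ti_linear hF hc0, hinv hba, hinv hab, hinv hcc]; ring)
  let f := algebraMap F (AlgebraicClosure F)
  have hroot : ∀ r : F, ((X - C a) * (X - C b) * (X - C c)).IsRoot r →
      (f.mapMatrix (Unitary.mat g)).charpoly.IsRoot (f r) := by
    intro r hr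
    rw [RingHom.mapMatrix_apply, charpoly_map, hg]
    exact hr.map
  obtain ⟨e1, e2⟩ := case_split (q := q) (by omega) (x := f a) (y := f b) (z := f c)
    (by rw [← map_pow, ← map_mul, hba, map_one]) (by rw [← map_pow, ← map_mul, hab, map_one])
    (by rw [← map_mul, ← map_mul, habc, map_one])
  refine ⟨_, order_semisimple hF g _ (hroot a (by simp)) (hroot b (by simp)) (hroot c (by simp))
    ?_ ?_ ?_ e1 e2 ?_⟩
  · intro h
    have h' := f.injective h
    rw [← h', ← pow_succ'] at hab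
    have := Nat.le_of_dvd (by omega) (hpow _ hab)
    nlinarith [Nat.sub_add_cancel hq2]
  · intro h
    have h' := f.injective h
    have : a ^ (q - 2) = 1 := by
      apply mul_right_cancel₀ ha0
      rw [← pow_succ, one_mul, show q - 2 + 1 = q - 1 by omega]
      exact h'.symm
    have := Nat.le_of_dvd (by omega) (hpow _ this)
    have : q ≤ q ^ 2 := Nat.le_self_pow (by norm_num) _
    omega
  · intro h
    have h' := f.injective h
    rw [← h'] at hcc
    have : (b * b ^ q) = 1 := hcc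
    have h2 : b = a := by
      apply mul_right_cancel₀ (pow_ne_zero q hb0)
      rw [hab, this]
    rw [h2, ← pow_succ'] at this
    have := Nat.le_of_dvd (by omega) (hpow _ this)
    nlinarith [Nat.sub_add_cancel hq2]
  · intro k h1 h2
    have h1' : b ^ k = a ^ k := f.injective (by rw [map_pow, map_pow, h1])
    have h2' : c ^ k = a ^ k := f.injective (by rw [map_pow f c k, h2, map_pow])
    apply lower_split (by omega)
    · apply hpow
      have : (b * a ^ q) ^ k = 1 := by rw [hba, one_pow]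
      rw [mul_pow, h1', ← pow_mul, ← pow_add] at this
      rw [← this]; ring_nf
    · apply hpow
      apply mul_right_cancel₀ (pow_ne_zero k ha0)
      rw [one_mul, ← pow_add, show k * (q - 2) + k = (q - 1) * k by
        rw [← Nat.mul_succ, mul_comm]; congr 1; omega, pow_mul]
      exact h2'

theorem order_singer (p : ℕ) [Fact p.Prime] [CharP F p] (hq : 3 ≤ q) :
    ∃ x : Cfsg.PSU 3 F q, orderOf x = (q ^ 2 - q + 1) / Nat.gcd 3 (q + 1) := by
  set m := q ^ 2 - q + 1 with hm
  have hqq : q ≤ q ^ 2 := Nat.le_self_pow (by norm_num) _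
  have hqq' : 3 * q ≤ q ^ 2 := by rw [sq]; exact Nat.mul_le_mul_right _ hq
  have hm' : (m : ℤ) = (q : ℤ) ^ 2 - q + 1 := by rw [hm]; push_cast [hqq]; ring
  obtain ⟨e, he, hqe⟩ := exists_exponent p hF
  have hp := (Fact.out : p.Prime)
  have hmF : (m : F) ≠ 0 := by
    intro h
    have hd : p ∣ m := (CharP.cast_eq_zero_iff F p m).1 h
    have hpq : p ∣ q := by rw [hqe]; exact dvd_pow_self p (by omega)
    have : p ∣ q ^ 2 - q := Nat.dvd_sub (hpq.trans (dvd_pow_self q two_ne_zero)) hpq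
    exact hp.one_lt.ne' (Nat.dvd_one.1 ((Nat.dvd_add_right this).1 hd))
  obtain ⟨c, hcm, hci, hcd, hdeg⟩ := SpectrumTools.exists_factor hmF
  have hdeg3 : c.natDegree = 3 := by
    rw [hdeg, hF]
    have hz : ((m : ℕ) : ZMod m) = 0 := ZMod.natCast_self m
    have hz' : ((q : ZMod m)) ^ 2 - q + 1 = 0 := by
      rw [hm] at hz ⊢
      push_cast [hqq] at hz
      exact hz
    haveI : Fact (Nat.Prime 3) := ⟨Nat.prime_three⟩
    refine orderOf_eq_prime ?_ ?_
    · rw [Nat.cast_pow]
      linear_combination ((q : ZMod m) ^ 4 + (q : ZMod m) ^ 3 - q - 1) * hz'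
    · intro h
      have hdvd : m ∣ q ^ 2 - 1 := by
        rw [← ZMod.natCast_eq_zero_iff]
        rw [Nat.cast_sub (by omega), h, Nat.cast_one, sub_self]
      have h1 : m ∣ q ^ 2 - 1 - m := Nat.dvd_sub hdvd dvd_rfl
      rw [show q ^ 2 - 1 - m = q - 2 by omega] at h1
      have := Nat.le_of_dvd (by omega) h1
      omega
  let Ω := AlgebraicClosure F
  let f := algebraMap F Ω
  haveI : CharP Ω p := charP_of_injective_algebraMap f.injective p
  obtain ⟨a, ha⟩ := IsAlgClosed.exists_aeval_eq_zero Ω c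
    (fun h => by rw [degree_eq_natDegree hcm.ne_zero, hdeg3] at h; exact absurd h (by norm_num))
  have hprim : IsPrimitiveRoot a m := by
    have hmΩ : (m : Ω) ≠ 0 := fun h => hmF (f.injective (by simpa using h))
    haveI : NeZero (m : Ω) := ⟨hmΩ⟩
    rw [← isRoot_cyclotomic_iff]
    obtain ⟨r, hr⟩ := hcd
    rw [IsRoot, ← map_cyclotomic m f, eval_map, ← aeval_def, hr, map_mul, ha, zero_mul]
  have ha0 : a ≠ 0 := hprim.ne_zero (by omega)
  have hpow : ∀ k, a ^ k = 1 → m ∣ k := hprim.dvd_of_pow_eq_one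
  have ham : a ^ m = 1 := hprim.pow_eq_one
  have hstep : ∀ r : Ω, aeval r c = 0 → aeval (r ^ (q ^ 2)) c = 0 := by
    intro r hr
    rw [← hF, ← expand_aeval (Fintype.card F) c r, FiniteField.expand_card, map_pow, hr,
      zero_pow Fintype.card_ne_zero]
  set b := (a ^ q)⁻¹ with hb
  have hbeq : b = (a ^ (q ^ 2)) ^ (q ^ 2) := by
    rw [hb, ← pow_mul]
    symm
    apply eq_inv_of_mul_eq_one_left
    rw [← pow_add]
    apply pow_eq_one_of_dvd ham
    refine ⟨q * (q + 1), ?_⟩
    zify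
    rw [hm']; ring
  have hb' : aeval b c = 0 := by rw [hbeq]; exact hstep _ (hstep _ ha)
  have hz' : aeval (a ^ (q ^ 2)) c = 0 := hstep _ ha
  have hc0 : c.coeff 0 ≠ 0 := by
    intro h
    obtain ⟨r, hr⟩ : X ∣ c := X_dvd_iff.2 h
    rcases hci.isUnit_or_isUnit hr with hu | hu
    · exact not_isUnit_X hu
    · have := natDegree_mul (X_ne_zero (R := F)) hu.ne_zero
      rw [← hr, hdeg3, natDegree_X, natDegree_eq_zero_of_isUnit hu] at this
      omega
  -- the twisted reciprocal has the root `b`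
  have hti : UnitarySemisimple.ti hF c = c := by
    obtain ⟨ψ, hψ⟩ := exists_psi p hF
    have htb : aeval b (UnitarySemisimple.ti hF c) = 0 := by
      rw [UnitarySemisimple.ti, map_mul]
      refine mul_eq_zero_of_right _ ?_
      haveI : Invertible (a ^ q) := invertibleOfNonzero (pow_ne_zero _ ha0)
      rw [aeval_def, hb, ← invOf_eq_inv, eval₂_reverse_eq_zero_iff, eval₂_map,
        ← hψ a, show f.comp (HermStd.qHom hF) = ψ.comp f from RingHom.ext fun x => by
          simp [hψ, HermStd.qHom_apply], ← hom_eval₂, ← aeval_def, ha, map_zero]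
    have hmin : c = minpoly F b := minpoly.eq_of_irreducible_of_monic hci hb' hcm
    symm
    apply eq_of_monic_of_associated hcm (UnitarySemisimple.ti_monic hF hc0)
    refine associated_of_dvd_of_natDegree_le (hmin.dvd.trans (minpoly.dvd F b htb))
      (UnitarySemisimple.ti_monic hF hc0).ne_zero ?_
    rw [UnitarySemisimple.natDegree_ti hF hc0]
  set z := a ^ (q ^ 2) with hzdef
  have hne1 : a ≠ b := by
    intro h
    have : a ^ (q + 1) = 1 := by
      rw [pow_succ']; nth_rw 1 [h]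
      exact inv_mul_cancel₀ (pow_ne_zero _ ha0)
    have := Nat.le_of_dvd (by omega) (hpow _ this)
    omega
  have hne2 : a ≠ z := by
    intro h
    have h1 : a ^ (q ^ 2 - 1) = 1 := by
      apply mul_right_cancel₀ ha0
      rw [← pow_succ, Nat.sub_add_cancel (by omega), one_mul]
      exact h.symm
    have h2 : m ∣ q ^ 2 - 1 - m := Nat.dvd_sub (hpow _ h1) dvd_rfl
    rw [show q ^ 2 - 1 - m = q - 2 by omega] at h2
    have := Nat.le_of_dvd (by omega) h2
    omega
  have hby : b * a ^ q = 1 := inv_mul_cancel₀ (pow_ne_zero _ ha0)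
  have hzy : z * b ^ q = 1 := by
    rw [hzdef, hb, inv_pow, ← pow_mul, sq, mul_inv_cancel₀ (pow_ne_zero _ ha0)]
  have hne3 : b ≠ z := by
    intro h
    apply hne1
    obtain ⟨ψ, hψ⟩ := exists_psi p hF
    have h3 : b ^ q = a ^ q := by
      have : b * b ^ q = b * a ^ q := by rw [hby]; nth_rw 1 [h]; exact hzy
      exact mul_left_cancel₀ (inv_ne_zero (pow_ne_zero _ ha0)) this
    rw [← hψ, ← hψ] at h3
    exact (ψ.injective h3).symm
  have habz : a * b * z = 1 := by
    apply mul_right_cancel₀ (pow_ne_zero q ha0)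
    rw [one_mul, show a * b * z * a ^ q = (b * a ^ q) * (z * a) by ring, hby, one_mul, hzdef,
      ← pow_succ, show q ^ 2 + 1 = m + q by omega, pow_add, ham, one_mul]
  have hmapc : (c.map f) = (X - C a) * (X - C b) * (X - C z) := by
    have hr : ∀ r, aeval r c = 0 → X - C r ∣ c.map f := fun r h => by
      rw [dvd_iff_isRoot, IsRoot, eval_map, ← aeval_def]; exact h
    have hcop : ∀ {u v : Ω}, u ≠ v → IsCoprime (X - C u : Polynomial Ω) (X - C v) :=
      fun h => isCoprime_X_sub_C_of_isUnit_sub (sub_ne_zero.2 h).isUnit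
    refine (eq_of_monic_of_associated
      (((monic_X_sub_C a).mul (monic_X_sub_C b)).mul (monic_X_sub_C z)) (hcm.map f) ?_).symm
    refine associated_of_dvd_of_natDegree_le (IsCoprime.mul_dvd
      (IsCoprime.mul_left (hcop hne2) (hcop hne3))
      (IsCoprime.mul_dvd (hcop hne1) (hr _ ha) (hr _ hb')) (hr _ hz')) (hcm.map f).ne_zero ?_
    rw [natDegree_map, hdeg3, natDegree_mul ((monic_X_sub_C a).mul (monic_X_sub_C b)).ne_zero
      (monic_X_sub_C z).ne_zero, natDegree_mul (monic_X_sub_C a).ne_zero (monic_X_sub_C b).ne_zero]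
    simp
  obtain ⟨g, hg⟩ := exists_semisimple hF c hcm hdeg3 (by
    apply f.injective
    rw [← coeff_map, hmapc]
    simp [mul_coeff_zero]
    linear_combination -habz) hti
  have hroot : ∀ r : Ω, aeval r c = 0 → (f.mapMatrix (Unitary.mat g)).charpoly.IsRoot r := by
    intro r hr
    rw [RingHom.mapMatrix_apply, charpoly_map, hg, IsRoot, eval_map, ← aeval_def]
    exact hr
  obtain ⟨e1, e2⟩ := case_singer (q := q) (by omega) hby hzy habz
  refine ⟨_, order_semisimple hF g _ (hroot a ha) (hroot b hb') (hroot z hz') hne1 hne2 hne3 e1 e2 ?_⟩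
  intro k h1 _
  apply lower_singer (by omega)
  apply hpow
  have : (b * a ^ q) ^ k = 1 := by rw [hby, one_pow]
  rw [mul_pow, h1, ← pow_mul, ← pow_add] at this
  rw [← this]; ring_nf

end Lower

/-- The element orders of `PSU₃(q)` for odd `q`. -/
theorem spectrum (p : ℕ) [Fact p.Prime] [CharP F p] (hp : p ≠ 2) (hF : Fintype.card F = q ^ 2) :
    Set.range (orderOf : Cfsg.PSU 3 F q → ℕ) =
      {s : ℕ | s ∣ q + 1} ∪ {s : ℕ | s ∣ p * (q + 1) / Nat.gcd 3 (q + 1)} ∪
        {s : ℕ | s ∣ (q ^ 2 - 1) / Nat.gcd 3 (q + 1)} ∪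
        {s : ℕ | s ∣ (q ^ 2 - q + 1) / Nat.gcd 3 (q + 1)} := by
  rw [Nat.mul_div_assoc p (Nat.gcd_dvd_right 3 (q + 1))]
  ext s
  simp only [Set.mem_range, Set.mem_union, Set.mem_setOf_eq]
  have hq3 := q_three_le p hp hF
  constructor
  · rintro ⟨x, rfl⟩
    obtain ⟨N, hN, hx⟩ := pow_exps p hp hF x
    have hd := orderOf_dvd_of_pow_eq_one hx
    simp only [exps, List.mem_cons, List.not_mem_nil, or_false] at hN
    rcases hN with rfl | rfl | rfl | rfl <;> tauto
  · intro h
    have key : ∀ N, s ∣ N → (∃ x : Cfsg.PSU 3 F q, orderOf x = N) →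
        ∃ x : Cfsg.PSU 3 F q, orderOf x = s := by
      rintro N hs ⟨x, rfl⟩
      have : Finite (Cfsg.PSU 3 F q) := inferInstance
      obtain ⟨t, ht⟩ := hs
      refine ⟨x ^ t, ?_⟩
      have hpos := orderOf_pos x
      have ht0 : t ≠ 0 := fun h0 => by rw [h0, mul_zero] at ht; omega
      rw [orderOf_pow_of_dvd ht0 ⟨s, by rw [ht, mul_comm]⟩, ht, Nat.mul_div_cancel _ (Nat.pos_of_ne_zero ht0)]
    rcases h with ((h | h) | h) | h
    · exact key _ h (order_diag hF)
    · exact key _ h (order_unip hF p)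
    · exact key _ h (order_split hF hq3)
    · exact key _ h (order_singer hF p hq3)

end Cfsg.Agent.Classical.PSUThree
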