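import Mathlib

/-!
# Matrices of rank one
-/

set_option autoImplicit false

namespace Cfsg.Agent.Classical.RankOne

open Matrix

variable {F : Type*} [Field F] {ι : Type*} [Fintype ι] [DecidableEq ι]

/-- A matrix `M` with `(M - 1).rank = 1` moves every vector along a fixed nonzero vector. -/
theorem exists_axis {M : Matrix ι ι F} (h : (M - 1).rank = 1) :
    ∃ (a : ι → F) (φ : (ι → F) → F), a ≠ 0 ∧ (∀ x, M *ᵥ x = x + φ x • a) ∧ ∃ y, φ y ≠ 0 := by
  rw [Matrix.rank, finrank_eq_one_iff'] at h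
  obtain ⟨⟨a, ha⟩, ha0, hall⟩ := h
  have ha1 : a ≠ 0 := fun e => ha0 (Subtype.ext e)
  have hform : ∀ x, ∃ c : F, M *ᵥ x = x + c • a := fun x => by
    obtain ⟨c, hc⟩ := hall ⟨(M - 1) *ᵥ x, ⟨x, rfl⟩⟩
    refine ⟨c, ?_⟩
    have h1 : c • a = (M - 1) *ᵥ x := congrArg Subtype.val hc
    rw [h1, sub_mulVec, one_mulVec, add_sub_cancel]
  choose φ hφ using hform
  refine ⟨a, φ, ha1, hφ, ?_⟩
  by_contra hne
  push Not at hne
  obtain ⟨z, hz⟩ := ha
  apply ha1
  rw [← hz, Matrix.mulVecLin_apply, sub_mulVec, one_mulVec, hφ, hne, zero_smul, add_zero, sub_self]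

end Cfsg.Agent.Classical.RankOne
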