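import Mathlib

/-!
# Extending isomorphisms of subspaces
-/

set_option autoImplicit false

namespace Cfsg.Agent.Classical.LinearExtend

open Module

variable {F V V' : Type*} [Field F] [AddCommGroup V] [Module F V] [FiniteDimensional F V]
  [AddCommGroup V'] [Module F V'] [FiniteDimensional F V']

theorem exists_extend (hd : finrank F V = finrank F V') {U : Submodule F V} {U' : Submodule F V'}
    (e : U ≃ₗ[F] U') : ∃ E : V ≃ₗ[F] V', ∀ u : U, E u = e u := by
  obtain ⟨W, hW⟩ := Submodule.exists_isCompl U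
  obtain ⟨W', hW'⟩ := Submodule.exists_isCompl U'
  obtain ⟨eW⟩ : Nonempty (↥W ≃ₗ[F] ↥W') := FiniteDimensional.nonempty_linearEquiv_of_finrank_eq (by
    have h1 := Submodule.finrank_add_eq_of_isCompl hW
    have h2 := Submodule.finrank_add_eq_of_isCompl hW'
    have := e.finrank_eq
    omega)
  refine ⟨(Submodule.prodEquivOfIsCompl U W hW).symm.trans
    ((e.prodCongr eW).trans (Submodule.prodEquivOfIsCompl U' W' hW')), fun u => ?_⟩
  simp only [LinearEquiv.trans_apply, Submodule.prodEquivOfIsCompl_symm_apply_left]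
  simp

/-- Transitivity on non-zero vectors. -/
theorem exists_map_vec (hd : finrank F V = finrank F V') {a : V} {a' : V'} (ha : a ≠ 0)
    (ha' : a' ≠ 0) : ∃ E : V ≃ₗ[F] V', E a = a' := by
  obtain ⟨E, hE⟩ := exists_extend hd
    ((LinearEquiv.toSpanNonzeroSingleton F V a ha).symm.trans
      (LinearEquiv.toSpanNonzeroSingleton F V' a' ha'))
  refine ⟨E, (hE ⟨a, Submodule.mem_span_singleton_self a⟩).trans ?_⟩
  have h1 : (LinearEquiv.toSpanNonzeroSingleton F V a ha).symm
      ⟨a, Submodule.mem_span_singleton_self a⟩ = 1 :=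
    (LinearEquiv.symm_apply_eq _).2 (Subtype.ext (by simp))
  rw [LinearEquiv.trans_apply, h1]
  simp

end Cfsg.Agent.Classical.LinearExtend
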