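import Cfsg.Prelude.Def_ClassicalGeometry
import Cfsg.Agent.S0839
import Cfsg.Agent.Lib.Classical.LinearExtend
import Cfsg.Agent.Lib.Classical.Linear

/-!
# Transvections in `GL n`
-/

set_option autoImplicit false

namespace Cfsg.Agent.Classical.TransvectionGL

open Matrix Module

variable {F : Type*} [Field F] {n : ℕ}

theorem rank_vecMulVec_eq_one {a b : Fin n → F} (ha : a ≠ 0) (hb : b ≠ 0) :
    (vecMulVec a b).rank = 1 := by
  refine le_antisymm (rank_vecMulVec_le _ _) (Nat.one_le_iff_ne_zero.2 fun h => ?_)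
  obtain ⟨i, hi⟩ := Function.ne_iff.1 ha
  obtain ⟨j, hj⟩ := Function.ne_iff.1 hb
  rw [Matrix.rank, Submodule.finrank_eq_zero, LinearMap.range_eq_bot] at h
  have := congrFun (LinearMap.congr_fun h (Pi.single j 1)) i
  simp [vecMulVec_mulVec] at this
  exact mul_ne_zero hi hj this

theorem left_ne_zero {a b : Fin n → F} (h : (vecMulVec a b).rank = 1) : a ≠ 0 := fun e => by
  rw [e, zero_vecMulVec, rank_zero] at h
  exact zero_ne_one h

theorem exists_map_pair {a b a' b' : Fin n → F} (ha : a ≠ 0) (hb : b ≠ 0) (ha' : a' ≠ 0)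
    (hb' : b' ≠ 0) (hab : b ⬝ᵥ a = 0) (hab' : b' ⬝ᵥ a' = 0) :
    ∃ G : GL (Fin n) F, (G : Matrix (Fin n) (Fin n) F) *ᵥ a = a' ∧
      b' ᵥ* (G : Matrix (Fin n) (Fin n) F) = b := by
  classical
  let φ : Module.Dual F (Fin n → F) := dotProductEquiv F (Fin n) b
  let φ' : Module.Dual F (Fin n → F) := dotProductEquiv F (Fin n) b'
  have hφ : φ ≠ 0 := (LinearEquiv.map_ne_zero_iff _).2 hb
  have hφ' : φ' ≠ 0 := (LinearEquiv.map_ne_zero_iff _).2 hb'
  have hK := Module.Dual.finrank_ker_add_one_of_ne_zero hφ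
  have hK' := Module.Dual.finrank_ker_add_one_of_ne_zero hφ'
  obtain ⟨e, he⟩ := LinearExtend.exists_map_vec (F := F)
    (V := LinearMap.ker φ) (V' := LinearMap.ker φ') (by omega)
    (a := ⟨a, hab⟩) (a' := ⟨a', hab'⟩)
    (fun h => ha (congrArg Subtype.val h)) (fun h => ha' (congrArg Subtype.val h))
  obtain ⟨w, hw⟩ := LinearMap.surjective hφ 1
  obtain ⟨w', hw'⟩ := LinearMap.surjective hφ' 1
  let π : (Fin n → F) →ₗ[F] LinearMap.ker φ :=
    (LinearMap.id - φ.smulRight w).codRestrict _ (fun v => by simp [hw])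
  let G₀ : (Fin n → F) →ₗ[F] (Fin n → F) :=
    (LinearMap.ker φ').subtype ∘ₗ e.toLinearMap ∘ₗ π + φ.smulRight w'
  have hG₀φ : ∀ v, φ' (G₀ v) = φ v := fun v => by
    have h : φ' (e (π v) : Fin n → F) = 0 := (e (π v)).2
    simp [G₀, h, hw']
  have hG₀a : G₀ a = a' := by
    have hp : π a = ⟨a, hab⟩ := Subtype.ext (by
      show a - φ a • w = a
      rw [show φ a = 0 from hab]; simp)
    simp [G₀, hp, he, show φ a = 0 from hab]
  have hG₀i : Function.Injective G₀ := by
    refine (injective_iff_map_eq_zero G₀).2 fun v hv => ?_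
    have hv' : φ v = 0 := by rw [← hG₀φ v, hv, map_zero]
    have hp : (π v : Fin n → F) = v := by
      show v - φ v • w = v
      rw [hv']; simp
    have h3 : e (π v) = 0 := Subtype.ext (by simpa [G₀, hv'] using hv)
    rw [LinearEquiv.map_eq_zero_iff] at h3
    rw [← hp, h3]; rfl
  have hdet : (LinearMap.toMatrix' G₀).det ≠ 0 := by
    rw [LinearMap.det_toMatrix']
    exact (LinearEquiv.ofBijective G₀ ⟨hG₀i, LinearMap.injective_iff_surjective.1 hG₀i⟩).isUnit_det'.ne_zero
  refine ⟨GeneralLinearGroup.mkOfDetNeZero _ hdet, ?_, ?_⟩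
  · show LinearMap.toMatrix' G₀ *ᵥ a = a'
    rw [LinearMap.toMatrix'_mulVec, hG₀a]
  · refine (dotProductEquiv F (Fin n)).injective (LinearMap.ext fun v => ?_)
    show (b' ᵥ* LinearMap.toMatrix' G₀) ⬝ᵥ v = φ v
    rw [← dotProduct_mulVec, LinearMap.toMatrix'_mulVec]
    exact hG₀φ v

theorem isConj_of_transvection {s t : GL (Fin n) F}
    (hs : Cfsg.IsTransvection (s : Matrix (Fin n) (Fin n) F))
    (ht : Cfsg.IsTransvection (t : Matrix (Fin n) (Fin n) F)) : ∃ g, g * s * g⁻¹ = t := by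
  obtain ⟨a, b, hab, hN, hb⟩ := S0839.exists_vecMulVec _ hs.1 hs.2
  obtain ⟨a', b', hab', hN', hb'⟩ := S0839.exists_vecMulVec _ ht.1 ht.2
  obtain ⟨G, hGa, hGb⟩ := exists_map_pair (left_ne_zero (hN ▸ hs.1)) hb (left_ne_zero (hN' ▸ ht.1))
    hb' hab hab'
  refine ⟨G, ?_⟩
  rw [mul_inv_eq_iff_eq_mul]
  refine Units.ext ?_
  show (G : Matrix (Fin n) (Fin n) F) * (s : Matrix (Fin n) (Fin n) F) =
    (t : Matrix (Fin n) (Fin n) F) * (G : Matrix (Fin n) (Fin n) F)
  rw [show (s : Matrix (Fin n) (Fin n) F) = 1 + vecMulVec a b by rw [← hN]; abel,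
    show (t : Matrix (Fin n) (Fin n) F) = 1 + vecMulVec a' b' by rw [← hN']; abel,
    Matrix.mul_add, Matrix.add_mul, Matrix.mul_one, Matrix.one_mul, Matrix.mul_vecMulVec,
    Matrix.vecMulVec_mul, hGa, hGb]

variable [Fintype F]

/-- Rank one square-zero matrices. -/
theorem natCard_rankOne (hn : 2 ≤ n) :
    Nat.card {M : Matrix (Fin n) (Fin n) F // M.rank = 1 ∧ M * M = 0} * (Fintype.card F - 1) =
      (Fintype.card F ^ n - 1) * (Fintype.card F ^ (n - 1) - 1) := by
  classical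
  let T := {M : Matrix (Fin n) (Fin n) F // M.rank = 1 ∧ M * M = 0}
  let P := Σ a : {a : Fin n → F // a ≠ 0}, {b : Fin n → F // b ≠ 0 ∧ b ⬝ᵥ a.1 = 0}
  have hex : ∀ M : T, ∃ a b : Fin n → F, b ⬝ᵥ a = 0 ∧ M.1 = vecMulVec a b ∧ a ≠ 0 ∧ b ≠ 0 := fun M => by
    obtain ⟨a, b, h1, h2, h3⟩ := S0839.exists_vecMulVec M.1 M.2.1 M.2.2
    exact ⟨a, b, h1, h2, left_ne_zero (h2 ▸ M.2.1), h3⟩
  choose A B hAB hM hA hB using hex
  let f : T × Fˣ → P := fun p =>
    ⟨⟨(p.2 : F) • A p.1, smul_ne_zero p.2.ne_zero (hA p.1)⟩,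
      ⟨((p.2⁻¹ : Fˣ) : F) • B p.1, smul_ne_zero (Units.ne_zero _) (hB p.1), by
        rw [smul_dotProduct, dotProduct_smul, hAB, smul_zero, smul_zero]⟩⟩
  have hfv : ∀ p, vecMulVec (f p).1.1 (f p).2.1 = p.1.1 := fun p => by
    show vecMulVec ((p.2 : F) • A p.1) (((p.2⁻¹ : Fˣ) : F) • B p.1) = p.1.1
    rw [smul_vecMulVec, vecMulVec_smul, smul_smul, Units.mul_inv, one_smul, hM]
  have hf : Function.Bijective f := by
    constructor
    · rintro ⟨M, l⟩ ⟨M', l'⟩ h
      obtain rfl : M = M' := Subtype.ext (by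
        have h1 := hfv (M, l)
        rw [h, hfv (M', l')] at h1
        exact h1.symm)
      have h2 : (l : F) • A M = (l' : F) • A M := congrArg (fun p : P => p.1.1) h
      exact Prod.ext rfl (Units.ext (smul_left_injective F (hA M) h2))
    · rintro ⟨⟨a, ha⟩, ⟨b, hb, hab⟩⟩
      let M : T := ⟨vecMulVec a b, rank_vecMulVec_eq_one ha hb, by
        rw [vecMulVec_mul_vecMulVec, show b ⬝ᵥ a = 0 from hab, zero_smul, vecMulVec_zero]⟩
      have he : vecMulVec a b = vecMulVec (A M) (B M) := hM M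
      have hab' : ∀ i j, a i * b j = A M i * B M j := fun i j => congrFun (congrFun he i) j
      obtain ⟨j, hj⟩ := Function.ne_iff.1 hb
      obtain ⟨i, hi⟩ := Function.ne_iff.1 ha
      have hBj : B M j ≠ 0 := fun e => by
        have := hab' i j
        rw [e, mul_zero] at this
        exact mul_ne_zero hi hj this
      refine ⟨(M, Units.mk0 (B M j / b j) (div_ne_zero hBj hj)), ?_⟩
      have e1 : (B M j / b j) • A M = a := funext fun k => by
        have := hab' k j
        simp only [Pi.smul_apply, smul_eq_mul]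
        rw [div_mul_eq_mul_div, div_eq_iff hj]
        linear_combination -this
      have e2 : (B M j / b j)⁻¹ • B M = b := funext fun k => by
        have h1 := hab' i k
        have h2 := congrFun e1 i
        simp only [Pi.smul_apply, smul_eq_mul] at h2 ⊢
        have hAi : A M i ≠ 0 := fun e => hi (by rw [← h2, e, mul_zero]; rfl)
        rw [← h2] at h1
        rw [inv_mul_eq_iff_eq_mul₀ (div_ne_zero hBj hj)]
        exact mul_left_cancel₀ hAi (by linear_combination -h1)
      simp only [f, Units.val_inv_eq_inv_val, Units.val_mk0]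
      refine Sigma.subtype_ext (Subtype.ext e1) ?_
      exact e2
  have hfib : ∀ a : {a : Fin n → F // a ≠ 0},
      Nat.card {b : Fin n → F // b ≠ 0 ∧ b ⬝ᵥ a.1 = 0} = Fintype.card F ^ (n - 1) - 1 := by
    intro a
    let L : Module.Dual F (Fin n → F) := dotProductEquiv F (Fin n) a.1
    have hL := Module.Dual.finrank_ker_add_one_of_ne_zero
      (show L ≠ 0 from (LinearEquiv.map_ne_zero_iff _).2 a.2)
    rw [Module.finrank_pi, Fintype.card_fin] at hL
    have e : {b : Fin n → F // b ≠ 0 ∧ b ⬝ᵥ a.1 = 0} ≃ {x : LinearMap.ker L // x ≠ 0} :=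
      { toFun := fun b => ⟨⟨b.1, (dotProduct_comm a.1 b.1).trans b.2.2⟩,
          fun h => b.2.1 (congrArg Subtype.val h)⟩
        invFun := fun x => ⟨x.1.1, fun h => x.2 (Subtype.ext h),
          (dotProduct_comm x.1.1 a.1).trans x.1.2⟩
        left_inv := fun b => rfl
        right_inv := fun x => rfl }
    rw [Nat.card_congr e, Nat.card_eq_fintype_card, Fintype.card_subtype_compl,
      Fintype.card_subtype_eq, ← Nat.card_eq_fintype_card,
      Module.natCard_eq_pow_finrank (K := F), Nat.card_eq_fintype_card,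
      show finrank F ↥(LinearMap.ker L) = n - 1 by omega]
  have hP : Nat.card P = (Fintype.card F ^ n - 1) * (Fintype.card F ^ (n - 1) - 1) := by
    rw [Nat.card_sigma, Finset.sum_congr rfl fun a _ => hfib a, Finset.sum_const, Finset.card_univ,
      smul_eq_mul, Fintype.card_subtype_compl, Fintype.card_subtype_eq]
    simp
  rw [← hP, ← Nat.card_eq_of_bijective f hf, Nat.card_prod, Linear.natCard_units_eq]

theorem natCard_centralizer {q : ℕ} (hF : Fintype.card F = q) (hn : 2 ≤ n) (t : GL (Fin n) F)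
    (ht : Cfsg.IsTransvection (t : Matrix (Fin n) (Fin n) F)) :
    Nat.card ↥(Subgroup.centralizer ({t} : Set (GL (Fin n) F))) =
      q ^ (2 * n - 3) * (q - 1) * ∏ i : Fin (n - 2), (q ^ (n - 2) - q ^ (i : ℕ)) := by
  classical
  set C := Subgroup.centralizer ({t} : Set (GL (Fin n) F)) with hC
  let f : GL (Fin n) F ⧸ C → {M : Matrix (Fin n) (Fin n) F // M.rank = 1 ∧ M * M = 0} :=
    fun x => ⟨((x.out * t * x.out⁻¹ : GL (Fin n) F) : Matrix (Fin n) (Fin n) F) - 1, by
      set g := x.out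
      have e : ((g * t * g⁻¹ : GL (Fin n) F) : Matrix (Fin n) (Fin n) F) - 1 =
          (g : Matrix (Fin n) (Fin n) F) * ((t : Matrix (Fin n) (Fin n) F) - 1) *
            ((g⁻¹ : GL (Fin n) F) : Matrix (Fin n) (Fin n) F) := by
        rw [Matrix.mul_sub, Matrix.mul_one, Matrix.sub_mul, Units.val_mul, Units.val_mul,
          Units.mul_inv]
      rw [e]
      refine ⟨?_, ?_⟩
      · rw [Matrix.rank_mul_eq_left_of_isUnit_det _ _ ((g⁻¹).isUnit.map Matrix.detMonoidHom),
          Matrix.rank_mul_eq_right_of_isUnit_det _ _ (g.isUnit.map Matrix.detMonoidHom)]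
        exact ht.1
      · have := ht.2
        simp only [mul_assoc]
        rw [Units.inv_mul_cancel_left, ← mul_assoc ((t : Matrix (Fin n) (Fin n) F) - 1), this]
        simp⟩
  have hf : Function.Bijective f := by
    refine ⟨fun x y h => ?_, fun M => ?_⟩
    · have h' : x.out * t * x.out⁻¹ = y.out * t * y.out⁻¹ :=
        Units.ext (sub_left_injective (congrArg Subtype.val h))
      rw [← QuotientGroup.out_eq' x, ← QuotientGroup.out_eq' y, QuotientGroup.eq,
        Subgroup.mem_centralizer_singleton_iff]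
      have := congrArg (fun z => x.out⁻¹ * z * y.out) h'
      simp only [mul_assoc, inv_mul_cancel, mul_one, inv_mul_cancel_left] at this ⊢
      exact this.symm
    · have hM2 : ((M.1 + 1) * (1 - M.1)) = 1 := by
        rw [Matrix.add_mul, Matrix.mul_sub, Matrix.mul_sub, M.2.2]; simp
      let u : GL (Fin n) F := ⟨M.1 + 1, 1 - M.1, hM2, by
        rw [Matrix.sub_mul, Matrix.mul_add, Matrix.mul_add, M.2.2]; simp⟩
      have hu : Cfsg.IsTransvection (u : Matrix (Fin n) (Fin n) F) := by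
        show (M.1 + 1 - 1).rank = 1 ∧ _
        rw [add_sub_cancel_right]
        exact M.2
      obtain ⟨g, hg⟩ := isConj_of_transvection ht hu
      refine ⟨QuotientGroup.mk g, Subtype.ext ?_⟩
      obtain ⟨⟨c, hc⟩, hgc⟩ := QuotientGroup.mk_out_eq_mul C g
      have hct : c * t * c⁻¹ = t := by
        rw [mul_inv_eq_iff_eq_mul]; exact Subgroup.mem_centralizer_singleton_iff.1 hc
      show (((QuotientGroup.mk g : GL (Fin n) F ⧸ C).out * t *
        (QuotientGroup.mk g : GL (Fin n) F ⧸ C).out⁻¹ : GL (Fin n) F) : Matrix _ _ F) - 1 = M.1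
      rw [hgc, show g * c * t * (g * c)⁻¹ = g * (c * t * c⁻¹) * g⁻¹ by group, hct, hg]
      exact add_sub_cancel_right _ _
  have hidx : Nat.card (GL (Fin n) F ⧸ C) =
      Nat.card {M : Matrix (Fin n) (Fin n) F // M.rank = 1 ∧ M * M = 0} :=
    Nat.card_eq_of_bijective f hf
  have hmul := Subgroup.card_eq_card_quotient_mul_card_subgroup C
  rw [hidx, Linear.natCard_GL_fin] at hmul
  have hT := natCard_rankOne (F := F) hn
  rw [hF] at hmul hT
  obtain ⟨m, rfl⟩ : ∃ m, n = m + 2 := ⟨n - 2, by omega⟩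
  have hq : 1 < q := hF ▸ Fintype.one_lt_card
  have h1 : 0 < q ^ (m + 2) - 1 := by
    have := Nat.one_lt_pow (show m + 2 ≠ 0 by omega) hq; omega
  have h2 : 0 < q ^ (m + 1) - 1 := by
    have := Nat.one_lt_pow (show m + 1 ≠ 0 by omega) hq; omega
  have hprod : ∏ i : Fin (m + 2), (q ^ (m + 2) - q ^ (i : ℕ)) =
      (q ^ (m + 2) - 1) * (q ^ (m + 1) - 1) *
        (q ^ (2 * m + 1) * ∏ i : Fin m, (q ^ m - q ^ (i : ℕ))) := by
    rw [Fin.prod_univ_succ, Fin.prod_univ_succ]
    simp only [Fin.val_zero, Fin.val_succ, pow_zero, zero_add, pow_one]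
    have e1 : q ^ (m + 2) - q = q * (q ^ (m + 1) - 1) := by
      rw [Nat.mul_sub, mul_one, ← pow_succ']
    have e2 : ∀ i : Fin m, q ^ (m + 2) - q ^ ((i : ℕ) + 1 + 1) = q ^ 2 * (q ^ m - q ^ (i : ℕ)) :=
      fun i => by rw [Nat.mul_sub, ← pow_add, ← pow_add]; ring_nf
    rw [e1, Finset.prod_congr rfl fun i _ => e2 i, Finset.prod_mul_distrib, Finset.prod_const,
      Finset.card_univ, Fintype.card_fin, ← pow_mul]
    ring
  rw [show 2 * (m + 2) - 3 = 2 * m + 1 by omega]
  simp only [Nat.add_sub_cancel]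
  rw [show m + 2 - 1 = m + 1 from rfl] at hT
  refine Nat.eq_of_mul_eq_mul_left (Nat.mul_pos h1 h2) ?_
  calc (q ^ (m + 2) - 1) * (q ^ (m + 1) - 1) * Nat.card ↥C
      = Nat.card {M : Matrix (Fin (m + 2)) (Fin (m + 2)) F // M.rank = 1 ∧ M * M = 0} *
          (q - 1) * Nat.card ↥C := by rw [hT]
    _ = (q - 1) * ∏ i : Fin (m + 2), (q ^ (m + 2) - q ^ (i : ℕ)) := by rw [hmul]; ring
    _ = _ := by rw [hprod]; ring_nf; rfl

end Cfsg.Agent.Classical.TransvectionGL
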