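import Mathlib
import Cfsg.Agent.S2587
import Cfsg.Agent.S2588
import Cfsg.Agent.Lib.Classical.RegularUnipotentConj
import Cfsg.Agent.Lib.Classical.UnitaryBasic

/-!
# Regular unipotent classes of the special unitary group
-/

set_option autoImplicit false
set_option linter.unusedSectionVars false

namespace Cfsg.Agent.Classical.UnitaryRegular

open Matrix
open Cfsg.Agent.Classical.RegularUnipotentConj (shift)

variable {K : Type*} [Field K] [Fintype K] {q n : ℕ} (hK : Fintype.card K = q ^ 2)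

local notation "Mat" => Matrix (Fin n) (Fin n) K

include hK

theorem exists_regular (hn : 1 ≤ n) : ∃ B : ↥(Cfsg.GU n K q),
    (((B : GL (Fin n) K) : Mat) - 1) ^ n = 0 ∧ (((B : GL (Fin n) K) : Mat) - 1).rank = n - 1 := by
  classical
  have hq : q ≠ 0 := by have := Forms.HermStd.one_lt_q hK; omega
  have hs : IsNilpotent (shift K n) := ⟨n, RegularUnipotentConj.shift_pow_self⟩
  let A : GL (Fin n) K := hs.isUnit_one_add.unit
  have hA : (A : Mat) = 1 + shift K n := rfl
  have hmap : ((A : Mat).map (fun x : K => x ^ q)).transpose = 1 + (shift K n)ᵀ := by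
    rw [hA]
    have h1 : (1 + shift K n : Mat).map (fun x : K => x ^ q) = 1 + shift K n := by
      ext i j
      simp only [Matrix.map_apply, Matrix.add_apply, shift, Matrix.of_apply, Matrix.one_apply]
      by_cases h : i = j
      · subst h; simp
      · by_cases h' : (i : ℕ) + 1 = j <;> simp [h, h', zero_pow hq]
    rw [h1, transpose_add, transpose_one]
  have hu : IsUnit (1 + (shift K n)ᵀ : Mat) := by
    have := (Matrix.isUnit_transpose (1 + shift K n : Mat)).2 hs.isUnit_one_add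
    rwa [transpose_add, transpose_one] at this
  have hd := (Matrix.isUnit_iff_isUnit_det _).1 hu
  set M : Mat := (1 + (shift K n)ᵀ)⁻¹ with hM
  have h2 : (1 + (shift K n)ᵀ) * M = 1 := Matrix.mul_nonsing_inv _ hd
  have h1 : M * (1 + (shift K n)ᵀ) = 1 := Matrix.nonsing_inv_mul _ hd
  have e : M - 1 = -(M * (shift K n)ᵀ) := by
    rw [mul_add, mul_one] at h1
    rw [← h1]; abel
  have hc : Commute M (shift K n)ᵀ := by
    have h : (1 + (shift K n)ᵀ) * M = M * (1 + (shift K n)ᵀ) := h2.trans h1.symm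
    rw [add_mul, mul_add, one_mul, mul_one, add_left_cancel_iff] at h
    exact h.symm
  obtain ⟨g, hg⟩ := RegularUnipotentConj.exists_conj (shift K n) (M - 1)
    RegularUnipotentConj.shift_pow_self RegularUnipotentConj.rank_shift (by
      rw [e, neg_pow, hc.mul_pow, ← transpose_pow, RegularUnipotentConj.shift_pow_self,
        transpose_zero, mul_zero, mul_zero]) (by
      rw [e, ← neg_mul, Matrix.rank_mul_eq_right_of_isUnit_det _ _
        ((Matrix.isUnit_iff_isUnit_det _).1 (Units.isUnit ⟨M, _, h1, h2⟩).neg), rank_transpose,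
        RegularUnipotentConj.rank_shift])
  obtain ⟨B, hB⟩ := (Cfsg.Agent.S2588.result hK A).2 (by
    rw [hmap, ← hM, hA]
    refine ⟨g, ?_⟩
    show (g : Mat) * (1 + shift K n) = M * (g : Mat)
    rw [mul_add, mul_one, hg, sub_mul, one_mul, add_sub_cancel])
  obtain ⟨c, hc'⟩ := isConj_iff.1 hB
  have eB : ((B : GL (Fin n) K) : Mat) - 1 =
      (c : Mat) * shift K n * ((c⁻¹ : GL (Fin n) K) : Mat) := by
    rw [← hc', Units.val_mul, Units.val_mul, hA, mul_add, mul_one, add_mul, Units.mul_inv,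
      add_sub_cancel_left]
  refine ⟨B, ?_, ?_⟩
  · rw [eB, Units.conj_pow, RegularUnipotentConj.shift_pow_self, mul_zero, zero_mul]
  · rw [eB, Matrix.rank_mul_eq_left_of_isUnit_det _ _ ((Matrix.isUnit_iff_isUnit_det _).1 c⁻¹.isUnit),
      Matrix.rank_mul_eq_right_of_isUnit_det _ _ ((Matrix.isUnit_iff_isUnit_det _).1 c.isUnit),
      RegularUnipotentConj.rank_shift]

theorem det_unipotent {M : Mat} (h : (M - 1) ^ n = 0) : M.det = 1 := by
  have := RegularUnipotentConj.det_smul_one_add (1 : K) (M - 1) ⟨n, h⟩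
  rwa [one_smul, add_sub_cancel, one_pow] at this

theorem det_centralizer (hn : 1 ≤ n) (u c : ↥(Cfsg.GU n K q))
    (hnil : (((u : GL (Fin n) K) : Mat) - 1) ^ n = 0)
    (hreg : (((u : GL (Fin n) K) : Mat) - 1).rank = n - 1) (hc : Commute u c) :
    ∃ a : K, a ^ (q + 1) = 1 ∧ ((c : GL (Fin n) K) : Mat).det = a ^ n := by
  set C := ((c : GL (Fin n) K) : Mat) with hC
  have hcu : Commute ((u : GL (Fin n) K) : Mat) C :=
    congrArg (fun x : ↥(Cfsg.GU n K q) => ((x : GL (Fin n) K) : Mat)) hc.eq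
  obtain ⟨a, M, hCe, hM⟩ := RegularUnipotentConj.exists_eq_add_of_commute _ C hn hnil hreg
    (hcu.sub_left (Commute.one_left C))
  set Y := (((u : GL (Fin n) K) : Mat) - 1) * M with hY
  have hYn : IsNilpotent Y := hM.isNilpotent_mul_right ⟨n, hnil⟩
  refine ⟨a, ?_, by rw [hCe, RegularUnipotentConj.det_smul_one_add a Y hYn]⟩
  have h1 := (UnitaryConj.mem_GU_iff hK (c : GL (Fin n) K)).1 c.2
  set ad := UnitaryConj.adj (n := n) hK with had
  have hadC : ad C = (a ^ q) • (1 : Mat) + ad Y := by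
    rw [hCe, had, UnitaryConj.adj_add, ← Algebra.algebraMap_eq_smul_one,
      UnitaryConj.adj_algebraMap, Algebra.algebraMap_eq_smul_one]
  have hadYn : IsNilpotent (ad Y) := by
    obtain ⟨k, hk⟩ := hYn
    refine ⟨k, ?_⟩
    have e : ∀ j, ad Y ^ j = ad (Y ^ j) := by
      intro j
      induction j with
      | zero => rw [pow_zero, pow_zero, had, UnitaryConj.adj_one]
      | succ j ih =>
        rw [pow_succ, ih, pow_succ' Y j]
        exact (UnitaryConj.adj_mul hK Y (Y ^ j)).symm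
    rw [e, hk, had]
    have := UnitaryConj.adj_add hK (0 : Mat) 0
    rw [add_zero, left_eq_add] at this
    exact this
  have hcomm : Commute (ad C) C := h1.trans (mul_eq_one_comm.1 h1).symm
  have hXY : Commute (ad Y) Y := by
    have h : Commute (ad C - (a ^ q) • (1 : Mat)) (C - a • (1 : Mat)) :=
      (hcomm.sub_right ((Commute.one_right _).smul_right a)).sub_left
        ((Commute.one_left _).smul_left _)
    rwa [hadC, add_sub_cancel_left, hCe, add_sub_cancel_left] at h
  have hsum : IsNilpotent ((a ^ q) • Y + (a • ad Y + ad Y * Y)) := by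
    have n1 : IsNilpotent (a • ad Y + ad Y * Y) :=
      ((Commute.refl _).mul_right hXY).smul_left a |>.isNilpotent_add (hadYn.smul a)
        (hXY.isNilpotent_mul_right hadYn)
    refine Commute.isNilpotent_add ?_ (hYn.smul _) n1
    exact ((hXY.symm.smul_right a).add_right (hXY.symm.mul_right (Commute.refl Y))).smul_left _
  have e : (a ^ q * a) • (1 : Mat) + ((a ^ q) • Y + (a • ad Y + ad Y * Y)) = 1 := by
    conv_rhs => rw [← h1]
    change _ = ad C * C
    rw [hadC, hCe, add_mul, mul_add, mul_add, smul_mul_smul_comm, one_mul, smul_mul_assoc, one_mul,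
      mul_smul_comm, mul_one]
    abel
  have h3 := congrArg Matrix.det e
  rw [RegularUnipotentConj.det_smul_one_add _ _ hsum, Matrix.det_one] at h3
  have hz : IsNilpotent ((a ^ q * a - 1) • (1 : Mat)) := by
    have e' : (a ^ q * a - 1) • (1 : Mat) = -((a ^ q) • Y + (a • ad Y + ad Y * Y)) := by
      rw [sub_smul, one_smul, sub_eq_iff_eq_add, neg_add_eq_sub, eq_sub_iff_add_eq, e]
    rw [e']; exact hsum.neg
  obtain ⟨k, hk⟩ := hz
  rw [smul_pow, one_pow, smul_eq_zero] at hk
  have : Nonempty (Fin n) := ⟨⟨0, hn⟩⟩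
  rw [pow_succ]
  exact sub_eq_zero.1 (eq_zero_of_pow_eq_zero (hk.resolve_right one_ne_zero))

theorem natCard_classes (hn : 1 ≤ n) :
    Nat.card {C : ConjClasses ↥(Cfsg.SU n K q) // ∃ u : ↥(Cfsg.SU n K q), ConjClasses.mk u = C ∧
      (((u : GL (Fin n) K) : Mat) - 1) ^ n = 0 ∧
      (((u : GL (Fin n) K) : Mat) - 1).rank = n - 1} = Nat.gcd n (q + 1) := by
  classical
  obtain ⟨u₀, hn0, hr0⟩ := exists_regular hK hn
  let U : Subgroup Kˣ := (Unitary.detHom n K q).range
  let P : Subgroup Kˣ := U.map (powMonoidHom n)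
  let Kg : Subgroup ↥(Cfsg.GU n K q) := P.comap (Unitary.detHom n K q)
  have hidx : Kg.index = Nat.gcd n (q + 1) := by
    rw [Subgroup.index_comap]
    have hcardU : Nat.card U = q + 1 := by
      show Nat.card (Unitary.detHom n K q).range = q + 1
      rw [Unitary.range_detHom hK hn, Unitary.natCard_normOne hK]
    have hsub : P.subgroupOf U = (powMonoidHom n : U →* U).range := by
      ext x
      constructor
      · rintro ⟨y, hy, hyx⟩
        exact ⟨⟨y, hy⟩, Subtype.ext hyx⟩
      · rintro ⟨y, rfl⟩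
        exact ⟨y, y.2, rfl⟩
    show (P.subgroupOf U).index = _
    rw [hsub, IsCyclic.index_powMonoidHom_range, hcardU, Nat.gcd_comm]
  have hmat : ∀ g : ↥(Cfsg.GU n K q),
      (((g * u₀ * g⁻¹ : ↥(Cfsg.GU n K q)) : GL (Fin n) K) : Mat) - 1 =
      ((g : GL (Fin n) K) : Mat) * (((u₀ : GL (Fin n) K) : Mat) - 1) *
        (((g : GL (Fin n) K)⁻¹ : GL (Fin n) K) : Mat) := fun g => by
    rw [mul_sub, sub_mul, mul_one, Units.mul_inv]
    rfl
  have hnil : ∀ g : ↥(Cfsg.GU n K q),
      ((((g * u₀ * g⁻¹ : ↥(Cfsg.GU n K q)) : GL (Fin n) K) : Mat) - 1) ^ n = 0 ∧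
      ((((g * u₀ * g⁻¹ : ↥(Cfsg.GU n K q)) : GL (Fin n) K) : Mat) - 1).rank = n - 1 := fun g => by
    rw [hmat]
    refine ⟨by rw [Units.conj_pow, hn0, mul_zero, zero_mul], ?_⟩
    rw [Matrix.rank_mul_eq_left_of_isUnit_det _ _
        ((Matrix.isUnit_iff_isUnit_det _).1 (g : GL (Fin n) K)⁻¹.isUnit),
      Matrix.rank_mul_eq_right_of_isUnit_det _ _
        ((Matrix.isUnit_iff_isUnit_det _).1 (g : GL (Fin n) K).isUnit), hr0]
  let el : ↥(Cfsg.GU n K q) → ↥(Cfsg.SU n K q) := fun g =>
    Unitary.suOfGU (g * u₀ * g⁻¹) (det_unipotent hK (hnil g).1)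
  have hel : ∀ g, Unitary.suToGU (el g) = g * u₀ * g⁻¹ := fun g => Subtype.ext (Units.ext rfl)
  let f : ↥(Cfsg.GU n K q) → {C : ConjClasses ↥(Cfsg.SU n K q) // ∃ u : ↥(Cfsg.SU n K q),
      ConjClasses.mk u = C ∧ (((u : GL (Fin n) K) : Mat) - 1) ^ n = 0 ∧
      (((u : GL (Fin n) K) : Mat) - 1).rank = n - 1} := fun g =>
    ⟨ConjClasses.mk (el g), el g, rfl, (hnil g).1, (hnil g).2⟩
  have hker : ∀ g : ↥(Cfsg.GU n K q), g ∈ (Unitary.detHom n K q).ker ↔
      g ∈ (Unitary.suToGU (n := n) (F := K) (q := q)).range := fun g => by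
    rw [Unitary.range_suToGU]
  have hiff : ∀ g h, f g = f h ↔ g⁻¹ * h ∈ Kg := by
    intro g h
    rw [Subtype.ext_iff]
    show ConjClasses.mk (el g) = ConjClasses.mk (el h) ↔ _
    rw [ConjClasses.mk_eq_mk_iff_isConj, isConj_iff]
    constructor
    · rintro ⟨s, hs⟩
      have hs' := congrArg Unitary.suToGU hs
      rw [map_mul, map_mul, map_inv, hel, hel] at hs'
      set S := Unitary.suToGU s with hS
      have hSd : Unitary.detHom n K q S = 1 := MonoidHom.mem_ker.1 ((hker S).2 ⟨s, rfl⟩)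
      have hc : Commute u₀ (h⁻¹ * S * g) := by
        show u₀ * (h⁻¹ * S * g) = h⁻¹ * S * g * u₀
        calc u₀ * (h⁻¹ * S * g) = h⁻¹ * (h * u₀ * h⁻¹) * S * g := by group
          _ = h⁻¹ * (S * (g * u₀ * g⁻¹) * S⁻¹) * S * g := by rw [hs']
          _ = h⁻¹ * S * g * u₀ := by group
      obtain ⟨a, ha, hd⟩ := det_centralizer hK hn u₀ _ hn0 hr0 hc
      have ha0 : a ≠ 0 := fun e => by rw [e, zero_pow (by omega)] at ha; exact zero_ne_one ha
      refine Subgroup.mem_comap.2 ⟨(Units.mk0 a ha0)⁻¹, inv_mem ?_, ?_⟩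
      · show Units.mk0 a ha0 ∈ (Unitary.detHom n K q).range
        rw [Unitary.range_detHom hK hn]
        exact Units.ext (by simpa using ha)
      · have hd' : Unitary.detHom n K q (h⁻¹ * S * g) = (Units.mk0 a ha0) ^ n :=
          Units.ext (by rw [Units.val_pow_eq_pow_val]; exact hd)
        rw [map_mul, map_mul, hSd, mul_one] at hd'
        show (Units.mk0 a ha0)⁻¹ ^ n = _
        rw [inv_pow, ← hd', map_mul, map_inv, map_inv, _root_.mul_inv_rev, inv_inv]
    · intro hm
      obtain ⟨x, hx, hxd⟩ := Subgroup.mem_comap.1 hm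
      change x ^ n = _ at hxd
      have hx' : (x : K) ^ (q + 1) = 1 := by
        have hx2 : x ∈ (powMonoidHom (q + 1) : Kˣ →* Kˣ).ker :=
          Unitary.range_detHom hK hn ▸ hx
        simpa using congrArg Units.val hx2
      let z : ↥(Cfsg.GU n K q) := Unitary.diagGU hK (fun _ => (x : K)) fun _ => hx'
      have hzc : ∀ w : ↥(Cfsg.GU n K q), z * w = w * z := fun w =>
        Subtype.ext (Units.ext (Matrix.scalar_commute (x : K) (fun r => Commute.all _ r) _).eq)
      have hzd : Unitary.detHom n K q z = x ^ n := Units.ext (by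
        rw [Unitary.detHom_apply, Units.val_pow_eq_pow_val]
        show (Matrix.diagonal fun _ : Fin n => (x : K)).det = _
        rw [Matrix.det_diagonal, Finset.prod_const, Finset.card_univ, Fintype.card_fin])
      obtain ⟨s, hs⟩ := (hker (h * z⁻¹ * g⁻¹)).1 (by
        rw [MonoidHom.mem_ker, map_mul, map_mul, map_inv, hzd, hxd, map_mul, map_inv,
          _root_.mul_inv_rev, inv_inv]
        group)
      refine ⟨s, Unitary.suToGU_injective ?_⟩
      rw [map_mul, map_mul, map_inv, hel, hel, hs]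
      calc h * z⁻¹ * g⁻¹ * (g * u₀ * g⁻¹) * (h * z⁻¹ * g⁻¹)⁻¹ = h * (z⁻¹ * (u₀ * z)) * h⁻¹ := by group
        _ = h * u₀ * h⁻¹ := by rw [← hzc, inv_mul_cancel_left]
  have hsurj : Function.Surjective f := by
    rintro ⟨C, u, rfl, hu1, hu2⟩
    set v := Unitary.suToGU u with hv
    obtain ⟨X, hX⟩ := RegularUnipotentConj.exists_conj (((u₀ : GL (Fin n) K) : Mat) - 1)
      (((v : GL (Fin n) K) : Mat) - 1) hn0 hr0 hu1 hu2
    have hc : IsConj u₀ v := (Cfsg.Agent.S2587.result hK u₀ v).2 (isConj_iff.2 ⟨X, by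
      rw [mul_inv_eq_iff_eq_mul]
      refine Units.ext ?_
      rwa [mul_sub, sub_mul, mul_one, one_mul, sub_left_inj] at hX⟩)
    obtain ⟨g, hg⟩ := isConj_iff.1 hc
    exact ⟨g, Subtype.ext (congrArg ConjClasses.mk
      (Unitary.suToGU_injective ((hel g).trans hg)))⟩
  rw [← hidx, Subgroup.index]
  refine (Nat.card_eq_of_bijective (fun x : ↥(Cfsg.GU n K q) ⧸ Kg =>
    Quotient.liftOn' x f fun a b hab => (hiff a b).2 (QuotientGroup.leftRel_apply.1 hab)) ⟨?_, ?_⟩).symm
  · intro x y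
    induction x using QuotientGroup.induction_on with | _ a
    induction y using QuotientGroup.induction_on with | _ b
    intro hab
    exact QuotientGroup.eq.2 ((hiff a b).1 hab)
  · intro C
    obtain ⟨g, hg⟩ := hsurj C
    exact ⟨(g : ↥(Cfsg.GU n K q) ⧸ Kg), hg⟩

end Cfsg.Agent.Classical.UnitaryRegular
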