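import Cfsg.Agent.Lib.Forms.SpecialOrth

/-!
# A uniform criterion for membership in `Ω`

`theta g = (parity, spinor norm)` in every characteristic; `Ω` is its kernel.
-/

set_option autoImplicit false

namespace Cfsg.Agent.Classical.OmegaCrit

open Cfsg.Agent.Forms Cfsg.Agent.Forms.QuadStd Cfsg.Agent.Forms.Reflections
open Cfsg.Agent.Forms.Spinor Cfsg.Agent.Forms.SpecialOrth

variable {F : Type*} [Field F] [Fintype F]

open scoped _root_.Classical in
/-- The square class of a scalar as a sign. -/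
noncomputable def chi (a : F) : ℤˣ := if IsSquare a then 1 else -1

theorem chi_eq_one_iff {a : F} : chi a = 1 ↔ IsSquare a := by
  unfold chi; split_ifs with h <;> simp [h]

theorem chi_eq_neg_one_iff {a : F} : chi a = -1 ↔ ¬ IsSquare a := by
  unfold chi; split_ifs with h <;> simp [h]

theorem chi_one : chi (1 : F) = 1 := chi_eq_one_iff.2 IsSquare.one

theorem chi_two (h2 : (2 : F) = 0) (a : F) : chi a = 1 := by
  have : CharP F 2 := CharTwo.of_one_ne_zero_of_two_eq_zero one_ne_zero h2
  exact chi_eq_one_iff.2 (FiniteField.isSquare_of_char_two (ringChar.eq F 2) a)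

theorem chi_mul {a b : F} (ha : a ≠ 0) (hb : b ≠ 0) : chi (a * b) = chi a * chi b := by
  by_cases h1 : IsSquare a <;> by_cases h2 : IsSquare b
  · rw [chi_eq_one_iff.2 h1, chi_eq_one_iff.2 h2, chi_eq_one_iff.2 (h1.mul h2), one_mul]
  · rw [chi_eq_one_iff.2 h1, chi_eq_neg_one_iff.2 h2, chi_eq_neg_one_iff.2, one_mul]
    intro h
    obtain ⟨r, hr⟩ := h1
    obtain ⟨s, hs⟩ := h
    have hr0 : r ≠ 0 := by rintro rfl; exact ha (by simpa using hr)
    exact h2 ⟨s / r, by rw [hr] at hs; field_simp; linear_combination hs⟩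
  · rw [chi_eq_neg_one_iff.2 h1, chi_eq_one_iff.2 h2, chi_eq_neg_one_iff.2, mul_one]
    intro h
    obtain ⟨r, hr⟩ := h2
    obtain ⟨s, hs⟩ := h
    have hr0 : r ≠ 0 := by rintro rfl; exact hb (by simpa using hr)
    exact h1 ⟨s / r, by rw [hr] at hs; field_simp; linear_combination hs⟩
  · rw [chi_eq_neg_one_iff.2 h1, chi_eq_neg_one_iff.2 h2,
      chi_eq_one_iff.2 (Bases.isSquare_mul_of_not h1 h2)]
    rfl

theorem chi_inv {a : F} (ha : a ≠ 0) : chi a⁻¹ = chi a := by
  have h := chi_mul ha (inv_ne_zero ha)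
  rw [mul_inv_cancel₀ ha, chi_one] at h
  exact (mul_eq_one_iff_eq_inv.1 h.symm).trans (Int.units_inv_eq_self _) |>.symm

theorem chi_prod (l : List F) (h : ∀ a ∈ l, a ≠ 0) : chi l.prod = (l.map chi).prod := by
  induction l with
  | nil => simp [chi_one]
  | cons a l ih =>
    simp only [List.mem_cons, forall_eq_or_imp] at h
    rw [List.prod_cons, chi_mul h.1 (List.prod_ne_zero fun h0 => h.2 0 h0 rfl), List.map_cons,
      List.prod_cons, ih h.2]

theorem exists_nonsquare (h2 : (2 : F) ≠ 0) : ∃ a : F, a ≠ 0 ∧ chi a = -1 := by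
  obtain ⟨α, hα⟩ := FiniteField.exists_nonsquare (F := F) (fun h => h2 (by
    have : CharP F 2 := h ▸ ringChar.charP F
    exact CharTwo.two_eq_zero))
  exact ⟨α, fun h => hα (h ▸ ⟨0, by simp⟩), chi_eq_neg_one_iff.2 hα⟩

variable {ι : Type} [Fintype ι] [DecidableEq ι] {Q : QuadraticForm F (ι → F)}

theorem par_reflect (hQ : (QuadraticMap.polarBilin Q).Nondegenerate) {v : ι → F} (hv : Q v ≠ 0) :
    par (reflect Q v) = -1 := by
  have h1 := par_reflect_mul hQ hv (1 : Cfsg.isometryGroup F ⇑Q)
  rwa [mul_one, par_one] at h1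

variable (hQ : (QuadraticMap.polarBilin Q).Nondegenerate)
variable (h : Fintype.card F ≠ 2 ∨ Fintype.card ι ≠ 4)

open scoped _root_.Classical in
/-- The spinor norm (trivial in characteristic two). -/
noncomputable def sgn (g : Cfsg.isometryGroup F ⇑Q) : ℤˣ :=
  if (2 : F) = 0 then 1 else spin Q 1 g * par g

/-- Parity and spinor norm. -/
noncomputable def theta : Cfsg.isometryGroup F ⇑Q →* ℤˣ × ℤˣ :=
  MonoidHom.mk' (fun g => (par g, sgn g)) fun g g' => by
    refine Prod.ext (par_mul_all hQ h g g') ?_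
    show sgn (g * g') = sgn g * sgn g'
    unfold sgn
    split_ifs
    · rfl
    · rw [map_mul, par_mul_all hQ h g g', mul_mul_mul_comm]

theorem theta_fst (g : Cfsg.isometryGroup F ⇑Q) : (theta hQ h g).1 = par g := rfl

theorem theta_reflect {v : ι → F} (hv : Q v ≠ 0) :
    theta hQ h (reflect Q v) = (-1, chi (Q v)) := by
  classical
  show (par (reflect Q v), sgn (reflect Q v)) = _
  unfold sgn
  rw [par_reflect hQ hv]
  split_ifs with h2
  · rw [chi_two h2]
  · have h1 := congrArg Prod.snd (pairHom_reflect hQ h2 hv)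
    replace h1 : spin Q 1 (reflect Q v) = if IsSquare (Q v) then -1 else 1 := h1
    rw [h1]
    unfold chi
    split_ifs <;> simp

include h hQ in
theorem exists_list (g : Cfsg.isometryGroup F ⇑Q) :
    ∃ vs : List (ι → F), (∀ v ∈ vs, Q v ≠ 0) ∧ g = (vs.map (reflect Q)).prod := by
  have hg : g ∈ refGroup Q := refGroup_eq_top hQ h ▸ Subgroup.mem_top g
  induction hg using Subgroup.closure_induction with
  | mem x hx => obtain ⟨v, hv, rfl⟩ := hx; exact ⟨[v], by simp [hv], by simp⟩
  | one => exact ⟨[], by simp, by simp⟩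
  | mul x y _ _ hx hy =>
    obtain ⟨a, ha, rfl⟩ := hx
    obtain ⟨b, hb, rfl⟩ := hy
    exact ⟨a ++ b, fun v hv => (List.mem_append.1 hv).elim (ha v) (hb v), by simp⟩
  | inv x _ hx =>
    obtain ⟨a, ha, rfl⟩ := hx
    refine ⟨a.reverse, fun v hv => ha v (List.mem_reverse.1 hv), ?_⟩
    rw [List.prod_inv_reverse, List.map_map, List.map_reverse]
    congr 2

theorem theta_list (vs : List (ι → F)) (hvs : ∀ v ∈ vs, Q v ≠ 0) :
    theta hQ h (vs.map (reflect Q)).prod = ((-1) ^ vs.length, chi (vs.map fun v => Q v).prod) := by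
  induction vs with
  | nil => simp [chi_one]; rfl
  | cons v vs ih =>
    simp only [List.mem_cons, forall_eq_or_imp] at hvs
    rw [List.map_cons, List.prod_cons, map_mul, theta_reflect hQ h hvs.1, ih hvs.2, List.map_cons,
      List.prod_cons, chi_mul hvs.1 (List.prod_ne_zero fun h0 => ?_), List.length_cons,
      pow_succ', Prod.mk_mul_mk]
    obtain ⟨w, hw, hw0⟩ := List.mem_map.1 h0
    exact hvs.2 w hw hw0

/-- `Ω` is the kernel of `theta`. -/
theorem mem_omega_iff (g : Cfsg.isometryGroup F ⇑Q) :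
    g ∈ Cfsg.Omega F ⇑Q ↔ theta hQ h g = 1 := by
  classical
  refine ⟨fun hg => Abelianization.commutator_subset_ker _ hg, fun hg => ?_⟩
  have hpar : par g = 1 := congrArg Prod.fst hg
  by_cases hn : Fintype.card ι ≤ 1
  · have hle : Module.finrank F ↥(fixSp g) ≤ Fintype.card ι :=
      (Submodule.finrank_le _).trans (Module.finrank_pi F).le
    have htop : fixSp g = ⊤ := by
      refine Submodule.eq_top_of_finrank_eq ?_
      rw [Module.finrank_pi]
      rw [par] at hpar
      by_contra hne
      have : Module.finrank F ↥(fixSp g) + Fintype.card ι = 1 := by omega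
      rw [this, pow_one] at hpar
      exact absurd hpar (by decide)
    have : g = 1 := iso_ext fun x => by
      have := mem_fixSp.1 (htop ▸ Submodule.mem_top : x ∈ fixSp g)
      rw [act_apply] at this
      simpa using this
    rw [this]; exact one_mem _
  · by_cases h2 : (2 : F) = 0
    · have : CharP F 2 := CharTwo.of_one_ne_zero_of_two_eq_zero one_ne_zero h2
      let φ : Cfsg.isometryGroup F ⇑Q →* ℤˣ := MonoidHom.mk' par (par_mul_all hQ h)
      have hle : Cfsg.Omega F ⇑Q ≤ φ.ker := Abelianization.commutator_subset_ker _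
      obtain ⟨r, hr⟩ : ∃ r, Q r ≠ 0 := by
        by_contra hex
        push Not at hex
        have : Nonempty ι := Fintype.card_pos_iff.1 (by omega)
        obtain ⟨i⟩ := this
        exact one_ne_zero (congrFun
          (hQ.1 (fun _ : ι => (1 : F)) fun z => by simp [QuadraticMap.polar, hex]) i)
      have hsurj : Function.Surjective φ := fun x => by
        rcases Int.units_eq_one_or x with rfl | rfl
        exacts [⟨1, map_one _⟩, ⟨_, par_reflect hQ hr⟩]
      have hidx : φ.ker.index = 2 := by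
        rw [Subgroup.index_ker, MonoidHom.range_eq_top.2 hsurj, Subgroup.card_top,
          Nat.card_eq_fintype_card]
        rfl
      have h1 := Subgroup.relIndex_mul_index hle
      rw [hidx, omega_index_two hQ h (by omega)] at h1
      have h1' := Nat.eq_of_mul_eq_mul_right two_pos (h1.trans (one_mul 2).symm)
      exact Subgroup.relIndex_eq_one.1 h1' (MonoidHom.mem_ker.2 hpar)
    · rw [← ker_pairHom hQ h2 (by omega), MonoidHom.mem_ker]
      have hs : sgn g = 1 := congrArg Prod.snd hg
      rw [sgn, if_neg h2, hpar, mul_one] at hs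
      exact Prod.ext hpar hs

include h hQ in
/-- In characteristic two `Ω` is cut out by the parity. -/
theorem mem_omega_iff_par (h2 : (2 : F) = 0) (g : Cfsg.isometryGroup F ⇑Q) :
    g ∈ Cfsg.Omega F ⇑Q ↔ par g = 1 := by
  rw [mem_omega_iff hQ h]
  refine ⟨fun hg => congrArg Prod.fst hg, fun hg => Prod.ext hg ?_⟩
  show sgn g = 1
  rw [sgn, if_pos h2]

include h hQ in
/-- The determinant is the parity in odd characteristic. -/
theorem det_eq_par (g : Cfsg.isometryGroup F ⇑Q) :
    ((g : Matrix.GeneralLinearGroup ι F) : Matrix ι ι F).det = (((par g : ℤˣ) : ℤ) : F) := by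
  obtain ⟨vs, hvs, rfl⟩ := exists_list hQ h g
  rw [← theta_fst hQ h, theta_list hQ h vs hvs]
  induction vs with
  | nil => simp
  | cons v vs ih =>
    simp only [List.mem_cons, forall_eq_or_imp] at hvs
    rw [List.map_cons, List.prod_cons, det_mul_iso, det_reflect hvs.1, ih hvs.2, List.length_cons]
    simp [pow_succ]

/-- An embedding carrying reflections to reflections preserves `theta`. -/
theorem theta_map {κ : Type} [Fintype κ] [DecidableEq κ] {P : QuadraticForm F (κ → F)}
    (hP : (QuadraticMap.polarBilin P).Nondegenerate)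
    (h' : Fintype.card F ≠ 2 ∨ Fintype.card κ ≠ 4)
    (ψ : Cfsg.isometryGroup F ⇑Q →* Cfsg.isometryGroup F ⇑P) (f : (ι → F) → (κ → F))
    (hf : ∀ v, P (f v) = Q v) (hψ : ∀ v, Q v ≠ 0 → ψ (reflect Q v) = reflect P (f v))
    (g : Cfsg.isometryGroup F ⇑Q) : theta hP h' (ψ g) = theta hQ h g := by
  obtain ⟨vs, hvs, rfl⟩ := exists_list hQ h g
  induction vs with
  | nil => simp
  | cons v vs ih =>
    simp only [List.mem_cons, forall_eq_or_imp] at hvs
    rw [List.map_cons, List.prod_cons, map_mul, map_mul, map_mul, ih hvs.2, hψ v hvs.1,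
      theta_reflect hP h' (by rw [hf]; exact hvs.1), theta_reflect hQ h hvs.1, hf]

theorem nondeg_val {B : LinearMap.BilinForm F (ι → F)} {W : Submodule F (ι → F)}
    (hW : Bases.NondegOn B W) (hB : B = polB Q) (hpos : W ≠ ⊥) : ∃ u ∈ W, Q u ≠ 0 := by
  subst hB
  by_contra hall
  push Not at hall
  obtain ⟨x, hx, hx0⟩ := Submodule.exists_mem_ne_zero_of_ne_bot hpos
  exact hx0 (hW x hx fun y hy => by
    simp [polB_apply, QuadraticMap.polar, hall _ hx, hall _ hy, hall _ (add_mem hx hy)])

/-- Values of `Q` on a non-degenerate subspace of dimension at least two. -/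
theorem exists_value_on (h2 : (2 : F) ≠ 0) {W : Submodule F (ι → F)}
    (hW : Bases.NondegOn (polB Q) W) (hn : 2 ≤ Module.finrank F W) {c : F} (hc : c ≠ 0) :
    ∃ u ∈ W, Q u = c := by
  obtain ⟨u, huW, hu, -⟩ := Bases.exists_symm_unit h2 (polB Q)
    ⟨fun u v => QuadraticMap.polar_comm _ u v⟩ W hW hn (2 * c) (mul_ne_zero h2 hc)
  refine ⟨u, huW, ?_⟩
  rw [polB_apply, QuadraticMap.polar_self] at hu
  simp at hu
  exact hu.resolve_right h2

end Cfsg.Agent.Classical.OmegaCrit
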