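import Cfsg.Agent.Lib.Classical.OmegaCrit

/-!
# Scalings of hyperbolic pairs, maximal totally singular subspaces
-/

set_option autoImplicit false

namespace Cfsg.Agent.Classical.OmegaScale

open Cfsg.Agent.Forms Cfsg.Agent.Forms.QuadStd Cfsg.Agent.Forms.Reflections
open Cfsg.Agent.Classical.OmegaCrit Module

variable {F : Type*} [Field F] [Fintype F] {ι : Type} [Fintype ι] [DecidableEq ι]
variable {Q : QuadraticForm F (ι → F)}

theorem act_scale {e f : ι → F} (he : Q e = 0) (hf : Q f = 0)
    (hef : QuadraticMap.polar Q e f = 1) {c : F} (hc : c ≠ 0) (v : ι → F) :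
    Q (e - f) = -1 ∧ Q (e - c • f) = -c ∧
    act (reflect Q (e - f) * reflect Q (e - c • f)) v =
      v + ((c - 1) * QuadraticMap.polar Q f v) • e + ((c⁻¹ - 1) * QuadraticMap.polar Q e v) • f := by
  have h1 : ∀ t : F, Q (e - t • f) = -t := fun t => by
    rw [sub_eq_add_neg, ← neg_smul, QuadraticMap.map_add Q, QuadraticMap.map_smul,
      QuadraticMap.polar_smul_right, he, hf, hef]
    simp
  have h11 : Q (e - f) = -1 := by have := h1 1; rwa [one_smul] at this
  have hee : QuadraticMap.polar Q e e = 0 := by simp [QuadraticMap.polar_self, he]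
  have hff : QuadraticMap.polar Q f f = 0 := by simp [QuadraticMap.polar_self, hf]
  have hfe : QuadraticMap.polar Q f e = 1 := by rw [QuadraticMap.polar_comm]; exact hef
  refine ⟨h11, h1 c, ?_⟩
  rw [act_mul, act_reflect _ (v := e - c • f), act_reflect, h1 c, h11]
  simp only [QuadraticMap.polar_sub_left, QuadraticMap.polar_smul_left,
    QuadraticMap.polar_sub_right, QuadraticMap.polar_smul_right, hee, hff, hfe, hef, smul_eq_mul]
  match_scalars <;> field_simp <;> ring

omit [Fintype F] in
theorem act_injective (g : Cfsg.isometryGroup F ⇑Q) : Function.Injective (act g) := fun x y hxy => by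
  simpa [Spinor.act_inv_cancel] using congrArg (act g⁻¹) hxy

variable (hQ : (QuadraticMap.polarBilin Q).Nondegenerate)
variable (h : Fintype.card F ≠ 2 ∨ Fintype.card ι ≠ 4)

theorem theta_scale {e f : ι → F} (he : Q e = 0) (hf : Q f = 0)
    (hef : QuadraticMap.polar Q e f = 1) {c : F} (hc : c ≠ 0) :
    theta hQ h (reflect Q (e - f) * reflect Q (e - c • f)) = (1, chi c) := by
  obtain ⟨h1, h2, -⟩ := act_scale he hf hef hc (0 : ι → F)
  rw [map_mul, theta_reflect hQ h (by rw [h1]; simp), theta_reflect hQ h (by rw [h2]; simpa using hc),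
    h1, h2, Prod.mk_mul_mk, ← chi_mul (by simp) (by simpa using hc)]
  simp

include hQ in
/-- Stabilisers of totally singular subspaces contain elements of every spinor norm. -/
theorem exists_scale {W : Submodule F (ι → F)} (hW : ∀ w ∈ W, Q w = 0) (hne : W ≠ ⊥) {c : F}
    (hc : c ≠ 0) :
    ∃ g : Cfsg.isometryGroup F ⇑Q, W.map (act g) = W ∧ theta hQ h g = (1, chi c) := by
  obtain ⟨e, heW, he0⟩ := Submodule.exists_mem_ne_zero_of_ne_bot hne
  obtain ⟨φ, hφe⟩ : ∃ φ : Module.Dual F (ι → F), φ e = 1 := by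
    obtain ⟨φ, hφ⟩ := Module.Projective.exists_dual_ne_zero F he0
    exact ⟨(φ e)⁻¹ • φ, by simp [hφ]⟩
  let B : LinearMap.BilinForm F (ι → F) := polB Q
  set f₀ := (B.toDual hQ).symm φ with hf₀
  have hB : ∀ x, QuadraticMap.polar Q f₀ x = φ x := fun x =>
    LinearMap.BilinForm.apply_toDual_symm_apply (B := B) (hB := hQ) φ x
  have hWW : ∀ x ∈ W, ∀ y ∈ W, QuadraticMap.polar Q x y = 0 := fun x hx y hy => by
    simp [QuadraticMap.polar, hW _ hx, hW _ hy, hW _ (add_mem hx hy)]
  set f := f₀ + (-Q f₀) • e with hf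
  have hQe := hW e heW
  have hef : QuadraticMap.polar Q e f = 1 := by
    rw [hf, QuadraticMap.polar_add_right, QuadraticMap.polar_smul_right, hWW e heW e heW,
      QuadraticMap.polar_comm, hB, hφe, smul_zero, add_zero]
  have hQf : Q f = 0 := by
    rw [hf, QuadraticMap.map_add Q, QuadraticMap.map_smul, hQe, QuadraticMap.polar_smul_right, hB,
      hφe]
    simp
  refine ⟨reflect Q (e - f) * reflect Q (e - c • f), ?_, theta_scale hQ h hQe hQf hef hc⟩
  have hle : W.map (act (reflect Q (e - f) * reflect Q (e - c • f))) ≤ W := by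
    rintro _ ⟨x, hx, rfl⟩
    rw [(act_scale hQe hQf hef hc x).2.2, hWW e heW x hx, mul_zero, zero_smul, add_zero]
    exact add_mem hx (W.smul_mem _ heW)
  refine Submodule.eq_of_le_of_finrank_eq hle ?_
  exact (Submodule.equivMapOfInjective _ (act_injective _) W).finrank_eq.symm

omit [Fintype F] in
theorem map_map_act (g g' : Cfsg.isometryGroup F ⇑Q) (W : Submodule F (ι → F)) :
    W.map (act (g * g')) = (W.map (act g')).map (act g) := by
  rw [← Submodule.map_comp]
  congr 1
  exact LinearMap.ext (act_mul g g')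

section maximal

variable {m : ℕ} (hm : Fintype.card ι = 2 * m)

include hQ hm

omit [Fintype F] in
theorem orth_eq {W : Submodule F (ι → F)} (hW : ∀ w ∈ W, Q w = 0) (hd : finrank F W = m)
    {x : ι → F} (hx : ∀ w ∈ W, QuadraticMap.polar Q w x = 0) : x ∈ W := by
  have hle : W ≤ (polB Q).orthogonal W := fun y hy => mem_orth.2 fun w hw => by
    simp [QuadraticMap.polar, hW _ hy, hW _ hw, hW _ (add_mem hw hy)]
  have : finrank F W = finrank F ↥((polB Q).orthogonal W) := by
    rw [LinearMap.BilinForm.finrank_orthogonal (show (polB Q).Nondegenerate from hQ), hd, Module.finrank_pi]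
    omega
  rw [Submodule.eq_of_le_of_finrank_eq hle this]
  exact mem_orth.2 hx

omit [Fintype F] in
/-- A reflection moves a maximal totally singular subspace to the other family. -/
theorem adjacent {U W : Submodule F (ι → F)} (hU : ∀ u ∈ U, Q u = 0) (hUd : finrank F U = m)
    (hW : ∀ w ∈ W, Q w = 0) (hWd : finrank F W = m) {v : ι → F} (hv : Q v ≠ 0) :
    Odd (finrank F ↥(U ⊓ W) + finrank F ↥(U ⊓ W.map (act (reflect Q v)))) := by
  set W' := W.map (act (reflect Q v)) with hW'
  have pz : ∀ {X : Submodule F (ι → F)}, (∀ w ∈ X, Q w = 0) →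
      ∀ x ∈ X, ∀ y ∈ X, QuadraticMap.polar Q x y = 0 := fun hX x hx y hy => by
    simp [QuadraticMap.polar, hX _ hx, hX _ hy, hX _ (add_mem hx hy)]
  have hW'0 : ∀ w ∈ W', Q w = 0 := by
    rintro _ ⟨w, hw, rfl⟩; rw [act_map]; exact hW w hw
  set H := W ⊓ LinearMap.ker (polB Q v) with hH
  have hHW' : H ≤ W' := fun x hx => by
    obtain ⟨hxW, hxv⟩ := Submodule.mem_inf.1 hx
    refine ⟨x, hxW, ?_⟩
    rw [act_reflect, show QuadraticMap.polar Q v x = 0 from hxv, mul_zero, zero_smul, sub_zero]
  have hvW : v ∉ W := fun hh => hv (hW v hh)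
  obtain ⟨a, haW, hav⟩ : ∃ a ∈ W, QuadraticMap.polar Q v a ≠ 0 := by
    by_contra hall
    push Not at hall
    exact hvW (orth_eq hQ hm hW hWd fun w hw => by
      rw [QuadraticMap.polar_comm]; exact hall w hw)
  -- `W ⊓ W' = H`
  have hWW' : ∀ x ∈ W, x ∈ W' → x ∈ H := by
    rintro x hx ⟨w, hw, rfl⟩
    rw [act_reflect] at hx ⊢
    have ht : (Q v)⁻¹ * QuadraticMap.polar Q v w = 0 := by
      by_contra ht
      exact hvW ((Submodule.smul_mem_iff W ht).1 (by simpa using sub_mem hw hx))
    rw [ht, zero_smul, sub_zero]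
    exact Submodule.mem_inf.2 ⟨hw, ((mul_eq_zero.1 ht).resolve_left (inv_ne_zero hv))⟩
  -- every element of `W` is in `H + F a`
  have hdec : ∀ {w}, w ∈ W → ∃ t : F, w - t • a ∈ H := fun {w} hw =>
    ⟨QuadraticMap.polar Q v w / QuadraticMap.polar Q v a,
      Submodule.mem_inf.2 ⟨sub_mem hw (W.smul_mem _ haW), by
        rw [LinearMap.mem_ker, map_sub, map_smul, polB_apply, polB_apply, smul_eq_mul,
          div_mul_cancel₀ _ hav, sub_self]⟩⟩
  set a' := act (reflect Q v) a with ha'
  have ha'W' : a' ∈ W' := ⟨a, haW, rfl⟩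
  have ha'W : a' ∉ W := fun hh => hav (by
    have := (Submodule.mem_inf.1 (hWW' a' hh ha'W')).2
    rw [LinearMap.mem_ker, ha', act_reflect, map_sub, map_smul, polB_apply, polB_apply,
      QuadraticMap.polar_self, smul_eq_mul, nsmul_eq_mul] at this
    field_simp at this
    push_cast at this
    linear_combination -this)
  have hdec' : ∀ {w}, w ∈ W' → ∃ t : F, w - t • a' ∈ H := by
    rintro _ ⟨w, hw, rfl⟩
    obtain ⟨t, ht⟩ := hdec hw
    refine ⟨t, ?_⟩
    rw [ha', ← map_smul, ← map_sub, act_reflect,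
      show QuadraticMap.polar Q v (w - t • a) = 0 from (Submodule.mem_inf.1 ht).2, mul_zero,
      zero_smul, sub_zero]
    exact ht
  -- dimension of `H`
  have hHd : finrank F H + 1 = m := by
    rw [← hWd]
    have h1 := LinearMap.finrank_range_add_finrank_ker ((polB Q v).domRestrict W)
    have h2 : finrank F (LinearMap.range ((polB Q v).domRestrict W)) = 1 := by
      rw [LinearMap.range_eq_top.2, finrank_top, Module.finrank_self]
      intro y
      exact ⟨(y / QuadraticMap.polar Q v a) • ⟨a, haW⟩, by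
        simp [polB_apply, div_mul_cancel₀ _ hav]⟩
    have h3 : finrank F (LinearMap.ker ((polB Q v).domRestrict W)) = finrank F H := by
      rw [LinearMap.ker_domRestrict,
        ← (Submodule.comapSubtypeEquivOfLe (inf_le_left : H ≤ W)).finrank_eq]
      rw [Submodule.comap_inf, Submodule.comap_subtype_self, top_inf_eq]
    omega
  -- the two intersections
  have hle : ∀ (X : Submodule F (ι → F)) (b : ι → F), H ≤ X →
      (∀ {w}, w ∈ X → ∃ t : F, w - t • b ∈ H) →
      finrank F ↥(U ⊓ H) ≤ finrank F ↥(U ⊓ X) ∧ finrank F ↥(U ⊓ X) ≤ finrank F ↥(U ⊓ H) + 1 ∧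
        (finrank F ↥(U ⊓ H) < finrank F ↥(U ⊓ X) ↔ ∃ x ∈ U, x ∈ X ∧ x ∉ H) := by
    intro X b hHX hX
    refine ⟨Submodule.finrank_mono (inf_le_inf_left _ hHX), ?_, ?_⟩
    · by_cases hex : ∃ x ∈ U, x ∈ X ∧ x ∉ H
      · obtain ⟨x, hxU, hxX, hxH⟩ := hex
        have : U ⊓ X ≤ (U ⊓ H) ⊔ Submodule.span F {x} := by
          intro y hy
          obtain ⟨hyU, hyX⟩ := Submodule.mem_inf.1 hy
          obtain ⟨s, hs⟩ := hX hxX
          obtain ⟨t, ht⟩ := hX hyX
          have hs0 : s ≠ 0 := fun h0 => hxH (by simpa [h0] using hs)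
          refine Submodule.mem_sup.2 ⟨y - (t / s) • x, Submodule.mem_inf.2
            ⟨sub_mem hyU (U.smul_mem _ hxU), ?_⟩, _, Submodule.smul_mem _ (t / s)
              (Submodule.mem_span_singleton_self x), sub_add_cancel _ _⟩
          have e : y - (t / s) • x = (y - t • b) - (t / s) • (x - s • b) := by
            rw [smul_sub, smul_smul, div_mul_cancel₀ _ hs0]; abel
          rw [e]
          exact sub_mem ht (H.smul_mem _ hs)
        refine (Submodule.finrank_mono this).trans
          ((Submodule.finrank_add_le_finrank_add_finrank _ _).trans ?_)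
        exact Nat.add_le_add_left ((finrank_span_le_card _).trans (by simp)) _
      · push Not at hex
        exact (Submodule.finrank_mono fun y hy => Submodule.mem_inf.2
          ⟨(Submodule.mem_inf.1 hy).1, hex y (Submodule.mem_inf.1 hy).1
            (Submodule.mem_inf.1 hy).2⟩).trans (Nat.le_succ _)
    · constructor
      · intro hlt
        by_contra hex
        push Not at hex
        exact absurd hlt (not_lt.2 (Submodule.finrank_mono fun y hy => Submodule.mem_inf.2
          ⟨(Submodule.mem_inf.1 hy).1, hex y (Submodule.mem_inf.1 hy).1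
            (Submodule.mem_inf.1 hy).2⟩))
      · rintro ⟨x, hxU, hxX, hxH⟩
        exact Submodule.finrank_lt_finrank_of_lt (lt_of_le_of_ne (inf_le_inf_left _ hHX) fun he =>
          hxH (Submodule.mem_inf.1 (he ▸ Submodule.mem_inf.2 ⟨hxU, hxX⟩ : x ∈ U ⊓ H)).2)
  obtain ⟨l1, u1, i1⟩ := hle W a inf_le_left hdec
  obtain ⟨l2, u2, i2⟩ := hle W' a' hHW' hdec'
  have notboth : ¬ ((∃ x ∈ U, x ∈ W ∧ x ∉ H) ∧ ∃ x ∈ U, x ∈ W' ∧ x ∉ H) := by
    rintro ⟨⟨x, hxU, hxW, hxH⟩, ⟨y, hyU, hyW', hyH⟩⟩
    refine hyH (hWW' y (orth_eq hQ hm hW hWd fun w hw => ?_) hyW')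
    obtain ⟨s, hs⟩ := hdec hxW
    obtain ⟨t, ht⟩ := hdec hw
    have hs0 : s ≠ 0 := fun h0 => hxH (by simpa [h0] using hs)
    have e : w = (w - t • a) - (t / s) • (x - s • a) + (t / s) • x := by
      rw [smul_sub, smul_smul, div_mul_cancel₀ _ hs0]; abel
    rw [e, QuadraticMap.polar_add_left, QuadraticMap.polar_smul_left,
      pz hW'0 _ (hHW' (sub_mem ht (H.smul_mem _ hs))) _ hyW', pz hU _ hxU _ hyU]
    simp
  have oneof : (∃ x ∈ U, x ∈ W ∧ x ∉ H) ∨ ∃ x ∈ U, x ∈ W' ∧ x ∉ H := by
    have hHU : finrank F ↥(U ⊓ H) < finrank F ↥(U ⊓ (polB Q).orthogonal H) := by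
      have h1 : U ⊔ (polB Q).orthogonal H ≤ (polB Q).orthogonal (U ⊓ H) :=
        sup_le (fun x hx => mem_orth.2 fun y hy => pz hU _ (Submodule.mem_inf.1 hy).1 _ hx)
          (LinearMap.BilinForm.orthogonal_le inf_le_right)
      have h2 := Submodule.finrank_mono h1
      have h3 := Submodule.finrank_sup_add_finrank_inf_eq U ((polB Q).orthogonal H)
      rw [LinearMap.BilinForm.finrank_orthogonal (show (polB Q).Nondegenerate from hQ), Module.finrank_pi] at h2 h3
      have h4 := Submodule.finrank_mono (inf_le_left : U ⊓ H ≤ U)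
      omega
    obtain ⟨u, hu, huH⟩ : ∃ u ∈ U ⊓ (polB Q).orthogonal H, u ∉ U ⊓ H := by
      by_contra hall
      push Not at hall
      exact absurd hHU (not_lt.2 (Submodule.finrank_mono hall))
    obtain ⟨huU, huo⟩ := Submodule.mem_inf.1 hu
    have huH' : u ∉ H := fun hh => huH (Submodule.mem_inf.2 ⟨huU, hh⟩)
    -- split `u` along `W + F a'`
    have hsplit : ∃ t : F, u - t • a' ∈ W := by
      refine ⟨QuadraticMap.polar Q a u / QuadraticMap.polar Q a a', orth_eq hQ hm hW hWd
        fun w hw => ?_⟩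
      obtain ⟨t, ht⟩ := hdec hw
      have hne : QuadraticMap.polar Q a a' ≠ 0 := fun h0 => ha'W (orth_eq hQ hm hW hWd
        fun y hy => by
          obtain ⟨r, hr⟩ := hdec hy
          rw [show y = (y - r • a) + r • a by abel, QuadraticMap.polar_add_left,
            QuadraticMap.polar_smul_left, pz hW'0 _ (hHW' hr) _ ha'W', h0]
          simp)
      rw [show w = (w - t • a) + t • a by abel, QuadraticMap.polar_add_left,
        QuadraticMap.polar_smul_left, QuadraticMap.polar_sub_right, QuadraticMap.polar_sub_right,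
        QuadraticMap.polar_smul_right, QuadraticMap.polar_smul_right,
        show QuadraticMap.polar Q (w - t • a) u = 0 from mem_orth.1 huo _ ht,
        pz hW'0 _ (hHW' ht) _ ha'W']
      simp only [smul_eq_mul]
      field_simp
      ring
    obtain ⟨t, ht⟩ := hsplit
    have hQu : t * QuadraticMap.polar Q (u - t • a') a' = 0 := by
      have h0 := hU u huU
      rw [show u = (u - t • a') + t • a' by abel, QuadraticMap.map_add Q, hW _ ht,
        QuadraticMap.map_smul, hW'0 _ ha'W', QuadraticMap.polar_smul_right] at h0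
      simpa using h0
    rcases mul_eq_zero.1 hQu with h0 | h0
    · exact Or.inl ⟨u, huU, by simpa [h0] using ht, huH'⟩
    · refine Or.inr ⟨u, huU, ?_, huH'⟩
      have : u - t • a' ∈ W' := orth_eq hQ hm hW'0 (by
          rw [hW', (Submodule.equivMapOfInjective _ (act_injective _) W).finrank_eq.symm, hWd])
        fun y hy => by
          obtain ⟨r, hr⟩ := hdec' hy
          rw [show y = (y - r • a') + r • a' by abel, QuadraticMap.polar_add_left,
            QuadraticMap.polar_smul_left, pz hW _ (Submodule.mem_inf.1 hr).1 _ ht,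
            QuadraticMap.polar_comm, h0]
          simp
      simpa using add_mem this (W'.smul_mem t ha'W')
  rw [← i1, ← i2] at notboth oneof
  rw [Nat.odd_iff]
  omega

include h in
/-- The parity of an isometry via a maximal totally singular subspace. -/
theorem par_eq_neg_one_pow {U : Submodule F (ι → F)} (hU : ∀ u ∈ U, Q u = 0)
    (hUd : finrank F U = m) (g : Cfsg.isometryGroup F ⇑Q) :
    par g = (-1) ^ (m - finrank F ↥(U ⊓ U.map (act g))) := by
  obtain ⟨vs, hvs, rfl⟩ := exists_list hQ h g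
  induction vs with
  | nil =>
    have : U.map (act (1 : Cfsg.isometryGroup F ⇑Q)) = U := by
      rw [show act (1 : Cfsg.isometryGroup F ⇑Q) = LinearMap.id from LinearMap.ext act_one,
        Submodule.map_id]
    rw [List.map_nil, List.prod_nil, this, inf_idem, hUd, Nat.sub_self, pow_zero, par_one]
  | cons v vs ih =>
    simp only [List.mem_cons, forall_eq_or_imp] at hvs
    rw [List.map_cons, List.prod_cons, par_reflect_mul hQ hvs.1, ih hvs.2, map_map_act]
    set g' := (vs.map (reflect Q)).prod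
    have hW : ∀ w ∈ U.map (act g'), Q w = 0 := by
      rintro _ ⟨w, hw, rfl⟩; rw [act_map]; exact hU w hw
    have hWd : finrank F ↥(U.map (act g')) = m :=
      (Submodule.equivMapOfInjective _ (act_injective _) U).finrank_eq.symm.trans hUd
    have hodd := adjacent hQ hm hU hUd hW hWd hvs.1
    have l1 := Submodule.finrank_mono (inf_le_left : U ⊓ U.map (act g') ≤ U)
    have l2 := Submodule.finrank_mono
      (inf_le_left : U ⊓ (U.map (act g')).map (act (reflect Q v)) ≤ U)
    rw [hUd] at l1 l2
    rw [Nat.odd_iff] at hodd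
    rcases Nat.even_or_odd (m - finrank F ↥(U ⊓ U.map (act g'))) with he | he
    · rw [he.neg_one_pow, Odd.neg_one_pow]
      rw [Nat.odd_iff]; rw [Nat.even_iff] at he; omega
    · rw [he.neg_one_pow, neg_neg, Even.neg_one_pow]
      rw [Nat.even_iff]; rw [Nat.odd_iff] at he; omega

end maximal

end Cfsg.Agent.Classical.OmegaScale
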