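import Cfsg.Agent.Lib.Classical.OmegaCrit

/-!
# `Ω` of an orthogonal direct sum
-/

set_option autoImplicit false

namespace Cfsg.Agent.Classical.OmegaSum

open Cfsg.Agent.Forms Cfsg.Agent.Forms.QuadStd Cfsg.Agent.Forms.Reflections
open Cfsg.Agent.Classical.OmegaCrit Matrix

variable {F : Type*} [Field F] {ι κ : Type} [Fintype ι] [DecidableEq ι] [Fintype κ] [DecidableEq κ]
variable (Q₁ : QuadraticForm F (ι → F)) (Q₂ : QuadraticForm F (κ → F))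

/-- The orthogonal sum of two forms. -/
noncomputable def sumQ : QuadraticForm F (ι ⊕ κ → F) :=
  Q₁.comp (LinearMap.funLeft F F Sum.inl) + Q₂.comp (LinearMap.funLeft F F Sum.inr)

omit [Fintype ι] [DecidableEq ι] [Fintype κ] [DecidableEq κ] in
theorem sumQ_eq : ⇑(sumQ Q₁ Q₂) = fun v : ι ⊕ κ → F => Q₁ (v ∘ Sum.inl) + Q₂ (v ∘ Sum.inr) := rfl

omit [Fintype ι] [DecidableEq ι] [Fintype κ] [DecidableEq κ] in
theorem sumQ_polar (u v : ι ⊕ κ → F) :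
    QuadraticMap.polar (sumQ Q₁ Q₂) u v = QuadraticMap.polar Q₁ (u ∘ Sum.inl) (v ∘ Sum.inl) +
      QuadraticMap.polar Q₂ (u ∘ Sum.inr) (v ∘ Sum.inr) := by
  simp only [QuadraticMap.polar, sumQ_eq]
  rw [show (u + v) ∘ Sum.inl = u ∘ Sum.inl + v ∘ Sum.inl from rfl,
    show (u + v) ∘ Sum.inr = u ∘ Sum.inr + v ∘ Sum.inr from rfl]
  ring

variable {Q₁ Q₂}

omit [Fintype ι] [DecidableEq ι] [Fintype κ] [DecidableEq κ] in
theorem sumQ_nondeg (h₁ : (QuadraticMap.polarBilin Q₁).Nondegenerate)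
    (h₂ : (QuadraticMap.polarBilin Q₂).Nondegenerate) :
    (QuadraticMap.polarBilin (sumQ Q₁ Q₂)).Nondegenerate := by
  have hp : ∀ x, (∀ y, QuadraticMap.polar (sumQ Q₁ Q₂) x y = 0) → x = 0 := by
    intro x hx
    have e1 : x ∘ Sum.inl = 0 := h₁.1 _ fun z => by
      simpa [sumQ_polar, Sum.elim_comp_inl, Sum.elim_comp_inr] using hx (Sum.elim z (0 : κ → F))
    have e2 : x ∘ Sum.inr = 0 := h₂.1 _ fun z => by
      simpa [sumQ_polar, Sum.elim_comp_inl, Sum.elim_comp_inr] using hx (Sum.elim (0 : ι → F) z)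
    funext i
    rcases i with i | i
    · exact congrFun e1 i
    · exact congrFun e2 i
  exact ⟨fun x hx => hp x hx,
    fun x hx => hp x fun y => (QuadraticMap.polar_comm _ x y).trans (hx y)⟩

variable (Q₁ Q₂)

/-- Block diagonal matrices as a monoid homomorphism. -/
def blockHom : Matrix ι ι F × Matrix κ κ F →* Matrix (ι ⊕ κ) (ι ⊕ κ) F where
  toFun a := fromBlocks a.1 0 0 a.2
  map_one' := fromBlocks_one
  map_mul' a b := by simp [fromBlocks_multiply]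

/-- Block diagonal units. -/
noncomputable def blockUnits : GL ι F × GL κ F →* GL (ι ⊕ κ) F :=
  (Units.map blockHom).comp MulEquiv.prodUnits.symm.toMonoidHom

theorem blockUnits_mem (a : ↥(Cfsg.isometryGroup F ⇑Q₁) × ↥(Cfsg.isometryGroup F ⇑Q₂)) :
    blockUnits (a.1.1, a.2.1) ∈ Cfsg.isometryGroup F ⇑(sumQ Q₁ Q₂) := by
  refine (mem_isometry_iff _ _).2 fun v => ?_
  show sumQ Q₁ Q₂ (fromBlocks (a.1.1 : Matrix ι ι F) 0 0 (a.2.1 : Matrix κ κ F) *ᵥ v) = _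
  rw [fromBlocks_mulVec, sumQ_eq]
  simp only [Sum.elim_comp_inl, Sum.elim_comp_inr, zero_mulVec, add_zero, zero_add, iso_mulVec]

/-- `O(Q₁) × O(Q₂) → O(Q₁ ⊕ Q₂)`. -/
noncomputable def blockIso : ↥(Cfsg.isometryGroup F ⇑Q₁) × ↥(Cfsg.isometryGroup F ⇑Q₂) →*
    ↥(Cfsg.isometryGroup F ⇑(sumQ Q₁ Q₂)) :=
  MonoidHom.codRestrict (blockUnits.comp
    ((Cfsg.isometryGroup F ⇑Q₁).subtype.prodMap (Cfsg.isometryGroup F ⇑Q₂).subtype)) _
    (blockUnits_mem Q₁ Q₂)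

theorem blockIso_val (a : ↥(Cfsg.isometryGroup F ⇑Q₁) × ↥(Cfsg.isometryGroup F ⇑Q₂)) :
    (((blockIso Q₁ Q₂ a : ↥(Cfsg.isometryGroup F ⇑(sumQ Q₁ Q₂))) : GL (ι ⊕ κ) F) :
      Matrix (ι ⊕ κ) (ι ⊕ κ) F) =
      fromBlocks ((a.1 : GL ι F) : Matrix ι ι F) 0 0 ((a.2 : GL κ F) : Matrix κ κ F) := rfl

theorem act_block (a : ↥(Cfsg.isometryGroup F ⇑Q₁) × ↥(Cfsg.isometryGroup F ⇑Q₂))
    (v : ι ⊕ κ → F) : act (blockIso Q₁ Q₂ a) v =
      Sum.elim (act a.1 (v ∘ Sum.inl)) (act a.2 (v ∘ Sum.inr)) := by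
  rw [act_apply, blockIso_val, fromBlocks_mulVec, act_apply, act_apply]
  simp

/-- The first factor. -/
noncomputable def leftHom :
    ↥(Cfsg.isometryGroup F ⇑Q₁) →* ↥(Cfsg.isometryGroup F ⇑(sumQ Q₁ Q₂)) :=
  (blockIso Q₁ Q₂).comp (MonoidHom.inl _ _)

theorem leftHom_reflect (v : ι → F) :
    leftHom Q₁ Q₂ (reflect Q₁ v) = reflect (sumQ Q₁ Q₂) (Sum.elim v 0) := by
  refine iso_ext fun w => ?_
  rw [← act_apply, ← act_apply, act_reflect]
  show act (blockIso Q₁ Q₂ (reflect Q₁ v, 1)) w = _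
  rw [act_block, act_one, act_reflect, sumQ_polar, sumQ_eq]
  simp only [Sum.elim_comp_inl, Sum.elim_comp_inr, QuadraticMap.map_zero, add_zero,
    QuadraticMap.polar_zero_left]
  funext z
  rcases z with z | z <;> simp

variable [Fintype F] {Q₁ Q₂}

theorem theta_left (h₁ : (QuadraticMap.polarBilin Q₁).Nondegenerate)
    (h₂ : (QuadraticMap.polarBilin Q₂).Nondegenerate)
    (h : Fintype.card F ≠ 2 ∨ Fintype.card ι ≠ 4)
    (h' : Fintype.card F ≠ 2 ∨ Fintype.card (ι ⊕ κ) ≠ 4) (g : ↥(Cfsg.isometryGroup F ⇑Q₁)) :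
    theta (sumQ_nondeg h₁ h₂) h' (leftHom Q₁ Q₂ g) = theta h₁ h g :=
  theta_map h₁ h (sumQ_nondeg h₁ h₂) h' (leftHom Q₁ Q₂) (fun v => Sum.elim v 0)
    (fun v => by simp [sumQ_eq]) (fun v _ => leftHom_reflect Q₁ Q₂ v) g

omit κ in
/-- The diagonal `diag (g, g)` lies in `Ω`. -/
theorem diag_mem_omega {Q : QuadraticForm F (ι → F)} (hQ : (QuadraticMap.polarBilin Q).Nondegenerate)
    (h' : Fintype.card F ≠ 2 ∨ Fintype.card (ι ⊕ ι) ≠ 4) (g : ↥(Cfsg.isometryGroup F ⇑Q)) :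
    blockIso Q Q (g, g) ∈ Cfsg.Omega F ⇑(sumQ Q Q) := by
  let e : (ι ⊕ ι → F) ≃ₗ[F] (ι ⊕ ι → F) := LinearEquiv.funCongrLeft F F (Equiv.sumComm ι ι)
  have he : ∀ v, sumQ Q Q (e v) = sumQ Q Q v := fun v => by
    rw [sumQ_eq]
    show Q ((v ∘ Sum.swap) ∘ Sum.inl) + Q ((v ∘ Sum.swap) ∘ Sum.inr) = _
    rw [add_comm]
    rfl
  set σ := isoOfEquiv ⇑(sumQ Q Q) e he with hσ
  have hR : blockIso Q Q (1, g) = σ * blockIso Q Q (g, 1) * σ⁻¹ := by
    rw [eq_mul_inv_iff_mul_eq]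
    refine iso_ext fun w => ?_
    rw [← act_apply, ← act_apply, act_mul, act_mul, act_block, act_block, act_apply σ, act_apply σ,
      hσ, isoOfEquiv_mulVec, isoOfEquiv_mulVec, act_one, act_one]
    funext z
    rcases z with z | z <;> rfl
  rw [mem_omega_iff (sumQ_nondeg hQ hQ) h', show (g, g) = ((g, 1) * (1, g) :
    ↥(Cfsg.isometryGroup F ⇑Q) × ↥(Cfsg.isometryGroup F ⇑Q)) by simp, map_mul, map_mul, hR, map_mul,
    map_mul, map_inv, mul_comm (theta _ h' σ), mul_assoc, mul_inv_cancel, mul_one]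
  exact Prod.ext (Int.units_mul_self _) (Int.units_mul_self _)

end Cfsg.Agent.Classical.OmegaSum
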