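import Cfsg.Agent.Lib.Classical.OmegaScale
import Cfsg.Agent.Lib.Classical.OrthForms

/-!
# The plus form: Levi elements and the swap
-/

set_option autoImplicit false

namespace Cfsg.Agent.Classical.OmegaPlus

open Cfsg.Agent.Forms Cfsg.Agent.Forms.QuadStd Cfsg.Agent.Forms.Reflections
open Cfsg.Agent.Forms.PlusStd Cfsg.Agent.Classical.OmegaCrit Cfsg.Agent.Classical.OmegaScale
open Matrix Module

variable {F : Type*} [Field F] {m : ℕ}

/-- `A ↦ diag (A, (A⁻¹)ᵀ)`. -/
noncomputable def levi : GL (Fin m) F →* GL (Fin m ⊕ Fin m) F where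
  toFun A := ⟨fromBlocks (A : Matrix (Fin m) (Fin m) F) 0 0
      ((A : Matrix (Fin m) (Fin m) F)⁻¹)ᵀ,
    fromBlocks ((A : Matrix (Fin m) (Fin m) F)⁻¹) 0 0 (A : Matrix (Fin m) (Fin m) F)ᵀ,
    by
      have hd := A.isUnit.map (Matrix.detMonoidHom)
      simp [fromBlocks_multiply, ← transpose_mul, Matrix.mul_nonsing_inv _ hd],
    by
      have hd := A.isUnit.map (Matrix.detMonoidHom)
      simp [fromBlocks_multiply, ← transpose_mul, Matrix.nonsing_inv_mul _ hd]⟩
  map_one' := Units.ext (by simp [fromBlocks_one])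
  map_mul' A B := Units.ext (by
    simp [fromBlocks_multiply, Matrix.mul_inv_rev, transpose_mul])

theorem levi_val (A : GL (Fin m) F) :
    ((levi A : GL (Fin m ⊕ Fin m) F) : Matrix (Fin m ⊕ Fin m) (Fin m ⊕ Fin m) F) =
      fromBlocks (A : Matrix (Fin m) (Fin m) F) 0 0 ((A : Matrix (Fin m) (Fin m) F)⁻¹)ᵀ := rfl

theorem levi_mem (A : GL (Fin m) F) :
    levi A ∈ Cfsg.isometryGroup F ⇑(plusQ F m) := by
  refine (mem_isometry_iff _ _).2 fun v => ?_
  have hd := A.isUnit.map (Matrix.detMonoidHom)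
  rw [levi_val, plusQ_apply, plusQ_apply, fromBlocks_mulVec]
  show (fun i => (Sum.elim _ _) (Sum.inl i)) ⬝ᵥ (fun i => (Sum.elim _ _) (Sum.inr i)) =
    (fun i => v (Sum.inl i)) ⬝ᵥ (fun i => v (Sum.inr i))
  simp only [Sum.elim_inl, Sum.elim_inr, zero_mulVec, add_zero, zero_add]
  rw [dotProduct_comm, mulVec_transpose, ← dotProduct_mulVec, mulVec_mulVec,
    Matrix.nonsing_inv_mul _ hd, one_mulVec, dotProduct_comm]
  rfl

/-- `levi` into the isometry group. -/
noncomputable def leviIso : GL (Fin m) F →* Cfsg.isometryGroup F ⇑(plusQ F m) :=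
  (levi (F := F) (m := m)).codRestrict _ levi_mem

theorem leviIso_val (A : GL (Fin m) F) :
    (((leviIso A : Cfsg.isometryGroup F ⇑(plusQ F m)) : GL (Fin m ⊕ Fin m) F) :
      Matrix (Fin m ⊕ Fin m) (Fin m ⊕ Fin m) F) =
      fromBlocks (A : Matrix (Fin m) (Fin m) F) 0 0 ((A : Matrix (Fin m) (Fin m) F)⁻¹)ᵀ := rfl

theorem act_levi (A : GL (Fin m) F) (v : Fin m ⊕ Fin m → F) :
    act (leviIso A) v = Sum.elim ((A : Matrix (Fin m) (Fin m) F) *ᵥ (v ∘ Sum.inl))
      (((A : Matrix (Fin m) (Fin m) F)⁻¹)ᵀ *ᵥ (v ∘ Sum.inr)) := by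
  rw [act_apply, leviIso_val, fromBlocks_mulVec]
  simp

variable [Fintype F] (h : Fintype.card F ≠ 2 ∨ Fintype.card (Fin m ⊕ Fin m) ≠ 4)

/-- The subspace `y = 0`. -/
noncomputable def U0 : Submodule F (Fin m ⊕ Fin m → F) :=
  LinearMap.ker (LinearMap.funLeft F F (Sum.inr : Fin m → Fin m ⊕ Fin m))

omit [Fintype F] in
theorem mem_U0 {v : Fin m ⊕ Fin m → F} : v ∈ U0 ↔ ∀ i, v (Sum.inr i) = 0 := by
  simp [U0, LinearMap.mem_ker, funext_iff, LinearMap.funLeft]

omit [Fintype F] in
theorem U0_singular : ∀ u ∈ (U0 : Submodule F (Fin m ⊕ Fin m → F)), plusQ F m u = 0 :=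
  fun u hu => by
    rw [plusQ_apply, Cfsg.quadFormPlus]
    exact Finset.sum_eq_zero fun i _ => by rw [mem_U0.1 hu i, mul_zero]

omit [Fintype F] in
theorem finrank_U0 : finrank F ↥(U0 : Submodule F (Fin m ⊕ Fin m → F)) = m := by
  have h1 := LinearMap.finrank_range_add_finrank_ker
    (LinearMap.funLeft F F (Sum.inr : Fin m → Fin m ⊕ Fin m))
  rw [LinearMap.range_eq_top.2 (LinearMap.funLeft_surjective_of_injective F F _ Sum.inr_injective),
    finrank_top, Module.finrank_pi, Module.finrank_pi, Fintype.card_sum, Fintype.card_fin] at h1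
  exact Nat.add_left_cancel h1

include h in
theorem par_levi (A : GL (Fin m) F) : par (leviIso A) = 1 := by
  have hle : (U0 : Submodule F (Fin m ⊕ Fin m → F)).map (act (leviIso A)) = U0 := by
    refine Submodule.eq_of_le_of_finrank_eq ?_
      (Submodule.equivMapOfInjective _ (act_injective _) _).finrank_eq.symm
    rintro _ ⟨u, hu, rfl⟩
    rw [mem_U0, act_levi]
    intro i
    rw [Sum.elim_inr, show u ∘ Sum.inr = 0 from funext (mem_U0.1 hu), mulVec_zero]
    rfl
  rw [par_eq_neg_one_pow (plusQ_nondeg F m) h (m := m) (by simp [two_mul]) U0_singular finrank_U0,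
    hle, inf_idem, finrank_U0, Nat.sub_self, pow_zero]

/-- The second component of `theta` on the Levi subgroup. -/
noncomputable def leviSgn : GL (Fin m) F →* ℤˣ :=
  (MonoidHom.snd ℤˣ ℤˣ).comp ((theta (plusQ_nondeg F m) h).comp leviIso)

omit [Fintype F] in
theorem pol_inl (k : Fin m) (v : Fin m ⊕ Fin m → F) :
    QuadraticMap.polar (plusQ F m) (Pi.single (Sum.inl k) 1) v = v (Sum.inr k) := by
  simp [plusQ_polar, Pi.single_apply]

omit [Fintype F] in
theorem pol_inr (k : Fin m) (v : Fin m ⊕ Fin m → F) :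
    QuadraticMap.polar (plusQ F m) (Pi.single (Sum.inr k) 1) v = v (Sum.inl k) := by
  simp [plusQ_polar, Pi.single_apply]

theorem leviSgn_single (k : Fin m) {c : F} (hc : c ≠ 0) (A : GL (Fin m) F)
    (hA : (A : Matrix (Fin m) (Fin m) F) = diagonal (fun z => if z = k then c else 1)) :
    leviSgn h A = chi c := by
  have he : plusQ F m (Pi.single (Sum.inl k) 1) = 0 := by
    simp [plusQ_apply, Cfsg.quadFormPlus, Pi.single_apply]
  have hf : plusQ F m (Pi.single (Sum.inr k) 1) = 0 := by
    simp [plusQ_apply, Cfsg.quadFormPlus, Pi.single_apply]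
  have hef : QuadraticMap.polar (plusQ F m) (Pi.single (Sum.inl k) 1) (Pi.single (Sum.inr k) 1) = 1 := by
    rw [pol_inl]; simp
  have hinv : (A : Matrix (Fin m) (Fin m) F)⁻¹ = diagonal (fun z => if z = k then c⁻¹ else 1) := by
    rw [hA]
    refine Matrix.inv_eq_right_inv ?_
    rw [diagonal_mul_diagonal]
    conv_rhs => rw [← diagonal_one]
    congr 1; funext z; by_cases hz : z = k <;> simp [hz, hc]
  have heq : leviIso A = reflect (plusQ F m) (Pi.single (Sum.inl k) 1 - Pi.single (Sum.inr k) 1) *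
      reflect (plusQ F m) (Pi.single (Sum.inl k) 1 - c • Pi.single (Sum.inr k) 1) := by
    refine iso_ext fun v => ?_
    rw [← act_apply, ← act_apply, (act_scale he hf hef hc v).2.2, act_levi, pol_inl, pol_inr, hinv,
      hA, diagonal_transpose]
    funext z
    rcases z with i | i <;> by_cases hi : i = k
    · subst hi; simp [mulVec_diagonal]; ring
    · simp [mulVec_diagonal, hi]
    · subst hi; simp [mulVec_diagonal]; ring
    · simp [mulVec_diagonal, hi]
  show (theta (plusQ_nondeg F m) h (leviIso A)).2 = _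
  rw [heq, theta_scale (plusQ_nondeg F m) h he hf hef hc]

theorem leviSgn_diag (d : Fin m → F) (hd : ∀ i, d i ≠ 0) (s : Finset (Fin m)) :
    ∀ A : GL (Fin m) F,
      (A : Matrix (Fin m) (Fin m) F) = diagonal (fun z => if z ∈ s then d z else 1) →
      leviSgn h A = chi (∏ z ∈ s, d z) := by
  classical
  induction s using Finset.induction_on with
  | empty =>
    intro A hA
    rw [show A = 1 from Units.ext (by rw [hA]; simp), map_one, Finset.prod_empty, chi_one]
  | insert k s hk ih =>
    intro A hA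
    have hdet : ∀ f : Fin m → F, (∀ i, f i ≠ 0) → (diagonal f).det ≠ 0 := fun f hf => by
      rw [det_diagonal]; exact Finset.prod_ne_zero_iff.2 fun i _ => hf i
    let B := GeneralLinearGroup.mkOfDetNeZero (diagonal fun z => if z = k then d k else 1)
      (hdet _ fun i => by split_ifs <;> simp [hd])
    let C := GeneralLinearGroup.mkOfDetNeZero (diagonal fun z => if z ∈ s then d z else 1)
      (hdet _ fun i => by split_ifs <;> simp [hd])
    have hABC : A = B * C := Units.ext (by
      rw [hA, Units.val_mul]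
      show _ = diagonal (fun z => if z = k then d k else 1) *
        diagonal (fun z => if z ∈ s then d z else 1)
      rw [diagonal_mul_diagonal]
      congr 1; funext z
      by_cases hz : z = k
      · subst hz; simp [hk]
      · simp [hz])
    rw [hABC, map_mul, leviSgn_single h k (hd k) B rfl, ih C rfl, Finset.prod_insert hk,
      chi_mul (hd k) (Finset.prod_ne_zero_iff.2 fun i _ => hd i)]

theorem leviSgn_eq (A : GL (Fin m) F) : leviSgn h A = chi (A : Matrix (Fin m) (Fin m) F).det := by
  classical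
  by_cases h2 : (2 : F) = 0
  · show (theta (plusQ_nondeg F m) h (leviIso A)).2 = _
    rw [chi_two h2]
    show sgn (leviIso A) = 1
    rw [sgn, if_pos h2]
  have key : ∀ (M : Matrix (Fin m) (Fin m) F), M.det ≠ 0 →
      ∀ A : GL (Fin m) F, (A : Matrix (Fin m) (Fin m) F) = M → leviSgn h A = chi M.det := by
    intro M hM
    refine diagonal_transvection_induction_of_det_ne_zero
      (fun M => ∀ A : GL (Fin m) F, (A : Matrix (Fin m) (Fin m) F) = M → leviSgn h A = chi M.det)
      M hM ?_ ?_ ?_
    · intro D hD A hA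
      rw [det_diagonal] at hD ⊢
      exact leviSgn_diag h D (fun i => Finset.prod_ne_zero_iff.1 hD i (Finset.mem_univ i))
        Finset.univ A (by simpa using hA)
    · intro t A hA
      have hdt : t.toMatrix.det = 1 := det_transvection_of_ne t.i t.j t.hij t.c
      let B := GeneralLinearGroup.mkOfDetNeZero (transvection t.i t.j (t.c / 2))
        (by rw [det_transvection_of_ne _ _ t.hij]; exact one_ne_zero)
      have hAB : A = B * B := Units.ext (by
        rw [hA, Units.val_mul]
        show transvection t.i t.j t.c = transvection t.i t.j (t.c / 2) * transvection t.i t.j (t.c / 2)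
        rw [transvection_mul_transvection_same _ _ t.hij]
        congr 1
        field_simp
        ring)
      rw [hAB, map_mul, Int.units_mul_self, hdt, chi_one]
    · intro X Y hX hY hPX hPY A hA
      let B := GeneralLinearGroup.mkOfDetNeZero X hX
      let C := GeneralLinearGroup.mkOfDetNeZero Y hY
      rw [show A = B * C from Units.ext hA, map_mul, hPX B rfl, hPY C rfl, det_mul, chi_mul hX hY]
  exact key _ (A.isUnit.map detMonoidHom).ne_zero A rfl

theorem theta_levi (A : GL (Fin m) F) :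
    theta (plusQ_nondeg F m) h (leviIso A) = (1, chi (A : Matrix (Fin m) (Fin m) F).det) :=
  Prod.ext ((theta_fst _ _ _).trans (par_levi h A)) (leviSgn_eq h A)

/-- The swap of the two maximal totally singular coordinate subspaces. -/
theorem exists_swap :
    ∃ g : Cfsg.isometryGroup F ⇑(plusQ F m), (∀ v, act g v = v ∘ Sum.swap) ∧
      theta (plusQ_nondeg F m) h g = ((-1) ^ m, chi ((-1 : F) ^ m)) := by
  classical
  suffices key : ∀ s : Finset (Fin m), ∃ g : Cfsg.isometryGroup F ⇑(plusQ F m),
      (∀ v z, act g v z = if Sum.elim id id z ∈ s then v (Sum.swap z) else v z) ∧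
      theta (plusQ_nondeg F m) h g = ((-1) ^ s.card, chi ((-1 : F) ^ s.card)) by
    obtain ⟨g, hg, hgt⟩ := key Finset.univ
    refine ⟨g, fun v => funext fun z => ?_, by simpa using hgt⟩
    rw [hg, if_pos (Finset.mem_univ _)]
    rfl
  intro s
  induction s using Finset.induction_on with
  | empty => exact ⟨1, fun v z => by simp [act_one], by simp [chi_one]; rfl⟩
  | insert k s hk ih =>
    obtain ⟨g, hg, hgt⟩ := ih
    have hQ : plusQ F m (Pi.single (Sum.inl k) 1 - Pi.single (Sum.inr k) 1) = -1 := by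
      simp [plusQ_apply, Cfsg.quadFormPlus, Pi.single_apply]
    refine ⟨reflect (plusQ F m) (Pi.single (Sum.inl k) 1 - Pi.single (Sum.inr k) 1) * g,
      fun v z => ?_, ?_⟩
    · rw [act_mul, act_reflect, hQ, QuadraticMap.polar_sub_left, pol_inl, pol_inr, Pi.sub_apply,
        hg v z, hg v (Sum.inr k), hg v (Sum.inl k)]
      simp only [Sum.elim_inl, Sum.elim_inr, id_eq, hk, if_false, Pi.smul_apply, Pi.sub_apply,
        smul_eq_mul]
      rcases z with i | i <;> by_cases hi : i = k
      · subst hi; simp [hk]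
      · simp [hi]; congr
      · subst hi; simp [hk]
      · simp [hi]; congr
    · rw [map_mul, theta_reflect _ h (by rw [hQ]; simp), hgt, hQ, Finset.card_insert_of_notMem hk,
        pow_succ', pow_succ', Prod.mk_mul_mk, ← chi_mul (by simp) (by simp)]

/-- An isometry preserving both coordinate subspaces lies in the Levi subgroup. -/
theorem exists_levi (g : Cfsg.isometryGroup F ⇑(plusQ F m))
    (h1 : ∀ v : Fin m ⊕ Fin m → F, (∀ i, v (Sum.inr i) = 0) → ∀ i, act g v (Sum.inr i) = 0)
    (h2 : ∀ v : Fin m ⊕ Fin m → F, (∀ i, v (Sum.inl i) = 0) → ∀ i, act g v (Sum.inl i) = 0) :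
    ∃ A : GL (Fin m) F, g = leviIso A := by
  classical
  set M := ((g : GL (Fin m ⊕ Fin m) F) : Matrix (Fin m ⊕ Fin m) (Fin m ⊕ Fin m) F) with hM
  have e21 : M.toBlocks₂₁ = 0 := by
    ext i j
    have := h1 (Pi.single (Sum.inl j) 1) (fun k => by simp) i
    rw [act_apply] at this
    simpa [Matrix.toBlocks₂₁, ← hM] using this
  have e12 : M.toBlocks₁₂ = 0 := by
    ext i j
    have := h2 (Pi.single (Sum.inr j) 1) (fun k => by simp) i
    rw [act_apply] at this
    simpa [Matrix.toBlocks₁₂, ← hM] using this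
  have hblk : M = fromBlocks M.toBlocks₁₁ 0 0 M.toBlocks₂₂ := by
    conv_lhs => rw [← fromBlocks_toBlocks M, e21, e12]
  have hAD : (M.toBlocks₁₁)ᵀ * M.toBlocks₂₂ = 1 := by
    ext i j
    have := act_polar g (Pi.single (Sum.inl i) 1) (Pi.single (Sum.inr j) 1)
    rw [act_apply, act_apply, ← hM, hblk] at this
    rw [pol_inl] at this
    simp [plusQ_polar, Pi.single_apply, fromBlocks] at this
    rw [Matrix.mul_apply, Matrix.one_apply]
    simpa [eq_comm] using this
  let A : GL (Fin m) F := GeneralLinearGroup.mkOfDetNeZero M.toBlocks₁₁ (fun h0 => by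
    simpa [h0] using congrArg Matrix.det hAD)
  refine ⟨A, Subtype.ext (Units.ext ?_)⟩
  rw [leviIso_val, ← hM, hblk]
  congr 1
  show M.toBlocks₂₂ = (M.toBlocks₁₁⁻¹)ᵀ
  rw [transpose_nonsing_inv, Matrix.inv_eq_right_inv hAD]

end Cfsg.Agent.Classical.OmegaPlus
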