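import Mathlib
import Cfsg.Agent.S2568

/-!
Weighted multisets invariant under a fixed-point-free involution of the points of weight `i`.
-/

set_option autoImplicit false

namespace Cfsg.Agent.Classical.InvariantCount

/-- Invariant multisets of total weight `n` under a fixed-point-free involution. -/
theorem natCard_pairs {β : Type*} [DecidableEq β] (w : β → ℕ) (z : β) (hz : w z = 1)
    (P : Finset β) (hzP : z ∉ P) (i n : ℕ) (hi : 0 < i) (hP : ∀ p ∈ P, w p = i) (τ : β → β)
    (hτz : τ z = z) (hτP : ∀ p ∈ P, τ p ∈ P ∧ τ (τ p) = p ∧ τ p ≠ p) :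
    Nat.card {s : Multiset β // ((∀ p ∈ s, p = z ∨ p ∈ P) ∧ (s.map w).sum = n) ∧ s.map τ = s} =
      Nat.choose (n / (2 * i) + P.card / 2) (P.card / 2) := by
  classical
  let ord : β → ℕ := fun p => if h : p ∈ P then (P.equivFin ⟨p, h⟩ : ℕ) else 0
  have hordinj : ∀ p ∈ P, ∀ p' ∈ P, ord p = ord p' → p = p' := by
    intro p hp p' hp' e
    simp only [ord, dif_pos hp, dif_pos hp'] at e
    exact congrArg Subtype.val (P.equivFin.injective (Fin.ext e))
  let H := P.filter fun p => ord p < ord (τ p)
  have hHP : ∀ p ∈ H, p ∈ P := fun p hp => (Finset.mem_filter.1 hp).1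
  have hzH : z ∉ H := fun h => hzP (hHP z h)
  -- exactly one of `p`, `τ p` lies in `H`
  have hone : ∀ p ∈ P, (τ p ∈ H ↔ p ∉ H) := by
    intro p hp
    have h1 := (hτP p hp).1
    have hne : ord p ≠ ord (τ p) := fun e => (hτP p hp).2.2 (hordinj _ hp _ h1 e).symm
    simp only [H, Finset.mem_filter, h1, hp, true_and, (hτP p hp).2.1]
    omega
  have hPcard : P.card = 2 * H.card := by
    have h1 : (P \ H).card = H.card := by
      refine Finset.card_nbij' τ τ ?_ ?_ ?_ ?_
      · intro p hp
        simp only [Finset.coe_sdiff, Set.mem_diff, Finset.mem_coe] at hp ⊢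
        exact (hone p hp.1).2 hp.2
      · intro p hp
        simp only [Finset.coe_sdiff, Set.mem_diff, Finset.mem_coe] at hp ⊢
        refine ⟨(hτP p (hHP p hp)).1, fun h => ?_⟩
        exact (hone p (hHP p hp)).1 h hp
      · exact fun p hp => (hτP p (Finset.mem_sdiff.1 hp).1).2.1
      · exact fun p hp => (hτP p (hHP p hp)).2.1
    rw [Finset.card_sdiff_of_subset (show H ⊆ P from hHP)] at h1
    have := Finset.card_le_card (show H ⊆ P from hHP)
    omega
  -- doubled weights
  let w' : β → ℕ := fun p => if p = z then 1 else 2 * i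
  have hwsum : ∀ u : Multiset β, (∀ p ∈ u, p = z ∨ p ∈ H) →
      ((u + (u.filter (· ∈ H)).map τ).map w).sum = (u.map w').sum := by
    intro u
    induction u using Multiset.induction with
    | empty => simp
    | cons a u ih =>
      intro hu
      have ih' := ih fun p hp => hu p (Multiset.mem_cons_of_mem hp)
      rw [Multiset.map_add, Multiset.sum_add] at ih'
      rcases hu a (Multiset.mem_cons_self _ _) with rfl | ha
      · rw [Multiset.filter_cons_of_neg _ hzH, Multiset.map_add, Multiset.sum_add, Multiset.map_cons,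
          Multiset.sum_cons, Multiset.map_cons, Multiset.sum_cons, hz, show w' a = 1 from if_pos rfl]
        linarith
      · have haz : a ≠ z := fun e => hzH (e ▸ ha)
        rw [Multiset.filter_cons_of_pos _ ha, Multiset.map_add, Multiset.sum_add,
          Multiset.map_cons, Multiset.sum_cons, Multiset.map_cons, Multiset.map_cons, Multiset.sum_cons,
          Multiset.map_cons, Multiset.sum_cons, hP a (hHP a ha), hP (τ a) (hτP a (hHP a ha)).1,
          show w' a = 2 * i from if_neg haz]
        linarith
  have hmapτ : ∀ u : Multiset β, (∀ p ∈ u, p = z ∨ p ∈ H) →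
      (u + (u.filter (· ∈ H)).map τ).map τ = u + (u.filter (· ∈ H)).map τ := by
    intro u
    induction u using Multiset.induction with
    | empty => simp
    | cons a u ih =>
      intro hu
      have ih' := ih fun p hp => hu p (Multiset.mem_cons_of_mem hp)
      rcases hu a (Multiset.mem_cons_self _ _) with rfl | ha
      · rw [Multiset.filter_cons_of_neg _ hzH, Multiset.cons_add, Multiset.map_cons, ih', hτz]
      · rw [Multiset.filter_cons_of_pos _ ha, Multiset.cons_add,
          Multiset.map_cons, Multiset.map_cons, Multiset.add_cons, Multiset.map_cons, ih',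
          (hτP a (hHP a ha)).2.1, Multiset.cons_swap]
  rw [hPcard, Nat.mul_div_cancel_left _ two_pos,
    ← Cfsg.Agent.S2568.natCard_weighted w' z (if_pos rfl) H hzH (2 * i) n (by omega)
      fun p hp => if_neg fun e => hzH (by rwa [← e])]
  refine (Nat.card_eq_of_bijective (fun u => (⟨u.1 + (u.1.filter (· ∈ H)).map τ, ⟨?_, ?_⟩, ?_⟩ :
    {s : Multiset β // ((∀ p ∈ s, p = z ∨ p ∈ P) ∧ (s.map w).sum = n) ∧ s.map τ = s})) ⟨?_, ?_⟩).symm
  · intro p hp
    rcases Multiset.mem_add.1 hp with hp | hp
    · exact (u.2.1 p hp).imp id (hHP p)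
    · obtain ⟨y, hy, rfl⟩ := Multiset.mem_map.1 hp
      exact Or.inr (hτP y (hHP y (Multiset.mem_filter.1 hy).2)).1
  · rw [hwsum u.1 u.2.1, u.2.2]
  · exact hmapτ u.1 u.2.1
  · -- the part in `z` and `H` recovers `u`
    have key : ∀ u : Multiset β, (∀ p ∈ u, p = z ∨ p ∈ H) →
        (u + (u.filter (· ∈ H)).map τ).filter (fun p => p = z ∨ p ∈ H) = u := by
      intro u hu
      rw [Multiset.filter_add, Multiset.filter_eq_self.2 hu, Multiset.filter_eq_nil.2 fun p hp => ?_,
        add_zero]
      obtain ⟨y, hy, rfl⟩ := Multiset.mem_map.1 hp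
      have hyH := (Multiset.mem_filter.1 hy).2
      rintro (h | h)
      · exact hzP (h ▸ (hτP y (hHP y hyH)).1)
      · exact (hone y (hHP y hyH)).1 h hyH
    intro u v e
    refine Subtype.ext ?_
    rw [← key u.1 u.2.1, ← key v.1 v.2.1]
    exact congrArg _ (congrArg Subtype.val e)
  · rintro ⟨s, ⟨hs, hsw⟩, hτs⟩
    set u := s.filter (fun p => p = z ∨ p ∈ H) with hu
    have humem : ∀ p ∈ u, p = z ∨ p ∈ H := fun p hp => (Multiset.mem_filter.1 hp).2
    have huH : u.filter (· ∈ H) = s.filter (· ∈ H) := by
      rw [hu, Multiset.filter_filter]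
      exact Multiset.filter_congr fun p _ => ⟨fun h => h.1, fun h => ⟨h, Or.inr h⟩⟩
    have hother : (u.filter (· ∈ H)).map τ = s.filter (fun p => ¬ (p = z ∨ p ∈ H)) := by
      rw [huH]
      conv_rhs => rw [← hτs, Multiset.filter_map]
      congr 1
      refine Multiset.filter_congr fun p hp => ?_
      simp only [Function.comp_apply]
      rcases hs p hp with rfl | hp'
      · simp [hτz, hzH]
      · have h1 : τ p ≠ z := fun e => hzP (e ▸ (hτP p hp').1)
        simp only [h1, false_or, hone p hp', not_not]
    have hmem : u + (u.filter (· ∈ H)).map τ = s := by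
      rw [hother, hu, Multiset.filter_add_not]
    refine ⟨⟨u, humem, ?_⟩, Subtype.ext hmem⟩
    rw [← hwsum u humem, hmem, hsw]

end Cfsg.Agent.Classical.InvariantCount
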