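import Mathlib
import Cfsg.Agent.Lib.Classical.OrthTypes
import Cfsg.Agent.Lib.Classical.StarFactor
import Cfsg.Agent.S2590

/-!
# Orthogonal elements of odd prime order with given characteristic polynomial
-/

set_option autoImplicit false
set_option linter.unusedSectionVars false

namespace Cfsg.Agent.Classical.OrthRealise

open Polynomial Module
open scoped Matrix
open Cfsg.Agent.Forms.PlusStd Cfsg.Agent.Forms.QuadStd
open Cfsg.Agent.Classical.OrthCount Cfsg.Agent.Classical.OrthForms Cfsg.Agent.Classical.QuadClass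
open Cfsg.Agent.Classical.OrthTypes
open Cfsg.Agent.Classical.StarFactor (Fac comp)

variable {F : Type*} [Field F]

local notation "Pol" => QuadraticMap.polarBilin

/-- an isometry killed by `r` with the given factors -/
structure IsoDatum (r : ℕ) (s : Multiset F[X]) {ι : Type} [Fintype ι] [DecidableEq ι]
    (Q : QuadraticForm F (ι → F)) (A : Matrix ι ι F) : Prop where
  nd : (Pol Q).Nondegenerate
  pres : ∀ v, Q (A *ᵥ v) = Q v
  pow : A ^ r = 1
  char : A.charpoly = s.prod

theorem IsoDatum.sum {ι κ : Type} [Fintype ι] [DecidableEq ι] [Fintype κ] [DecidableEq κ] {r : ℕ}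
    {s t : Multiset F[X]} {Q : QuadraticForm F (ι → F)} {R : QuadraticForm F (κ → F)}
    {A : Matrix ι ι F} {B : Matrix κ κ F} (hA : IsoDatum r s Q A) (hB : IsoDatum r t R B) :
    IsoDatum r (s + t) (sumQ Q R) (Matrix.fromBlocks A 0 0 B) := by
  refine ⟨sumQ_nondeg hA.nd hB.nd, fun v => ?_, ?_, ?_⟩
  · rw [sumQ_apply, sumQ_apply, Matrix.fromBlocks_mulVec]
    simp only [Sum.elim_comp_inl, Sum.elim_comp_inr, Matrix.zero_mulVec, add_zero, zero_add]
    rw [hA.pres, hB.pres]
  · have : ∀ k, (Matrix.fromBlocks A 0 0 B) ^ k = Matrix.fromBlocks (A ^ k) 0 0 (B ^ k) := fun k => by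
      induction k with
      | zero => simp [Matrix.fromBlocks_one]
      | succ k ih => rw [pow_succ, ih, Matrix.fromBlocks_multiply]; simp [pow_succ]
    rw [this, hA.pow, hB.pow, Matrix.fromBlocks_one]
  · rw [Matrix.charpoly_fromBlocks_zero₁₂, hA.char, hB.char, Multiset.prod_add]

/-- realised in even dimension, with the given type (`true` for plus) -/
def Real (r : ℕ) (s : Multiset F[X]) (b : Bool) : Prop :=
  ∃ (ι : Type) (_ : Fintype ι) (_ : DecidableEq ι) (m : ℕ) (Q : QuadraticForm F (ι → F))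
    (A : Matrix ι ι F), Fintype.card ι = 2 * m ∧ IsoDatum r s Q A ∧ (IsPlus Q m ↔ b = true)

/-- isometries killed by `r` with the same characteristic polynomial are conjugate -/
theorem isConj_of_charpoly [Fintype F] {n r : ℕ} (hr : Odd r) (hri : (r : F) ≠ 0)
    (Q : QuadraticForm F (Fin n → F)) (hQ : (Pol Q).Nondegenerate)
    (g h : Cfsg.isometryGroup F ⇑Q) (hg : g ^ r = 1) (hh : h ^ r = 1)
    (hc : ((g : Matrix.GeneralLinearGroup (Fin n) F) : Matrix (Fin n) (Fin n) F).charpoly =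
      ((h : Matrix.GeneralLinearGroup (Fin n) F) : Matrix (Fin n) (Fin n) F).charpoly) :
    IsConj g h := by
  have hpow : ∀ x : Cfsg.isometryGroup F ⇑Q, x ^ r = 1 →
      ((x : Matrix.GeneralLinearGroup (Fin n) F) : Matrix (Fin n) (Fin n) F) ^ r = 1 := fun x hx => by
    have := congrArg ((Units.coeHom (Matrix (Fin n) (Fin n) F)).comp (Cfsg.isometryGroup F ⇑Q).subtype) hx
    rwa [map_pow, map_one] at this
  obtain ⟨M, hM⟩ := SemisimpleConj.exists_matrix_conj _ _ hri (hpow g hg) (hpow h hh) hc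
  obtain ⟨f, hp, -⟩ := FiniteField.card F (ringChar F)
  have : Fact (ringChar F).Prime := ⟨hp⟩
  refine (Cfsg.Agent.S2590.result (p := ringChar F) Q hQ g h
    (hr.of_dvd_nat (orderOf_dvd_of_pow_eq_one hg)) ?_).2 ⟨M, hM⟩
  refine Nat.Coprime.coprime_dvd_left (orderOf_dvd_of_pow_eq_one hg)
    (Nat.coprime_comm.1 (hp.coprime_iff_not_dvd.2 fun hd => hri ?_))
  exact (CharP.cast_eq_zero_iff F (ringChar F) r).2 hd

/-- the element of the isometry group given by an isometry matrix -/
theorem exists_elt {ι : Type} [Fintype ι] [DecidableEq ι] {r : ℕ} (hr : 0 < r) (Q : (ι → F) → F)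
    (A : Matrix ι ι F) (hA : ∀ v, Q (A *ᵥ v) = Q v) (hpow : A ^ r = 1) :
    ∃ g : Cfsg.isometryGroup F Q, g ^ r = 1 ∧
      ((g : Matrix.GeneralLinearGroup ι F) : Matrix ι ι F) = A := by
  refine ⟨⟨Units.ofPowEqOne A r hpow hr.ne', (mem_isometry_iff Q _).2 hA⟩, ?_, rfl⟩
  exact Subtype.ext (Units.ext hpow)

theorem charpoly_toMatrixAlgEquiv' {N : Type} [Fintype N] [DecidableEq N]
    (f : Module.End F (N → F)) : (LinearMap.toMatrixAlgEquiv' f).charpoly = f.charpoly := by
  rw [← Matrix.charpoly_toLin']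
  exact congrArg LinearMap.charpoly (Matrix.toLinAlgEquiv'_toMatrixAlgEquiv' f)

/-- isometric forms: an isometry matching two such elements -/
theorem exists_intertwine [Fintype F] {ι κ : Type} [Fintype ι] [DecidableEq ι] [Fintype κ]
    [DecidableEq κ] {r : ℕ} (hr : Odd r) (hri : (r : F) ≠ 0) {Q : QuadraticForm F (ι → F)}
    {R : QuadraticForm F (κ → F)} (hR : (Pol R).Nondegenerate) {A : Matrix ι ι F} {B : Matrix κ κ F}
    (hA : ∀ v, Q (A *ᵥ v) = Q v) (hAr : A ^ r = 1) (hB : ∀ v, R (B *ᵥ v) = R v) (hBr : B ^ r = 1)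
    (hc : A.charpoly = B.charpoly) (e : (ι → F) ≃ₗ[F] (κ → F)) (he : ∀ x, R (e x) = Q x) :
    ∃ f : (ι → F) ≃ₗ[F] (κ → F), (∀ x, R (f x) = Q x) ∧ ∀ x, f (A *ᵥ x) = B *ᵥ f x := by
  let d := LinearEquiv.funCongrLeft F F (Fintype.equivFin κ).symm
  let P : QuadraticForm F (Fin (Fintype.card κ) → F) := R.comp d.symm.toLinearMap
  have hP : ∀ x, P (d x) = R x := fun x => by
    show R (d.symm (d x)) = R x
    rw [d.symm_apply_apply]
  have hPn : (Pol P).Nondegenerate := by
    have h : ∀ x, (∀ y, QuadraticMap.polar P x y = 0) → x = 0 := fun x hx => by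
      have h1 : d.symm x = 0 := hR.1 _ fun z => by
        have := hx (d z)
        simp only [QuadraticMap.polar, P, QuadraticMap.comp_apply, LinearEquiv.coe_coe, map_add,
          d.symm_apply_apply] at this
        exact this
      exact d.symm.map_eq_zero_iff.1 h1
    exact ⟨fun x hx => h x hx, fun x hx => h x fun y => (QuadraticMap.polar_comm _ x y).trans (hx y)⟩
  let εA : Module.End F (Fin (Fintype.card κ) → F) := (e.trans d).conjAlgEquiv F (Matrix.toLinAlgEquiv' A)
  let εB : Module.End F (Fin (Fintype.card κ) → F) := d.conjAlgEquiv F (Matrix.toLinAlgEquiv' B)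
  obtain ⟨g, hg, hgm⟩ := exists_elt (r := r) hr.pos ⇑P (LinearMap.toMatrixAlgEquiv' εA) (fun v => by
      rw [← Matrix.toLin'_apply]
      show P (Matrix.toLinAlgEquiv' (LinearMap.toMatrixAlgEquiv' εA) v) = _
      rw [Matrix.toLinAlgEquiv'_toMatrixAlgEquiv']
      show R (d.symm (d (e (A *ᵥ e.symm (d.symm v))))) = R (d.symm v)
      rw [d.symm_apply_apply, he, hA, ← he, e.apply_symm_apply])
    (by rw [← map_pow, ← map_pow, ← map_pow, hAr, map_one, map_one, map_one])
  obtain ⟨h, hh, hhm⟩ := exists_elt (r := r) hr.pos ⇑P (LinearMap.toMatrixAlgEquiv' εB) (fun v => by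
      rw [← Matrix.toLin'_apply]
      show P (Matrix.toLinAlgEquiv' (LinearMap.toMatrixAlgEquiv' εB) v) = _
      rw [Matrix.toLinAlgEquiv'_toMatrixAlgEquiv']
      show R (d.symm (d (B *ᵥ d.symm v))) = R (d.symm v)
      rw [d.symm_apply_apply, hB])
    (by rw [← map_pow, ← map_pow, ← map_pow, hBr, map_one, map_one, map_one])
  let N := Fin (Fintype.card κ)
  have hcg : ((g : Matrix.GeneralLinearGroup N F) : Matrix N N F).charpoly =
      ((h : Matrix.GeneralLinearGroup N F) : Matrix N N F).charpoly := by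
    rw [hgm, hhm, charpoly_toMatrixAlgEquiv', charpoly_toMatrixAlgEquiv']
    have hεA : εA = (e.trans d).conj (Matrix.toLin' A) := rfl
    have hεB : εB = d.conj (Matrix.toLin' B) := rfl
    rw [hεA, hεB, LinearEquiv.charpoly_conj, LinearEquiv.charpoly_conj, Matrix.charpoly_toLin',
      Matrix.charpoly_toLin', hc]
  obtain ⟨c, hc'⟩ := isConj_iff.1 (isConj_of_charpoly hr hri P hPn g h hg hh hcg)
  let cu : Matrix.GeneralLinearGroup (Fin (Fintype.card κ)) F := c
  let C := Matrix.toLinearEquiv' (cu : Matrix (Fin (Fintype.card κ)) (Fin (Fintype.card κ)) F) cu.invertible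
  have hC : ∀ x, C x = ((c : Matrix.GeneralLinearGroup N F) : Matrix N N F) *ᵥ x := fun x => rfl
  refine ⟨(e.trans d).trans (C.trans d.symm), fun x => ?_, fun x => ?_⟩
  · show R (d.symm (C (d (e x)))) = Q x
    show P (C (d (e x))) = Q x
    rw [hC, iso_mulVec (Q := ⇑P) c, hP, he]
  · have h1 := congrArg (fun y : Cfsg.isometryGroup F ⇑P =>
      ((y : Matrix.GeneralLinearGroup N F) : Matrix N N F) *ᵥ d (e x))
      (mul_inv_eq_iff_eq_mul.1 hc')
    simp only [mul_mulVec_iso, hgm, hhm] at h1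
    have e1 : ∀ v, LinearMap.toMatrixAlgEquiv' εA *ᵥ v = εA v := fun v => by
      rw [← Matrix.toLinAlgEquiv'_apply, Matrix.toLinAlgEquiv'_toMatrixAlgEquiv']
    have e2 : ∀ v, LinearMap.toMatrixAlgEquiv' εB *ᵥ v = εB v := fun v => by
      rw [← Matrix.toLinAlgEquiv'_apply, Matrix.toLinAlgEquiv'_toMatrixAlgEquiv']
    rw [e1, e2] at h1
    have a1 : εA (d (e x)) = d (e (A *ᵥ x)) := by
      show d (e (A *ᵥ e.symm (d.symm (d (e x))))) = _
      rw [d.symm_apply_apply, e.symm_apply_apply]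
    have a2 : ∀ w, εB w = d (B *ᵥ d.symm w) := fun w => rfl
    rw [a1, a2, ← hC, ← hC] at h1
    show d.symm (C (d (e (A *ᵥ x)))) = B *ᵥ d.symm (C (d (e x)))
    rw [h1, d.symm_apply_apply]

/-! ### Building blocks -/

theorem Real.zero (r : ℕ) : Real r (0 : Multiset F[X]) true :=
  ⟨Fin 0 ⊕ Fin 0, inferInstance, inferInstance, 0, plusQ F 0, 1, by simp,
    ⟨plusQ_nondeg F 0, fun v => by rw [Matrix.one_mulVec], one_pow r, by simp [Matrix.charpoly, Matrix.charmatrix]⟩,
    iff_of_true (isPlus_plusQ 0) rfl⟩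

theorem Real.add [Fintype F] {r : ℕ} {s t : Multiset F[X]} {b c : Bool} (hs : Real r s b) (ht : Real r t c) :
    Real r (s + t) (b == c) := by
  obtain ⟨ι, _, _, m, Q, A, hm, hA, hb⟩ := hs
  obtain ⟨κ, _, _, k, R, B, hk, hB, hc⟩ := ht
  cases b <;> cases c
  · exact ⟨ι ⊕ κ, inferInstance, inferInstance, m + k, sumQ Q R, _,
      by rw [Fintype.card_sum]; omega, hA.sum hB,
      iff_of_true (isPlus_sum_minus hm hk hA.nd hB.nd (by simpa using hb) (by simpa using hc)) rfl⟩
  · exact ⟨κ ⊕ ι, inferInstance, inferInstance, k + m, sumQ R Q, _,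
      by rw [Fintype.card_sum]; omega, by rw [add_comm s t]; exact hB.sum hA,
      iff_of_false (not_isPlus_sum hk hm hB.nd hA.nd (hc.2 rfl) (by simpa using hb)) (by simp)⟩
  · exact ⟨ι ⊕ κ, inferInstance, inferInstance, m + k, sumQ Q R, _,
      by rw [Fintype.card_sum]; omega, hA.sum hB,
      iff_of_false (not_isPlus_sum hm hk hA.nd hB.nd (hb.2 rfl) (by simpa using hc)) (by simp)⟩
  · exact ⟨ι ⊕ κ, inferInstance, inferInstance, m + k, sumQ Q R, _,
      by rw [Fintype.card_sum]; omega, hA.sum hB,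
      iff_of_true (isPlus_sum (hb.2 rfl) (hc.2 rfl)) rfl⟩

variable [Fintype F] {r : ℕ}

theorem pow_blocks {ι κ : Type} [Fintype ι] [DecidableEq ι] [Fintype κ] [DecidableEq κ]
    (A : Matrix ι ι F) (B : Matrix κ κ F) (k : ℕ) :
    (Matrix.fromBlocks A 0 0 B) ^ k = Matrix.fromBlocks (A ^ k) 0 0 (B ^ k) := by
  induction k with
  | zero => simp [Matrix.fromBlocks_one]
  | succ k ih => rw [pow_succ, ih, Matrix.fromBlocks_multiply]; simp [pow_succ]

theorem plusQ_eq_dot (d : ℕ) (v : Fin d ⊕ Fin d → F) :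
    plusQ F d v = (v ∘ Sum.inl) ⬝ᵥ (v ∘ Sum.inr) := by
  rw [plusQ_apply]; rfl

/-- a factor and its inverse fill a hyperbolic space -/
theorem real_pair (hr : 1 ≤ r) {p : F[X]} (hp : p.Monic) (hd : p ∣ X ^ r - C 1) :
    Real r {p, StarFactor.star r p} true := by
  set M := comp p hp.ne_zero with hM
  have hMr : M ^ r = 1 := StarFactor.comp_pow r hp.ne_zero hd
  have h1 : M ^ (r - 1) * M = 1 := by rw [← pow_succ, Nat.sub_add_cancel hr, hMr]
  refine ⟨_, inferInstance, inferInstance, (AdjoinRoot.powerBasis hp.ne_zero).dim,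
    plusQ F _, Matrix.fromBlocks M 0 0 (M ^ (r - 1))ᵀ, by simp [two_mul],
    ⟨plusQ_nondeg F _, fun v => ?_, ?_, ?_⟩, iff_of_true (isPlus_plusQ _) rfl⟩
  · rw [plusQ_eq_dot, plusQ_eq_dot, Matrix.fromBlocks_mulVec]
    simp only [Sum.elim_comp_inl, Sum.elim_comp_inr, Matrix.zero_mulVec, add_zero, zero_add]
    rw [dotProduct_comm, Matrix.dotProduct_mulVec, ← Matrix.mulVec_transpose, Matrix.mulVec_mulVec,
      ← Matrix.transpose_mul, h1, Matrix.transpose_one, Matrix.one_mulVec, dotProduct_comm]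
  · rw [pow_blocks, hMr, ← Matrix.transpose_pow, ← pow_mul, mul_comm, pow_mul, hMr, one_pow,
      Matrix.transpose_one, Matrix.fromBlocks_one]
  · rw [Matrix.charpoly_fromBlocks_zero₁₂, Matrix.charpoly_transpose, StarFactor.charpoly_comp p hp,
      Multiset.insert_eq_cons, Multiset.prod_cons, Multiset.prod_singleton]
    congr 1
    rw [StarFactor.star, dif_pos hp.ne_zero]

/-- two fixed vectors in either type -/
theorem real_two_ones (hri : (r : F) ≠ 0) : ∀ b, Real r ({X - C 1, X - C 1} : Multiset F[X]) b := by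
  rintro (_ | _)
  · obtain ⟨ζ, hζ⟩ := exists_zeta (F := F)
    refine ⟨_, inferInstance, inferInstance, 1, minQ F 0 1 ζ, 1, by simp,
      ⟨minQ_nondeg 0 (aniso_one hζ), fun v => by rw [Matrix.one_mulVec], one_pow r, ?_⟩,
      iff_of_false (not_isPlus_minQ (k := 0) (aniso_one hζ)) (by simp)⟩
    rw [Matrix.charpoly_one]
    simp [pow_two]
  · have hr1 : 1 ≤ r := Nat.one_le_iff_ne_zero.2 fun e => hri (by rw [e, Nat.cast_zero])
    have h1 := real_pair (F := F) (r := r) hr1
      (monic_X_sub_C (1 : F)) (by rw [map_one]; exact sub_one_dvd_pow_sub_one _ _)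
    rwa [StarFactor.star_X_sub_one hri] at h1

/-- `r` does not divide the order of a plus group of too small dimension -/
theorem not_dvd_card_plus [hr : Fact r.Prime] (hr2 : r ≠ 2) (hri : (r : F) ≠ 0) {k : ℕ} (hk : 1 ≤ k)
    (hord : orderOf (Fintype.card F : ZMod r) = 2 * k) :
    ¬ r ∣ Nat.card (Cfsg.isometryGroup F ⇑(plusQ F k)) := by
  obtain ⟨k, rfl⟩ : ∃ j, k = j + 1 := ⟨k - 1, by omega⟩
  rw [natCard_O_plus rfl k]
  set q := Fintype.card F with hq
  have hne : ∀ e, 0 < e → e < 2 * (k + 1) → ¬ r ∣ q ^ e - 1 := fun e he he' hd => by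
    refine (Nat.not_le.2 he') (hord ▸ Nat.le_of_dvd he (orderOf_dvd_of_pow_eq_one ?_))
    have h1 : 1 ≤ q ^ e := Nat.one_le_pow _ _ Fintype.card_pos
    have h2 := (ZMod.natCast_eq_zero_iff _ r).2 hd
    rw [Nat.cast_sub h1, Nat.cast_pow, Nat.cast_one, sub_eq_zero] at h2
    exact h2
  have hqr : ¬ r ∣ q := fun hd => by
    obtain ⟨f, hp, hpf⟩ := FiniteField.card F (ringChar F)
    rw [hq, hpf] at hd
    have := (Nat.prime_dvd_prime_iff_eq hr.out hp).1 (hr.out.dvd_of_dvd_pow hd)
    exact hri ((CharP.cast_eq_zero_iff F (ringChar F) r).2 (dvd_of_eq this.symm))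
  intro hd
  rcases (Nat.Prime.dvd_mul hr.out).1 hd with hd | hd
  · rcases (Nat.Prime.dvd_mul hr.out).1 hd with hd | hd
    · rcases (Nat.Prime.dvd_mul hr.out).1 hd with hd | hd
      · exact hr2 ((Nat.prime_dvd_prime_iff_eq hr.out Nat.prime_two).1 hd)
      · exact hqr (hr.out.dvd_of_dvd_pow hd)
    · exact hne _ (by omega) (by omega) hd
  · obtain ⟨j, hj, hjd⟩ := (hr.out.prime.dvd_finsetProd_iff _).1 hd
    exact hne _ (by omega) (by have := Finset.mem_range.1 hj; omega) hjd

/-- a self-inverse factor fills an elliptic space -/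
theorem real_single [hr : Fact r.Prime] (hri : (r : F) ≠ 0) (hr2 : r ≠ 2) {i : ℕ}
    (hord : orderOf (Fintype.card F : ZMod r) = i)
    (hdeg : ∀ x : F[X], Fac r x → x.natDegree = i) {p : F[X]} (hp : Fac r p)
    (hs : StarFactor.star r p = p) : Real r {p} false := by
  classical
  have : Fact (Irreducible p) := ⟨hp.irr⟩
  have hp0 := hp.monic.ne_zero
  have : Module.Finite F (AdjoinRoot p) := (AdjoinRoot.powerBasis hp0).finite
  have : Finite (AdjoinRoot p) := Module.finite_of_finite F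
  have haev := StarFactor.aeval_star (r := r) hp0
  rw [hs] at haev
  set z := AdjoinRoot.root p with hz
  have hne : z ^ (r - 1) ≠ z := fun e => by
    have := hp.primitive.pow_inj (show r - 1 < r by have := hr.out.pos; omega)
      (show 1 < r from hr.out.one_lt) (by rwa [pow_one])
    have := hr.out.two_le
    omega
  let φ : AdjoinRoot p →ₐ[F] AdjoinRoot p :=
    AdjoinRoot.liftAlgHom p (Algebra.ofId F _) (z ^ (r - 1)) haev
  have hφ : φ z = z ^ (r - 1) := AdjoinRoot.liftAlgHom_root _ _ _ _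
  let σ : AdjoinRoot p ≃ₐ[F] AdjoinRoot p :=
    AlgEquiv.ofBijective φ (Finite.injective_iff_bijective.1 φ.toRingHom.injective)
  have hσz : σ z = z ^ (r - 1) := hφ
  have hσσ : ∀ x, σ (σ x) = x := by
    have : φ.comp φ = AlgHom.id F _ := AdjoinRoot.algHom_ext (by
      rw [AlgHom.comp_apply, hφ, map_pow, hφ,
        StarFactor.pow_sub_one_sq (StarFactor.root_pow r hp.dvd) hr.out.one_le]
      rfl)
    exact fun x => congrArg (fun f : AdjoinRoot p →ₐ[F] AdjoinRoot p => f x) this
  have hzz : z * σ z = 1 := by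
    rw [hσz, ← pow_succ', Nat.sub_add_cancel hr.out.one_le, StarFactor.root_pow r hp.dvd]
  obtain ⟨l, hl⟩ : ∃ l, l + σ l ≠ 0 := by
    by_contra h
    push Not at h
    have h2 : (1 : AdjoinRoot p) + 1 = 0 := by simpa using h 1
    refine hne ?_
    rw [← hσz]
    linear_combination h z - z * h2
  let bf : AdjoinRoot p →ₗ[F] AdjoinRoot p →ₗ[F] F :=
    ((LinearMap.mul F (AdjoinRoot p)).comp (LinearMap.mulLeft F l)).compl₂ σ.toLinearMap |>.compr₂
      (Algebra.trace F (AdjoinRoot p))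
  have hbf : ∀ x y, bf x y = Algebra.trace F (AdjoinRoot p) (l * x * σ y) := fun x y => rfl
  set b := (AdjoinRoot.powerBasis hp0).basis with hb
  let E : (Fin (AdjoinRoot.powerBasis hp0).dim → F) ≃ₗ[F] AdjoinRoot p := b.equivFun.symm
  let Q : QuadraticForm F (Fin (AdjoinRoot.powerBasis hp0).dim → F) :=
    LinearMap.BilinMap.toQuadraticMap (bf.compl₁₂ E.toLinearMap E.toLinearMap)
  have hQ : ∀ x, Q x = Algebra.trace F (AdjoinRoot p) (l * E x * σ (E x)) := fun x => rfl
  have hpol : ∀ x y, QuadraticMap.polar Q x y =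
      Algebra.trace F (AdjoinRoot p) ((l + σ l) * E x * σ (E y)) := by
    intro x y
    simp only [QuadraticMap.polar, hQ]
    rw [← map_sub, ← map_sub, show l * E (x + y) * σ (E (x + y)) - l * E x * σ (E x) -
      l * E y * σ (E y) = l * E x * σ (E y) + l * E y * σ (E x) by rw [map_add, map_add]; ring,
      map_add, ← Algebra.trace_eq_of_algEquiv σ (l * E y * σ (E x)), ← map_add]
    congr 1
    rw [map_mul, map_mul, hσσ]
    ring
  have hcompE : ∀ x, E (comp p hp0 *ᵥ x) = z * E x := by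
    intro x
    have h := Algebra.leftMulMatrix_mulVec_repr b z (E x)
    have hx : (b.repr (E x) : Fin _ → F) = x := E.symm_apply_apply x
    rw [hx] at h
    show E (Algebra.leftMulMatrix b z *ᵥ x) = z * E x
    rw [h]
    exact E.apply_symm_apply (z * E x)
  have hnd : (Pol Q).Nondegenerate := by
    have h : ∀ x, (∀ y, QuadraticMap.polar Q x y = 0) → x = 0 := fun x hx => by
      have h1 : (l + σ l) * E x = 0 := (traceForm_nondegenerate F (AdjoinRoot p)).1 _ fun w => by
        have := hx (E.symm (σ w))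
        rw [hpol, E.apply_symm_apply, hσσ] at this
        exact this
      exact E.map_eq_zero_iff.1 ((mul_eq_zero.1 h1).resolve_left hl)
    exact ⟨fun x hx => h x hx, fun x hx => h x fun y => (QuadraticMap.polar_comm _ x y).trans (hx y)⟩
  have hpres : ∀ v, Q (comp p hp0 *ᵥ v) = Q v := fun v => by
    rw [hQ, hQ, hcompE, map_mul σ]
    congr 1
    linear_combination (l * E v * σ (E v)) * hzz
  have hev : Even i := (hp.star_eq_iff hri hr2 hdeg).1 hs
  obtain ⟨k, hk⟩ := hev
  have hdim : (AdjoinRoot.powerBasis hp0).dim = 2 * k := by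
    rw [AdjoinRoot.powerBasis_dim, hdeg p hp, hk, two_mul]
  have hk1 : 1 ≤ k := by have := hdeg p hp ▸ hp.irr.natDegree_pos; omega
  refine ⟨_, inferInstance, inferInstance, k, Q, comp p hp0, by rw [Fintype.card_fin, hdim],
    ⟨hnd, hpres, StarFactor.comp_pow r hp0 hp.dvd,
      by rw [StarFactor.charpoly_comp p hp.monic, Multiset.prod_singleton]⟩,
    iff_of_false (fun hP => ?_) (by simp)⟩
  rcases normal_form (by rw [Fintype.card_fin, hdim]) hnd with ⟨-, e, he⟩ | ⟨h, -⟩
  swap
  · exact h hP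
  let B : Matrix (Fin k ⊕ Fin k) (Fin k ⊕ Fin k) F :=
    LinearMap.toMatrixAlgEquiv' (e.conjAlgEquiv F (Matrix.toLinAlgEquiv' (comp p hp0)))
  have hBv : ∀ v, B *ᵥ v = e (comp p hp0 *ᵥ e.symm v) := fun v => by
    rw [← Matrix.toLinAlgEquiv'_apply, Matrix.toLinAlgEquiv'_toMatrixAlgEquiv']
    rfl
  obtain ⟨g, hg, hgB⟩ := exists_elt (r := r) hr.out.pos ⇑(plusQ F k) B (fun v => by
      rw [hBv, he, hpres, ← he, e.apply_symm_apply])
    (by rw [← map_pow, ← map_pow, ← map_pow, StarFactor.comp_pow r hp0 hp.dvd, map_one, map_one, map_one])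
  have hg1 : g ≠ 1 := fun e' => by
    have h1 : B = 1 := by rw [← hgB, e']; rfl
    have h2 : comp p hp0 = 1 := by
      refine Matrix.ext_iff_mulVec.2 fun v => ?_
      have h3 := hBv (e v)
      rw [h1, Matrix.one_mulVec, e.symm_apply_apply] at h3
      rw [Matrix.one_mulVec]
      exact e.injective h3.symm
    have h4 := hcompE (E.symm 1)
    rw [h2, Matrix.one_mulVec, E.apply_symm_apply, mul_one] at h4
    exact hp.primitive.ne_one hr.out.one_lt h4.symm
  refine not_dvd_card_plus hr2 hri hk1 (by rw [hord, hk, two_mul]) ?_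
  rw [← orderOf_eq_prime hg hg1]
  exact orderOf_dvd_natCard g

end Cfsg.Agent.Classical.OrthRealise
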