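import Mathlib
import Cfsg.Agent.Lib.Classical.OrthRealise
import Cfsg.Agent.Lib.Classical.InvariantCount
import Cfsg.Agent.Lib.Classical.JordanFormsType

/-!
# Classes of elements of odd prime order, not the characteristic, in finite orthogonal groups
-/

set_option autoImplicit false
set_option linter.unusedSectionVars false

namespace Cfsg.Agent.Classical.OrthPrimeClasses

open Polynomial Module
open scoped Matrix
open Cfsg.Agent.Forms.PlusStd Cfsg.Agent.Forms.QuadStd
open Cfsg.Agent.Classical.QuadClass (aniso_one)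
open Cfsg.Agent.Classical.OrthForms Cfsg.Agent.Classical.OrthTypes Cfsg.Agent.Classical.OrthRealise
open Cfsg.Agent.Classical.StarFactor (Fac)
open Cfsg.Agent.Classical.PowScalarClasses (Admissible)

variable {F : Type*} [Field F] [Fintype F]

local notation "Pol" => QuadraticMap.polarBilin

/-- the standing hypotheses -/
structure Setting (F : Type*) [Field F] [Fintype F] (r i : ℕ) : Prop where
  prime : r.Prime
  ne_two : r ≠ 2
  cast_ne : (r : F) ≠ 0
  ord : orderOf (Fintype.card F : ZMod r) = i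
  deg : ∀ x : F[X], Fac r x → x.natDegree = i

/-- invariant admissible multisets -/
def Good (r n : ℕ) (s : Multiset F[X]) : Prop :=
  Admissible r n 1 s ∧ s.map (StarFactor.star r) = s

variable {r i : ℕ}

theorem Good.monic {n : ℕ} {s : Multiset F[X]} (h : Good r n s) : ∀ p ∈ s, p.Monic := fun p hp =>
  (h.1.1 p hp).1

theorem sum_degree_of_datum {ι : Type} [Fintype ι] [DecidableEq ι] {s : Multiset F[X]}
    {Q : QuadraticForm F (ι → F)} {A : Matrix ι ι F} (h : IsoDatum r s Q A)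
    (hm : ∀ p ∈ s, p.Monic) : (s.map natDegree).sum = Fintype.card ι := by
  rw [← natDegree_multiset_prod_of_monic s hm, ← h.char, Matrix.charpoly_natDegree_eq_dim]

/-- the type forced by self-inverse factors without `X - 1` -/
theorem real_no_ones (hS : Setting F r i) (s : Multiset F[X]) (hs : ∀ p ∈ s, Fac r p)
    (hinv : s.map (StarFactor.star r) = s) :
    ∃ b, Real r s b ∧ (b = true ↔ Odd i ∨ Even (Multiset.card s)) := by
  classical
  have := Fact.mk hS.prime
  induction hk : Multiset.card s using Nat.strong_induction_on generalizing s with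
  | _ k ih =>
  rcases s.empty_or_exists_mem with rfl | ⟨p, hp⟩
  · subst hk
    exact ⟨true, Real.zero r, iff_of_true rfl (Or.inr (by simp))⟩
  have hpf := hs p hp
  obtain ⟨hsf, hss⟩ := hpf.star_fac hS.cast_ne hS.deg
  have hs' : StarFactor.star r p ∈ s := by
    rw [← hinv]; exact Multiset.mem_map_of_mem _ hp
  obtain ⟨t, rfl⟩ := Multiset.exists_cons_of_mem hp
  by_cases hfix : StarFactor.star r p = p
  · rw [Multiset.map_cons, hfix, Multiset.cons_inj_right] at hinv
    obtain ⟨b, hb, hbi⟩ := ih (Multiset.card t) (by rw [← hk, Multiset.card_cons]; omega) t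
      (fun x hx => hs x (Multiset.mem_cons_of_mem hx)) hinv rfl
    have hevi : Even i := (hpf.star_eq_iff hS.cast_ne hS.ne_two hS.deg).1 hfix
    refine ⟨false == b, ?_, ?_⟩
    · rw [← Multiset.singleton_add]
      exact (real_single hS.cast_ne hS.ne_two hS.ord hS.deg hpf hfix).add hb
    · have hno : ¬ Odd i := Nat.not_odd_iff_even.2 hevi
      rw [← hk, Multiset.card_cons, Nat.even_add_one]
      simp only [hno, false_or] at hbi ⊢
      cases b <;> simp_all
  · obtain ⟨t', rfl⟩ := Multiset.exists_cons_of_mem ((Multiset.mem_cons.1 hs').resolve_left hfix)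
    rw [Multiset.map_cons, Multiset.map_cons, hss, Multiset.cons_swap, Multiset.cons_inj_right,
      Multiset.cons_inj_right] at hinv
    obtain ⟨b, hb, hbi⟩ := ih (Multiset.card t')
      (by rw [← hk, Multiset.card_cons, Multiset.card_cons]; omega) t'
      (fun x hx => hs x (Multiset.mem_cons_of_mem (Multiset.mem_cons_of_mem hx))) hinv rfl
    have hodd : Odd i := Nat.not_even_iff_odd.1 fun h =>
      hfix ((hpf.star_eq_iff hS.cast_ne hS.ne_two hS.deg).2 h)
    refine ⟨true == b, ?_, ?_⟩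
    · rw [show p ::ₘ StarFactor.star r p ::ₘ t' = ({p, StarFactor.star r p} : Multiset F[X]) + t' by
        simp [Multiset.insert_eq_cons]]
      exact (real_pair hS.prime.one_le hpf.monic hpf.dvd).add hb
    · simp [hbi.2 (Or.inl hodd), hodd]

theorem real_replicate (hri : (r : F) ≠ 0) : ∀ j : ℕ,
    Real r (Multiset.replicate (2 * j) (X - C (1 : F))) true ∧
      ∀ b, Real r (Multiset.replicate (2 * (j + 1)) (X - C (1 : F))) b := by
  intro j
  induction j with
  | zero => exact ⟨Real.zero r, real_two_ones hri⟩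
  | succ j ih =>
    refine ⟨ih.2 true, fun b => ?_⟩
    have := (ih.2 true).add (real_two_ones hri b)
    rw [show Multiset.replicate (2 * (j + 1 + 1)) (X - C (1 : F)) =
      Multiset.replicate (2 * (j + 1)) (X - C (1 : F)) + {X - C 1, X - C 1} by
        rw [show 2 * (j + 1 + 1) = 2 * (j + 1) + 2 by omega, Multiset.replicate_add]; rfl]
    cases b <;> simpa using this

/-- split off the fixed eigenvalues -/
theorem split (hS : Setting F r i) {n : ℕ} {s : Multiset F[X]} (hs : Good r n s) :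
    ∃ (c : ℕ) (t : Multiset F[X]), s = Multiset.replicate c (X - C 1) + t ∧ (∀ p ∈ t, Fac r p) ∧
      t.map (StarFactor.star r) = t ∧ n = c + i * Multiset.card t ∧ (c = 0 ↔ X - C 1 ∉ s) := by
  classical
  set t := s.filter fun p => p ≠ X - C 1 with ht
  have ht' : ∀ p ∈ t, Fac r p := fun p hp => by
    obtain ⟨hp, hne⟩ := Multiset.mem_filter.1 hp
    exact ⟨(hs.1.1 p hp).1, (hs.1.1 p hp).2.1, (hs.1.1 p hp).2.2, hne⟩
  have hst : s = Multiset.replicate (s.count (X - C 1)) (X - C 1) + t := by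
    rw [← Multiset.filter_eq', ht, Multiset.filter_add_not]
  refine ⟨_, t, hst, ht', ?_, ?_, Multiset.count_eq_zero⟩
  · have h1 := hs.2
    rw [hst, Multiset.map_add, Multiset.map_replicate, StarFactor.star_X_sub_one hS.cast_ne] at h1
    exact add_left_cancel h1
  · conv_lhs => rw [← hs.1.2, hst]
    rw [Multiset.map_add, Multiset.sum_add, Multiset.map_replicate, natDegree_X_sub_C,
      Multiset.sum_replicate, smul_eq_mul, mul_one,
      Multiset.map_congr rfl fun p hp => hS.deg p (ht' p hp), Multiset.map_const', Multiset.sum_replicate,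
      smul_eq_mul, mul_comm (Multiset.card t)]

theorem ne_of_pos (hS : Setting F r i) : 0 < i := by
  rw [← hS.ord]
  have := Fact.mk hS.prime
  refine orderOf_pos_iff.2 (IsUnit.isOfFinOrder (isUnit_iff_ne_zero.2 fun h => hS.cast_ne ?_))
  obtain ⟨f, hp, hpf⟩ := FiniteField.card F (ringChar F)
  rw [ZMod.natCast_eq_zero_iff, hpf] at h
  have := (Nat.prime_dvd_prime_iff_eq hS.prime hp).1 (hS.prime.dvd_of_dvd_pow h)
  exact (CharP.cast_eq_zero_iff F (ringChar F) r).2 (dvd_of_eq this.symm)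

/-- every good multiset is realised; with `X - 1` in either type -/
theorem real_of_good (hS : Setting F r i) {m : ℕ} {s : Multiset F[X]} (hs : Good r (2 * m) s)
    (b : Bool) (hb : X - C 1 ∈ s ∨ (b = true ↔ Odd i ∨ Even (2 * m / i))) : Real r s b := by
  obtain ⟨c, t, hst, ht, hinv, hn, hc0⟩ := split hS hs
  obtain ⟨bt, hbt, hbti⟩ := real_no_ones hS t ht hinv
  obtain ⟨j, hj⟩ : ∃ j, c = 2 * j := by
    obtain ⟨ι, _, _, k, Q, A, hk, hA, -⟩ := hbt
    have h := sum_degree_of_datum hA fun p hp => (ht p hp).monic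
    rw [Multiset.map_congr rfl fun p hp => hS.deg p (ht p hp), Multiset.map_const',
      Multiset.sum_replicate, smul_eq_mul, mul_comm] at h
    exact ⟨m - k, by omega⟩
  rw [hst, hj]
  rcases Nat.eq_zero_or_pos j with rfl | hjp
  · have hd : 2 * m / i = Multiset.card t := by
      rw [hn, hj, mul_zero, zero_add, Nat.mul_div_cancel_left _ (ne_of_pos hS)]
    rw [hd] at hb
    have hbb : b = bt := by
      have h1 := hb.resolve_left (hc0.1 hj)
      exact Bool.eq_iff_iff.2 (h1.trans hbti.symm)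
    rw [hbb, mul_zero, Multiset.replicate_zero, zero_add]
    exact hbt
  · obtain ⟨j, rfl⟩ : ∃ l, j = l + 1 := ⟨j - 1, by omega⟩
    have h1 := ((real_replicate hS.cast_ne j).2 (b == bt)).add hbt
    cases b <;> cases bt <;> simpa using h1

/-- transport along a similitude -/
theorem datum_map {ι κ : Type} [Fintype ι] [DecidableEq ι] [Fintype κ] [DecidableEq κ]
    {s : Multiset F[X]} {Q : QuadraticForm F (ι → F)} {R : QuadraticForm F (κ → F)}
    {A : Matrix ι ι F} (hA : IsoDatum r s Q A) (hR : (Pol R).Nondegenerate) (c : F)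
    (f : (ι → F) ≃ₗ[F] (κ → F)) (hf : ∀ x, R (f x) = c * Q x) :
    ∃ B : Matrix κ κ F, IsoDatum r s R B := by
  refine ⟨LinearMap.toMatrixAlgEquiv' (f.conjAlgEquiv F (Matrix.toLinAlgEquiv' A)),
    hR, fun v => ?_, by rw [← map_pow, ← map_pow, ← map_pow, hA.pow, map_one, map_one, map_one], ?_⟩
  · rw [← Matrix.toLinAlgEquiv'_apply, Matrix.toLinAlgEquiv'_toMatrixAlgEquiv']
    show R (f (A *ᵥ f.symm v)) = R v
    rw [hf, hA.pres, ← hf, f.apply_symm_apply]
  · rw [charpoly_toMatrixAlgEquiv']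
    show (f.conj (Matrix.toLin' A)).charpoly = _
    rw [LinearEquiv.charpoly_conj, Matrix.charpoly_toLin', hA.char]

theorem exists_datum_even (hS : Setting F r i) {ι : Type} [Fintype ι] [DecidableEq ι] {m : ℕ}
    {Q : QuadraticForm F (ι → F)} (hc : Fintype.card ι = 2 * m) (hQ : (Pol Q).Nondegenerate)
    {s : Multiset F[X]} (hs : Good r (2 * m) s)
    (hok : X - C 1 ∈ s ∨ (IsPlus Q m ↔ Odd i ∨ Even (2 * m / i))) :
    ∃ A : Matrix ι ι F, IsoDatum r s Q A := by
  classical
  obtain ⟨κ, _, _, k, R, A, hk, hA, hb⟩ := real_of_good hS hs (decide (IsPlus Q m))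
    (hok.imp id fun h => by rw [decide_eq_true_iff]; exact h)
  have hkm : k = m := by
    have h := sum_degree_of_datum hA hs.monic
    rw [hs.1.2] at h
    omega
  subst hkm
  obtain ⟨e, he⟩ := exists_isometry hk hc hA.nd hQ (by rw [hb, decide_eq_true_iff])
  exact datum_map hA hQ 1 e fun x => by rw [one_mul, he]

theorem eval_one_ne (hS : Setting F r i) {n : ℕ} {s : Multiset F[X]} (hs : Good r n s)
    (hz : X - C 1 ∉ s) : s.prod.eval 1 ≠ 0 := by
  rw [eval_multiset_prod, Ne, Multiset.prod_eq_zero_iff, Multiset.mem_map]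
  rintro ⟨p, hp, h⟩
  refine hz ((eq_of_monic_of_associated (hs.monic p hp) (monic_X_sub_C 1)
    ((hs.1.1 p hp).2.1.associated_of_dvd (irreducible_X_sub_C 1) ?_)) ▸ hp)
  have hd : (X - C 1) ∣ p := dvd_iff_isRoot.2 h
  exact ((irreducible_X_sub_C (1 : F)).associated_of_dvd (hs.1.1 p hp).2.1 hd).symm.dvd

theorem eq_zero_of_fixed {ι : Type} [Fintype ι] [DecidableEq ι] {A : Matrix ι ι F}
    (h : A.charpoly.eval 1 ≠ 0) {u : ι → F} (hu : A *ᵥ u = u) : u = 0 := by
  by_contra hne
  rw [Matrix.eval_charpoly, Ne, ← Matrix.exists_mulVec_eq_zero_iff] at h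
  exact h ⟨u, hne, by rw [map_one, Matrix.sub_mulVec, Matrix.one_mulVec, hu, sub_self]⟩

/-- without fixed vectors the type is unique -/
theorem type_unique (hS : Setting F r i) {ι κ : Type} [Fintype ι] [DecidableEq ι] [Fintype κ]
    [DecidableEq κ] {m : ℕ} {s : Multiset F[X]} {Q : QuadraticForm F (ι → F)}
    {R : QuadraticForm F (κ → F)} {A : Matrix ι ι F} {B : Matrix κ κ F}
    (hι : Fintype.card ι = 2 * m) (hκ : Fintype.card κ = 2 * m) (hA : IsoDatum r s Q A)
    (hB : IsoDatum r s R B) (h1 : s.prod.eval 1 ≠ 0) (hQ : IsPlus Q m) : IsPlus R m := by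
  classical
  by_contra hR
  obtain ⟨ζ, hζ⟩ := exists_zeta (F := F)
  set N := minQ F 0 1 ζ with hN
  set H := plusQ F 1 with hH
  have hNn : (Pol N).Nondegenerate := minQ_nondeg 0 (aniso_one hζ)
  have hone : ∀ {σ : Type} [Fintype σ] [DecidableEq σ] (P : QuadraticForm F (σ → F)) (v : σ → F),
      P ((1 : Matrix σ σ F) *ᵥ v) = P v := fun P v => by rw [Matrix.one_mulVec]
  have hA' : IsoDatum r (s + Multiset.replicate 2 (X - C 1)) (sumQ Q H)
      (Matrix.fromBlocks A 0 0 1) :=
    hA.sum ⟨plusQ_nondeg F 1, hone H, one_pow r, by rw [Matrix.charpoly_one]; simp [pow_two]⟩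
  have hB' : IsoDatum r (s + Multiset.replicate 2 (X - C 1)) (sumQ R N)
      (Matrix.fromBlocks B 0 0 1) :=
    hB.sum ⟨hNn, hone N, one_pow r, by rw [Matrix.charpoly_one]; simp [pow_two]⟩
  have hp1 : IsPlus (sumQ Q H) (m + 1) := isPlus_sum hQ (isPlus_plusQ 1)
  have hp2 : IsPlus (sumQ R N) (m + 1) :=
    isPlus_sum_minus hκ (by simp) hB.nd hNn hR (not_isPlus_minQ (k := 0) (aniso_one hζ))
  obtain ⟨e, he⟩ := exists_isometry (m := m + 1) (by simp [hι]; ring) (by simp [hκ]; ring)
    hA'.nd hB'.nd (iff_of_true hp1 hp2)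
  have hodd : Odd r := hS.prime.odd_of_ne_two hS.ne_two
  obtain ⟨f, hf, hfA⟩ := exists_intertwine hodd hS.cast_ne hB'.nd hA'.pres hA'.pow hB'.pres hB'.pow
    (hA'.char.trans hB'.char.symm) e he
  set v : ι ⊕ (Fin 1 ⊕ Fin 1) → F := Sum.elim 0 (Pi.single (Sum.inl 0) 1) with hv
  have hfix : Matrix.fromBlocks A 0 0 (1 : Matrix (Fin 1 ⊕ Fin 1) (Fin 1 ⊕ Fin 1) F) *ᵥ v = v := by
    rw [hv, Matrix.fromBlocks_mulVec, Sum.elim_comp_inl, Sum.elim_comp_inr, Matrix.mulVec_zero,
      Matrix.mulVec_zero, Matrix.zero_mulVec, Matrix.one_mulVec, zero_add, zero_add]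
  have h2 := hfA v
  rw [hfix, Matrix.fromBlocks_mulVec] at h2
  have hl : f v ∘ Sum.inl = 0 := eq_zero_of_fixed (hB.char ▸ h1) (by
    conv_rhs => rw [h2]
    simp [Sum.elim_comp_inl])
  have hz : sumQ R N (f v) = 0 := by
    rw [hf, sumQ_apply, hv, Sum.elim_comp_inl, Sum.elim_comp_inr, QuadraticMap.map_zero, zero_add,
      hH, plusQ_apply]
    simp [Cfsg.quadFormPlus]
  rw [sumQ_apply, hl, QuadraticMap.map_zero, zero_add, hN, minQ_apply, plusQ_apply] at hz
  obtain ⟨z1, z2⟩ := aniso_one hζ _ _ (by simpa [Cfsg.quadFormPlus] using hz)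
  have hzero : f v = 0 := by
    funext x
    rcases x with x | (x | x)
    · exact congrFun hl x
    · exact isEmptyElim x
    · fin_cases x <;> assumption
  have := congrFun (f.map_eq_zero_iff.1 hzero) (Sum.inr (Sum.inl 0))
  simp [hv] at this

theorem type_of_datum (hS : Setting F r i) {ι : Type} [Fintype ι] [DecidableEq ι] {m : ℕ}
    {Q : QuadraticForm F (ι → F)} {A : Matrix ι ι F} {s : Multiset F[X]}
    (hc : Fintype.card ι = 2 * m) (hA : IsoDatum r s Q A) (hs : Good r (2 * m) s)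
    (hz : X - C 1 ∉ s) : IsPlus Q m ↔ Odd i ∨ Even (2 * m / i) := by
  classical
  obtain ⟨κ, _, _, k, R, B, hk, hB, hb⟩ := real_of_good hS hs
    (decide (Odd i ∨ Even (2 * m / i))) (Or.inr decide_eq_true_iff)
  have hkm : k = m := by
    have h := sum_degree_of_datum hB hs.monic
    rw [hs.1.2] at h
    omega
  subst hkm
  rw [decide_eq_true_iff] at hb
  have h1 := eval_one_ne hS hs hz
  rw [← hb]
  exact ⟨type_unique hS hc hk hA hB h1, type_unique hS hk hc hB hA h1⟩

/-! ### Odd dimension -/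

theorem exists_scale_odd {ι : Type} [Fintype ι] {m : ℕ} {Q : QuadraticForm F (ι → F)}
    (hc : Fintype.card ι = 2 * m + 1) (hQ : (Pol Q).Nondegenerate) :
    ∃ c : F, c ≠ 0 ∧ ∃ e : (ι → F) ≃ₗ[F] (Unit ⊕ (Fin m ⊕ Fin m) → F), ∀ x, c * oddQ F m (e x) = Q x := by
  obtain ⟨c, hc0, e, he⟩ := QuadClass.classify_odd m (V := ι → F) (by simpa using hc) Q hQ
  let w : Unit ⊕ (Fin m ⊕ Fin m) → Fˣ :=
    Sum.elim (fun _ => 1) (Sum.elim (fun _ => (Units.mk0 c hc0)⁻¹) fun _ => 1)
  let d : (Unit ⊕ (Fin m ⊕ Fin m) → F) ≃ₗ[F] (Unit ⊕ (Fin m ⊕ Fin m) → F) :=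
    LinearEquiv.piCongrRight fun x => LinearEquiv.smulOfUnit (w x)
  refine ⟨c, hc0, e.trans d, fun x => ?_⟩
  rw [← he, oddQ_apply, LinearEquiv.trans_apply, plusQ_apply, plusQ_apply, mul_add]
  congr 1
  · simp [d, w, LinearEquiv.piCongrRight, LinearEquiv.smulOfUnit, Units.smul_def]
  · rw [Cfsg.quadFormPlus, Cfsg.quadFormPlus, Finset.mul_sum]
    refine Finset.sum_congr rfl fun j _ => ?_
    simp [d, w, LinearEquiv.piCongrRight, LinearEquiv.smulOfUnit, Units.smul_def]
    field_simp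

theorem exists_datum_odd (hS : Setting F r i) (h2 : (2 : F) ≠ 0) {m : ℕ} {s : Multiset F[X]}
    (hs : Good r (2 * m + 1) s) :
    ∃ A : Matrix (Unit ⊕ (Fin m ⊕ Fin m)) (Unit ⊕ (Fin m ⊕ Fin m)) F, IsoDatum r s (oddQ F m) A := by
  classical
  obtain ⟨c, t, hst, ht, hinv, hn, hc0⟩ := split hS hs
  have hc1 : 0 < c := by
    obtain ⟨b, ⟨ι, _, _, k, Q, A, hk, hA, -⟩, -⟩ := real_no_ones hS t ht hinv
    have h := sum_degree_of_datum hA fun p hp => (ht p hp).monic
    rw [Multiset.map_congr rfl fun p hp => hS.deg p (ht p hp), Multiset.map_const',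
      Multiset.sum_replicate, smul_eq_mul, mul_comm] at h
    omega
  have hz : X - C 1 ∈ s := by
    by_contra hz
    have := hc0.2 hz
    omega
  obtain ⟨s', rfl⟩ := Multiset.exists_cons_of_mem hz
  have hs' : Good r (2 * m) s' := by
    refine ⟨⟨fun p hp => hs.1.1 p (Multiset.mem_cons_of_mem hp), ?_⟩, ?_⟩
    · have := hs.1.2
      rw [Multiset.map_cons, Multiset.sum_cons, natDegree_X_sub_C] at this
      omega
    · have := hs.2
      rwa [Multiset.map_cons, StarFactor.star_X_sub_one hS.cast_ne, Multiset.cons_inj_right] at this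
  obtain ⟨κ, _, _, k, R, A, hk, hA, -⟩ := real_of_good hS hs' (decide (Odd i ∨ Even (2 * m / i)))
    (Or.inr decide_eq_true_iff)
  have hkm : k = m := by
    have h := sum_degree_of_datum hA hs'.monic
    rw [hs'.1.2] at h
    omega
  subst hkm
  have hU : IsoDatum r ({X - C 1} : Multiset F[X]) (oddQ F 0) 1 :=
    ⟨oddQ_nondeg h2 0, fun v => by rw [Matrix.one_mulVec], one_pow r,
      by rw [Matrix.charpoly_one]; simp [pow_two]⟩
  have hA' := hA.sum hU
  rw [add_comm s', Multiset.singleton_add] at hA'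
  obtain ⟨d, hd, e, he⟩ := exists_scale_odd (m := k) (by simp [hk]) hA'.nd
  exact datum_map hA' (oddQ_nondeg h2 k) d⁻¹ e fun x => by rw [← he, inv_mul_cancel_left₀ hd]

/-! ### Classes -/

theorem charpoly_pow_sub_one (hr : 1 ≤ r) {ι : Type} [Fintype ι] [DecidableEq ι]
    {Q : QuadraticForm F (ι → F)} (hQ : (Pol Q).Nondegenerate) {A : Matrix ι ι F}
    (hA : ∀ v, Q (A *ᵥ v) = Q v) (hAr : A ^ r = 1) : (A ^ (r - 1)).charpoly = A.charpoly := by
  set J := LinearMap.BilinForm.toMatrix' (Pol Q) with hJ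
  have hJu : IsUnit J := by
    rw [Matrix.isUnit_iff_isUnit_det, isUnit_iff_ne_zero]
    exact LinearMap.BilinForm.nondegenerate_iff_det_ne_zero (Pi.basisFun F ι) |>.1 hQ
  have h0 : Aᵀ * J * A = J := by
    refine Matrix.toBilin'.injective (LinearMap.ext₂ fun x y => ?_)
    rw [JordanFormsType.toBilin_congr, hJ, Matrix.toBilin'_toMatrix']
    simp only [QuadraticMap.polarBilin_apply_apply, QuadraticMap.polar, ← Matrix.mulVec_add, hA]
  have h1 : (A ^ (r - 1))ᵀ * J = J * A := by
    conv_lhs => rw [← h0]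
    rw [← mul_assoc, ← mul_assoc, ← Matrix.transpose_mul, ← pow_succ', Nat.sub_add_cancel hr, hAr,
      Matrix.transpose_one, one_mul]
  rw [← Matrix.charpoly_transpose (A ^ (r - 1))]
  obtain ⟨u, hu⟩ := hJu
  rw [← hu] at h1
  rw [← Matrix.charpoly_units_conj' u, mul_assoc, h1, ← mul_assoc,
    ← Matrix.coe_units_inv, Units.inv_mul, one_mul]

theorem exists_good (hS : Setting F r i) {ι : Type} [Fintype ι] [DecidableEq ι]
    {Q : QuadraticForm F (ι → F)} (hQ : (Pol Q).Nondegenerate) {A : Matrix ι ι F}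
    (hA : ∀ v, Q (A *ᵥ v) = Q v) (hAr : A ^ r = 1) :
    ∃ s, Good r (Fintype.card ι) s ∧ IsoDatum r s Q A := by
  classical
  have := Fact.mk hS.prime
  let φ := Matrix.reindexAlgEquiv F F (Fintype.equivFin ι)
  have hφc : ∀ M : Matrix ι ι F, (φ M).charpoly = M.charpoly := fun M =>
    Matrix.charpoly_reindex _ M
  obtain ⟨s, hs, hsc⟩ := PowScalarClasses.admissible_factors hS.cast_ne one_ne_zero
    (show (φ A) ^ r = (1 : F) • 1 by rw [one_smul, ← map_pow, hAr, map_one])
  refine ⟨s, ⟨hs, ?_⟩, hQ, hA, hAr, by rw [← hφc, hsc]⟩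
  have h1 := StarFactor.charpoly_inv_of hS.cast_ne (by rw [← map_pow, hAr, map_one]) hs hsc
  rw [← map_pow, hφc, charpoly_pow_sub_one hS.prime.one_le hQ hA hAr, ← hφc, hsc] at h1
  refine PowScalarClasses.eq_of_prod_eq (k := r) (n := Fintype.card ι) (c := 1) ⟨?_, ?_⟩ hs h1.symm
  · intro y hy
    obtain ⟨z, hz, rfl⟩ := Multiset.mem_map.1 hy
    by_cases hz1 : z = X - C 1
    · subst hz1
      rw [StarFactor.star_X_sub_one hS.cast_ne]
      exact hs.1 _ hz
    · have hf := ((⟨(hs.1 z hz).1, (hs.1 z hz).2.1, (hs.1 z hz).2.2, hz1⟩ :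
        Fac r z).star_fac hS.cast_ne hS.deg).1
      exact ⟨hf.monic, hf.irr, hf.dvd⟩
  · rw [Multiset.map_map]
    conv_rhs => rw [← hs.2]
    congr 1
    refine Multiset.map_congr rfl fun z hz => ?_
    show (StarFactor.star r z).natDegree = z.natDegree
    by_cases hz1 : z = X - C 1
    · subst hz1; rw [StarFactor.star_X_sub_one hS.cast_ne]
    · have hzf : Fac r z := ⟨(hs.1 z hz).1, (hs.1 z hz).2.1, (hs.1 z hz).2.2, hz1⟩
      rw [hS.deg z hzf, hS.deg _ (hzf.star_fac hS.cast_ne hS.deg).1]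

/-- classes of `g ^ r = 1` in the isometry group are the realised multisets -/
theorem natCard_pow_classes (hS : Setting F r i) {ι : Type} [Fintype ι] [DecidableEq ι]
    {Q : QuadraticForm F (ι → F)} (hQ : (Pol Q).Nondegenerate) (ok : Multiset F[X] → Prop)
    (hreal : ∀ s, Good r (Fintype.card ι) s → ok s → ∃ A, IsoDatum r s Q A)
    (hnec : ∀ s A, Good r (Fintype.card ι) s → IsoDatum r s Q A → ok s) :
    Nat.card {C : ConjClasses ↥(Cfsg.isometryGroup F ⇑Q) //
        ∃ g : Cfsg.isometryGroup F ⇑Q, g ^ r = 1 ∧ ConjClasses.mk g = C} =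
      Nat.card {s : Multiset F[X] // Good r (Fintype.card ι) s ∧ ok s} := by
  classical
  have hodd : Odd r := hS.prime.odd_of_ne_two hS.ne_two
  have hex : ∀ s : {s : Multiset F[X] // Good r (Fintype.card ι) s ∧ ok s},
      ∃ g : Cfsg.isometryGroup F ⇑Q, g ^ r = 1 ∧
        ((g : Matrix.GeneralLinearGroup ι F) : Matrix ι ι F).charpoly = s.1.prod := fun s => by
    obtain ⟨A, hA⟩ := hreal s.1 s.2.1 s.2.2
    obtain ⟨g, hg, hgA⟩ := exists_elt hS.prime.pos ⇑Q A hA.pres hA.pow
    exact ⟨g, hg, by rw [hgA, hA.char]⟩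
  choose g hg hgc using hex
  let toM : ↥(Cfsg.isometryGroup F ⇑Q) →* Matrix ι ι F :=
    (Units.coeHom (Matrix ι ι F)).comp (Cfsg.isometryGroup F ⇑Q).subtype
  have hpow : ∀ x : Cfsg.isometryGroup F ⇑Q, x ^ r = 1 → toM x ^ r = 1 := fun x hx => by
    rw [← map_pow, hx, map_one]
  refine (Nat.card_eq_of_bijective (fun s => (⟨ConjClasses.mk (g s), g s, hg s, rfl⟩ :
    {C : ConjClasses ↥(Cfsg.isometryGroup F ⇑Q) //
      ∃ g : Cfsg.isometryGroup F ⇑Q, g ^ r = 1 ∧ ConjClasses.mk g = C})) ⟨?_, ?_⟩).symm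
  · intro s s' h
    obtain ⟨c, hc⟩ := toM.map_isConj (ConjClasses.mk_eq_mk_iff_isConj.1 (congrArg Subtype.val h))
    refine Subtype.ext (PowScalarClasses.eq_of_prod_eq s.2.1.1 s'.2.1.1 ?_)
    rw [← hgc s, ← hgc s']
    show (toM (g s)).charpoly = (toM (g s')).charpoly
    rw [← Matrix.charpoly_units_conj c (toM (g s)), ← Matrix.coe_units_inv, hc.eq, mul_assoc,
      Units.mul_inv, mul_one]
  · rintro ⟨_, x, hx, rfl⟩
    obtain ⟨s, hs, hd⟩ := exists_good hS hQ (A := toM x) (iso_mulVec (Q := ⇑Q) x) (hpow x hx)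
    refine ⟨⟨s, hs, hnec s _ hs hd⟩, Subtype.ext (ConjClasses.mk_eq_mk_iff_isConj.2 ?_)⟩
    obtain ⟨f, hf, hfA⟩ := exists_intertwine (B := toM x) hodd hS.cast_ne hQ
      (A := toM (g ⟨s, hs, hnec s _ hs hd⟩)) (iso_mulVec (Q := ⇑Q) _) (hpow _ (hg _)) hd.pres hd.pow
      ((hgc _).trans hd.char.symm) (LinearEquiv.refl F _) (fun _ => rfl)
    refine isConj_iff.2 ⟨isoOfEquiv ⇑Q f hf, mul_inv_eq_iff_eq_mul.2 (iso_ext fun v => ?_)⟩
    rw [mul_mulVec_iso, mul_mulVec_iso, isoOfEquiv_mulVec, isoOfEquiv_mulVec]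
    exact hfA v

/-- counting classes of elements of order `r` -/
theorem natCard_order_classes (hS : Setting F r i) {ι : Type} [Fintype ι] [DecidableEq ι]
    {Q : QuadraticForm F (ι → F)} (hQ : (Pol Q).Nondegenerate) (ok : Multiset F[X] → Prop)
    (hreal : ∀ s, Good r (Fintype.card ι) s → ok s → ∃ A, IsoDatum r s Q A)
    (hnec : ∀ s A, Good r (Fintype.card ι) s → IsoDatum r s Q A → ok s) :
    Nat.card {C : ConjClasses ↥(Cfsg.isometryGroup F ⇑Q) //
        ∃ g : Cfsg.isometryGroup F ⇑Q, ConjClasses.mk g = C ∧ orderOf g = r} =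
      Nat.card {s : Multiset F[X] // Good r (Fintype.card ι) s ∧ ok s} - 1 := by
  classical
  have hins : {C : ConjClasses ↥(Cfsg.isometryGroup F ⇑Q) |
      ∃ g : Cfsg.isometryGroup F ⇑Q, g ^ r = 1 ∧ ConjClasses.mk g = C} =
      insert 1 {C | ∃ g : Cfsg.isometryGroup F ⇑Q, ConjClasses.mk g = C ∧ orderOf g = r} := by
    ext C
    simp only [Set.mem_setOf_eq, Set.mem_insert_iff]
    constructor
    · rintro ⟨g, hg, rfl⟩
      by_cases h1 : g = 1
      · exact Or.inl (by rw [h1]; rfl)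
      · have := Fact.mk hS.prime
        exact Or.inr ⟨g, rfl, orderOf_eq_prime hg h1⟩
    · rintro (rfl | ⟨g, rfl, hg⟩)
      · exact ⟨1, one_pow r, rfl⟩
      · exact ⟨g, hg ▸ pow_orderOf_eq_one g, rfl⟩
  have hnot : (1 : ConjClasses ↥(Cfsg.isometryGroup F ⇑Q)) ∉
      {C | ∃ g : Cfsg.isometryGroup F ⇑Q, ConjClasses.mk g = C ∧ orderOf g = r} := by
    rintro ⟨g, hg, ho⟩
    rw [ConjClasses.one_eq_mk_one, ConjClasses.mk_eq_mk_iff_isConj, isConj_one_left] at hg
    rw [hg, orderOf_one] at ho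
    exact hS.prime.one_lt.ne ho
  rw [← natCard_pow_classes hS hQ ok hreal hnec]
  show _ = Set.ncard {C : ConjClasses ↥(Cfsg.isometryGroup F ⇑Q) |
      ∃ g : Cfsg.isometryGroup F ⇑Q, g ^ r = 1 ∧ ConjClasses.mk g = C} - 1
  rw [hins, Set.ncard_insert_of_notMem hnot (Set.toFinite _), Nat.add_sub_cancel]
  rfl

/-! ### Counting the multisets -/

theorem setting_of {p q t : ℕ} [Fact p.Prime] [CharP F p] (hF : Fintype.card F = q) (hr : r.Prime)
    (hr2 : r ≠ 2) (hrp : r ≠ p) (hi : i = orderOf (q : ZMod r)) (ht : t * i = r - 1) :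
    Setting F r i ∧ ∃ P : Finset F[X], P.card = t ∧ ∀ x, x ∈ P ↔ Fac r x := by
  classical
  haveI : Fact r.Prime := ⟨hr⟩
  obtain ⟨f, hp, hpf⟩ := FiniteField.card F p
  have hcop : Nat.Coprime (p ^ (f : ℕ)) r :=
    Nat.Coprime.pow_left _ ((Nat.coprime_primes hp hr).2 fun e => hrp e.symm)
  have hcop1 : Nat.Coprime p r := (Nat.coprime_primes hp hr).2 fun e => hrp e.symm
  have hri : (r : F) ≠ 0 := fun h => hrp
    ((Nat.prime_dvd_prime_iff_eq Fact.out hr).1 ((CharP.cast_eq_zero_iff F p r).1 h)).symm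
  have hord : orderOf (ZMod.unitOfCoprime _ hcop) = i := by
    rw [← orderOf_units, ZMod.coe_unitOfCoprime, hi, ← hF, hpf]
  have hipos : 0 < i := by rw [← hord]; exact orderOf_pos _
  set P := (UniqueFactorizationMonoid.normalizedFactors (Polynomial.cyclotomic r F)).toFinset with hP
  have hPcard : P.card = t := by
    have h := Polynomial.normalizedFactors_cyclotomic_card (K := F) (p := p) (f := f) hpf
      (n := r) hcop1
    rw [hord, Nat.totient_prime hr, ← ht, Nat.mul_div_cancel _ hipos] at h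
    exact h
  have hprod : Polynomial.cyclotomic r F * (X - C 1) = X ^ r - C 1 := by
    rw [map_one, Polynomial.cyclotomic_prime_mul_X_sub_one]
  have hzP : (X - C 1 : F[X]) ∉ P := fun h => by
    have hd := UniqueFactorizationMonoid.dvd_of_mem_normalizedFactors (Multiset.mem_toFinset.1 h)
    rw [dvd_iff_isRoot, IsRoot, Polynomial.eval_one_cyclotomic_prime] at hd
    exact hri hd
  have hfac : ∀ x, x ∈ P ↔ Fac r x := by
    intro x
    constructor
    · intro hx
      have hx' := hx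
      rw [hP, Multiset.mem_toFinset] at hx'
      have hirr := UniqueFactorizationMonoid.irreducible_of_normalized_factor x hx'
      refine ⟨?_, hirr, ?_, fun e => hzP (e ▸ hx)⟩
      · rw [← UniqueFactorizationMonoid.normalize_normalized_factor x hx']
        exact Polynomial.monic_normalize hirr.ne_zero
      · rw [← hprod]
        exact (UniqueFactorizationMonoid.dvd_of_mem_normalizedFactors hx').mul_right _
    · rintro ⟨hm, hirr, hd, hne⟩
      rw [← hprod] at hd
      rcases hirr.prime.dvd_or_dvd hd with hd | hd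
      · obtain ⟨y, hy, hxy⟩ := UniqueFactorizationMonoid.exists_mem_normalizedFactors_of_dvd
          (cyclotomic_ne_zero r F) hirr hd
        rw [hP, Multiset.mem_toFinset]
        have : y = x := by
          rw [← UniqueFactorizationMonoid.normalize_normalized_factor y hy, ← hm.normalize_eq_self]
          exact normalize_eq_normalize_iff_associated.2 hxy.symm
        exact this ▸ hy
      · exact absurd (eq_of_monic_of_associated hm (monic_X_sub_C 1)
          (hirr.associated_of_dvd (irreducible_X_sub_C 1) hd)) hne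
  refine ⟨⟨hr, hr2, hri, by rw [hF, hi], fun x hx => ?_⟩, P, hPcard, hfac⟩
  rw [← hord]
  exact Polynomial.natDegree_of_mem_normalizedFactors_cyclotomic (K := F) (p := p) (f := f) hpf
    hcop1 (Multiset.mem_toFinset.1 ((hfac x).2 hx))

theorem natCard_good (hS : Setting F r i) (P : Finset F[X]) (hfac : ∀ x, x ∈ P ↔ Fac r x) (n : ℕ) :
    Nat.card {s : Multiset F[X] // Good r n s} =
      if Odd i then Nat.choose (n / (2 * i) + P.card / 2) (P.card / 2)
      else Nat.choose (n / i + P.card) P.card := by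
  classical
  have := Fact.mk hS.prime
  have hzP : (X - C 1 : F[X]) ∉ P := fun h => ((hfac _).1 h).ne rfl
  have hPdeg : ∀ x ∈ P, x.natDegree = i := fun x hx => hS.deg x ((hfac x).1 hx)
  have hadm : ∀ s : Multiset F[X], Admissible r n 1 s ↔
      (∀ x ∈ s, x = X - C 1 ∨ x ∈ P) ∧ (s.map natDegree).sum = n := by
    intro s
    refine and_congr (forall₂_congr fun x _ => ⟨fun h => ?_, fun h => ?_⟩) Iff.rfl
    · by_cases hx : x = X - C 1
      · exact Or.inl hx
      · exact Or.inr ((hfac x).2 ⟨h.1, h.2.1, h.2.2, hx⟩)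
    · rcases h with h | h
      · subst h
        exact ⟨monic_X_sub_C 1, irreducible_X_sub_C 1, by rw [map_one]; exact sub_one_dvd_pow_sub_one _ _⟩
      · exact ⟨((hfac x).1 h).monic, ((hfac x).1 h).irr, ((hfac x).1 h).dvd⟩
  rw [Nat.card_congr (Equiv.subtypeEquivRight fun s => show Good r n s ↔ _ from
    and_congr_left fun _ => hadm s)]
  split_ifs with hodd
  · rw [InvariantCount.natCard_pairs natDegree (X - C 1) (natDegree_X_sub_C 1) P hzP i n (ne_of_pos hS)
      hPdeg (StarFactor.star r) (StarFactor.star_X_sub_one hS.cast_ne) fun x hx => ?_]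
    have h := ((hfac x).1 hx).star_fac hS.cast_ne hS.deg
    exact ⟨(hfac _).2 h.1, h.2, fun e => (Nat.not_even_iff_odd.2 hodd)
      ((((hfac x).1 hx).star_eq_iff hS.cast_ne hS.ne_two hS.deg).1 e)⟩
  · rw [← Cfsg.Agent.S2568.natCard_weighted natDegree (X - C 1)
      (natDegree_X_sub_C 1) P hzP i n (ne_of_pos hS) hPdeg]
    refine Nat.card_congr (Equiv.subtypeEquivRight fun s => ⟨fun h => h.1, fun h => ⟨h, ?_⟩⟩)
    conv_rhs => rw [← Multiset.map_id s]
    refine Multiset.map_congr rfl fun x hx => ?_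
    rcases h.1 x hx with h' | h'
    · rw [h', StarFactor.star_X_sub_one hS.cast_ne]; rfl
    · exact (((hfac x).1 h').star_eq_iff hS.cast_ne hS.ne_two hS.deg).2 (Nat.not_odd_iff_even.1 hodd)

/-- multisets with a fixed eigenvalue -/
theorem natCard_good_one (hS : Setting F r i) (n : ℕ) :
    Nat.card {s : Multiset F[X] // Good r (n + 1) s ∧ X - C 1 ∈ s} =
      Nat.card {s : Multiset F[X] // Good r n s} := by
  classical
  refine (Nat.card_eq_of_bijective (fun s => (⟨(X - C 1) ::ₘ s.1, ⟨⟨?_, ?_⟩, ?_⟩,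
    Multiset.mem_cons_self _ _⟩ : {s : Multiset F[X] // Good r (n + 1) s ∧ X - C 1 ∈ s})) ⟨?_, ?_⟩).symm
  · intro p hp
    rcases Multiset.mem_cons.1 hp with rfl | hp
    · exact ⟨monic_X_sub_C 1, irreducible_X_sub_C 1, by rw [map_one]; exact sub_one_dvd_pow_sub_one _ _⟩
    · exact s.2.1.1 p hp
  · rw [Multiset.map_cons, Multiset.sum_cons, natDegree_X_sub_C, s.2.1.2, add_comm]
  · rw [Multiset.map_cons, StarFactor.star_X_sub_one hS.cast_ne, s.2.2]
  · intro s s' h
    exact Subtype.ext ((Multiset.cons_inj_right _).1 (congrArg Subtype.val h))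
  · rintro ⟨s, hs, hz⟩
    obtain ⟨t, rfl⟩ := Multiset.exists_cons_of_mem hz
    refine ⟨⟨t, ⟨fun p hp => hs.1.1 p (Multiset.mem_cons_of_mem hp), ?_⟩, ?_⟩, rfl⟩
    · have := hs.1.2
      rw [Multiset.map_cons, Multiset.sum_cons, natDegree_X_sub_C] at this
      omega
    · have := hs.2
      rwa [Multiset.map_cons, StarFactor.star_X_sub_one hS.cast_ne, Multiset.cons_inj_right] at this

theorem choose_pred {n d t : ℕ} (hn : 0 < n) (hd : 0 < d) (ht : 0 < t) :
    Nat.choose ((n - 1) / d + t) t =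
      Nat.choose (n / d + t) t - if d ∣ n then Nat.choose (n / d + t - 1) (t - 1) else 0 := by
  obtain ⟨k, rfl⟩ : ∃ k, n = k + 1 := ⟨n - 1, by omega⟩
  obtain ⟨u, rfl⟩ : ∃ u, t = u + 1 := ⟨t - 1, by omega⟩
  rw [Nat.add_sub_cancel, Nat.succ_div]
  generalize k / d = x
  split_ifs with h
  · rw [show x + 1 + (u + 1) = x + (u + 1) + 1 by omega, Nat.choose_succ_succ',
      show x + (u + 1) + 1 - 1 = x + (u + 1) by omega, Nat.add_sub_cancel,
      Nat.add_sub_cancel_left]
  · simp

/-- classes in even dimension -/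
theorem natCard_classes_even (hS : Setting F r i) {ι : Type} [Fintype ι] [DecidableEq ι] {m : ℕ}
    {Q : QuadraticForm F (ι → F)} (hc : Fintype.card ι = 2 * m) (hQ : (Pol Q).Nondegenerate)
    (hm : 1 ≤ m) [Decidable (IsPlus Q m ↔ Odd i ∨ Even (2 * m / i))] :
    Nat.card {C : ConjClasses ↥(Cfsg.isometryGroup F ⇑Q) //
        ∃ g : Cfsg.isometryGroup F ⇑Q, ConjClasses.mk g = C ∧ orderOf g = r} =
      Nat.card {s : Multiset F[X] //
        Good r (if (IsPlus Q m ↔ Odd i ∨ Even (2 * m / i)) then 2 * m else 2 * m - 1) s} - 1 := by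
  rw [natCard_order_classes hS hQ
    (fun s => X - C 1 ∈ s ∨ (IsPlus Q m ↔ Odd i ∨ Even (2 * m / i)))
    (fun s hs hok => exists_datum_even hS hc hQ (hc ▸ hs) hok) (fun s A hs hA => ?_)]
  swap
  · by_cases hz : X - C 1 ∈ s
    · exact Or.inl hz
    · exact Or.inr (type_of_datum hS hc hA (hc ▸ hs) hz)
  congr 1
  rw [hc]
  split_ifs with h
  · exact Nat.card_congr (Equiv.subtypeEquivRight fun s => ⟨And.left, fun hs => ⟨hs, Or.inr h⟩⟩)
  · rw [← natCard_good_one hS (2 * m - 1), Nat.sub_add_cancel (by omega)]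
    exact Nat.card_congr (Equiv.subtypeEquivRight fun s =>
      and_congr_right fun _ => ⟨fun hh => hh.resolve_right h, Or.inl⟩)

end Cfsg.Agent.Classical.OrthPrimeClasses
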