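import Mathlib
import Cfsg.Agent.Lib.Classical.UnitarySimple
import Cfsg.Agent.Lib.Classical.UnitaryGen

/-!
# A transvection group and a Heisenberg group generate the special unitary group
-/

set_option autoImplicit false
set_option linter.unusedSectionVars false

namespace Cfsg.Agent.Classical.UnitaryTwoGen

open Matrix
open Cfsg.Agent.Forms
open Cfsg.Agent.Classical.Unitary

variable {F : Type*} [Field F] [Fintype F] {q n : ℕ} (hF : Fintype.card F = q ^ 2)

local notation "Vec" => (Fin n → F)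
local notation "H'" => Cfsg.hermForm n F q

/-- `g` is a Heisenberg element at `e` with vector `w` -/
def Hs (q : ℕ) (g : Cfsg.SU n F q) (e w : Fin n → F) : Prop :=
  Cfsg.hermForm n F q w e = 0 ∧ ∃ a : F, a + a ^ q = - Cfsg.hermForm n F q w w ∧
    ∀ x : Fin n → F, mat g *ᵥ x =
      x + (Cfsg.hermForm n F q x e • (w + a • e) + Cfsg.hermForm n F q x w • -e)

/-- some Heisenberg element at `e` with vector `w` lies in `G` -/
def EH (q : ℕ) (G : Subgroup (Cfsg.SU n F q)) (e w : Fin n → F) : Prop := ∃ g ∈ G, Hs q g e w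

/-- all transvections at `v` lie in `G` -/
def TFull (q : ℕ) (G : Subgroup (Cfsg.SU n F q)) (v : Fin n → F) : Prop :=
  ∀ c : F, c + c ^ q = 0 → ∃ g ∈ G, ∀ x : Fin n → F, mat g *ᵥ x = x + (c * Cfsg.hermForm n F q x v) • v

variable {G : Subgroup (Cfsg.SU n F q)}

include hF

theorem neg_pow_q (x : F) : (-x) ^ q = -x ^ q := by
  rw [← HermStd.qHom_apply hF, map_neg, HermStd.qHom_apply]

theorem sub_pow_q (x y : F) : (x - y) ^ q = x ^ q - y ^ q := by
  rw [← HermStd.qHom_apply hF, map_sub, HermStd.qHom_apply, HermStd.qHom_apply]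

theorem exists_hs {e w : Vec} (he : H' e e = 0) (hwe : H' w e = 0) : ∃ g : Cfsg.SU n F q, Hs q g e w := by
  obtain ⟨a, ha⟩ := exists_trace_eq hF (c := - H' w w) (by rw [neg_pow_q hF, H_conj hF])
  exact ⟨suMk _ (det_heis he hwe ((H_eq_zero_comm hF).1 hwe)) (heis_preserves hF he hwe ha),
    hwe, a, ha, fun x => by rw [suMk_mulVec, two_mulVec]⟩

theorem hs_mul {g g' : Cfsg.SU n F q} {e w w' : Vec} (he : H' e e = 0) (h : Hs q g e w)
    (h' : Hs q g' e w') : Hs q (g * g') e (w + w') := by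
  obtain ⟨hw, a, ha, hg⟩ := h
  obtain ⟨hw', a', ha', hg'⟩ := h'
  have hew : H' e w = 0 := (H_eq_zero_comm hF).1 hw
  refine ⟨by rw [H_add_left, hw, hw', add_zero], a + a' - H' w' w, ?_, fun x => ?_⟩
  · rw [sub_pow_q hF, HermStd.add_pow_q hF, H_conj hF]
    simp only [H_add_left, H_add_right hF]
    linear_combination ha + ha'
  · rw [mul_mulVec, hg', hg]
    simp only [H_add_left, H_add_right hF, H_smul_left, H_neg_left, he, hw', hew]
    module

theorem hs_inv {g : Cfsg.SU n F q} {e w : Vec} (he : H' e e = 0) (h : Hs q g e w) :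
    Hs q g⁻¹ e (-w) := by
  obtain ⟨hw, a, ha, hg⟩ := h
  have hew : H' e w = 0 := (H_eq_zero_comm hF).1 hw
  refine ⟨by rw [H_neg_left, hw, neg_zero], a ^ q, ?_, fun x => inv_mulVec g ?_⟩
  · rw [pow_qq hF, H_neg_left, H_neg_right hF, neg_neg, ← ha]; ring
  · rw [hg]
    simp only [H_add_left, H_smul_left, H_neg_left, H_neg_right hF, he, hw, hew]
    match_scalars <;>
      first
        | ring1
        | linear_combination (H' x e) * ha
        | linear_combination -(H' x e) * ha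

theorem hs_conj {g A : Cfsg.SU n F q} {e w v : Vec} {α : F} (h : Hs q g e w) (hA : mat A *ᵥ e = α • v) :
    Hs q (A * g * A⁻¹) v (α ^ q • (mat A *ᵥ w)) := by
  by_cases hα : α = 0
  · subst hα
    have he0 : e = 0 := by
      have := congrArg (fun y => mat A⁻¹ *ᵥ y) hA
      simpa [inv_mulVec A rfl] using this
    obtain ⟨-, a, -, hg⟩ := h
    have hg1 : g = 1 := SU_ext fun x => by rw [hg, he0, mat_one]; simp [H_zero_right hF]
    refine ⟨by simp [zero_pow (q_ne_zero hF), H_zero_left], 0, by simp [zero_pow (q_ne_zero hF), H_zero_left], fun x => ?_⟩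
    rw [hg1, mul_one, mul_inv_cancel, mat_one]
    simp [zero_pow (q_ne_zero hF), H_zero_right hF]
  obtain ⟨hw, a, ha, hg⟩ := h
  have hαq : α ^ q ≠ 0 := pow_ne_zero _ hα
  refine ⟨?_, α * α ^ q * a, ?_, fun x => ?_⟩
  · have := SU_H A w e
    rw [hA, hw, H_smul_right, mul_eq_zero, or_iff_right hαq] at this
    rw [H_smul_left, this, mul_zero]
  · rw [H_smul_left, H_smul_right, SU_H A, mul_pow, mul_pow, pow_qq hF]
    linear_combination (α * α ^ q) * ha
  · obtain ⟨y, rfl⟩ : ∃ y, mat A *ᵥ y = x := ⟨mat A⁻¹ *ᵥ x, by rw [← mul_mulVec, mul_inv_cancel, mat_one, Matrix.one_mulVec]⟩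
    rw [mul_mulVec, mul_mulVec, inv_mulVec A rfl, hg, Matrix.mulVec_add, Matrix.mulVec_add,
      Matrix.mulVec_smul, Matrix.mulVec_smul, Matrix.mulVec_add, Matrix.mulVec_smul, Matrix.mulVec_neg, hA]
    have e1 : H' y e = α ^ q * H' (mat A *ᵥ y) v := by rw [← H_smul_right, ← hA, SU_H A]
    have e2 : H' (mat A *ᵥ y) (α ^ q • (mat A *ᵥ w)) = α * H' y w := by
      rw [H_smul_right, pow_qq hF, SU_H A]
    rw [e1, e2]
    module

theorem hs_diff {g g' : Cfsg.SU n F q} {e : Vec} {w : Vec} (he : H' e e = 0) (h : Hs q g e w)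
    (h' : Hs q g' e w) (hT : TFull q G e) (hg : g ∈ G) : g' ∈ G := by
  have h0 := hs_mul hF he h' (hs_inv hF he h)
  rw [add_neg_cancel] at h0
  obtain ⟨-, a, ha, hd⟩ := h0
  rw [H_zero_left, neg_zero] at ha
  obtain ⟨t, ht, htm⟩ := hT a ha
  have e1 : g' * g⁻¹ = t := SU_ext fun x => by
    rw [hd, htm, H_zero_right hF]
    module
  have h2 := mul_mem (e1 ▸ ht) hg
  rwa [inv_mul_cancel_right] at h2

theorem eh_add {e w w' : Vec} (he : H' e e = 0) (h : EH q G e w) (h' : EH q G e w') : EH q G e (w + w') := by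
  obtain ⟨g, hg, hh⟩ := h
  obtain ⟨g', hg', hh'⟩ := h'
  exact ⟨g * g', mul_mem hg hg', hs_mul hF he hh hh'⟩

theorem eh_zero {e : Vec} : EH q G e 0 :=
  ⟨1, one_mem G, H_zero_left _, 0, by simp [H_zero_left, zero_pow (q_ne_zero hF)], fun x => by
    simp [mat_one, H_zero_right hF]⟩

theorem tfull_of_center {e : Vec} {c : F} {w w' : Vec} (he : H' e e = 0) (h : EH q G e w)
    (h' : EH q G e w') (hc : c = H' w w' - H' w' w) :
    ∃ g ∈ G, ∀ x : Vec, mat g *ᵥ x = x + (c * H' x e) • e := by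
  obtain ⟨g, hg, hw, a, ha, hge⟩ := h
  obtain ⟨g', hg', hw', a', ha', hge'⟩ := h'
  have hew : H' e w = 0 := (H_eq_zero_comm hF).1 hw
  have hew' : H' e w' = 0 := (H_eq_zero_comm hF).1 hw'
  refine ⟨g * g' * (g' * g)⁻¹, mul_mem (mul_mem hg hg') (inv_mem (mul_mem hg' hg)), fun x => ?_⟩
  obtain ⟨y, rfl⟩ : ∃ y, mat (g' * g) *ᵥ y = x :=
    ⟨mat (g' * g)⁻¹ *ᵥ x, by rw [← mul_mulVec, mul_inv_cancel, mat_one, Matrix.one_mulVec]⟩
  rw [mul_mulVec, inv_mulVec (g' * g) rfl, mul_mulVec, mul_mulVec, hge', hge, hge, hge', hc]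
  simp only [H_add_left, H_smul_left, H_neg_left, he, hw, hw', hew, hew']
  module

theorem tfull_smul {v : Vec} {a : F} (ha : a ≠ 0) (h : TFull q G (a • v)) : TFull q G v := by
  intro c hc
  have hn : (a * a ^ q) ^ q = a * a ^ q := by rw [mul_pow, pow_qq hF, mul_comm]
  obtain ⟨g, hg, he⟩ := h (c / (a * a ^ q)) (by rw [div_pow, hn, ← add_div, hc, zero_div])
  refine ⟨g, hg, fun x => ?_⟩
  rw [he, H_smul_right, smul_smul]
  congr 2
  have : a ^ q ≠ 0 := pow_ne_zero _ ha
  field_simp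

theorem tfull_map {v : Vec} (h : TFull q G v) {A : Cfsg.SU n F q} (hA : A ∈ G) :
    TFull q G (mat A *ᵥ v) := by
  intro c hc
  obtain ⟨g, hg, he⟩ := h c hc
  refine ⟨A * g * A⁻¹, mul_mem (mul_mem hA hg) (inv_mem hA), fun x => ?_⟩
  obtain ⟨y, rfl⟩ : ∃ y, mat A *ᵥ y = x := ⟨mat A⁻¹ *ᵥ x, by rw [← mul_mulVec, mul_inv_cancel, mat_one, Matrix.one_mulVec]⟩
  rw [mul_mulVec, mul_mulVec, inv_mulVec A rfl, he, SU_H A, Matrix.mulVec_add, Matrix.mulVec_smul]

theorem eq_top_of_heis (hn : 3 ≤ n) (h32 : ¬ (n = 3 ∧ q = 2)) {e f : Vec} (he : H' e e = 0)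
    (hf : H' f f = 0) (hef : H' e f = 1) (hTe : TFull q G e) (hTf : TFull q G f)
    (hW : ∀ w, H' w e = 0 → EH q G e w) : G = ⊤ := by
  have hfe : H' f e = 1 := by rw [← H_conj hF, hef, one_pow]
  have h1 : ∀ v, H' v v = 0 → H' v e = 1 → TFull q G v := by
    intro v hv hve
    obtain ⟨g, hg, hwe, a, ha, hge⟩ := hW (v - f) (by rw [H_sub_left, hve, hfe, sub_self])
    have h2 := tfull_map hF hTf hg
    set t := a - H' f (v - f) with ht
    have e1 : mat g *ᵥ f = v + t • e := by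
      rw [hge, hfe, ht]
      module
    rw [e1] at h2
    have ht0 : t + t ^ q = 0 := by
      have h3 := SU_H g f f
      rw [e1, hf] at h3
      have hev : H' e v = 1 := by rw [← H_conj hF, hve, one_pow]
      simp only [H_add_left, H_add_right hF, H_smul_left, H_smul_right, hv, hve, hev, he] at h3
      linear_combination h3
    obtain ⟨u, hu, hue⟩ := hTe (-t) (by rw [neg_pow_q hF]; linear_combination -ht0)
    have h4 := tfull_map hF h2 hu
    have e2 : mat u *ᵥ (v + t • e) = v := by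
      rw [hue, H_add_left, H_smul_left, hve, he]
      module
    rwa [e2] at h4
  have h2 : ∀ v, H' v v = 0 → H' v e ≠ 0 → TFull q G v := fun v hv hve => by
    refine tfull_smul hF (inv_ne_zero hve) (h1 _ ?_ ?_)
    · rw [H_smul_left, H_smul_right, hv, mul_zero, mul_zero]
    · rw [H_smul_left, inv_mul_cancel₀ hve]
  have hall : ∀ v, H' v v = 0 → TFull q G v := by
    intro v hv
    by_cases hve : H' v e ≠ 0
    · exact h2 v hv hve
    push Not at hve
    by_cases hv0 : v = 0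
    · subst hv0
      exact fun c _ => ⟨1, one_mem G, fun x => by simp [mat_one]⟩
    obtain ⟨x, hx, hxe, hxv⟩ : ∃ x, H' x x = 0 ∧ H' x e ≠ 0 ∧ H' x v ≠ 0 := by
      by_cases hfv : H' f v ≠ 0
      · exact ⟨f, hf, by rw [hfe]; exact one_ne_zero, hfv⟩
      push Not at hfv
      have hev : H' e v = 0 := (H_eq_zero_comm hF).1 hve
      obtain ⟨y, hy⟩ := exists_H_eq_one hF hv0
      have hyv : H' y v = 1 := by rw [← H_conj hF, hy, one_pow]
      set w := y - H' y f • e - H' y e • f with hw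
      have hwv : H' w v = 1 := by rw [hw, H_sub_left, H_sub_left, H_smul_left, H_smul_left, hyv, hev, hfv]; ring
      have hwe : H' w e = 0 := by rw [hw, H_sub_left, H_sub_left, H_smul_left, H_smul_left, he, hfe]; ring
      have hwf : H' w f = 0 := by rw [hw, H_sub_left, H_sub_left, H_smul_left, H_smul_left, hef, hf]; ring
      obtain ⟨s, hs⟩ := exists_trace_eq hF (c := - H' w w) (by rw [neg_pow_q hF, H_conj hF])
      refine ⟨f + w + s • e, ?_, ?_, ?_⟩
      · simp only [H_add_left, H_add_right hF, H_smul_left, H_smul_right, hf, he, hef, hfe, hwe, hwf,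
          (H_eq_zero_comm hF).1 hwe, (H_eq_zero_comm hF).1 hwf]
        linear_combination hs
      · rw [H_add_left, H_add_left, H_smul_left, hfe, hwe, he]; simp
      · rw [H_add_left, H_add_left, H_smul_left, hfv, hwv, hev]; simp
    obtain ⟨c, hc0, hc⟩ := exists_traceZero hF
    obtain ⟨g, hg, hge⟩ := h2 x hx hxe c hc
    have hvx : H' v x ≠ 0 := fun h => hxv ((H_eq_zero_comm hF).1 h)
    have h3 : TFull q G (mat g *ᵥ v) := by
      refine h2 _ (by rw [SU_H g, hv]) ?_
      rw [hge, H_add_left, H_smul_left, hve, zero_add]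
      exact mul_ne_zero (mul_ne_zero hc0 hvx) hxe
    have h4 := tfull_map hF h3 (inv_mem hg)
    rwa [inv_mulVec g rfl] at h4
  rw [eq_top_iff, ← tvGroup_eq_top hF (by omega) h32, tvGroup, Subgroup.closure_le]
  rintro g ⟨v, c, hv, hc, hg⟩
  obtain ⟨t, ht, hte⟩ := hall v hv c hc
  have : g = t := SU_ext fun x => by rw [hte, hg, HermStd.transvection_mulVec]
  exact this ▸ ht

end Cfsg.Agent.Classical.UnitaryTwoGen
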