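import Mathlib
import Cfsg.Agent.Lib.Classical.UnitaryTwoGenCore
import Cfsg.Agent.Lib.Classical.UnitaryTwo

/-!
# `SU₃` on a nondegenerate subspace, and elementary facts on Heisenberg elements
-/

set_option autoImplicit false
set_option linter.unusedSectionVars false

namespace Cfsg.Agent.Classical.SUReg

open Matrix
open Cfsg.Agent.Forms
open Cfsg.Agent.Classical.Unitary
open Cfsg.Agent.Classical.UnitaryTwoGen

variable {F : Type*} [Field F] [Fintype F] {q n : ℕ}

/-- `g` is the Heisenberg element at `e` with vector `w` and scalar `a`. -/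
def Hsa (q : ℕ) (g : Cfsg.SU n F q) (e w : Fin n → F) (a : F) : Prop :=
  Cfsg.hermForm n F q w e = 0 ∧ a + a ^ q = - Cfsg.hermForm n F q w w ∧
    ∀ x : Fin n → F, mat g *ᵥ x =
      x + (Cfsg.hermForm n F q x e • (w + a • e) + Cfsg.hermForm n F q x w • -e)

local notation "H" => Cfsg.hermForm n F q

theorem Hsa.hs {g : Cfsg.SU n F q} {e w : Fin n → F} {a : F} (h : Hsa q g e w a) : Hs q g e w :=
  ⟨h.1, a, h.2⟩

theorem exists_hsa {g : Cfsg.SU n F q} {e w : Fin n → F} (h : Hs q g e w) : ∃ a, Hsa q g e w a := by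
  obtain ⟨h1, a, h2⟩ := h
  exact ⟨a, h1, h2⟩

theorem hsa_unique {g g' : Cfsg.SU n F q} {e w : Fin n → F} {a : F} (h : Hsa q g e w a)
    (h' : Hsa q g' e w a) : g = g' := SU_ext fun x => by rw [h.2.2, h'.2.2]

variable (hF : Fintype.card F = q ^ 2)
include hF

theorem hsa_shift {g : Cfsg.SU n F q} {e w : Fin n → F} {a : F} (he : H e e = 0) (h : Hsa q g e w a)
    (s : F) : Hsa q g e (w + s • e) (a - s + s ^ q) := by
  obtain ⟨h1, h2, h3⟩ := h
  have hew : H e w = 0 := (H_eq_zero_comm hF).1 h1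
  refine ⟨by rw [H_add_left, H_smul_left, h1, he]; ring, ?_, fun x => ?_⟩
  · rw [HermStd.add_pow_q hF, sub_pow_q hF, pow_qq hF]
    simp only [H_add_left, H_add_right hF, H_smul_left, H_smul_right, h1, hew, he]
    linear_combination h2
  · rw [h3, H_add_right hF, H_smul_right]
    module

theorem hs_shift {g : Cfsg.SU n F q} {e w : Fin n → F} (he : H e e = 0) (h : Hs q g e w) (s : F) :
    Hs q g e (w + s • e) := by
  obtain ⟨a, ha⟩ := exists_hsa h
  exact (hsa_shift hF he ha s).hs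

theorem hsa_scale {g : Cfsg.SU n F q} {e w : Fin n → F} {a μ : F} (h : Hsa q g (μ • e) w a) (hμ : μ ≠ 0) :
    Hsa q g e (μ ^ q • w) (μ * μ ^ q * a) := by
  obtain ⟨h1, h2, h3⟩ := h
  rw [H_smul_right, mul_eq_zero, or_iff_right (pow_ne_zero _ hμ)] at h1
  refine ⟨by rw [H_smul_left, h1, mul_zero], ?_, fun x => ?_⟩
  · rw [H_smul_left, H_smul_right, mul_pow, mul_pow, pow_qq hF]
    linear_combination (μ * μ ^ q) * h2
  · rw [h3, H_smul_right, H_smul_right, pow_qq hF]
    module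

theorem eh_shift {G : Subgroup (Cfsg.SU n F q)} {e w : Fin n → F} (he : H e e = 0) (h : EH q G e w)
    (s : F) : EH q G e (w + s • e) := by
  obtain ⟨g, hg, hh⟩ := h
  exact ⟨g, hg, hs_shift hF he hh s⟩

theorem eh_of_hsa {G : Subgroup (Cfsg.SU n F q)} {g : Cfsg.SU n F q} (hg : g ∈ G) {e w : Fin n → F}
    {a : F} (h : Hsa q g e w a) : EH q G e w := ⟨g, hg, h.hs⟩

omit hF

/-- A hyperbolic frame of a three-dimensional nondegenerate subspace. -/
structure Hyp (q : ℕ) (a z f : Fin n → F) : Prop where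
  aa : Cfsg.hermForm n F q a a = 0
  ff : Cfsg.hermForm n F q f f = 0
  af : Cfsg.hermForm n F q a f = 1
  zz : Cfsg.hermForm n F q z z = 1
  za : Cfsg.hermForm n F q z a = 0
  zf : Cfsg.hermForm n F q z f = 0

variable {a z f : Fin n → F}

include hF

theorem Hyp.fa (P : Hyp q a z f) : H f a = 1 := by rw [← H_conj hF, P.af, one_pow]

theorem Hyp.az (P : Hyp q a z f) : H a z = 0 := (H_eq_zero_comm hF).1 P.za

theorem Hyp.fz (P : Hyp q a z f) : H f z = 0 := (H_eq_zero_comm hF).1 P.zf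

/-- A third vector completes two vectors to a frame. -/
theorem exists_hyp (haa : H a a = 0) (ha : a ≠ 0) (hzz : H z z = 1) (hza : H z a = 0) :
    ∃ f, Hyp q a z f := by
  obtain ⟨v, hvv, hav⟩ := exists_partner hF ha haa
  have hva : H v a = 1 := by rw [← H_conj hF, hav, one_pow]
  set y := v - H v z • z with hy
  have haz : H a z = 0 := (H_eq_zero_comm hF).1 hza
  have hyz : H y z = 0 := by rw [hy, H_sub_left, H_smul_left, hzz, mul_one, sub_self]
  have hzy : H z y = 0 := (H_eq_zero_comm hF).1 hyz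
  have hay : H a y = 1 := by rw [hy, H_sub_right hF, H_smul_right, haz, hav, mul_zero, sub_zero]
  have hya : H y a = 1 := by rw [← H_conj hF, hay, one_pow]
  obtain ⟨b, hb⟩ := exists_trace_eq hF (c := - H y y) (by rw [neg_pow_q hF, H_conj hF])
  exact ⟨y + b • a,
    { aa := haa
      ff := by
        simp only [H_add_left, H_add_right hF, H_smul_left, H_smul_right, haa, hay, hya]
        linear_combination hb
      af := by rw [H_add_right hF, H_smul_right, hay, haa, mul_zero, add_zero]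
      zz := hzz
      za := hza
      zf := by rw [H_add_right hF, H_smul_right, hzy, hza, mul_zero, add_zero] }⟩

/-- A frame of the whole three-dimensional space gives coordinates. -/
theorem Hyp.expand {a z f : Fin 3 → F} (P : Hyp q a z f) (y : Fin 3 → F) :
    y = Cfsg.hermForm 3 F q y f • a + Cfsg.hermForm 3 F q y z • z + Cfsg.hermForm 3 F q y a • f := by
  have hli : LinearIndependent F ![a, z, f] := by
    rw [Fintype.linearIndependent_iff]
    intro g hg
    simp only [Fin.sum_univ_three, Matrix.cons_val_zero, Matrix.cons_val_one, Matrix.cons_val_two,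
      Matrix.head_cons, Matrix.tail_cons] at hg
    have k1 := congrArg (fun v => Cfsg.hermForm 3 F q v f) hg
    have k2 := congrArg (fun v => Cfsg.hermForm 3 F q v z) hg
    have k3 := congrArg (fun v => Cfsg.hermForm 3 F q v a) hg
    simp [H_add_left, H_smul_left, H_zero_left, P.aa, P.ff, P.af, P.zz, P.za, P.zf, P.fa hF, P.az hF,
      P.fz hF] at k1 k2 k3
    intro i
    fin_cases i <;> assumption
  have htop := hli.span_eq_top_of_card_eq_finrank (by simp)
  have hy : y ∈ Submodule.span F (Set.range ![a, z, f]) := htop ▸ Submodule.mem_top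
  obtain ⟨g, hg⟩ := (Submodule.mem_span_range_iff_exists_fun F).1 hy
  simp only [Fin.sum_univ_three, Matrix.cons_val_zero, Matrix.cons_val_one, Matrix.cons_val_two,
    Matrix.head_cons, Matrix.tail_cons] at hg
  rw [← hg]
  simp [H_add_left, H_smul_left, P.aa, P.ff, P.af, P.zz, P.za, P.zf, P.fa hF, P.az hF, P.fz hF]

omit hF

/-- An isometric embedding of the standard three-dimensional space. -/
structure Emb (F : Type*) [Field F] [Fintype F] (q n : ℕ) where
  hF : Fintype.card F = q ^ 2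
  ι : (Fin 3 → F) →ₗ[F] (Fin n → F)
  iso : ∀ x y, Cfsg.hermForm n F q (ι x) (ι y) = Cfsg.hermForm 3 F q x y

include hF in
theorem exists_emb {a₀ z₀ f₀ : Fin 3 → F} (P₀ : Hyp q a₀ z₀ f₀) (P : Hyp q a z f) :
    ∃ E : Emb F q n, E.ι a₀ = a ∧ E.ι z₀ = z ∧ E.ι f₀ = f := by
  let ι : (Fin 3 → F) →ₗ[F] (Fin n → F) :=
    { toFun := fun y => Cfsg.hermForm 3 F q y f₀ • a + Cfsg.hermForm 3 F q y z₀ • z +
        Cfsg.hermForm 3 F q y a₀ • f
      map_add' := fun x y => by simp only [H_add_left]; module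
      map_smul' := fun c x => by simp only [H_smul_left, RingHom.id_apply]; module }
  refine ⟨⟨hF, ι, fun x y => ?_⟩, ?_, ?_, ?_⟩
  · conv_rhs => rw [P₀.expand hF x, P₀.expand hF y]
    show Cfsg.hermForm n F q (_ + _ + _) (_ + _ + _) = _
    simp only [H_add_left, H_add_right hF, H_smul_left, H_smul_right, P.aa, P.ff, P.af, P.zz, P.za,
      P.zf, P.fa hF, P.az hF, P.fz hF, P₀.aa, P₀.ff, P₀.af, P₀.zz, P₀.za, P₀.zf, P₀.fa hF, P₀.az hF,
      P₀.fz hF]
  · show Cfsg.hermForm 3 F q a₀ f₀ • a + Cfsg.hermForm 3 F q a₀ z₀ • z + Cfsg.hermForm 3 F q a₀ a₀ • f = a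
    rw [P₀.af, P₀.az hF, P₀.aa]; simp
  · show Cfsg.hermForm 3 F q z₀ f₀ • a + Cfsg.hermForm 3 F q z₀ z₀ • z + Cfsg.hermForm 3 F q z₀ a₀ • f = z
    rw [P₀.zf, P₀.zz, P₀.za]; simp
  · show Cfsg.hermForm 3 F q f₀ f₀ • a + Cfsg.hermForm 3 F q f₀ z₀ • z + Cfsg.hermForm 3 F q f₀ a₀ • f = f
    rw [P₀.ff, P₀.fz hF, P₀.fa hF]; simp

variable (E : Emb F q n)

/-- The columns of the embedding. -/
noncomputable def Emb.A : Matrix (Fin n) (Fin 3) F := LinearMap.toMatrix' E.ι

/-- The adjoint. -/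
noncomputable def Emb.B : Matrix (Fin 3) (Fin n) F := Matrix.of fun i j => E.A j i ^ q

/-- The projection. -/
noncomputable def Emb.π (x : Fin n → F) : Fin 3 → F :=
  fun i => Cfsg.hermForm n F q x (E.ι (Pi.single i 1))

theorem A_mulVec (y : Fin 3 → F) : E.A *ᵥ y = E.ι y := by
  rw [Emb.A, ← Matrix.toLin'_apply, Matrix.toLin'_toMatrix']

theorem B_mulVec (x : Fin n → F) : E.B *ᵥ x = E.π x := by
  funext i
  simp only [Emb.π, Emb.B, Matrix.mulVec, dotProduct, Cfsg.hermForm, Matrix.of_apply]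
  refine Finset.sum_congr rfl fun j _ => ?_
  rw [mul_comm, show E.A j i = E.ι (Pi.single i 1) j by rw [← A_mulVec]; simp]

theorem H_ι (x : Fin n → F) (y : Fin 3 → F) :
    Cfsg.hermForm n F q x (E.ι y) = Cfsg.hermForm 3 F q (E.π x) y := by
  conv_lhs => rw [pi_eq_sum_univ y]
  rw [map_sum, H_sum_right E.hF]
  simp only [map_smul, H_smul_right]
  rw [Cfsg.hermForm]
  refine Finset.sum_congr rfl fun i _ => ?_
  rw [mul_comm]
  congr 1
  show _ = Cfsg.hermForm n F q x (E.ι (Pi.single i 1))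
  congr 2
  funext j
  simp [Pi.single_apply, eq_comm]

theorem π_ι (y : Fin 3 → F) : E.π (E.ι y) = y := by
  funext i
  rw [Emb.π, E.iso, H_single_right E.hF]

theorem BA : E.B * E.A = 1 := Matrix.ext_of_mulVec_single fun i => by
  rw [← Matrix.mulVec_mulVec, A_mulVec, B_mulVec, π_ι, Matrix.one_mulVec]

/-- The matrix of the extension. -/
noncomputable def Emb.ext (M : Matrix (Fin 3) (Fin 3) F) : Matrix (Fin n) (Fin n) F :=
  1 + E.A * (M - 1) * E.B

theorem ext_mulVec (M : Matrix (Fin 3) (Fin 3) F) (x : Fin n → F) :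
    E.ext M *ᵥ x = x + E.ι (M *ᵥ E.π x - E.π x) := by
  rw [Emb.ext, Matrix.add_mulVec, Matrix.one_mulVec, ← Matrix.mulVec_mulVec, ← Matrix.mulVec_mulVec,
    B_mulVec, A_mulVec, Matrix.sub_mulVec, Matrix.one_mulVec]

theorem ext_det (M : Matrix (Fin 3) (Fin 3) F) : (E.ext M).det = M.det := by
  rw [Emb.ext, Matrix.mul_assoc, Matrix.det_one_add_mul_comm, Matrix.mul_assoc, BA, Matrix.mul_one,
    add_sub_cancel]

theorem ext_preserves (g : Cfsg.SU 3 F q) (x y : Fin n → F) :
    H (E.ext (mat g) *ᵥ x) (E.ext (mat g) *ᵥ y) = H x y := by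
  rw [ext_mulVec, ext_mulVec]
  have h := SU_H g (E.π x) (E.π y)
  simp only [H_add_left, H_add_right E.hF, map_sub, H_sub_left, H_sub_right E.hF]
  have e : ∀ v, Cfsg.hermForm n F q (E.ι v) y = Cfsg.hermForm 3 F q v (E.π y) := fun v => by
    rw [← H_conj E.hF, H_ι, H_conj E.hF]
  simp only [E.iso, e]
  simp only [H_ι]
  linear_combination h

/-- The extension as a homomorphism. -/
noncomputable def Emb.hom : Cfsg.SU 3 F q →* Cfsg.SU n F q :=
  MonoidHom.mk' (fun g => suMk (E.ext (mat g)) (by rw [ext_det]; exact g.1.2) (ext_preserves E g))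
    fun g g' => SU_ext fun x => by
      rw [suMk_mulVec, mul_mulVec, suMk_mulVec, suMk_mulVec, Matrix.mulVec_mulVec]
      congr 1
      rw [Emb.ext, Emb.ext, Emb.ext, mat_mul]
      have : E.A * (mat g - 1) * E.B * (E.A * (mat g' - 1) * E.B) =
          E.A * ((mat g - 1) * (mat g' - 1)) * E.B := by
        simp only [Matrix.mul_assoc]
        rw [← Matrix.mul_assoc E.B E.A, BA, Matrix.one_mul]
      rw [mul_add, mul_one, add_mul (1 : Matrix (Fin n) (Fin n) F), one_mul, this,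
        show mat g * mat g' - 1 = (mat g - 1) + (mat g' - 1) + (mat g - 1) * (mat g' - 1) by noncomm_ring,
        Matrix.mul_add, Matrix.mul_add, Matrix.add_mul, Matrix.add_mul]
      abel

theorem hom_mulVec (g : Cfsg.SU 3 F q) (x : Fin n → F) :
    mat (E.hom g) *ᵥ x = x + E.ι (mat g *ᵥ E.π x - E.π x) := ext_mulVec E (mat g) x

theorem hom_ι (g : Cfsg.SU 3 F q) (y : Fin 3 → F) : mat (E.hom g) *ᵥ E.ι y = E.ι (mat g *ᵥ y) := by
  rw [hom_mulVec, π_ι, map_sub]; abel

theorem hom_hsa {g : Cfsg.SU 3 F q} {e w : Fin 3 → F} {c : F} (h : Hsa q g e w c) :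
    Hsa q (E.hom g) (E.ι e) (E.ι w) c := by
  obtain ⟨h1, h2, h3⟩ := h
  refine ⟨by rw [E.iso, h1], by rw [E.iso, h2], fun x => ?_⟩
  rw [hom_mulVec, h3, H_ι, H_ι, add_sub_cancel_left]
  simp only [map_add, map_smul, map_neg]

end Cfsg.Agent.Classical.SUReg
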