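import Mathlib
import Cfsg.Agent.Lib.Classical.SURegEmbed

/-!
# A regular unipotent isometry and its chain of subspaces
-/

set_option autoImplicit false
set_option linter.unusedSectionVars false

namespace Cfsg.Agent.Classical.SUReg

open Matrix
open Cfsg.Agent.Forms
open Cfsg.Agent.Classical.Unitary
open Cfsg.Agent.Classical.UnitaryTwoGen

variable {F : Type*} [Field F] [Fintype F] {q n : ℕ} (hF : Fintype.card F = q ^ 2) (u : Cfsg.SU n F q)

local notation "H" => Cfsg.hermForm n F q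

theorem inv_sub_one : mat u⁻¹ - 1 = -((mat u - 1) * mat u⁻¹) := by
  rw [sub_mul, ← mat_mul, mul_inv_cancel, mat_one, one_mul, neg_sub]

theorem commute_inv : Commute (mat u - 1) (mat u⁻¹) := by
  refine Commute.sub_left ?_ (Commute.one_left _)
  show mat u * mat u⁻¹ = mat u⁻¹ * mat u
  rw [← mat_mul, ← mat_mul, mul_inv_cancel, inv_mul_cancel]

theorem N_mulVec (x : Fin n → F) : (mat u - 1) *ᵥ x = mat u *ᵥ x - x := by
  rw [Matrix.sub_mulVec, Matrix.one_mulVec]

include hF

theorem H_Npow_left (i : ℕ) (x y : Fin n → F) :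
    H ((mat u - 1) ^ i *ᵥ x) y = H x ((mat u⁻¹ - 1) ^ i *ᵥ y) := by
  induction i generalizing y with
  | zero => simp
  | succ i ih =>
    rw [pow_succ', ← Matrix.mulVec_mulVec, N_mulVec, H_sub_left, pow_succ, ← Matrix.mulVec_mulVec,
      N_mulVec, Matrix.mulVec_sub, H_sub_right hF]
    congr 1
    · rw [← ih]
      conv_lhs => rw [show y = mat u *ᵥ (mat u⁻¹ *ᵥ y) by
        rw [← mul_mulVec, mul_inv_cancel, mat_one, Matrix.one_mulVec]]
      rw [SU_H]
    · rw [ih]

theorem H_Npow_zero (hn : (mat u - 1) ^ n = 0) {i j : ℕ} (hij : n ≤ i + j) (x y : Fin n → F) :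
    H ((mat u - 1) ^ i *ᵥ x) ((mat u - 1) ^ j *ᵥ y) = 0 := by
  rw [H_Npow_left hF, inv_sub_one, neg_pow, (commute_inv u).mul_pow, Matrix.mulVec_mulVec, mul_assoc,
    mul_assoc, ((commute_inv u).pow_pow j i).symm.eq, ← mul_assoc ((mat u - 1) ^ i), ← pow_add,
    pow_eq_zero_of_le hij hn, zero_mul, mul_zero, Matrix.zero_mulVec, H_zero_right hF]

theorem inv_fix {x : Fin n → F} (h : mat u *ᵥ x = x) (k : ℕ) : (mat u⁻¹) ^ k *ᵥ x = x := by
  induction k with
  | zero => simp
  | succ k ih => rw [pow_succ, ← Matrix.mulVec_mulVec, inv_mulVec u h, ih]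

omit hF in
theorem exists_cyclic (hn1 : (mat u - 1) ^ (n - 1) ≠ 0) :
    ∃ v, (mat u - 1) ^ (n - 1) *ᵥ v ≠ 0 := by
  by_contra hall
  push Not at hall
  exact hn1 (Matrix.ext_of_mulVec_single fun i => by rw [hall, Matrix.zero_mulVec])

omit hF in
/-- Every vector is a multiple of a cyclic vector plus an image. -/
theorem decomp (hn : (mat u - 1) ^ n = 0) {v : Fin n → F} (hv : (mat u - 1) ^ (n - 1) *ᵥ v ≠ 0)
    (x : Fin n → F) : ∃ (c : F) (y : Fin n → F), x = c • v + (mat u - 1) *ᵥ y := by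
  set N := mat u - 1
  have hli : LinearIndependent F (fun k : Fin n => N ^ (k : ℕ) *ᵥ v) := by
    rw [Fintype.linearIndependent_iff]
    intro c hc
    intro k
    induction k using WellFoundedLT.induction with
    | _ k ih =>
      have h := congrArg (fun w => N ^ (n - 1 - (k : ℕ)) *ᵥ w) hc
      simp only [Matrix.mulVec_sum, Matrix.mulVec_smul, Matrix.mulVec_zero, Matrix.mulVec_mulVec,
        ← pow_add] at h
      rw [Finset.sum_eq_single k] at h
      · rw [show n - 1 - (k : ℕ) + k = n - 1 by omega] at h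
        exact (smul_eq_zero.1 h).resolve_right hv
      · intro j _ hjk
        rcases lt_or_gt_of_ne hjk with hlt | hgt
        · rw [ih j hlt, zero_smul]
        · rw [pow_eq_zero_of_le (by omega) hn, Matrix.zero_mulVec, smul_zero]
      · simp
  have hn0 : n ≠ 0 := by
    rintro rfl
    exact hv (Subsingleton.elim _ _)
  have htop : Submodule.span F (Set.range fun k : Fin n => N ^ (k : ℕ) *ᵥ v) = ⊤ := by
    haveI : Nonempty (Fin n) := ⟨⟨0, Nat.pos_of_ne_zero hn0⟩⟩
    exact hli.span_eq_top_of_card_eq_finrank (by simp)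
  have hle : Submodule.span F (Set.range fun k : Fin n => N ^ (k : ℕ) *ᵥ v) ≤
      Submodule.span F {v} ⊔ LinearMap.range N.mulVecLin := by
    rw [Submodule.span_le]
    rintro _ ⟨k, rfl⟩
    rcases hk : (k : ℕ) with _ | k'
    · exact Submodule.mem_sup_left (by simp [hk, Submodule.mem_span_singleton_self])
    · refine Submodule.mem_sup_right ⟨N ^ k' *ᵥ v, ?_⟩
      simp [hk, Matrix.mulVec_mulVec, ← pow_succ']
  obtain ⟨y₁, hy₁, y₂, hy₂, hxy⟩ := Submodule.mem_sup.1 (hle (htop ▸ Submodule.mem_top (x := x)))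
  obtain ⟨c, rfl⟩ := Submodule.mem_span_singleton.1 hy₁
  obtain ⟨y, rfl⟩ := hy₂
  exact ⟨c, y, hxy.symm⟩

theorem top_ne (hn : (mat u - 1) ^ n = 0) {v : Fin n → F} (hv : (mat u - 1) ^ (n - 1) *ᵥ v ≠ 0) :
    H v ((mat u - 1) ^ (n - 1) *ᵥ v) ≠ 0 := by
  intro h0
  refine hv (eq_zero_of_H hF fun x => ?_)
  obtain ⟨c, y, rfl⟩ := decomp u hn hv x
  refine (H_eq_zero_comm hF).1 ?_
  have e : (mat u - 1) *ᵥ y = (mat u - 1) ^ 1 *ᵥ y := by rw [pow_one]
  rw [H_add_left, H_smul_left, h0, mul_zero, zero_add, e, H_Npow_zero hF u hn (by omega)]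

omit hF in
/-- An invariant set of the chain containing a generator of its first member contains all of it. -/
theorem fill (hn : (mat u - 1) ^ n = 0) {v : Fin n → F} (hv : (mat u - 1) ^ (n - 1) *ᵥ v ≠ 0)
    (S : Submodule F (Fin n → F)) (hinv : ∀ w ∈ S, (mat u - 1) *ᵥ w ∈ S) {c : F} (hc : c ≠ 0)
    {y : Fin n → F} (hw : c • ((mat u - 1) *ᵥ v) + (mat u - 1) ^ 2 *ᵥ y ∈ S) (x : Fin n → F) :
    (mat u - 1) *ᵥ x ∈ S := by
  set N := mat u - 1
  have hinvk : ∀ k, ∀ w ∈ S, N ^ k *ᵥ w ∈ S := by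
    intro k
    induction k with
    | zero => intro w hw; simpa using hw
    | succ k ih => intro w hw; rw [pow_succ', ← Matrix.mulVec_mulVec]; exact hinv _ (ih w hw)
  have key : ∀ j, j < n → ∀ x, N ^ (n - j) *ᵥ x ∈ S := by
    intro j
    induction j with
    | zero => intro _ x; rw [Nat.sub_zero, hn, Matrix.zero_mulVec]; exact S.zero_mem
    | succ j ih =>
      intro hj x
      obtain ⟨k, hk⟩ : ∃ k, n - (j + 1) = k + 1 := ⟨n - (j + 1) - 1, by omega⟩
      have hk1 : n - j = k + 2 := by omega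
      have ih' : ∀ x, N ^ (k + 2) *ᵥ x ∈ S := fun x => hk1 ▸ ih (by omega) x
      have hv' : N ^ (k + 1) *ᵥ v ∈ S := by
        have h1 := hinvk k _ hw
        simp only [Matrix.mulVec_add, Matrix.mulVec_smul, Matrix.mulVec_mulVec, ← pow_succ, ← pow_add] at h1
        have h2 := S.sub_mem h1 (ih' y)
        rw [add_sub_cancel_right] at h2
        have h3 := S.smul_mem c⁻¹ h2
        rwa [smul_smul, inv_mul_cancel₀ hc, one_smul] at h3
      obtain ⟨a, z, rfl⟩ := decomp u hn hv x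
      rw [hk, Matrix.mulVec_add, Matrix.mulVec_smul, Matrix.mulVec_mulVec, ← pow_succ]
      exact S.add_mem (S.smul_mem _ hv') (ih' z)
  rcases Nat.eq_zero_or_pos n with rfl | hpos
  · rw [Subsingleton.elim (N *ᵥ x) 0]; exact S.zero_mem
  rcases Nat.eq_or_lt_of_le hpos with h1 | h1
  · subst h1
    rw [show N = 0 by simpa using hn, Matrix.zero_mulVec]; exact S.zero_mem
  have := key (n - 1) (by omega) x
  rwa [show n - (n - 1) = 1 by omega, pow_one] at this

end Cfsg.Agent.Classical.SUReg
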