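import Mathlib
import Cfsg.Agent.Lib.Classical.SURegUnip

/-!
# A regular unipotent and a transvection pair with scalings generate
-/

set_option autoImplicit false
set_option linter.unusedSectionVars false

namespace Cfsg.Agent.Classical.SUReg

open Matrix
open Cfsg.Agent.Forms
open Cfsg.Agent.Classical.Unitary
open Cfsg.Agent.Classical.UnitaryTwoGen

variable {F : Type*} [Field F] [Fintype F] {q n : ℕ}

local notation "Vec" => (Fin n → F)
local notation "H" => Cfsg.hermForm n F q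

/-- The part orthogonal to a frame. -/
def prj (q : ℕ) (e z f x : Fin n → F) : Fin n → F :=
  x - Cfsg.hermForm n F q x f • e - Cfsg.hermForm n F q x z • z - Cfsg.hermForm n F q x e • f

variable (hF : Fintype.card F = q ^ 2) {G : Subgroup (Cfsg.SU n F q)} {e z f : Fin n → F}
include hF

theorem prj_H (P : Hyp q e z f) (x : Vec) :
    H (prj q e z f x) e = 0 ∧ H (prj q e z f x) z = 0 ∧ H (prj q e z f x) f = 0 := by
  refine ⟨?_, ?_, ?_⟩ <;>
    simp [prj, H_sub_left, H_smul_left, P.aa, P.ff, P.af, P.zz, P.za, P.zf, P.fa hF, P.az hF, P.fz hF]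

theorem prj_self (P : Hyp q e z f) (x y : Vec) :
    H (prj q e z f x) (prj q e z f y) = H (prj q e z f x) y := by
  obtain ⟨h1, h2, h3⟩ := prj_H hF P x
  show H (prj q e z f x) (y - H y f • e - H y z • z - H y e • f) = _
  rw [H_sub_right hF, H_sub_right hF, H_sub_right hF, H_smul_right, H_smul_right, H_smul_right, h1, h2, h3]
  simp

theorem prj_prj (P : Hyp q e z f) (x : Vec) : prj q e z f (prj q e z f x) = prj q e z f x := by
  obtain ⟨h1, h2, h3⟩ := prj_H hF P x
  conv_lhs => rw [prj, h1, h2, h3]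
  simp

/-- The criterion. -/
theorem top_of_chain (hn3 : 3 ≤ n) (h32 : ¬ (n = 3 ∧ q = 2)) {u : Cfsg.SU n F q} (hu : u ∈ G)
    (hnil : (mat u - 1) ^ n = 0) {v : Vec} (hv : (mat u - 1) ^ (n - 1) *ᵥ v ≠ 0) (P : Hyp q e z f)
    {μ : F} (he : e = μ • ((mat u - 1) ^ (n - 1) *ᵥ v)) (hz : ∃ y, z = (mat u - 1) ^ 2 *ᵥ y)
    (hTe : TFull q G e) (hTf : TFull q G f)
    (hP : ∀ c : F, EH q G e (c • prj q e z f (mat u *ᵥ f - f))) : G = ⊤ := by
  set N := mat u - 1 with hN
  have hue : mat u *ᵥ e = (1 : F) • e := by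
    rw [one_smul, ← sub_eq_zero, ← N_mulVec, he, Matrix.mulVec_smul, Matrix.mulVec_mulVec, ← pow_succ',
      pow_eq_zero_of_le (by omega) hnil, Matrix.zero_mulVec, smul_zero]
  have hNe : ∀ y, H (N *ᵥ y) e = 0 := fun y => by
    rw [he, H_smul_right, show N *ᵥ y = N ^ 1 *ᵥ y by rw [pow_one],
      H_Npow_zero hF u hnil (by omega), mul_zero]
  let S : Submodule F Vec :=
    { carrier := {w | H w e = 0 ∧ ∀ c : F, EH q G e (c • w)}
      zero_mem' := ⟨H_zero_left _, fun c => by rw [smul_zero]; exact eh_zero hF⟩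
      add_mem' := fun {a b} ha hb => ⟨by rw [H_add_left, ha.1, hb.1, add_zero], fun c => by
        rw [smul_add]; exact eh_add hF P.aa (ha.2 c) (hb.2 c)⟩
      smul_mem' := fun r a ha => ⟨by rw [H_smul_left, ha.1, mul_zero], fun c => by
        rw [smul_smul]; exact ha.2 _⟩ }
  have hinv : ∀ w ∈ S, N *ᵥ w ∈ S := by
    rintro w ⟨hw, hwc⟩
    refine ⟨hNe w, fun c => ?_⟩
    obtain ⟨g, hg, hh⟩ := hwc c
    have h1 : EH q G e ((1 : F) ^ q • (mat u *ᵥ (c • w))) :=
      ⟨u * g * u⁻¹, mul_mem (mul_mem hu hg) (inv_mem hu), hs_conj hF hh hue⟩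
    have h2 := eh_add hF P.aa h1 (hwc (-c))
    convert h2 using 1
    rw [hN, N_mulVec, one_pow, one_smul, Matrix.mulVec_smul]
    module
  have hp : prj q e z f (mat u *ᵥ f - f) ∈ S := ⟨(prj_H hF P _).1, hP⟩
  obtain ⟨c₁, y₁, hf⟩ := decomp u hnil hv f
  have hc₁ : c₁ ≠ 0 := fun h0 => by
    have := P.fa hF
    rw [hf, h0, zero_smul, zero_add, hNe] at this
    exact zero_ne_one this
  obtain ⟨yz, hyz⟩ := hz
  obtain ⟨ye, hye⟩ : ∃ y, e = N ^ 2 *ᵥ y := ⟨μ • (N ^ (n - 3) *ᵥ v), by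
    rw [Matrix.mulVec_smul, Matrix.mulVec_mulVec, ← pow_add, show 2 + (n - 3) = n - 1 by omega, he]⟩
  have hfill := fill u hnil hv S hinv hc₁
    (y := y₁ - H (N *ᵥ f) f • ye - H (N *ᵥ f) z • yz) (by
      convert hp using 1
      rw [← N_mulVec, prj, hNe, zero_smul, sub_zero, Matrix.mulVec_sub, Matrix.mulVec_sub,
        Matrix.mulVec_smul, Matrix.mulVec_smul, ← hye, ← hyz]
      conv_rhs => arg 1; arg 1; rw [hf]
      rw [Matrix.mulVec_add, Matrix.mulVec_smul, pow_two, ← Matrix.mulVec_mulVec]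
      abel)
  refine eq_top_of_heis hF hn3 h32 P.aa P.ff P.af hTe hTf fun w hw => ?_
  obtain ⟨c, y, rfl⟩ := decomp u hnil hv w
  have hc : c = 0 := by
    have hH : H v e ≠ 0 := fun h0 => by
      have := P.fa hF
      rw [hf, H_add_left, H_smul_left, h0, hNe, mul_zero, add_zero] at this
      exact zero_ne_one this
    rw [H_add_left, H_smul_left, hNe, add_zero, mul_eq_zero, or_iff_left hH] at hw
    exact hw
  have := (hfill y).2 1
  rwa [one_smul, ← zero_add (N *ᵥ y), ← zero_smul F v, ← hc] at this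

/-- The case of a subfield with more than two elements. -/
theorem leading_big {u : Cfsg.SU n F q} (hu : u ∈ G) (P : Hyp q e z f) (hue : mat u *ᵥ e = e)
    (hTe : TFull q G e) (hTf : TFull q G f) (hq : 3 ≤ q)
    (hS : ∀ w, EH q G e w → H w e = 0 → ∀ c : F, EH q G e (c • prj q e z f w)) (c : F) :
    EH q G e (c • prj q e z f (mat u *ᵥ f - f)) := by
  classical
  set w := mat u *ᵥ f - f with hw
  have hwe : H w e = 0 := by
    rw [hw, H_sub_left]
    have := SU_H u f e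
    rw [hue] at this
    rw [this, sub_self]
  obtain ⟨h, hh⟩ := exists_hs hF P.aa hwe
  obtain ⟨a, ha⟩ := exists_hsa hh
  have hew : H e w = 0 := (H_eq_zero_comm hF).1 hwe
  have hhe : mat h *ᵥ e = e := by rw [ha.2.2, P.aa, hew]; simp
  set t := a - H f w with ht
  have hhf : mat h *ᵥ f = mat u *ᵥ f + t • e := by
    rw [ha.2.2, P.fa hF, ht, show mat u *ᵥ f = f + w by rw [hw, add_sub_cancel]]
    module
  have hTy : TFull q G (mat h *ᵥ f) := by
    have h1 := tfull_map hF hTf hu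
    have hy1 : H (mat u *ᵥ f) e = 1 := by
      have := SU_H u f e
      rw [hue, P.fa hF] at this
      exact this
    have hey : H e (mat u *ᵥ f) = 1 := by rw [← H_conj hF, hy1, one_pow]
    have ht0 : t + t ^ q = 0 := by
      have h3 := SU_H h f f
      rw [hhf, P.ff] at h3
      simp only [H_add_left, H_add_right hF, H_smul_left, H_smul_right, P.aa, hy1, hey, SU_H u f f,
        P.ff] at h3
      linear_combination h3
    obtain ⟨g, hg, hge⟩ := hTe t ht0
    have h2 := tfull_map hF h1 hg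
    rwa [hge, hy1, mul_one, ← hhf] at h2
  obtain ⟨μ, hμq, hμ0, hμ1⟩ : ∃ μ : F, μ ^ q = μ ∧ μ ≠ 0 ∧ μ ≠ 1 := by
    by_contra hno
    push Not at hno
    have hsub : (Finset.univ.filter fun r : F => r ^ q = r) ⊆ {0, 1} := fun r hr => by
      have := (Finset.mem_filter.1 hr).2
      by_cases h0 : r = 0
      · simp [h0]
      · simp [hno r this h0]
    have hc := (Finset.card_le_card hsub).trans Finset.card_le_two
    rw [← Fintype.card_subtype, ← Nat.card_eq_fintype_card] at hc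
    have e1 : Nat.card {r : F // r ^ q = r} = q := natCard_fixField hF
    omega
  obtain ⟨c₀, hc₀, hc₀q⟩ := exists_traceZero hF
  -- the products of transvections at the two points and their conjugates
  let R : Subgroup (Cfsg.SU n F q) := G ⊓ G.comap (MulAut.conj h).toMonoidHom
  have hR : ∀ {p : Vec} {k : F}, (TFull q G p) → TFull q G (mat h *ᵥ p) → k + k ^ q = 0 →
      ∀ g : Cfsg.SU n F q, (∀ x, mat g *ᵥ x = x + (k * H x p) • p) → g ∈ R := by
    intro p k hp hp' hk g hg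
    obtain ⟨g1, hg1, hg1e⟩ := hp k hk
    obtain ⟨g2, hg2, hg2e⟩ := hp' k hk
    refine ⟨(SU_ext fun x => by rw [hg, hg1e] : g = g1) ▸ hg1, ?_⟩
    show h * g * h⁻¹ ∈ G
    refine (SU_ext fun x => ?_ : h * g * h⁻¹ = g2) ▸ hg2
    obtain ⟨y, rfl⟩ : ∃ y, mat h *ᵥ y = x :=
      ⟨mat h⁻¹ *ᵥ x, by rw [← mul_mulVec, mul_inv_cancel, mat_one, Matrix.one_mulVec]⟩
    rw [mul_mulVec, mul_mulVec, inv_mulVec h rfl, hg, hg2e, SU_H h, Matrix.mulVec_add, Matrix.mulVec_smul]
  have hTe' : TFull q G (mat h *ᵥ e) := by rw [hhe]; exact hTe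
  have hw' : ∀ k : F, k ≠ 0 → k + k ^ q = 0 → ∃ g ∈ R, ∀ x, mat g *ᵥ x =
      x + (k * H x e - H x f) • e + (-k⁻¹ * H x f - H x e) • f := by
    intro k hk0 hk
    have hk' : (-k⁻¹) + (-k⁻¹) ^ q = 0 := by
      rw [neg_pow_q hF, inv_pow, eq_neg_of_add_eq_zero_right hk, inv_neg]; ring
    obtain ⟨g1, hg1, hg1e⟩ := hTe k hk
    obtain ⟨g2, hg2, hg2e⟩ := hTf (-k⁻¹) hk'
    refine ⟨g1 * g2 * g1, mul_mem (mul_mem (hR hTe hTe' hk _ hg1e) (hR hTf hTy hk' _ hg2e))
      (hR hTe hTe' hk _ hg1e), fun x => ?_⟩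
    rw [mul_mulVec, mul_mulVec, hg1e, hg2e, hg1e]
    simp only [H_add_left, H_smul_left, P.aa, P.ff, P.af, P.fa hF]
    match_scalars <;> field_simp <;> ring
  obtain ⟨g1, hg1, hg1e⟩ := hw' c₀ hc₀ hc₀q
  have hμc : -c₀ / μ ≠ 0 := div_ne_zero (neg_ne_zero.2 hc₀) hμ0
  obtain ⟨g2, hg2, hg2e⟩ := hw' (-c₀ / μ) hμc (by
    rw [div_pow, neg_pow_q hF, hμq, eq_neg_of_add_eq_zero_right hc₀q]; ring)
  set D := g1 * g2 with hD
  have hDR : D ∈ R := mul_mem hg1 hg2
  have hDe : ∀ x, mat D *ᵥ x = x + ((μ - 1) * H x f) • e + ((μ⁻¹ - 1) * H x e) • f := fun x => by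
    rw [hD, mul_mulVec, hg2e, hg1e]
    simp only [H_add_left, H_smul_left, P.aa, P.ff, P.af, P.fa hF]
    match_scalars <;> field_simp <;> ring
  have hmem : h * D * h⁻¹ * D⁻¹ ∈ G := mul_mem hDR.2 (inv_mem hDR.1)
  have hDee : mat D *ᵥ e = μ • e := by rw [hDe, P.af, P.aa]; module
  have h1 := hs_mul hF P.aa hh (hs_conj hF (hs_inv hF P.aa hh) hDee)
  rw [show h * D * h⁻¹ * D⁻¹ = h * (D * h⁻¹ * D⁻¹) by group] at hmem
  have h2 : EH q G e _ := ⟨_, hmem, h1⟩
  have h3 := eh_shift hF P.aa h2 (μ * (μ - 1) * H w f)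
  have he3 : w + μ ^ q • (mat D *ᵥ -w) + (μ * (μ - 1) * H w f) • e = (1 - μ) • w := by
    rw [Matrix.mulVec_neg, hDe, hμq, hwe]
    module
  rw [he3] at h3
  have h4 := hS _ h3 (by rw [H_smul_left, hwe, mul_zero]) (c / (1 - μ))
  have he4 : (c / (1 - μ)) • prj q e z f ((1 - μ) • w) = c • prj q e z f w := by
    rw [prj, prj, H_smul_left, H_smul_left, H_smul_left, ← smul_smul, ← smul_smul, ← smul_smul,
      ← smul_sub, ← smul_sub, ← smul_sub, smul_smul, div_mul_cancel₀ _ (sub_ne_zero.2 (Ne.symm hμ1))]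
  rwa [he4] at h4

omit hF

local notation "H₂" => Cfsg.hermForm n F 2

/-- The case of two elements. -/
theorem leading_two (hF : Fintype.card F = 2 ^ 2) {G : Subgroup (Cfsg.SU n F 2)} {e z f : Fin n → F}
    {u C : Cfsg.SU n F 2} (hu : u ∈ G) (hC : C ∈ G) (P : Hyp 2 e z f) (hue : mat u *ᵥ e = e) {ω : F} (hω1 : ω ≠ 1) (hω3 : ω ^ 3 = 1)
    (hCv : ∀ x, mat C *ᵥ x = ω • x + (1 - ω) • prj 2 e z f x)
    (hTe : TFull 2 G e) (hTf : TFull 2 G f)
    (hS : ∀ w, EH 2 G e w → H₂ w e = 0 → ∀ c : F, EH 2 G e (c • prj 2 e z f w))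
    {l : Vec} (hle : H₂ l e = 0) (hlS : EH 2 G e l)
    (hll : H₂ (prj 2 e z f l) (prj 2 e z f l) = 0)
    (hpl : H₂ (prj 2 e z f (mat u *ᵥ f - f)) (prj 2 e z f l) ≠ 0) (c : F) :
    EH 2 G e (c • prj 2 e z f (mat u *ᵥ f - f)) := by
  have h20 : (2 : F) = 0 := by
    have h := Nat.cast_card_eq_zero F
    rw [hF] at h
    exact pow_eq_zero_iff two_ne_zero |>.1 (by exact_mod_cast h)
  have hω0 : ω ≠ 0 := fun h => by rw [h] at hω3; simp at hω3
  have hω : ω ^ 2 + ω + 1 = 0 :=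
    (mul_eq_zero.1 (show (ω - 1) * (ω ^ 2 + ω + 1) = 0 by linear_combination hω3)).resolve_left
      (sub_ne_zero.2 hω1)
  set p := prj 2 e z f (mat u *ᵥ f - f) with hp
  set lp := prj 2 e z f l with hlp
  -- make the orthogonal part isotropic
  have hpp : (H₂ p p) ^ 2 = H₂ p p := H_conj hF p p
  obtain ⟨τ, hτ⟩ := exists_trace_eq hF (c := - H₂ p p) (by rw [neg_pow_q hF, hpp])
  set k := (τ / H₂ p lp) ^ 2 with hk
  set P' := p + k • lp with hP'
  have hP'0 : H₂ P' P' = 0 := by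
    have e1 : k ^ 2 * H₂ p lp = τ := by rw [hk, pow_qq hF, div_mul_cancel₀ _ hpl]
    have e2 : k * H₂ lp p = τ ^ 2 := by
      rw [← H_conj hF p lp, ← e1, mul_pow, pow_qq hF]
    simp only [hP', H_add_left, H_add_right hF, H_smul_left, H_smul_right, hll]
    linear_combination e1 + e2 + hτ
  obtain ⟨gl, hgl, hgls⟩ := hS l hlS hle k
  obtain ⟨al, hal⟩ := exists_hsa hgls
  obtain ⟨hl1, hl2, hl3⟩ := prj_H hF P l
  have huf : H₂ (mat u *ᵥ f) e = 1 := by
    have := SU_H u f e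
    rw [hue, P.fa hF] at this
    exact this
  set y := mat gl *ᵥ (mat u *ᵥ f) with hy
  have hTy : TFull 2 G y := tfull_map hF (tfull_map hF hTf hu) hgl
  have hgle : mat gl *ᵥ e = e := by
    rw [hal.2.2, P.aa, H_smul_right, (H_eq_zero_comm hF).1 hl1]; simp
  have hye : H₂ y e = 1 := by
    have := SU_H gl (mat u *ᵥ f) e
    rw [hgle, huf] at this
    exact this
  have hyy : H₂ y y = 0 := by rw [hy, SU_H, SU_H, P.ff]
  have hey : H₂ e y = 1 := by rw [← H_conj hF, hye, one_pow]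
  have hprjy : prj 2 e z f y = P' := by
    rw [hy, hal.2.2, huf, hP', hp, hlp]
    simp only [prj, H_add_left, H_sub_left, H_smul_left, H_neg_left, P.aa, P.ff, P.af, P.fa hF, P.az hF,
      P.fz hF, P.za, P.zf, P.zz, hl1, hl2, hl3]
    module
  obtain ⟨hq1, hq2, hq3⟩ : H₂ P' e = 0 ∧ H₂ P' z = 0 ∧ H₂ P' f = 0 := hprjy ▸ prj_H hF P y
  have heP : H₂ e P' = 0 := (H_eq_zero_comm hF).1 hq1
  have hPy : H₂ P' y = 0 := by rw [← hprjy, ← prj_self hF P, hprjy, hP'0]
  have hyP : H₂ y P' = 0 := (H_eq_zero_comm hF).1 hPy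
  clear_value P'
  have hfix : prj 2 e z f P' = P' := by rw [← hprjy, prj_prj hF P]
  have hCy : ∀ s : F, mat C *ᵥ (y + s • P') = ω • y + (1 - ω + s) • P' := fun s => by
    rw [Matrix.mulVec_add, Matrix.mulVec_smul, hCv, hCv, hprjy, hfix]
    module
  have hy1 : TFull 2 G (y + ω • P') := by
    refine tfull_smul hF hω0 ?_
    have := tfull_map hF hTy hC
    have e1 : mat C *ᵥ y = ω • (y + ω • P') := by
      have := hCy 0
      rw [zero_smul, add_zero, add_zero] at this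
      rw [this]
      match_scalars
      · ring
      · linear_combination -hω + h20 * 1
    rwa [e1] at this
  have hy2 : TFull 2 G (y + ω ^ 2 • P') := by
    refine tfull_smul hF hω0 ?_
    have := tfull_map hF hy1 hC
    rw [hCy] at this
    convert this using 1
    match_scalars
    · ring
    · linear_combination hω3 - h20 * 0
  have h1c : (1 : F) + 1 ^ 2 = 0 := by linear_combination h20
  have hone : ∀ {v : Vec}, TFull 2 G v → ∃ g ∈ G, ∀ x, mat g *ᵥ x = x + H₂ x v • v := fun hv => by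
    obtain ⟨g, hg, hge⟩ := hv 1 h1c
    exact ⟨g, hg, fun x => by rw [hge, one_mul]⟩
  obtain ⟨te, hte, htee⟩ := hone hTe
  obtain ⟨ty, hty, htye⟩ := hone hTy
  have hsum : ∀ s : F, TFull 2 G (y + s • P') → TFull 2 G (e + s • P') := fun s hs => by
    have h1 := tfull_map hF (tfull_map hF hs hte) hty
    convert h1 using 1
    rw [htee, H_add_left, H_smul_left, hye, hq1, htye]
    simp only [H_add_left, H_smul_left, hyy, hey, hPy]
    match_scalars
    all_goals first
      | ring1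
      | linear_combination h20
      | linear_combination -(1 : F) * h20
  obtain ⟨t2, ht2, ht2e⟩ := hone hy1
  obtain ⟨t4, ht4, ht4e⟩ := hone (hsum _ hy2)
  have hτ1 : ∀ x, mat (t2 * ty) *ᵥ x =
      x + (ω ^ 2 * H₂ x P') • y + (ω * H₂ x y + H₂ x P') • P' := fun x => by
    rw [mul_mulVec, htye, ht2e]
    simp only [H_add_left, H_add_right hF, H_smul_left, H_smul_right, hyy, hyP, mul_zero, add_zero]
    match_scalars
    · ring
    · linear_combination H₂ x y * h20
    · linear_combination H₂ x P' * hω3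
  have hτ2 : ∀ x, mat (t4 * te) *ᵥ x =
      x + (ω * H₂ x P') • e + (ω ^ 2 * H₂ x e + H₂ x P') • P' := fun x => by
    rw [mul_mulVec, htee, ht4e]
    simp only [H_add_left, H_add_right hF, H_smul_left, H_smul_right, P.aa, heP, mul_zero, add_zero]
    match_scalars
    · ring
    · linear_combination H₂ x e * h20 + ω * H₂ x P' * hω3
    · linear_combination (ω ^ 3 + 1) * H₂ x P' * hω3
  set σ := t2 * ty * (t4 * te) with hσ
  have hσe : ∀ x, mat σ *ᵥ x =
      x + (ω * H₂ x P') • e + (ω ^ 2 * H₂ x P') • y + (ω * H₂ x y + ω ^ 2 * H₂ x e + ω ^ 2 * H₂ x P') • P' :=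
    fun x => by
    rw [hσ, mul_mulVec, hτ2, hτ1]
    simp only [H_add_left, H_smul_left, heP, hey, hP'0, hPy, mul_zero, add_zero, mul_one]
    match_scalars
    all_goals first
      | ring1
      | linear_combination H₂ x P' * h20
      | linear_combination -(H₂ x P') * h20
  have hσ2 : ∀ x, mat (σ * σ) *ᵥ x = x + H₂ x P' • P' := fun x => by
    rw [mul_mulVec, hσe, hσe]
    simp only [H_add_left, H_smul_left, heP, hey, hyP, hye, hyy, P.aa, hP'0, hPy, hq1, mul_zero, add_zero,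
      zero_add, mul_one]
    match_scalars
    · ring
    · linear_combination ω * H₂ x P' * h20
    · linear_combination ω ^ 2 * H₂ x P' * h20
    · linear_combination (ω * H₂ x y + ω ^ 2 * H₂ x e + ω ^ 2 * H₂ x P') * h20 +
        ω * H₂ x P' * hω3 + H₂ x P' * hω - H₂ x P' * h20
  have hσG : σ * σ ∈ G := by
    have := mul_mem (mul_mem ht2 hty) (mul_mem ht4 hte)
    exact mul_mem this this
  have hwG : EH 2 G e (ω • P') := by
    obtain ⟨te', hte', hte'e⟩ := hone (hsum _ hy1)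
    refine ⟨te' * te * (σ * σ), mul_mem (mul_mem hte' hte) hσG, by rw [H_smul_left, hq1, mul_zero], 0,
      by rw [H_smul_left, H_smul_right, hP'0]; simp, fun x => ?_⟩
    rw [mul_mulVec, mul_mulVec, hσ2, htee, hte'e]
    simp only [H_add_left, H_add_right hF, H_smul_left, H_smul_right, P.aa, heP, hq1, hP'0, mul_zero,
      add_zero]
    match_scalars
    · ring
    · linear_combination H₂ x P' * h20 + H₂ x P' * hω3
    · linear_combination H₂ x e * h20 + ω ^ 2 * H₂ x P' * h20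
  have h5 := hS _ hwG (by rw [H_smul_left, hq1, mul_zero]) (c / ω)
  have h6 := hS l hlS hle (-(c * k))
  have h7 := eh_add hF P.aa h5 h6
  convert h7 using 1
  have e5 : prj 2 e z f (ω • P') = ω • P' := by
    rw [prj, H_smul_left, H_smul_left, H_smul_left, hq1, hq2, hq3]; simp
  rw [e5, smul_smul, div_mul_cancel₀ _ hω0, hP', ← hlp]
  module

end Cfsg.Agent.Classical.SUReg
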