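import Mathlib
import Cfsg.Agent.Lib.Classical.UnitaryCount
import Cfsg.Agent.Lib.Classical.UnitaryTwo
import Cfsg.Agent.Lib.Forms.Bases

/-!
# A regular unipotent isometry with a prescribed three-dimensional configuration

On `F[ε]/(εⁿ)` multiplication by `1 + ε` preserves every form `φ(x ȳ)`.  The functional `φ` is chosen
so that two given vectors and their images lie in a hyperbolic space of dimension three.
-/

set_option autoImplicit false
set_option linter.unusedSectionVars false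

namespace Cfsg.Agent.Classical.SURegModel

open Matrix Polynomial
open Cfsg.Agent.Forms
open Cfsg.Agent.Classical.Unitary

variable {F : Type*} [Field F] [Fintype F] {q : ℕ}

/-- The truncated polynomial ring. -/
abbrev Rn (F : Type*) [Field F] (n : ℕ) : Type _ := AdjoinRoot ((X : F[X]) ^ n)

variable {n : ℕ}

/-- The nilpotent generator. -/
noncomputable abbrev eps (F : Type*) [Field F] (n : ℕ) : Rn F n := AdjoinRoot.root _

omit [Fintype F] in
theorem eps_pow : eps F n ^ n = 0 := by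
  have h := AdjoinRoot.mk_self (f := (X : F[X]) ^ n)
  rwa [map_pow, AdjoinRoot.mk_X] at h

theorem mk_eq_zero_of_lt {p : F[X]} (hp : p.natDegree < n) :
    AdjoinRoot.mk ((X : F[X]) ^ n) p = 0 ↔ p = 0 := by
  refine ⟨fun h => ?_, fun h => by rw [h, map_zero]⟩
  refine Polynomial.eq_zero_of_dvd_of_natDegree_lt (AdjoinRoot.mk_eq_zero.1 h) ?_
  rwa [natDegree_X_pow]

omit [Fintype F] in
theorem monicX : ((X : F[X]) ^ n).Monic := monic_X_pow n

/-- The representative of degree less than `n`. -/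
noncomputable def rep (F : Type*) [Field F] (n : ℕ) : Rn F n →ₗ[F] F[X] :=
  AdjoinRoot.modByMonicHom monicX

theorem mk_rep (x : Rn F n) : AdjoinRoot.mk _ (rep F n x) = x := AdjoinRoot.mk_leftInverse monicX x

theorem rep_mk {p : F[X]} (hp : p.natDegree < n) : rep F n (AdjoinRoot.mk _ p) = p := by
  rw [rep, AdjoinRoot.modByMonicHom_mk, Polynomial.modByMonic_eq_self_iff monicX]
  exact lt_of_le_of_lt degree_le_natDegree (by rw [degree_X_pow]; exact_mod_cast hp)

theorem natDegree_rep_lt (hn : n ≠ 0) (x : Rn F n) : (rep F n x).natDegree < n := by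
  obtain ⟨p, rfl⟩ := AdjoinRoot.mk_surjective x
  rw [rep, AdjoinRoot.modByMonicHom_mk]
  have h := Polynomial.natDegree_modByMonic_lt p (monicX (F := F) (n := n))
    (fun h => hn (by simpa using congrArg natDegree h))
  simpa using h

/-- An element killed by `ε` is a multiple of the last power. -/
theorem eq_top_of_eps_mul (hn : n ≠ 0) {y : Rn F n} (h : eps F n * y = 0) :
    ∃ c : F, y = c • eps F n ^ (n - 1) := by
  have hd := natDegree_rep_lt hn y
  rw [← mk_rep y, eps, ← AdjoinRoot.mk_X, ← map_mul, AdjoinRoot.mk_eq_zero] at h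
  obtain ⟨r, hr⟩ := h
  refine ⟨(rep F n y).coeff (n - 1), ?_⟩
  have hz : ∀ k, k + 1 < n → (rep F n y).coeff k = 0 := fun k hk => by
    have := congrArg (fun p => p.coeff (k + 1)) hr
    simp only [Polynomial.coeff_X_mul] at this
    rw [this, Polynomial.coeff_X_pow_mul']
    simp [show ¬ n ≤ k + 1 by omega]
  have e : rep F n y = C ((rep F n y).coeff (n - 1)) * X ^ (n - 1) := by
    refine Polynomial.ext fun k => ?_
    rw [Polynomial.coeff_C_mul, Polynomial.coeff_X_pow]
    split_ifs with hk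
    · rw [hk, mul_one]
    · rw [mul_zero]
      by_cases hk2 : k + 1 < n
      · exact hz k hk2
      · exact Polynomial.coeff_eq_zero_of_natDegree_lt (by omega)
  conv_lhs => rw [← mk_rep y, e, map_mul, map_pow, AdjoinRoot.mk_X, AdjoinRoot.mk_C]
  rw [Algebra.smul_def]
  rfl

/-- Every non-zero element has a multiple equal to the last power. -/
theorem exists_mul_eq_top (hn : n ≠ 0) {x : Rn F n} (hx : x ≠ 0) :
    ∃ y : Rn F n, x * y = eps F n ^ (n - 1) := by
  classical
  have hex : ∃ k, eps F n ^ k * x = 0 := ⟨n, by rw [eps_pow, zero_mul]⟩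
  have hk := Nat.find_spec hex
  set k := Nat.find hex with hkdef
  have hk0 : k ≠ 0 := fun h => hx (by simpa [h] using hk)
  obtain ⟨c, hc⟩ := eq_top_of_eps_mul hn (y := eps F n ^ (k - 1) * x) (by
    rw [← mul_assoc, ← pow_succ', Nat.sub_add_cancel (Nat.pos_of_ne_zero hk0), hk])
  have hc0 : c ≠ 0 := fun h => Nat.find_min hex (show k - 1 < k by omega) (by rw [hc, h, zero_smul])
  refine ⟨c⁻¹ • eps F n ^ (k - 1), ?_⟩
  rw [mul_smul_comm, mul_comm, hc, smul_smul, inv_mul_cancel₀ hc0, one_smul]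

/-- The unit `1 + ε`. -/
noncomputable abbrev UU (F : Type*) [Field F] (n : ℕ) : Rn F n := 1 + eps F n

/-- Its inverse. -/
noncomputable def UI (F : Type*) [Field F] (n : ℕ) : Rn F n :=
  ((IsNilpotent.isUnit_one_add (r := eps F n) ⟨n, eps_pow⟩).unit⁻¹ : (Rn F n)ˣ)

theorem UU_mul_UI : UU F n * UI F n = 1 :=
  (IsNilpotent.isUnit_one_add (r := eps F n) ⟨n, eps_pow⟩).mul_val_inv

variable (hF : Fintype.card F = q ^ 2)

/-- The conjugation sending `1 + ε` to its inverse. -/
noncomputable def bar (n : ℕ) : Rn F n →+* Rn F n :=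
  AdjoinRoot.lift ((AdjoinRoot.of _).comp (HermStd.qHom hF)) (UI F n - 1) (by
    have e : UI F n - 1 = -(eps F n * UI F n) := by
      have := UU_mul_UI (F := F) (n := n)
      linear_combination this
    rw [Polynomial.eval₂_X_pow, e, neg_pow, mul_pow, eps_pow, zero_mul, mul_zero])

theorem bar_eps : bar hF n (eps F n) = UI F n - 1 := AdjoinRoot.lift_root _

theorem bar_algebraMap (c : F) :
    bar hF n (algebraMap F (Rn F n) c) = algebraMap F (Rn F n) (c ^ q) := AdjoinRoot.lift_of _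

theorem bar_UU : bar hF n (UU F n) = UI F n := by rw [map_add, map_one, bar_eps, add_sub_cancel]

theorem bar_UI : bar hF n (UI F n) = UU F n := by
  have h : bar hF n (UI F n) * UI F n = 1 := by
    rw [← bar_UU hF, ← map_mul, mul_comm, bar_UU hF, UU_mul_UI, map_one]
  calc bar hF n (UI F n) = bar hF n (UI F n) * (UU F n * UI F n) := by rw [UU_mul_UI, mul_one]
    _ = UU F n * (bar hF n (UI F n) * UI F n) := by ring
    _ = UU F n := by rw [h, mul_one]

theorem bar_bar (x : Rn F n) : bar hF n (bar hF n x) = x := by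
  obtain ⟨p, rfl⟩ := AdjoinRoot.mk_surjective x
  induction p using Polynomial.induction_on with
  | C a =>
    rw [AdjoinRoot.mk_C]
    show bar hF n (bar hF n (algebraMap F _ a)) = algebraMap F _ a
    rw [bar_algebraMap, bar_algebraMap, pow_qq hF]
  | add p r hp hr => rw [map_add, map_add, map_add, hp, hr]
  | monomial k a h =>
    rw [pow_succ, ← mul_assoc, map_mul, map_mul, map_mul, h, AdjoinRoot.mk_X]
    congr 1
    rw [bar_eps, map_sub, map_one, bar_UI, add_sub_cancel_left]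

theorem bar_smul (c : F) (x : Rn F n) : bar hF n (c • x) = c ^ q • bar hF n x := by
  rw [Algebra.smul_def, map_mul, bar_algebraMap, ← Algebra.smul_def]

theorem eps_mul_top (hn : n ≠ 0) : eps F n * eps F n ^ (n - 1) = 0 := by
  rw [← pow_succ', Nat.sub_add_cancel (Nat.pos_of_ne_zero hn), eps_pow]

theorem bar_top (hn : Odd n) : bar hF n (eps F n ^ (n - 1)) = eps F n ^ (n - 1) := by
  have hn0 : n ≠ 0 := hn.pos.ne'
  have e : UI F n - 1 = -(eps F n * UI F n) := by
    have := UU_mul_UI (F := F) (n := n)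
    linear_combination this
  have heven : Even (n - 1) := by obtain ⟨k, rfl⟩ := hn; exact ⟨k, by omega⟩
  rw [map_pow, bar_eps, e, heven.neg_pow, mul_pow]
  have h1 : eps F n ^ (n - 1) * UI F n = eps F n ^ (n - 1) := by
    calc eps F n ^ (n - 1) * UI F n = eps F n ^ (n - 1) * (UU F n * UI F n) -
          eps F n * eps F n ^ (n - 1) * UI F n := by rw [UU]; ring
      _ = eps F n ^ (n - 1) := by rw [UU_mul_UI, eps_mul_top hn0, mul_one, zero_mul, sub_zero]
  have : ∀ k : ℕ, eps F n ^ (n - 1) * UI F n ^ k = eps F n ^ (n - 1) := fun k => by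
    induction k with
    | zero => rw [pow_zero, mul_one]
    | succ k ih => rw [pow_succ, ← mul_assoc, ih, h1]
  exact this _

/-- The functional on representatives. -/
noncomputable def ell (n : ℕ) (d c0 c1 c2 c3 c4 ct : F) : Rn F n →ₗ[F] F :=
  ((c0 • lcoeff F 0 + c1 • lcoeff F 1 + c2 • lcoeff F 2 + c3 • lcoeff F 3 + c4 • lcoeff F 4 +
    ct • lcoeff F (n - 1)).comp (taylor d)).comp (rep F n)

/-- The functional `φ₀` made hermitian. -/
noncomputable def phi (n : ℕ) (M : Rn F n) (l : Rn F n →ₗ[F] F) : Rn F n →ₗ[F] F where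
  toFun x := l (M * x) + l (M * bar hF n x) ^ q
  map_add' x y := by
    simp only [map_add, mul_add, HermStd.add_pow_q hF]
    ring
  map_smul' c x := by
    simp only [bar_smul, mul_smul_comm, map_smul, smul_eq_mul, mul_pow, pow_qq hF, RingHom.id_apply]
    ring

theorem phi_bar (M : Rn F n) (l : Rn F n →ₗ[F] F) (x : Rn F n) :
    phi hF n M l (bar hF n x) = phi hF n M l x ^ q := by
  show l (M * bar hF n x) + l (M * bar hF n (bar hF n x)) ^ q = (l (M * x) + l (M * bar hF n x) ^ q) ^ q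
  rw [bar_bar, HermStd.add_pow_q hF, pow_qq hF, add_comm]

include hF in
/-- Coordinates: a nondegenerate functional gives a regular unipotent of the standard space. -/
theorem exists_coords (hn : Odd n) (φ : Rn F n →ₗ[F] F)
    (hφ : ∀ x, φ (bar hF n x) = φ x ^ q) (hT : φ (eps F n ^ (n - 1)) ≠ 0) :
    ∃ (u : Cfsg.SU n F q) (Θ : Rn F n ≃ₗ[F] (Fin n → F)),
      (mat u - 1) ^ n = 0 ∧ (mat u - 1) ^ (n - 1) ≠ 0 ∧
      (∀ x, mat u *ᵥ Θ x = Θ (UU F n * x)) ∧
      ∀ x y, Cfsg.hermForm n F q (Θ x) (Θ y) = φ (x * bar hF n y) := by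
  classical
  have hn0 : n ≠ 0 := hn.pos.ne'
  let pb := AdjoinRoot.powerBasis' (monicX (F := F) (n := n))
  haveI : FiniteDimensional F (Rn F n) := Module.Finite.of_basis pb.basis
  have hrank : Module.finrank F (Rn F n) = n := by
    rw [pb.finrank, AdjoinRoot.powerBasis'_dim, natDegree_X_pow]
  let Bf : Rn F n →ₛₗ[HermStd.qHom hF] Rn F n →ₗ[F] F :=
    { toFun := fun x => φ.comp (LinearMap.mulRight F (bar hF n x))
      map_add' := fun x y => LinearMap.ext fun v => by simp [map_add, mul_add]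
      map_smul' := fun c x => LinearMap.ext fun v => by simp [bar_smul, mul_smul_comm] }
  have hB : ∀ x v, Bf x v = φ (v * bar hF n x) := fun x v => rfl
  have hS : Bf.IsSymm := ⟨fun x y => by
    rw [hB, hB, HermStd.qHom_apply, ← hφ, map_mul, bar_bar, mul_comm]⟩
  have hsep : Bf.SeparatingLeft := fun x hx => by
    by_contra hne
    obtain ⟨y, hy⟩ := exists_mul_eq_top hn0
      (x := bar hF n x) (fun h => hne (by rw [← bar_bar hF x, h, map_zero]))
    have := hx y
    rw [hB, mul_comm, hy] at this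
    exact hT this
  obtain ⟨b, hb⟩ := Bases.exists_orthonormal_basis (HermStd.qHom hF) (HermStd.qHom_ne_id hF)
    (HermStd.qHom_qHom hF) Bf hS hsep
  let b' := b.reindex (finCongr hrank)
  have hb' : ∀ i j, φ (b' j * bar hF n (b' i)) = if i = j then 1 else 0 := fun i j => by
    rw [← hB, Module.Basis.reindex_apply, Module.Basis.reindex_apply, hb]
    simp
  let Θ := b'.equivFun
  have hH : ∀ x y, Cfsg.hermForm n F q (Θ x) (Θ y) = φ (x * bar hF n y) := fun x y => by
    conv_rhs => rw [← b'.sum_equivFun x, ← b'.sum_equivFun y]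
    simp only [map_sum, bar_smul, Finset.sum_mul, Finset.mul_sum, smul_mul_assoc, mul_smul_comm,
      map_smul, smul_eq_mul, hb', Cfsg.hermForm]
    refine Finset.sum_congr rfl fun i _ => ?_
    simp [mul_comm]
    rfl
  set L : (Fin n → F) →ₗ[F] (Fin n → F) :=
    Θ.toLinearMap.comp ((LinearMap.mulLeft F (UU F n)).comp Θ.symm.toLinearMap) with hL
  set M := LinearMap.toMatrix' L with hM
  have hMx : ∀ x, M *ᵥ Θ x = Θ (UU F n * x) := fun x => by
    rw [hM, ← Matrix.toLin'_apply, Matrix.toLin'_toMatrix', hL]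
    simp
  have hN : ∀ (k : ℕ) (x : Rn F n), (M - 1) ^ k *ᵥ Θ x = Θ (eps F n ^ k * x) := fun k => by
    induction k with
    | zero => intro x; simp
    | succ k ih =>
      intro x
      rw [pow_succ, ← Matrix.mulVec_mulVec, Matrix.sub_mulVec, Matrix.one_mulVec, hMx, ← map_sub, ih]
      congr 1
      rw [UU, pow_succ]; ring
  have hnil : (M - 1) ^ n = 0 := Matrix.ext_of_mulVec_single fun i => by
    rw [← Θ.apply_symm_apply (Pi.single i 1), hN, eps_pow, zero_mul, map_zero, Matrix.zero_mulVec]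
  have hdet : M.det = 1 := by
    have hchar : (M - 1).charpoly = X ^ n := by
      have := (Matrix.isNilpotent_charpoly_sub_pow_of_isNilpotent ⟨n, hnil⟩)
      rw [Fintype.card_fin] at this
      exact sub_eq_zero.1 (IsReduced.eq_zero _ this)
    have h1 := Matrix.eval_charpoly (M - 1) (-1)
    rw [hchar, eval_pow, eval_X, hn.neg_one_pow] at h1
    rw [show Matrix.scalar (Fin n) (-1 : F) - (M - 1) = -M by
      rw [map_neg, map_one]; abel, Matrix.det_neg, Fintype.card_fin, hn.neg_one_pow] at h1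
    linear_combination h1
  refine ⟨suMk M hdet fun x y => ?_, Θ, hnil, fun h => ?_, hMx, hH⟩
  · obtain ⟨x, rfl⟩ := Θ.surjective x
    obtain ⟨y, rfl⟩ := Θ.surjective y
    rw [hMx, hMx, hH, hH]
    congr 1
    rw [map_mul, bar_UU]
    linear_combination (x * bar hF n y) * UU_mul_UI (F := F) (n := n)
  · refine hT ?_
    have h1 := hN (n - 1) 1
    rw [show (M - 1) ^ (n - 1) = 0 from h, Matrix.zero_mulVec, mul_one] at h1
    rw [show eps F n ^ (n - 1) = 0 from Θ.injective (by rw [← h1, map_zero]), map_zero]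

end Cfsg.Agent.Classical.SURegModel

namespace Cfsg.Agent.Classical.SURegModel

open Matrix Polynomial
open Cfsg.Agent.Forms
open Cfsg.Agent.Classical.Unitary

variable {F : Type*} [Field F] [Fintype F] {q n : ℕ}

theorem ell_eq {d c0 c1 c2 c3 c4 ct : F} {p : F[X]} (hp : p.natDegree < n) :
    ell n d c0 c1 c2 c3 c4 ct (AdjoinRoot.mk _ p) =
      c0 * (taylor d p).coeff 0 + c1 * (taylor d p).coeff 1 + c2 * (taylor d p).coeff 2 +
        c3 * (taylor d p).coeff 3 + c4 * (taylor d p).coeff 4 + ct * (taylor d p).coeff (n - 1) := by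
  simp [ell, rep_mk hp]

theorem ell_poly (hn : 5 ≤ n) {d c0 c1 c2 c3 c4 ct a0 a1 a2 a3 a4 : F} (hct : n = 5 → ct = 0)
    {p : F[X]} (hp : p.natDegree < n)
    (h : taylor d p = C a0 + C a1 * X + C a2 * X ^ 2 + C a3 * X ^ 3 + C a4 * X ^ 4) :
    ell n d c0 c1 c2 c3 c4 ct (AdjoinRoot.mk _ p) = c0 * a0 + c1 * a1 + c2 * a2 + c3 * a3 + c4 * a4 := by
  rw [ell_eq hp, h]
  rcases eq_or_lt_of_le hn with h5 | h5
  · simp [hct h5.symm]
  · have e1 : n - 1 ≠ 0 := by omega
    have e2 : (1 : ℕ) ≠ n - 1 := by omega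
    have e3 : n - 1 ≠ 2 := by omega
    have e4 : n - 1 ≠ 3 := by omega
    have e5 : n - 1 ≠ 4 := by omega
    simp [Polynomial.coeff_X, Polynomial.coeff_C, e1, e2, e3, e4, e5]

/-- The isometry with the prescribed configuration. -/
theorem exists_model (hF : Fintype.card F = q ^ 2) (hn : Odd n) (hn5 : 5 ≤ n) {g β r1 : F}
    (hg : g ^ (q + 1) = 1) (hg1 : g ≠ 1) (hβ : β ≠ 0)
    (hE : n = 5 → g * (r1 + g ^ 2 * r1 ^ q) * (β * β ^ q) ≠ (g - 1) ^ 4) :
    ∃ (u : Cfsg.SU n F q) (a z : Fin n → F),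
      (mat u - 1) ^ n = 0 ∧ (mat u - 1) ^ (n - 1) ≠ 0 ∧
      Cfsg.hermForm n F q a a = 0 ∧ Cfsg.hermForm n F q a (mat u *ᵥ a) = r1 ∧
      Cfsg.hermForm n F q z a = 0 ∧ Cfsg.hermForm n F q z z = 1 ∧
      mat u *ᵥ z = g • z + β • (mat u *ᵥ a) := by
  classical
  set d := g - 1 with hd
  have hg0 : g ≠ 0 := fun h => by simp [h] at hg
  have hd0 : d ≠ 0 := sub_ne_zero.2 hg1
  have hgq : g ^ q = g⁻¹ := eq_inv_of_mul_eq_one_left (by rw [← pow_succ, hg])
  have hNb0 : β * β ^ q ≠ 0 := mul_ne_zero hβ (pow_ne_zero _ hβ)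
  have hNbq : ((β * β ^ q)⁻¹) ^ q = (β * β ^ q)⁻¹ := by rw [inv_pow, mul_pow, pow_qq hF, mul_comm]
  obtain ⟨ρ, hρ⟩ := exists_trace_eq hF hNbq
  set c0 := (r1 - ρ / g) / g ^ 2 with hc0
  set A0 : F := c0 * d ^ 4 + (-r1 / g) * (4 * d ^ 3) + r1 * (6 * d ^ 2) + (-g * r1) * (4 * d) + g ^ 2 * r1
    with hA0
  -- the free coefficient
  obtain ⟨ct, hct, hTval⟩ : ∃ ct : F, (n = 5 → ct = 0) ∧ ∀ l4 : F, (n = 5 → l4 = A0) →
      (n ≠ 5 → l4 = ell n d c0 (-r1 / g) r1 (-g * r1) (g ^ 2 * r1) 0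
        (AdjoinRoot.mk _ (X ^ (n - 1))) + ct) →
      d ^ 2 * l4 + (d ^ 2 * l4) ^ q ≠ 0 := by
    by_cases h5 : n = 5
    · refine ⟨0, fun _ => rfl, fun l4 hl _ => ?_⟩
      rw [hl h5]
      have e : A0 = (r1 - d ^ 4 * (ρ / g)) / g ^ 2 := by
        rw [hA0, hc0]
        have : (g - d) = 1 := by rw [hd]; ring
        field_simp
        linear_combination g * r1 * ((g - d) ^ 3 + (g - d) ^ 2 + (g - d) + 1) * this
      rw [e]
      intro h0
      refine hE h5 ?_
      rw [← HermStd.qHom_apply hF] at h0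
      simp only [map_mul, map_div₀, map_sub, map_pow, hd, map_one] at h0
      simp only [HermStd.qHom_apply, hgq] at h0
      have hρ' : ρ ^ q = (β * β ^ q)⁻¹ - ρ := by linear_combination hρ
      rw [hρ'] at h0
      have hd' : g - 1 ≠ 0 := hd0
      field_simp at h0
      ring_nf at h0 ⊢
      refine mul_left_cancel₀ (pow_ne_zero 2 hd') ?_
      linear_combination h0
    · set A := ell n d c0 (-r1 / g) r1 (-g * r1) (g ^ 2 * r1) 0 (AdjoinRoot.mk _ (X ^ (n - 1)))
      obtain ⟨t, ht⟩ := exists_trace_eq hF (c := (1 : F)) (one_pow q)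
      refine ⟨t / d ^ 2 - A, fun h => absurd h h5, fun l4 _ hl => ?_⟩
      rw [hl h5, add_sub_cancel, mul_div_cancel₀ _ (pow_ne_zero 2 hd0), ht]
      exact one_ne_zero
  set l := ell n d c0 (-r1 / g) r1 (-g * r1) (g ^ 2 * r1) ct with hl
  set U := UU F n
  set Y : Rn F n := U - algebraMap F _ g with hY
  have hYu : IsUnit Y := by
    have e : Y = algebraMap F (Rn F n) (-d) + eps F n := by
      rw [hY, hd, neg_sub, map_sub, map_one]; show UU F n - _ = _; rw [UU]; ring
    rw [e]
    exact IsNilpotent.isUnit_add_left_of_commute ⟨n, eps_pow⟩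
      ((isUnit_iff_ne_zero.2 (neg_ne_zero.2 hd0)).map (algebraMap F (Rn F n))) (Commute.all _ _)
  obtain ⟨Yi, hYi⟩ := isUnit_iff_exists_inv.1 hYu
  set M : Rn F n := U * (Y * Y) with hM
  set φ := phi hF n M l with hφ
  have hUmk : U = AdjoinRoot.mk _ (1 + X) := by rw [map_add, map_one, AdjoinRoot.mk_X]
  have hYmk : Y = AdjoinRoot.mk _ (X - C d) := by
    rw [map_sub, AdjoinRoot.mk_X, AdjoinRoot.mk_C, hY, hd, map_sub, map_one]
    show UU F n - _ = _
    rw [UU]
    show _ = eps F n - _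
    rw [AdjoinRoot.algebraMap_eq]
    ring
  have hgd : (1 : F) + d = g := by rw [hd]; ring
  have tU : taylor d (1 + X) = C g + X := by
    rw [map_add, taylor_X, taylor_one, ← hgd, map_add]; ring
  have tY : taylor d (X - C d) = X := by rw [map_sub, taylor_X, taylor_C, add_sub_cancel_right]
  have l1 : l M = 0 := by
    rw [hM, hUmk, hYmk, ← map_mul, ← map_mul, hl, ell_poly hn5 hct (a0 := 0) (a1 := 0) (a2 := g) (a3 := 1)
      (a4 := 0)]
    · ring
    · refine lt_of_le_of_lt (b := 3) ?_ (by omega); compute_degree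
    · rw [taylor_mul, taylor_mul, tU, tY]; simp [map_ofNat]; ring
  have lU : l (M * U) = 0 := by
    rw [hM, hUmk, hYmk, ← map_mul, ← map_mul, ← map_mul, hl,
      ell_poly hn5 hct (a0 := 0) (a1 := 0) (a2 := g ^ 2) (a3 := 2 * g) (a4 := 1)]
    · field_simp; ring
    · refine lt_of_le_of_lt (b := 4) ?_ (by omega); compute_degree
    · rw [taylor_mul, taylor_mul, taylor_mul, tU, tY]; simp [map_ofNat]; ring
  have lUI : l (M * UI F n) = r1 := by
    rw [hM, show U * (Y * Y) * UI F n = (Y * Y) * (U * UI F n) by ring, UU_mul_UI, mul_one, hYmk,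
      ← map_mul, hl, ell_poly hn5 hct (a0 := 0) (a1 := 0) (a2 := 1) (a3 := 0) (a4 := 0)]
    · ring
    · refine lt_of_le_of_lt (b := 2) ?_ (by omega); compute_degree
    · rw [taylor_mul, tY]; simp; ring
  set Z := U * Yi with hZ
  clear_value Z
  have lZ : l (M * Z) = 0 := by
    rw [hM, hZ, show U * (Y * Y) * (U * Yi) = U * U * Y * (Y * Yi) by ring, hYi, mul_one, hUmk, hYmk,
      ← map_mul, ← map_mul, hl,
      ell_poly hn5 hct (a0 := 0) (a1 := g ^ 2) (a2 := 2 * g) (a3 := 1) (a4 := 0)]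
    · field_simp; ring
    · refine lt_of_le_of_lt (b := 3) ?_ (by omega); compute_degree
    · rw [taylor_mul, taylor_mul, tU, tY]; simp [map_ofNat]; ring
  have lUU : l (U * U) = (-ρ / g) := by
    rw [hUmk, ← map_mul, hl, ell_poly hn5 hct (a0 := g ^ 2) (a1 := 2 * g) (a2 := 1) (a3 := 0) (a4 := 0)]
    · rw [hc0]; field_simp; ring
    · refine lt_of_le_of_lt (b := 2) ?_ (by omega); compute_degree
    · rw [taylor_mul, tU]; simp [map_ofNat]; ring
  have hbarZ : bar hF n Z = 1 - Z := by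
    have hbY : bar hF n Y = -(UI F n * algebraMap F _ g⁻¹ * Y) := by
      rw [hY, map_sub, bar_UU hF, bar_algebraMap, hgq]
      have h1 : algebraMap F (Rn F n) g⁻¹ * algebraMap F _ g = 1 := by
        rw [← map_mul, inv_mul_cancel₀ hg0, map_one]
      linear_combination -(UI F n) * h1 + algebraMap F (Rn F n) g⁻¹ * UU_mul_UI (F := F) (n := n)
    refine (hYu.map (bar hF n)).mul_left_cancel ?_
    rw [← map_mul, hZ, show Y * (U * Yi) = U * (Y * Yi) by ring, hYi, mul_one, bar_UU hF, hbY]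
    have h1 : algebraMap F (Rn F n) g⁻¹ * algebraMap F _ g = 1 := by
      rw [← map_mul, inv_mul_cancel₀ hg0, map_one]
    linear_combination (-(UI F n)) * h1 - UI F n * algebraMap F (Rn F n) g⁻¹ * U * hYi +
      UI F n * algebraMap F (Rn F n) g⁻¹ * hY
  have lN : l (M * (Z * bar hF n Z)) = ρ := by
    rw [hbarZ, show M * (Z * (1 - Z)) = (-g) • (U * U) by
      rw [hM, hZ, Algebra.smul_def, map_neg]
      linear_combination (U * U * Y - U * U * U * (Y * Yi + 1)) * hYi + U * U * hY, map_smul, lUU,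
      smul_eq_mul]
    field_simp
  have h1φ : φ 1 = 0 := by
    show l (M * 1) + l (M * bar hF n 1) ^ q = 0
    rw [map_one, mul_one, l1, zero_pow (q_ne_zero hF), add_zero]
  have hUIφ : φ (UI F n) = r1 := by
    show l (M * _) + l (M * bar hF n _) ^ q = r1
    rw [bar_UI, lUI, lU, zero_pow (q_ne_zero hF), add_zero]
  have hZφ : φ Z = 0 := by
    show l (M * Z) + l (M * bar hF n Z) ^ q = 0
    rw [hbarZ, mul_sub, mul_one, map_sub, l1, lZ, sub_zero, zero_pow (q_ne_zero hF), add_zero]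
  have hNφ : φ (Z * bar hF n Z) = (β * β ^ q)⁻¹ := by
    show l (M * (Z * bar hF n Z)) + l (M * bar hF n (Z * bar hF n Z)) ^ q = _
    rw [map_mul (bar hF n), bar_bar, mul_comm (bar hF n Z) Z, lN, hρ]
  have hn0 : n ≠ 0 := by omega
  have hTφ : φ (eps F n ^ (n - 1)) ≠ 0 := by
    show l (M * _) + l (M * bar hF n _) ^ q ≠ 0
    rw [bar_top hF hn]
    have e : M * eps F n ^ (n - 1) = (d ^ 2) • eps F n ^ (n - 1) := by
      have hY' : Y = eps F n - algebraMap F _ d := by
        rw [hYmk, map_sub, AdjoinRoot.mk_X, AdjoinRoot.mk_C]; rfl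
      rw [hM, hY', Algebra.smul_def, map_pow]
      show UU F n * _ * _ = _
      rw [UU]
      linear_combination ((eps F n - algebraMap F _ d) * (eps F n - algebraMap F _ d) +
        eps F n - 2 * algebraMap F _ d) * eps_mul_top (F := F) hn0
    rw [e, map_smul, smul_eq_mul]
    refine hTval _ (fun h5 => ?_) fun h5 => ?_
    · rw [show eps F n ^ (n - 1) = AdjoinRoot.mk _ (X ^ (n - 1)) by rw [map_pow, AdjoinRoot.mk_X], hl,
        ell_poly hn5 hct (a0 := d ^ 4) (a1 := 4 * d ^ 3) (a2 := 6 * d ^ 2) (a3 := 4 * d) (a4 := 1), hA0]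
      · ring
      · rw [natDegree_X_pow]; omega
      · rw [taylor_pow, taylor_X, h5]; simp [map_ofNat]; ring
    · rw [show eps F n ^ (n - 1) = AdjoinRoot.mk _ (X ^ (n - 1)) by rw [map_pow, AdjoinRoot.mk_X], hl,
        ell_eq (by rw [natDegree_X_pow]; omega), ell_eq (by rw [natDegree_X_pow]; omega)]
      have hlast : (taylor d ((X : F[X]) ^ (n - 1))).coeff (n - 1) = 1 := by
        rw [taylor_pow, taylor_X, Polynomial.coeff_X_add_C_pow]; simp
      rw [hlast]
      ring
  obtain ⟨u, Θ, h1, h2, hu, hH⟩ := exists_coords hF hn φ (fun x => phi_bar hF M l x) hTφ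
  refine ⟨u, Θ 1, Θ (β • Z), h1, h2, ?_, ?_, ?_, ?_, ?_⟩
  · rw [hH, map_one, mul_one, h1φ]
  · rw [hu, mul_one, hH, bar_UU hF, one_mul, hUIφ]
  · rw [hH, map_one, mul_one, map_smul, hZφ, smul_zero]
  · rw [hH, bar_smul, smul_mul_smul_comm, map_smul, hNφ, smul_eq_mul, mul_inv_cancel₀ hNb0]
  · rw [hu, hu, mul_one, ← map_smul, ← map_smul, ← map_add]
    congr 1
    rw [hZ, Algebra.smul_def, Algebra.smul_def, Algebra.smul_def]
    linear_combination algebraMap F (Rn F n) β * U * hYi - algebraMap F (Rn F n) β * U * Yi * hY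

end Cfsg.Agent.Classical.SURegModel
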