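import Mathlib

/-!
# Tools for two-element generation: splitting a product, one root family from a torus
-/

set_option autoImplicit false

namespace Cfsg.Agent.Classical.TwoGenExtract

variable {G : Type*} [Group G]

/-- the two commuting factors of coprime order of an element of `H` lie in `H` -/
theorem split {H : Subgroup G} {h y : G} {p k q : ℕ} (hk : 1 ≤ k) (hq : p ^ k = q) (hcomm : Commute h y)
    (hh : h ^ q = h) (hy : y ^ p = 1) (hmem : h * y ∈ H) : h ∈ H ∧ y ∈ H := by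
  have hyq : y ^ q = 1 := by
    obtain ⟨k', rfl⟩ : ∃ k', k = k' + 1 := ⟨k - 1, by omega⟩
    rw [← hq, pow_succ', pow_mul, hy, one_pow]
  have h1 : h ∈ H := by
    have h2 := H.pow_mem hmem q
    rwa [hcomm.mul_pow, hh, hyq, mul_one] at h2
  refine ⟨h1, ?_⟩
  have h2 := mul_mem (inv_mem h1) hmem
  rwa [inv_mul_cancel_left] at h2

theorem exists_quot (N : Subgroup G) [N.Normal] {a b : G}
    (h : Subgroup.closure ({a, b} : Set G) = ⊤) :
    ∃ x y : G ⧸ N, Subgroup.closure ({x, y} : Set (G ⧸ N)) = ⊤ := by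
  refine ⟨QuotientGroup.mk' N a, QuotientGroup.mk' N b, ?_⟩
  rw [← Set.image_pair, ← MonoidHom.map_closure, h]
  exact Subgroup.map_top_of_surjective _ (QuotientGroup.mk'_surjective N)

variable {F : Type*} [Field F] {H : Subgroup G} {Y : F → G}

theorem family_zero (hadd : ∀ a b, Y (a + b) = Y a * Y b) : Y 0 = 1 := by
  have := hadd 0 0
  rwa [add_zero, left_eq_mul] at this

theorem family_inv (hadd : ∀ a b, Y (a + b) = Y a * Y b) (a : F) : (Y a)⁻¹ = Y (-a) :=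
  inv_eq_of_mul_eq_one_right (by rw [← hadd, add_neg_cancel, family_zero hadd])

/-- the parameters met by `H` form an additive group -/
def params (H : Subgroup G) (Y : F → G) (hadd : ∀ a b, Y (a + b) = Y a * Y b) : AddSubgroup F where
  carrier := {t | Y t ∈ H}
  zero_mem' := by show Y 0 ∈ H; rw [family_zero hadd]; exact one_mem H
  add_mem' {a b} ha hb := by show Y (a + b) ∈ H; rw [hadd]; exact mul_mem ha hb
  neg_mem' {a} ha := by show Y (-a) ∈ H; rw [← family_inv hadd]; exact inv_mem ha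

theorem family_pow (h : G) (hh : h ∈ H) {χ : F} (hs : ∀ t, h * Y t * h⁻¹ = Y (χ * t)) {c : F}
    (hc : Y c ∈ H) (j : ℕ) : Y (χ ^ j * c) ∈ H := by
  induction j with
  | zero => simpa using hc
  | succ j ih =>
    rw [pow_succ', mul_assoc, ← hs]
    exact mul_mem (mul_mem hh ih) (inv_mem hh)

/-- a torus element whose character generates spreads one element over the whole family -/
theorem family_full (hadd : ∀ a b, Y (a + b) = Y a * Y b) (h : G) (hh : h ∈ H) {χ : F}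
    (hs : ∀ t, h * Y t * h⁻¹ = Y (χ * t)) (hgen : ∀ x : F, x ≠ 0 → ∃ j : ℕ, χ ^ j = x) {c : F}
    (hc0 : c ≠ 0) (hc : Y c ∈ H) (t : F) : Y t ∈ H := by
  by_cases ht : t = 0
  · subst ht; rw [family_zero hadd]; exact one_mem H
  · obtain ⟨j, hj⟩ := hgen (t / c) (div_ne_zero ht hc0)
    have := family_pow h hh hs hc j
    rwa [hj, div_mul_cancel₀ _ hc0] at this

/-- the commutator of a torus element and a conjugate of another torus element -/
theorem commutator_root (hadd : ∀ a b, Y (a + b) = Y a * Y b) {h h' : G} (hcomm : h * h' = h' * h)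
    {χ χ' : F} (hs : ∀ t, h * Y t * h⁻¹ = Y (χ * t)) (hs' : ∀ t, h' * Y t * h'⁻¹ = Y (χ' * t))
    (s : F) :
    h * (Y s * h' * (Y s)⁻¹) * h⁻¹ * (Y s * h' * (Y s)⁻¹)⁻¹ = Y ((χ - 1) * (1 - χ') * s) := by
  have e1 : h * (Y s * h' * (Y s)⁻¹) * h⁻¹ * (Y s * h' * (Y s)⁻¹)⁻¹ =
      (h * Y s * h⁻¹) * (h' * (h * (Y s)⁻¹ * h⁻¹) * h'⁻¹) * ((h' * Y s * h'⁻¹) * (Y s)⁻¹) := by
    have e2 : h * h' * h⁻¹ = h' := by rw [hcomm, mul_inv_cancel_right]
    calc h * (Y s * h' * (Y s)⁻¹) * h⁻¹ * (Y s * h' * (Y s)⁻¹)⁻¹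
        = (h * Y s * h⁻¹) * (h * h' * h⁻¹) * (h * (Y s)⁻¹ * h⁻¹) * (Y s * h'⁻¹ * (Y s)⁻¹) := by group
      _ = (h * Y s * h⁻¹) * h' * (h * (Y s)⁻¹ * h⁻¹) * (Y s * h'⁻¹ * (Y s)⁻¹) := by rw [e2]
      _ = _ := by group
  rw [e1, family_inv hadd, hs, hs, hs', hs', ← hadd, ← hadd, ← hadd]
  congr 1
  ring

/-- getting the family and the monomial element from `h` and `Y 1 * n` -/
theorem steinberg_trick (hadd : ∀ a b, Y (a + b) = Y a * Y b) {h h' n : G} (hn : n * h * n⁻¹ = h')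
    (hcomm : h * h' = h' * h) {χ χ' : F} (hs : ∀ t, h * Y t * h⁻¹ = Y (χ * t))
    (hs' : ∀ t, h' * Y t * h'⁻¹ = Y (χ' * t)) (hgen : ∀ x : F, x ≠ 0 → ∃ j : ℕ, χ ^ j = x)
    (h1 : χ ≠ 1) (h1' : χ' ≠ 1) {s : F} (hs0 : s ≠ 0) (hh : h ∈ H) (hb : Y s * n ∈ H) :
    (∀ t, Y t ∈ H) ∧ n ∈ H := by
  have hc : Y ((χ - 1) * (1 - χ') * s) ∈ H := by
    rw [← commutator_root hadd hcomm hs hs', ← hn,
      show Y s * (n * h * n⁻¹) * (Y s)⁻¹ = (Y s * n) * h * (Y s * n)⁻¹ by group]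
    exact mul_mem (mul_mem (mul_mem hh (mul_mem (mul_mem hb hh) (inv_mem hb))) (inv_mem hh))
      (inv_mem (mul_mem (mul_mem hb hh) (inv_mem hb)))
  have hall := family_full hadd h hh hs hgen
    (mul_ne_zero (mul_ne_zero (sub_ne_zero.2 h1) (sub_ne_zero.2 (Ne.symm h1'))) hs0) hc
  refine ⟨hall, ?_⟩
  have := mul_mem (inv_mem (hall s)) hb
  rwa [inv_mul_cancel_left] at this

theorem exists_generator (F : Type*) [Field F] [Finite F] :
    ∃ k : Fˣ, (∀ x : F, x ≠ 0 → ∃ j : ℕ, (k : F) ^ j = x) ∧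
      ((∃ x : F, x ≠ 0 ∧ x ≠ 1) → (k : F) ≠ 1) := by
  obtain ⟨k, hk⟩ := IsCyclic.exists_generator (α := Fˣ)
  have hgen : ∀ x : F, x ≠ 0 → ∃ j : ℕ, (k : F) ^ j = x := fun x hx => by
    obtain ⟨j, hj⟩ := mem_powers_iff_mem_zpowers.2 (hk (Units.mk0 x hx))
    exact ⟨j, by simpa using congrArg Units.val hj⟩
  refine ⟨k, hgen, fun ⟨x, hx0, hx1⟩ hk1 => ?_⟩
  obtain ⟨j, hj⟩ := hgen x hx0
  exact hx1 (by rw [← hj, hk1, one_pow])

end Cfsg.Agent.Classical.TwoGenExtract
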