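import Mathlib
import Cfsg.Agent.Lib.Classical.UnitaryTwoGenCore
import Cfsg.Agent.Lib.Classical.TwoGenExtract

/-!
# The special unitary group is generated by a torus element and one further element
-/

set_option autoImplicit false
set_option linter.unusedSectionVars false

namespace Cfsg.Agent.Classical.UnitaryTwoGen

open Matrix
open Cfsg.Agent.Forms
open Cfsg.Agent.Classical.Unitary

variable {F : Type*} [Field F] [Fintype F] {q : ℕ} (hF : Fintype.card F = q ^ 2)

/-- additive closure of the powers of an element outside every proper subfield -/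
theorem powers_span {χ : F} (hF : Fintype.card F = q ^ 2)
    (hord : ∀ j, 0 < j → j ≤ q - 1 → χ ^ j ≠ 1) (hχ : χ ≠ 0) (x : F) :
    x ∈ AddSubgroup.closure (Set.range fun j : ℕ => χ ^ j) := by
  classical
  set A := AddSubgroup.closure (Set.range fun j : ℕ => χ ^ j) with hA
  have hmul1 : ∀ a ∈ A, ∀ j : ℕ, a * χ ^ j ∈ A := by
    intro a ha j
    induction ha using AddSubgroup.closure_induction with
    | mem y hy =>
      obtain ⟨i, rfl⟩ := hy
      exact AddSubgroup.subset_closure ⟨i + j, pow_add χ i j⟩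
    | zero => rw [zero_mul]; exact A.zero_mem
    | add y z _ _ hy hz => rw [add_mul]; exact A.add_mem hy hz
    | neg y _ hy => rw [neg_mul]; exact A.neg_mem hy
  have hmul : ∀ a ∈ A, ∀ b ∈ A, a * b ∈ A := by
    intro a ha b hb
    induction hb using AddSubgroup.closure_induction with
    | mem y hy => obtain ⟨i, rfl⟩ := hy; exact hmul1 a ha i
    | zero => rw [mul_zero]; exact A.zero_mem
    | add y z _ _ hy hz => rw [mul_add]; exact A.add_mem hy hz
    | neg y _ hy => rw [mul_neg]; exact A.neg_mem hy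
  have h1 : (1 : F) ∈ A := AddSubgroup.subset_closure ⟨0, pow_zero χ⟩
  let R : Subring F :=
    { carrier := A
      mul_mem' := fun {a b} ha hb => hmul a ha b hb
      one_mem' := h1
      add_mem' := fun {a b} ha hb => A.add_mem ha hb
      zero_mem' := A.zero_mem
      neg_mem' := fun {a} ha => A.neg_mem ha }
  letI : Field R := (Finite.isDomain_to_isField R).toField
  have hcard := Module.natCard_eq_pow_finrank (K := R) (V := F)
  rw [Nat.card_eq_fintype_card, hF] at hcard
  have hd0 : 0 < Module.finrank R F := Module.finrank_pos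
  have hR1 : 1 ≤ Nat.card R := Nat.card_pos
  by_cases hd : Module.finrank R F = 1
  · rw [hd, pow_one] at hcard
    have hRF : Nat.card R = Nat.card F := by rw [Nat.card_eq_fintype_card (α := F), hF, hcard]
    have hsurj : Function.Bijective (Subtype.val : R → F) :=
      Subtype.val_injective.bijective_of_nat_card_le hRF.ge
    obtain ⟨⟨y, hy⟩, rfl⟩ := hsurj.2 x
    exact hy
  · exfalso
    have hle : Nat.card R ^ 2 ≤ q ^ 2 := hcard ▸ Nat.pow_le_pow_right hR1 (by omega)
    have hle' : Nat.card R ≤ q := by nlinarith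
    have hχR : χ ∈ R := show χ ∈ A from AddSubgroup.subset_closure ⟨1, pow_one χ⟩
    have hne : (⟨χ, hχR⟩ : R) ≠ 0 := fun h => hχ (congrArg Subtype.val h)
    have hp := FiniteField.pow_card_sub_one_eq_one (⟨χ, hχR⟩ : R) hne
    rw [← Nat.card_eq_fintype_card] at hp
    have hR2 : 2 ≤ Nat.card R := by
      rw [Nat.card_eq_fintype_card]; exact Fintype.one_lt_card
    exact hord (Nat.card R - 1) (by omega) (by omega) (by simpa using congrArg Subtype.val hp)

/-! ### The basis -/

variable {N : ℕ}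

/-- the orthonormal rest of the basis -/
def ep (F : Type*) [Field F] (j : Fin N) : Fin (2 + N) → F := Pi.single (Fin.natAdd 2 j) 1

/-- a hyperbolic pair in the first two coordinates -/
structure HPair (F : Type*) [Field F] (q N : ℕ) where
  e : Fin (2 + N) → F
  f : Fin (2 + N) → F
  he : Cfsg.hermForm (2 + N) F q e e = 0
  hf : Cfsg.hermForm (2 + N) F q f f = 0
  hef : Cfsg.hermForm (2 + N) F q e f = 1
  hej : ∀ j, Cfsg.hermForm (2 + N) F q e (ep F j) = 0
  hfj : ∀ j, Cfsg.hermForm (2 + N) F q f (ep F j) = 0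
  decomp : ∀ x, x = Cfsg.hermForm (2 + N) F q x f • e + Cfsg.hermForm (2 + N) F q x e • f +
    ∑ j, Cfsg.hermForm (2 + N) F q x (ep F j) • ep F j

local notation "H'" => Cfsg.hermForm (2 + N) F q

include hF

theorem ep_ep (i j : Fin N) : H' (ep F i) (ep F j) = if i = j then 1 else 0 := by
  rw [ep, ep, H_single_single hF]
  simp [Fin.ext_iff]

theorem exists_pair : Nonempty (HPair F q N) := by
  classical
  set i0 : Fin (2 + N) := Fin.castAdd N 0 with hi0
  set i1 : Fin (2 + N) := Fin.castAdd N 1 with hi1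
  have h01 : i0 ≠ i1 := by simp [hi0, hi1, Fin.ext_iff]
  obtain ⟨e, he, he0, he1, hek⟩ := exists_isotropic_pair hF i0 i1 h01
  obtain ⟨s, hs⟩ := exists_trace_eq hF (c := (-1 : F)) (by rw [← HermStd.qHom_apply hF, map_neg, map_one])
  set u : Fin (2 + N) → F := Pi.single i0 1
  set f := u + s • e with hf
  have heu : H' e u = 1 := by rw [H_single_right hF, he0]
  have hue : H' u e = 1 := by rw [← H_conj hF, heu, one_pow]
  have huu : H' u u = 1 := by rw [H_single_single hF, if_pos rfl]
  have hne0 : ∀ j : Fin N, Fin.natAdd 2 j ≠ i0 := fun j => by simp [hi0, Fin.ext_iff]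
  have hne1 : ∀ j : Fin N, Fin.natAdd 2 j ≠ i1 := fun j => by simp [hi1, Fin.ext_iff]; omega
  have hej : ∀ j : Fin N, H' e (ep F j) = 0 := fun j => by
    rw [ep, H_single_right hF, hek _ (hne0 j) (hne1 j)]
  have hfj : ∀ j : Fin N, H' f (ep F j) = 0 := fun j => by
    rw [hf, H_add_left, H_smul_left, hej, ep, H_single_right hF]
    simp [u, hne0 j]
  have hef : H' e f = 1 := by
    rw [hf, H_add_right hF, H_smul_right, heu, he, mul_zero, add_zero]
  have hff : H' f f = 0 := by
    simp only [hf, H_add_left, H_add_right hF, H_smul_left, H_smul_right, heu, hue, huu, he]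
    linear_combination hs
  refine ⟨⟨e, f, he, hff, hef, hej, hfj, fun x => ?_⟩⟩
  have hfe : H' f e = 1 := by rw [← H_conj hF, hef, one_pow]
  have hje : ∀ j : Fin N, H' (ep F j) e = 0 := fun j => (H_eq_zero_comm hF).1 (hej j)
  have hjf : ∀ j : Fin N, H' (ep F j) f = 0 := fun j => (H_eq_zero_comm hF).1 (hfj j)
  set y := x - (H' x f • e + H' x e • f + ∑ j, H' x (ep F j) • ep F j) with hy
  have y1 : H' y e = 0 := by
    simp [hy, H_sub_left, H_add_left, H_smul_left, H_sum_left, he, hfe, hje]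
  have y2 : H' y f = 0 := by
    simp [hy, H_sub_left, H_add_left, H_smul_left, H_sum_left, hef, hff, hjf]
  have y3 : ∀ j, H' y (ep F j) = 0 := fun j => by
    simp [hy, H_sub_left, H_add_left, H_smul_left, H_sum_left, hej, hfj, ep_ep hF]
  have hy0 : y i0 = 0 := by
    rw [← H_single_right hF y i0, show (Pi.single i0 1 : Fin (2 + N) → F) = f - s • e by simp [hf, u],
      H_sub_right hF, H_smul_right, y1, y2, mul_zero, sub_zero]
  have hy1 : y i1 = 0 := by
    have e2 : e = u + e i1 • Pi.single i1 1 := by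
      funext i
      by_cases h0 : i = i0
      · subst h0; simp [u, he0, h01]
      by_cases h1 : i = i1
      · subst h1; simp [u, Ne.symm h01]
      · simp [u, h0, h1, hek i h0 h1]
    rw [e2, H_add_right hF, H_smul_right, H_single_right hF, H_single_right hF, hy0, zero_add,
      mul_eq_zero, or_iff_right (pow_ne_zero _ he1)] at y1
    exact y1
  have hyz : y = 0 := by
    funext i
    induction i using Fin.addCases with
    | left i =>
      fin_cases i
      · exact hy0
      · exact hy1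
    | right j => rw [← H_single_right hF y]; exact y3 j
  exact sub_eq_zero.1 hyz

theorem ext_pair (P : HPair F q N) {g g' : Cfsg.SU (2 + N) F q} (he : mat g *ᵥ P.e = mat g' *ᵥ P.e)
    (hf : mat g *ᵥ P.f = mat g' *ᵥ P.f) (hj : ∀ j, mat g *ᵥ ep F j = mat g' *ᵥ ep F j) : g = g' := by
  refine SU_ext fun x => ?_
  rw [P.decomp x]
  simp only [Matrix.mulVec_add, Matrix.mulVec_smul, Matrix.mulVec_sum, he, hf, hj]

theorem exists_torus (P : HPair F q N) (k : F) (hk : k ≠ 0) (d : Fin N → F)
    (hd : ∀ j, d j ^ (q + 1) = 1) (hdet : k * (k ^ q)⁻¹ * ∏ j, d j = 1) :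
    ∃ g : Cfsg.SU (2 + N) F q, mat g *ᵥ P.e = k • P.e ∧ mat g *ᵥ P.f = (k ^ q)⁻¹ • P.f ∧
      ∀ j, mat g *ᵥ ep F j = d j • ep F j := by
  have hkq : k ^ q ≠ 0 := pow_ne_zero _ hk
  have hfe : H' P.f P.e = 1 := by rw [← H_conj hF, P.hef, one_pow]
  set m' := (k ^ q)⁻¹ with hm
  have hm1 : (k - 1) ^ q = k ^ q - 1 := by rw [sub_pow_q hF, one_pow]
  have hm2 : (m' - 1) ^ q = k⁻¹ - 1 := by rw [sub_pow_q hF, one_pow, hm, inv_pow, pow_qq hF]
  set M := two q ((k - 1) • P.e) P.f ((m' - 1) • P.f) P.e with hM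
  have hMp : ∀ x y, H' (M *ᵥ x) (M *ᵥ y) = H' x y := by
    intro x y
    simp only [hM, two_mulVec, H_add_left, H_add_right hF, H_smul_left, H_smul_right, P.he, P.hf,
      P.hef, hfe, H_conj hF, mul_pow, hm1, hm2]
    rw [hm]
    field_simp
    ring
  set dd : Fin (2 + N) → F := Fin.append (fun _ => 1) d with hdd
  have hddp : ∀ i, dd i ^ (q + 1) = 1 := fun i => by
    induction i using Fin.addCases <;> simp [hdd, hd]
  have hG : ∀ x y, H' ((Matrix.diagonal dd * M) *ᵥ x) ((Matrix.diagonal dd * M) *ᵥ y) = H' x y := by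
    intro x y
    rw [← Matrix.mulVec_mulVec, ← Matrix.mulVec_mulVec, diag_preserves hF dd hddp, hMp]
  have hdM : (Matrix.diagonal dd * M).det = 1 := by
    rw [Matrix.det_mul, Matrix.det_diagonal, hM, det_two, Fin.prod_univ_add]
    simp only [hdd, Fin.append_left, Fin.append_right, H_smul_left, P.he, P.hf, P.hef, hfe]
    rw [hm] at hdet ⊢
    simp only [Finset.prod_const_one, one_mul, mul_one, mul_zero, sub_zero]
    linear_combination hdet
  have hfix : ∀ v : Fin (2 + N) → F, (∀ j : Fin N, H' v (ep F j) = 0) → Matrix.diagonal dd *ᵥ v = v := by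
    intro v hv
    funext i
    rw [Matrix.mulVec_diagonal]
    induction i using Fin.addCases with
    | left i => simp [hdd]
    | right j => rw [← H_single_right hF v, show H' v (Pi.single (Fin.natAdd 2 j) 1) = 0 from hv j, mul_zero]
  refine ⟨suMk _ hdM hG, ?_, ?_, fun j => ?_⟩ <;> rw [suMk_mulVec, ← Matrix.mulVec_mulVec, hM, two_mulVec]
  · rw [P.hef, P.he, hfix _ (fun j => by simp [H_add_left, H_smul_left, P.hej, P.hfj])]
    module
  · rw [P.hf, hfe, hfix _ (fun j => by simp [H_add_left, H_smul_left, P.hej, P.hfj])]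
    module
  · rw [(H_eq_zero_comm hF).1 (P.hfj j), (H_eq_zero_comm hF).1 (P.hej j), zero_smul, zero_smul,
      add_zero, add_zero]
    funext i
    rw [Matrix.mulVec_diagonal, Pi.smul_apply, smul_eq_mul, ep]
    induction i using Fin.addCases with
    | left i =>
      have : Fin.castAdd N i ≠ Fin.natAdd 2 j := by simp [Fin.ext_iff]; omega
      simp [this]
    | right l =>
      by_cases h : l = j
      · subst h; simp [hdd]
      · have : Fin.natAdd 2 l ≠ Fin.natAdd 2 j := by simpa [Fin.ext_iff] using h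
        simp [this]

theorem exists_cycle (P : HPair F q N) (hN : 1 ≤ N) :
    ∃ g : Cfsg.SU (2 + N) F q, mat g *ᵥ P.e = P.f ∧ mat g *ᵥ P.f = P.e ∧
      ∀ j, ∃ α : F, α ≠ 0 ∧ mat g *ᵥ ep F j = α • ep F (finRotate N j) := by
  classical
  have hfe : H' P.f P.e = 1 := by rw [← H_conj hF, P.hef, one_pow]
  set π : Equiv.Perm (Fin (2 + N)) :=
    finSumFinEquiv.symm.trans ((Equiv.sumCongr (Equiv.refl (Fin 2)) (finRotate N).symm).trans finSumFinEquiv) with hπ
  have hπl : ∀ i : Fin 2, π (Fin.castAdd N i) = Fin.castAdd N i := fun i => by simp [hπ]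
  have hπr : ∀ j : Fin N, π (Fin.natAdd 2 j) = Fin.natAdd 2 ((finRotate N).symm j) := fun j => by simp [hπ]
  set δ : F := -((Equiv.Perm.sign π : ℤ) : F) with hδ
  have hm1 : (-1 : F) ^ (q + 1) = 1 := by rw [pow_succ, neg_pow_q hF, one_pow]; ring
  have hδp : δ ^ (q + 1) = 1 := by
    rcases Int.units_eq_one_or (Equiv.Perm.sign π) with h | h <;> rw [hδ, h] <;> simp [hm1]
  set dd : Fin (2 + N) → F := Fin.append (fun _ => 1) (Function.update (fun _ => 1) ⟨0, hN⟩ δ) with hdd
  have hddp : ∀ i, dd i ^ (q + 1) = 1 := fun i => by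
    induction i using Fin.addCases with
    | left i => simp [hdd]
    | right j =>
      simp only [hdd, Fin.append_right, Function.update_apply]
      split_ifs <;> simp [hδp]
  set M := two q (P.f - P.e) P.f (P.e - P.f) P.e with hM
  have hMp : ∀ x y, H' (M *ᵥ x) (M *ᵥ y) = H' x y := by
    intro x y
    simp only [hM, two_mulVec, H_add_left, H_add_right hF, H_sub_left, H_sub_right hF, H_smul_left,
      H_smul_right, P.he, P.hf, P.hef, hfe, H_conj hF]
    ring
  set Pm : Matrix (Fin (2 + N)) (Fin (2 + N)) F := π.permMatrix F with hPm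
  have hPv : ∀ x : Fin (2 + N) → F, Pm *ᵥ x = x ∘ π := fun x => Matrix.permMatrix_mulVec _
  have hPp : ∀ x y, H' (Pm *ᵥ x) (Pm *ᵥ y) = H' x y := fun x y => by
    rw [hPv, hPv]
    exact Equiv.sum_comp π (fun i => x i * y i ^ q)
  have hG : ∀ x y, H' ((Matrix.diagonal dd * Pm * M) *ᵥ x) ((Matrix.diagonal dd * Pm * M) *ᵥ y) = H' x y := by
    intro x y
    simp only [← Matrix.mulVec_mulVec]
    rw [diag_preserves hF dd hddp, hPp, hMp]
  have hdM : (Matrix.diagonal dd * Pm * M).det = 1 := by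
    rw [Matrix.det_mul, Matrix.det_mul, Matrix.det_diagonal, hM, det_two, hPm, Matrix.det_permutation,
      Fin.prod_univ_add]
    simp only [hdd, Fin.append_left, Fin.append_right, H_sub_left, P.he, P.hf, P.hef, hfe,
      Finset.prod_update_of_mem (Finset.mem_univ _), Finset.prod_const_one]
    rcases Int.units_eq_one_or (Equiv.Perm.sign π) with h | h <;> rw [hδ, h] <;> simp
  have hfix : ∀ v : Fin (2 + N) → F, (∀ j : Fin N, H' v (ep F j) = 0) → Matrix.diagonal dd *ᵥ (Pm *ᵥ v) = v := by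
    intro v hv
    have hv' : ∀ j : Fin N, v (Fin.natAdd 2 j) = 0 := fun j => by rw [← H_single_right hF v]; exact hv j
    funext i
    rw [Matrix.mulVec_diagonal, hPv, Function.comp_apply]
    induction i using Fin.addCases with
    | left i => simp [hdd, hπl]
    | right j => rw [hπr, hv', hv', mul_zero]
  refine ⟨suMk _ hdM hG, ?_, ?_, fun j => ?_⟩
  · rw [suMk_mulVec, ← Matrix.mulVec_mulVec, ← Matrix.mulVec_mulVec, hM, two_mulVec, P.hef, P.he, zero_smul,
      one_smul, add_zero, add_sub_cancel, hfix _ P.hfj]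
  · rw [suMk_mulVec, ← Matrix.mulVec_mulVec, ← Matrix.mulVec_mulVec, hM, two_mulVec, P.hf, hfe, zero_smul,
      one_smul, zero_add, add_sub_cancel, hfix _ P.hej]
  · refine ⟨dd (Fin.natAdd 2 (finRotate N j)), fun h0 => ?_, ?_⟩
    · have := hddp (Fin.natAdd 2 (finRotate N j))
      rw [h0, zero_pow (by omega)] at this
      exact zero_ne_one this
    · rw [suMk_mulVec, ← Matrix.mulVec_mulVec, ← Matrix.mulVec_mulVec, hM, two_mulVec,
        (H_eq_zero_comm hF).1 (P.hfj j), (H_eq_zero_comm hF).1 (P.hej j), zero_smul, zero_smul,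
        add_zero, add_zero]
      funext i
      rw [Matrix.mulVec_diagonal, hPv, Function.comp_apply, Pi.smul_apply, smul_eq_mul, ep, ep]
      induction i using Fin.addCases with
      | left i =>
        have h1 : Fin.castAdd N i ≠ Fin.natAdd 2 j := fun h => by
          have := congrArg Fin.val h
          simp only [Fin.val_castAdd, Fin.val_natAdd] at this
          omega
        have h2 : Fin.castAdd N i ≠ Fin.natAdd 2 (finRotate N j) := fun h => by
          have := congrArg Fin.val h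
          simp only [Fin.val_castAdd, Fin.val_natAdd] at this
          omega
        rw [hπl, Pi.single_eq_of_ne h1, Pi.single_eq_of_ne h2]; simp
      | right l =>
        by_cases h : l = finRotate N j
        · subst h; rw [hπr, Equiv.symm_apply_apply]; simp
        · have h1 : Fin.natAdd 2 ((finRotate N).symm l) ≠ Fin.natAdd 2 j := fun e => h (by
            rw [← Fin.natAdd_injective N 2 e, Equiv.apply_symm_apply])
          have h2 : Fin.natAdd 2 l ≠ Fin.natAdd 2 (finRotate N j) := fun e => h (Fin.natAdd_injective N 2 e)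
          rw [hπr, Pi.single_eq_of_ne h1, Pi.single_eq_of_ne h2]; simp

theorem two_gen (hN : 1 ≤ N) (h32 : ¬ (2 + N = 3 ∧ q = 2)) (P : HPair F q N) {k : F} (hk : k ≠ 0)
    (d : Fin N → F) (hd : ∀ j, d j ^ (q + 1) = 1) (hdet : k * (k ^ q)⁻¹ * ∏ j, d j = 1) (b : Fin N)
    (hχ : ∀ j, 0 < j → j ≤ q - 1 → (k ^ q * d b) ^ j ≠ 1) (hχ1 : k ^ q * d b ≠ 1)
    (hχ'1 : ((k ^ q)⁻¹) ^ q * d ((finRotate N).symm b) ≠ 1) :
    ∃ x y : Cfsg.SU (2 + N) F q, Subgroup.closure ({x, y} : Set (Cfsg.SU (2 + N) F q)) = ⊤ := by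
  have he := P.he
  have hf := P.hf
  have hje : ∀ j : Fin N, H' (ep F j) P.e = 0 := fun j => (H_eq_zero_comm hF).1 (P.hej j)
  obtain ⟨g, hge, hgf, hgj⟩ := exists_torus hF P k hk d hd hdet
  obtain ⟨n, hne, hnf, hnj⟩ := exists_cycle hF P hN
  obtain ⟨E, hE⟩ := exists_hs hF he (hje b)
  refine ⟨g, E * n, ?_⟩
  set G := Subgroup.closure ({g, E * n} : Set (Cfsg.SU (2 + N) F q)) with hG
  have hgG : g ∈ G := Subgroup.subset_closure (by simp)
  have hbG : E * n ∈ G := Subgroup.subset_closure (by simp)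
  set g' := n * g * n⁻¹ with hg'
  have hg'e : mat g' *ᵥ P.e = (k ^ q)⁻¹ • P.e := by
    rw [hg', mul_mulVec, mul_mulVec, inv_mulVec n hnf, hgf, Matrix.mulVec_smul, hnf]
  have hg'f : mat g' *ᵥ P.f = k • P.f := by
    rw [hg', mul_mulVec, mul_mulVec, inv_mulVec n hne, hge, Matrix.mulVec_smul, hne]
  have hg'j : ∀ j, mat g' *ᵥ ep F (finRotate N j) = d j • ep F (finRotate N j) := fun j => by
    obtain ⟨α, hα, e⟩ := hnj j
    have e1 : mat n *ᵥ (α⁻¹ • ep F j) = ep F (finRotate N j) := by
      rw [Matrix.mulVec_smul, e, smul_smul, inv_mul_cancel₀ hα, one_smul]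
    rw [hg', mul_mulVec, mul_mulVec, inv_mulVec n e1, Matrix.mulVec_smul, hgj, Matrix.mulVec_smul,
      Matrix.mulVec_smul, e, smul_smul, smul_smul]
    congr 1
    field_simp
  have hgg' : g * g' = g' * g := by
    refine ext_pair hF P ?_ ?_ fun j => ?_
    · simp only [mul_mulVec, hge, hg'e, Matrix.mulVec_smul, smul_smul, mul_comm]
    · simp only [mul_mulVec, hgf, hg'f, Matrix.mulVec_smul, smul_smul, mul_comm]
    · obtain ⟨i, rfl⟩ := (finRotate N).surjective j
      simp only [mul_mulVec, hgj, hg'j, Matrix.mulVec_smul, smul_smul, mul_comm]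
  set χ := k ^ q * d b with hχdef
  set χ' := ((k ^ q)⁻¹) ^ q * d ((finRotate N).symm b) with hχ'def
  have hsg : ∀ (A : Cfsg.SU (2 + N) F q) (t : F), Hs q A P.e (t • ep F b) →
      Hs q (g * A * g⁻¹) P.e ((χ * t) • ep F b) := fun A t hA => by
    have := hs_conj hF hA hge
    rwa [Matrix.mulVec_smul, hgj, smul_smul, smul_smul,
      show k ^ q * t * d b = χ * t by rw [hχdef]; ring] at this
  have hg'b : mat g' *ᵥ ep F b = d ((finRotate N).symm b) • ep F b := by
    have := hg'j ((finRotate N).symm b)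
    rwa [Equiv.apply_symm_apply] at this
  have hsg' : ∀ (A : Cfsg.SU (2 + N) F q) (t : F), Hs q A P.e (t • ep F b) →
      Hs q (g' * A * g'⁻¹) P.e ((χ' * t) • ep F b) := fun A t hA => by
    have := hs_conj hF hA hg'e
    rwa [Matrix.mulVec_smul, hg'b, smul_smul, smul_smul,
      show (k ^ q)⁻¹ ^ q * t * d ((finRotate N).symm b) = χ' * t by rw [hχ'def]; ring] at this
  have hE1 : Hs q E P.e ((1 : F) • ep F b) := by rwa [one_smul]
  have hEi : Hs q E⁻¹ P.e ((-1 : F) • ep F b) := by rw [neg_one_smul]; exact hs_inv hF he hE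
  set c := (χ - 1) * (1 - χ') with hc
  have hcG : EH q G P.e (c • ep F b) := by
    have hm : E * g' * E⁻¹ ∈ G := by
      rw [hg', show E * (n * g * n⁻¹) * E⁻¹ = (E * n) * g * (E * n)⁻¹ by group]
      exact mul_mem (mul_mem hbG hgG) (inv_mem hbG)
    refine ⟨g * (E * g' * E⁻¹) * g⁻¹ * (E * g' * E⁻¹)⁻¹,
      mul_mem (mul_mem (mul_mem hgG hm) (inv_mem hgG)) (inv_mem hm), ?_⟩
    have e1 : g * (E * g' * E⁻¹) * g⁻¹ * (E * g' * E⁻¹)⁻¹ =
        (g * E * g⁻¹) * (g' * (g * E⁻¹ * g⁻¹) * g'⁻¹) * ((g' * E * g'⁻¹) * E⁻¹) := by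
      have e2 : g * g' * g⁻¹ = g' := by rw [hgg', mul_inv_cancel_right]
      calc g * (E * g' * E⁻¹) * g⁻¹ * (E * g' * E⁻¹)⁻¹
          = (g * E * g⁻¹) * (g * g' * g⁻¹) * (g * E⁻¹ * g⁻¹) * (E * g'⁻¹ * E⁻¹) := by group
        _ = (g * E * g⁻¹) * g' * (g * E⁻¹ * g⁻¹) * (E * g'⁻¹ * E⁻¹) := by rw [e2]
        _ = _ := by group
    rw [e1]
    have := hs_mul hF he (hs_mul hF he (hsg _ _ hE1) (hsg' _ _ (hsg _ _ hEi)))
      (hs_mul hF he (hsg' _ _ hE1) hEi)
    rwa [← add_smul, ← add_smul, ← add_smul,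
      show χ * 1 + χ' * (χ * -1) + (χ' * 1 + -1) = c by rw [hc]; ring] at this
  have hc0 : c ≠ 0 := mul_ne_zero (sub_ne_zero.2 hχ1) (sub_ne_zero.2 (Ne.symm hχ'1))
  have hall : ∀ t : F, EH q G P.e (t • ep F b) := by
    intro t
    have hsp := powers_span (χ := χ) hF hχ (mul_ne_zero (pow_ne_zero _ hk) (fun h0 => by
      have := hd b; rw [h0, zero_pow (by omega)] at this; exact zero_ne_one this)) (t / c)
    rw [show t = t / c * c by field_simp]
    generalize t / c = x at hsp ⊢
    induction hsp using AddSubgroup.closure_induction with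
    | mem y hy =>
      obtain ⟨j, rfl⟩ := hy
      induction j with
      | zero => simpa using hcG
      | succ j ih =>
        obtain ⟨A, hA, hAe⟩ := ih
        refine ⟨g * A * g⁻¹, mul_mem (mul_mem hgG hA) (inv_mem hgG), ?_⟩
        have := hsg A _ hAe
        convert this using 2
        ring
    | zero => rw [zero_mul, zero_smul]; exact eh_zero hF
    | add y z _ _ hy hz => rw [add_mul, add_smul]; exact eh_add hF he hy hz
    | neg y _ hy =>
      obtain ⟨A, hA, hAe⟩ := hy
      refine ⟨A⁻¹, inv_mem hA, ?_⟩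
      have := hs_inv hF he hAe
      rwa [← neg_smul, ← neg_mul] at this
  have hTe : TFull q G P.e := by
    intro s hs
    obtain ⟨β, hβ⟩ := exists_trace_eq hF (c := (1 : F)) (one_pow q)
    refine tfull_of_center hF he (hall (s * β)) (hall 1) ?_
    simp only [H_smul_left, H_smul_right, ep_ep hF, if_pos]
    rw [mul_pow, one_pow, eq_neg_of_add_eq_zero_right hs]
    linear_combination -s * hβ
  have hnG : n ∈ G := by
    obtain ⟨A, hA, hAe⟩ := hall 1
    rw [one_smul] at hAe
    have hEG := hs_diff hF he hAe hE hTe hA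
    have := mul_mem (inv_mem hEG) hbG
    rwa [inv_mul_cancel_left] at this
  have hTf : TFull q G P.f := hne ▸ tfull_map hF hTe hnG
  -- exchanging `e` and `f` without moving the rest
  obtain ⟨c0, hc00, hc0t⟩ := exists_traceZero hF
  have hcinv : -c0⁻¹ + (-c0⁻¹) ^ q = 0 := by
    rw [neg_pow_q hF, inv_pow, eq_neg_of_add_eq_zero_right hc0t, inv_neg, neg_neg, neg_add_cancel]
  obtain ⟨T1, hT1, hT1e⟩ := hTe c0 hc0t
  obtain ⟨T2, hT2, hT2e⟩ := hTf (-c0⁻¹) hcinv
  set W := T1 * T2 * T1 with hW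
  have hWG : W ∈ G := mul_mem (mul_mem hT1 hT2) hT1
  have hfe : H' P.f P.e = 1 := by rw [← H_conj hF, P.hef, one_pow]
  have hWf : mat W *ᵥ P.f = c0 • P.e := by
    simp only [hW, mul_mulVec, hT1e, hT2e, H_add_left, H_smul_left, he, hf, P.hef, hfe]
    match_scalars <;> field_simp <;> ring
  have hWj : ∀ j, mat W *ᵥ ep F j = ep F j := fun j => by
    simp only [hW, mul_mulVec, hT1e, hT2e, H_add_left, H_smul_left, hje,
      (H_eq_zero_comm hF).1 (P.hfj j), mul_zero, zero_smul, add_zero]
  have hstep : ∀ j, (∀ t : F, EH q G P.e (t • ep F j)) → ∀ t : F, EH q G P.e (t • ep F (finRotate N j)) := by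
    intro j hj t
    obtain ⟨α, hα, e⟩ := hnj j
    have hWn : mat (W * n) *ᵥ P.e = c0 • P.e := by rw [mul_mulVec, hne, hWf]
    obtain ⟨A, hA, hAe⟩ := hj (t / (c0 ^ q * α))
    refine ⟨W * n * A * (W * n)⁻¹, mul_mem (mul_mem (mul_mem hWG hnG) hA) (inv_mem (mul_mem hWG hnG)), ?_⟩
    have := hs_conj hF hAe hWn
    rwa [Matrix.mulVec_smul, mul_mulVec, e, Matrix.mulVec_smul, hWj, smul_smul, smul_smul,
      show c0 ^ q * (t / (c0 ^ q * α)) * α = t by
        have := pow_ne_zero q hc00
        field_simp] at this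
  have hallj : ∀ j, ∀ t : F, EH q G P.e (t • ep F j) := by
    have hit : ∀ i : ℕ, ∀ t : F, EH q G P.e (t • ep F ((finRotate N ^ i) b)) := by
      intro i
      induction i with
      | zero => simpa using hall
      | succ i ih => rw [pow_succ', Equiv.Perm.mul_apply]; exact hstep _ ih
    intro j
    by_cases h2 : 2 ≤ N
    · have hmv : ∀ x, finRotate N x ≠ x := fun x h => by
        obtain ⟨m, rfl⟩ : ∃ m, N = m + 2 := ⟨N - 2, by omega⟩
        have hs := support_finRotate (n := m)
        exact Equiv.Perm.mem_support.1 (hs ▸ Finset.mem_univ x) h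
      have hcyc : (finRotate N).IsCycle := isCycle_finRotate_of_le h2
      obtain ⟨i, hi⟩ := (hcyc.sameCycle (hmv b) (hmv j)).exists_nat_pow_eq
      exact hi ▸ hit i
    · have : j = b := Fin.ext (by have := j.isLt; have := b.isLt; omega)
      exact this ▸ hall
  refine eq_top_of_heis hF (by omega) h32 he hf P.hef hTe hTf fun w hw => ?_
  rw [P.decomp w, hw, zero_smul, add_zero]
  refine eh_add hF he ?_ (Finset.sum_induction _ (EH q G P.e) (fun _ _ => eh_add hF he) (eh_zero hF)
    fun j _ => hallj j _)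
  set s := H' w P.f
  obtain ⟨T, hT, hTee⟩ := hTe (s - s ^ q) (by rw [sub_pow_q hF, pow_qq hF]; ring)
  refine ⟨T, hT, by rw [H_smul_left, he, mul_zero], 0, ?_, fun x => ?_⟩
  · rw [zero_pow (q_ne_zero hF), H_smul_left, H_smul_right, he]; simp
  · rw [hTee, H_smul_right]
    module

end Cfsg.Agent.Classical.UnitaryTwoGen
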