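import Mathlib
import Cfsg.Agent.Lib.Classical.UnitaryTwoGenMain

/-!
# `SL₂` on a hyperbolic plane of the unitary space of dimension three, and generation

If a subgroup of `SU₃(q)` contains the copy of `SL₂(q)` of a hyperbolic plane and an element moving
one of the two isotropic vectors out of the plane, it is the whole group.
-/

set_option autoImplicit false
set_option linter.unusedSectionVars false

namespace Cfsg.Agent.Classical.UnitaryPairGen

open Matrix
open Cfsg.Agent.Forms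
open Cfsg.Agent.Classical.Unitary
open Cfsg.Agent.Classical.UnitaryTwoGen

variable {F : Type*} [Field F] [Fintype F] {q : ℕ}

local notation "Vec" => (Fin 3 → F)
local notation "H" => Cfsg.hermForm 3 F q

/-- A hyperbolic pair, a trace zero scalar and the subfield of index two. -/
structure Frame (F : Type*) [Field F] [Fintype F] (q : ℕ) (K : Type*) [Field K] where
  hF : Fintype.card F = q ^ 2
  e : Fin 3 → F
  f : Fin 3 → F
  he : Cfsg.hermForm 3 F q e e = 0
  hf : Cfsg.hermForm 3 F q f f = 0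
  hef : Cfsg.hermForm 3 F q e f = 1
  ι : K →+* F
  hι : ∀ x, x ∈ Set.range ι ↔ x ^ q = x
  τ : F
  hτ0 : τ ≠ 0
  hτ : τ + τ ^ q = 0

variable {K : Type*} [Field K] (P : Frame F q K)

theorem fe : H P.f P.e = 1 := by rw [← H_conj P.hF, P.hef, one_pow]

theorem ιq (a : K) : P.ι a ^ q = P.ι a := (P.hι _).1 ⟨a, rfl⟩

theorem τq : P.τ ^ q = -P.τ := eq_neg_of_add_eq_zero_right P.hτ

/-- The first row vector of an element of `SL₂`. -/
def colE (M : Matrix (Fin 2) (Fin 2) K) : Fin 3 → F :=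
  (P.ι (M 0 0) - 1) • P.e + (P.ι (M 1 0) * P.τ) • P.f

/-- The second row vector of an element of `SL₂`. -/
def colF (M : Matrix (Fin 2) (Fin 2) K) : Fin 3 → F :=
  (P.ι (M 0 1) * P.τ⁻¹) • P.e + (P.ι (M 1 1) - 1) • P.f

/-- The matrix of an element of `SL₂` acting on the plane. -/
def planeMat (M : Matrix (Fin 2) (Fin 2) K) : Matrix (Fin 3) (Fin 3) F :=
  two q (colE P M) P.f (colF P M) P.e

theorem planeMat_mulVec (M : Matrix (Fin 2) (Fin 2) K) (x : Vec) :
    planeMat P M *ᵥ x = x + (H x P.f • colE P M + H x P.e • colF P M) := two_mulVec _ _ _ _ _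

theorem H_colE (M : Matrix (Fin 2) (Fin 2) K) :
    H (colE P M) P.f = P.ι (M 0 0) - 1 ∧ H (colE P M) P.e = P.ι (M 1 0) * P.τ := by
  constructor <;> simp [colE, H_add_left, H_smul_left, P.he, P.hf, P.hef, fe P]

theorem H_colF (M : Matrix (Fin 2) (Fin 2) K) :
    H (colF P M) P.f = P.ι (M 0 1) * P.τ⁻¹ ∧ H (colF P M) P.e = P.ι (M 1 1) - 1 := by
  constructor <;> simp [colF, H_add_left, H_smul_left, P.he, P.hf, P.hef, fe P]

theorem det_planeMat (g : SpecialLinearGroup (Fin 2) K) : (planeMat P g.1).det = 1 := by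
  rw [planeMat, det_two, (H_colE P g.1).1, (H_colE P g.1).2, (H_colF P g.1).1, (H_colF P g.1).2]
  have hd : P.ι (g.1 0 0) * P.ι (g.1 1 1) - P.ι (g.1 0 1) * P.ι (g.1 1 0) = 1 := by
    rw [← map_mul, ← map_mul, ← map_sub, ← Matrix.det_fin_two, g.2, map_one]
  have := P.hτ0
  field_simp
  linear_combination hd

theorem planeMat_preserves (g : SpecialLinearGroup (Fin 2) K) (x y : Vec) :
    H (planeMat P g.1 *ᵥ x) (planeMat P g.1 *ᵥ y) = H x y := by
  have hd : P.ι (g.1 0 0) * P.ι (g.1 1 1) - P.ι (g.1 0 1) * P.ι (g.1 1 0) = 1 := by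
    rw [← map_mul, ← map_mul, ← map_sub, ← Matrix.det_fin_two, g.2, map_one]
  have hq : ∀ a : K, (P.ι a - 1) ^ q = P.ι a - 1 := fun a => by
    rw [← HermStd.qHom_apply P.hF, map_sub, map_one, HermStd.qHom_apply, ιq P]
  simp only [planeMat_mulVec, colE, colF, H_add_left, H_add_right P.hF, H_smul_left, H_smul_right,
    P.he, P.hf, P.hef, fe P, mul_pow, hq, ιq P, τq P, inv_pow, H_conj P.hF]
  have := P.hτ0
  field_simp
  linear_combination (P.τ ^ 2 * (H x P.f * H P.e y + H x P.e * H P.f y)) * hd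

theorem planeMat_mul (A B : Matrix (Fin 2) (Fin 2) K) :
    planeMat P (A * B) = planeMat P A * planeMat P B := by
  refine mat_ext fun x => ?_
  rw [← Matrix.mulVec_mulVec]
  simp only [planeMat_mulVec, H_add_left, H_smul_left, (H_colE P B).1, (H_colE P B).2,
    (H_colF P B).1, (H_colF P B).2, colE, colF, Matrix.mul_apply, Fin.sum_univ_two, map_add, map_mul,
    P.he, P.hf, P.hef, fe P]
  have := P.hτ0
  match_scalars <;> field_simp <;> ring

/-- `SL₂` on the plane. -/
def planeHom : SpecialLinearGroup (Fin 2) K →* Cfsg.SU 3 F q :=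
  MonoidHom.mk' (fun g => suMk _ (det_planeMat P g) (planeMat_preserves P g))
    fun a b => SU_ext fun x => by
      rw [suMk_mulVec, mul_mulVec, suMk_mulVec, suMk_mulVec, Matrix.mulVec_mulVec, ← planeMat_mul,
        Matrix.SpecialLinearGroup.coe_mul]

theorem planeHom_mulVec (g : SpecialLinearGroup (Fin 2) K) (x : Vec) :
    mat (planeHom P g) *ᵥ x = x + (H x P.f • colE P g.1 + H x P.e • colF P g.1) :=
  planeMat_mulVec P g.1 x

/-- An upper unitriangular element. -/
def upper (t : K) : SpecialLinearGroup (Fin 2) K := ⟨!![1, t; 0, 1], by simp [Matrix.det_fin_two]⟩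

/-- A lower unitriangular element. -/
def lower (t : K) : SpecialLinearGroup (Fin 2) K := ⟨!![1, 0; t, 1], by simp [Matrix.det_fin_two]⟩

theorem upper_val (t : K) : (upper t).1 = !![1, t; 0, 1] := rfl

theorem lower_val (t : K) : (lower t).1 = !![1, 0; t, 1] := rfl

theorem planeHom_upper (t : K) (x : Vec) :
    mat (planeHom P (upper t)) *ᵥ x = x + (P.ι t * P.τ⁻¹ * H x P.e) • P.e := by
  rw [planeHom_mulVec, upper_val]
  simp [colE, colF]
  module

theorem planeHom_lower (t : K) (x : Vec) :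
    mat (planeHom P (lower t)) *ᵥ x = x + (P.ι t * P.τ * H x P.f) • P.f := by
  rw [planeHom_mulVec, lower_val]
  simp [colE, colF]
  module

theorem exists_ι {x : F} (hx : x ^ q = x) : ∃ a : K, P.ι a = x := (P.hι x).2 hx

variable (G : Subgroup (Cfsg.SU 3 F q))

theorem tfull_e (h : ∀ M, planeHom P M ∈ G) : TFull q G P.e := by
  intro c hc
  obtain ⟨t, ht⟩ := exists_ι P (x := c * P.τ) (by
    rw [mul_pow, τq P, eq_neg_of_add_eq_zero_right hc]; ring)
  refine ⟨_, h (upper t), fun x => ?_⟩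
  rw [planeHom_upper, ht]
  have := P.hτ0
  congr 2
  field_simp

theorem tfull_f (h : ∀ M, planeHom P M ∈ G) : TFull q G P.f := by
  intro c hc
  obtain ⟨t, ht⟩ := exists_ι P (x := c * P.τ⁻¹) (by
    rw [mul_pow, inv_pow, τq P, eq_neg_of_add_eq_zero_right hc, inv_neg]; ring)
  refine ⟨_, h (lower t), fun x => ?_⟩
  rw [planeHom_lower, ht]
  have := P.hτ0
  congr 2
  field_simp

/-- A basis of `F` over the subfield. -/
theorem exists_basis : ∃ ρ : F, ρ ^ q ≠ ρ ∧ ∀ a : F, ∃ u v : K, a = P.ι u + P.ι v * ρ := by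
  obtain ⟨ρ, hρ⟩ : ∃ ρ : F, ρ ^ q ≠ ρ := by
    by_contra h
    push Not at h
    exact HermStd.qHom_ne_id P.hF (RingHom.ext fun x => h x)
  refine ⟨ρ, hρ, fun a => ?_⟩
  have hd : ρ - ρ ^ q ≠ 0 := sub_ne_zero.2 (Ne.symm hρ)
  set b := (a - a ^ q) / (ρ - ρ ^ q) with hb
  have hbq : b ^ q = b := by
    rw [hb, div_pow, ← HermStd.qHom_apply P.hF, ← HermStd.qHom_apply P.hF (ρ - ρ ^ q), map_sub, map_sub,
      HermStd.qHom_apply, HermStd.qHom_apply, HermStd.qHom_apply, HermStd.qHom_apply, pow_qq P.hF,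
      pow_qq P.hF, ← neg_sub a, ← neg_sub ρ, neg_div_neg_eq]
  have hbr : b * (ρ - ρ ^ q) = a - a ^ q := div_mul_cancel₀ _ hd
  obtain ⟨v, hv⟩ := exists_ι P hbq
  obtain ⟨u, hu⟩ := exists_ι P (x := a - b * ρ) (by
    rw [← HermStd.qHom_apply P.hF, map_sub, map_mul, HermStd.qHom_apply, HermStd.qHom_apply,
      HermStd.qHom_apply, hbq]
    linear_combination hbr)
  exact ⟨u, v, by rw [hu, hv]; ring⟩

/-- A vector splits into its plane part and its orthogonal part. -/
theorem split_colE (M : Matrix (Fin 2) (Fin 2) K) (x : Vec) :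
    H (planeMat P M *ᵥ x) P.f = P.ι (M 0 0) * H x P.f + P.ι (M 0 1) * P.τ⁻¹ * H x P.e ∧
    H (planeMat P M *ᵥ x) P.e = P.ι (M 1 0) * P.τ * H x P.f + P.ι (M 1 1) * H x P.e ∧
    planeMat P M *ᵥ x - (H (planeMat P M *ᵥ x) P.f • P.e + H (planeMat P M *ᵥ x) P.e • P.f) =
      x - (H x P.f • P.e + H x P.e • P.f) := by
  have e1 : H (planeMat P M *ᵥ x) P.f = P.ι (M 0 0) * H x P.f + P.ι (M 0 1) * P.τ⁻¹ * H x P.e := by
    simp only [planeMat_mulVec, H_add_left, H_smul_left, (H_colE P M).1, (H_colF P M).1]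
    ring
  have e2 : H (planeMat P M *ᵥ x) P.e = P.ι (M 1 0) * P.τ * H x P.f + P.ι (M 1 1) * H x P.e := by
    simp only [planeMat_mulVec, H_add_left, H_smul_left, (H_colE P M).2, (H_colF P M).2]
    ring
  refine ⟨e1, e2, ?_⟩
  rw [e1, e2, planeMat_mulVec, colE, colF]
  module

/-- `SL₂` is transitive on the plane vectors of a given non-zero norm. -/
theorem exists_plane_map {a b a' b' : F} (hne : a * b ^ q + b * a ^ q ≠ 0)
    (hn : a' * b' ^ q + b' * a' ^ q = a * b ^ q + b * a ^ q) : ∃ M : SpecialLinearGroup (Fin 2) K,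
      P.ι (M.1 0 0) * a + P.ι (M.1 0 1) * P.τ⁻¹ * b = a' ∧
      P.ι (M.1 1 0) * P.τ * a + P.ι (M.1 1 1) * b = b' := by
  obtain ⟨ρ, hρ, hco⟩ := exists_basis P
  have hτ := P.hτ0
  obtain ⟨a1, a2, ha⟩ := hco a
  obtain ⟨b1, b2, hb⟩ := hco (P.τ⁻¹ * b)
  obtain ⟨c1, c2, hc⟩ := hco a'
  obtain ⟨d1, d2, hd⟩ := hco (P.τ⁻¹ * b')
  have key : ∀ (x y : F) (x1 x2 y1 y2 : K), x = P.ι x1 + P.ι x2 * ρ → P.τ⁻¹ * y = P.ι y1 + P.ι y2 * ρ →
      x * y ^ q + y * x ^ q = P.τ * (ρ - ρ ^ q) * P.ι (x1 * y2 - x2 * y1) := by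
    intro x y x1 x2 y1 y2 hx hy
    have hy' : y = P.τ * (P.ι y1 + P.ι y2 * ρ) := by rw [← hy]; field_simp
    rw [hx, hy', mul_pow, τq P, HermStd.add_pow_q P.hF, HermStd.add_pow_q P.hF, mul_pow, mul_pow,
      ιq P, ιq P, ιq P, ιq P, map_sub, map_mul, map_mul]
    ring
  rw [key a b a1 a2 b1 b2 ha hb] at hne hn
  rw [key a' b' c1 c2 d1 d2 hc hd] at hn
  set D := a1 * b2 - a2 * b1 with hD
  have hD0 : D ≠ 0 := fun h => hne (by rw [h, map_zero, mul_zero])
  have hDD : c1 * d2 - c2 * d1 = D := by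
    have : P.τ * (ρ - ρ ^ q) ≠ 0 := mul_ne_zero hτ (sub_ne_zero.2 (Ne.symm hρ))
    exact P.ι.injective (mul_left_cancel₀ this hn)
  refine ⟨⟨!![(c1 * b2 - c2 * b1) / D, (a1 * c2 - a2 * c1) / D;
      (d1 * b2 - d2 * b1) / D, (a1 * d2 - a2 * d1) / D], ?_⟩, ?_, ?_⟩
  · rw [Matrix.det_fin_two_of]
    field_simp
    rw [hD] at hDD ⊢
    linear_combination (a1 * b2 - a2 * b1) * hDD
  · show P.ι ((c1 * b2 - c2 * b1) / D) * a + P.ι ((a1 * c2 - a2 * c1) / D) * P.τ⁻¹ * b = a'
    rw [mul_assoc, hb, ha, hc]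
    have e1 : (c1 * b2 - c2 * b1) / D * a1 + (a1 * c2 - a2 * c1) / D * b1 = c1 := by
      field_simp; rw [hD]; ring
    have e2 : (c1 * b2 - c2 * b1) / D * a2 + (a1 * c2 - a2 * c1) / D * b2 = c2 := by
      field_simp; rw [hD]; ring
    rw [← congrArg P.ι e1, ← congrArg P.ι e2, map_add, map_add, map_mul, map_mul, map_mul, map_mul]
    ring
  · show P.ι ((d1 * b2 - d2 * b1) / D) * P.τ * a + P.ι ((a1 * d2 - a2 * d1) / D) * b = b'
    have hb' : b = P.τ * (P.ι b1 + P.ι b2 * ρ) := by rw [← hb]; field_simp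
    have hd' : b' = P.τ * (P.ι d1 + P.ι d2 * ρ) := by rw [← hd]; field_simp
    rw [hb', hd', ha]
    have e1 : (d1 * b2 - d2 * b1) / D * a1 + (a1 * d2 - a2 * d1) / D * b1 = d1 := by
      field_simp; rw [hD]; ring
    have e2 : (d1 * b2 - d2 * b1) / D * a2 + (a1 * d2 - a2 * d1) / D * b2 = d2 := by
      field_simp; rw [hD]; ring
    rw [← congrArg P.ι e1, ← congrArg P.ι e2, map_add, map_add, map_mul, map_mul, map_mul, map_mul]
    ring

/-- The part orthogonal to the plane. -/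
def orth (x : Fin 3 → F) : Fin 3 → F :=
  x - (Cfsg.hermForm 3 F q x P.f • P.e + Cfsg.hermForm 3 F q x P.e • P.f)

theorem orth_H (x : Vec) : H (orth P x) P.e = 0 ∧ H (orth P x) P.f = 0 := by
  constructor <;> simp [orth, H_sub_left, H_add_left, H_smul_left, P.he, P.hf, P.hef, fe P]

theorem orth_add (x : Vec) :
    x = orth P x + (H x P.f • P.e + H x P.e • P.f) := by rw [orth, sub_add_cancel]

theorem H_self (x : Vec) :
    H x x = H (orth P x) (orth P x) + (H x P.f * H x P.e ^ q + H x P.e * H x P.f ^ q) := by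
  have h1 := orth_H P x
  have h2 : H P.e (orth P x) = 0 := (H_eq_zero_comm P.hF).1 h1.1
  have h3 : H P.f (orth P x) = 0 := (H_eq_zero_comm P.hF).1 h1.2
  conv_lhs => rw [orth_add P x]
  simp only [H_add_left, H_add_right P.hF, H_smul_left, H_smul_right, h1.1, h1.2, h2, h3, P.he, P.hf,
    P.hef, fe P]
  ring

/-- A non-zero vector orthogonal to a hyperbolic plane is anisotropic and spans the orthogonal space. -/
theorem orth_prop {z : Vec} (hz0 : z ≠ 0) (he : H z P.e = 0) (hf : H z P.f = 0) :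
    H z z ≠ 0 ∧ ∀ z' : Vec, H z' P.e = 0 → H z' P.f = 0 → ∃ c : F, z' = c • z := by
  obtain ⟨⟨n, hne, hnf, hnn⟩, -⟩ := exists_perp_pair P.hF (le_refl 3) P.he P.hf P.hef
  have hli : LinearIndependent F ![P.e, P.f, n] := by
    rw [Fintype.linearIndependent_iff]
    intro g hg
    simp only [Fin.sum_univ_three, Matrix.cons_val_zero, Matrix.cons_val_one, Matrix.cons_val_two,
      Matrix.head_cons, Matrix.tail_cons] at hg
    have k1 := congrArg (fun v => H v P.f) hg
    have k2 := congrArg (fun v => H v P.e) hg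
    have k3 := congrArg (fun v => H v n) hg
    have hen : H P.e n = 0 := (H_eq_zero_comm P.hF).1 hne
    have hfn : H P.f n = 0 := (H_eq_zero_comm P.hF).1 hnf
    simp [H_add_left, H_smul_left, H_zero_left, P.he, P.hf, P.hef, fe P, hne, hnf, hnn, hen, hfn] at k1 k2 k3
    intro i
    fin_cases i <;> assumption
  have hspan : ∀ y : Vec, H y P.e = 0 → H y P.f = 0 → ∃ c : F, y = c • n := by
    intro y hye hyf
    have htop := hli.span_eq_top_of_card_eq_finrank (by simp)
    have hy : y ∈ Submodule.span F (Set.range ![P.e, P.f, n]) := htop ▸ Submodule.mem_top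
    obtain ⟨g, hg⟩ := (Submodule.mem_span_range_iff_exists_fun F).1 hy
    simp only [Fin.sum_univ_three, Matrix.cons_val_zero, Matrix.cons_val_one, Matrix.cons_val_two,
      Matrix.head_cons, Matrix.tail_cons] at hg
    rw [← hg] at hye hyf
    simp [H_add_left, H_smul_left, P.he, P.hf, P.hef, fe P, hne, hnf] at hye hyf
    exact ⟨g 2, by rw [← hg, hye, hyf]; simp⟩
  obtain ⟨c, rfl⟩ := hspan z he hf
  have hc : c ≠ 0 := fun h => hz0 (by rw [h, zero_smul])
  refine ⟨by rw [H_smul_left, H_smul_right, hnn, mul_one]; exact mul_ne_zero hc (pow_ne_zero _ hc), ?_⟩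
  intro z' he' hf'
  obtain ⟨c', rfl⟩ := hspan z' he' hf'
  exact ⟨c' / c, by rw [smul_smul, div_mul_cancel₀ _ hc]⟩

theorem eq_top_of_plane (hq : q ≠ 2) (h : ∀ M, planeHom P M ∈ G) {g : Cfsg.SU 3 F q} (hg : g ∈ G)
    (hout : orth P (mat g *ᵥ P.e) ≠ 0) : G = ⊤ := by
  have hTe := tfull_e P G h
  have hTf := tfull_f P G h
  set y := mat g *ᵥ P.e with hy
  have hTy : TFull q G y := tfull_map P.hF hTe hg
  have hyy : H y y = 0 := by rw [hy, SU_H, P.he]
  have hy0 := orth_prop P hout (orth_H P y).1 (orth_H P y).2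
  have hall : ∀ v : Vec, H v v = 0 → TFull q G v := by
    intro v hv
    by_cases hv0 : v = 0
    · subst hv0
      exact fun c _ => ⟨1, one_mem G, fun x => by simp [mat_one]⟩
    obtain ⟨k, hk⟩ := hy0.2 _ (orth_H P v).1 (orth_H P v).2
    by_cases hk0 : k = 0
    · -- `v` lies in the plane
      subst hk0
      rw [zero_smul] at hk
      have hve := orth_add P v
      rw [hk, zero_add] at hve
      have hself := H_self P v
      rw [hv, hk, H_zero_left, zero_add] at hself
      by_cases hb : H v P.e = 0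
      · rw [hb, zero_smul, add_zero] at hve
        have ha : H v P.f ≠ 0 := fun h0 => hv0 (by rw [hve, h0, zero_smul])
        refine tfull_smul P.hF (inv_ne_zero ha) ?_
        generalize H v P.f = a at hve ha ⊢
        rwa [hve, smul_smul, inv_mul_cancel₀ ha, one_smul]
      · set r := H v P.f / H v P.e with hr
        have hrq : r + r ^ q = 0 := by
          rw [hr, div_pow]
          have := pow_ne_zero q hb
          field_simp
          linear_combination -hself
        obtain ⟨t, ht, hte⟩ := hTe r hrq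
        have e1 : mat t *ᵥ P.f = P.f + r • P.e := by rw [hte, fe P, mul_one]
        have h2 := tfull_map P.hF hTf ht
        rw [e1] at h2
        refine tfull_smul P.hF (inv_ne_zero hb) ?_
        convert h2 using 1
        rw [hr]
        generalize H v P.f = a at hve ⊢
        generalize H v P.e = b at hve hb ⊢
        rw [hve, smul_add, smul_smul, smul_smul, inv_mul_cancel₀ hb, one_smul, add_comm,
          div_eq_mul_inv, mul_comm]
    · -- `v` leaves the plane
      refine tfull_smul P.hF (inv_ne_zero hk0) ?_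
      set w := k⁻¹ • v with hw
      have hwy : orth P w = orth P y := by
        rw [hw, orth, H_smul_left, H_smul_left, ← smul_smul, ← smul_smul, ← smul_add, ← smul_sub,
          show v - (H v P.f • P.e + H v P.e • P.f) = orth P v from rfl, hk, smul_smul, inv_mul_cancel₀ hk0,
          one_smul]
      have hww : H w w = 0 := by rw [hw, H_smul_left, H_smul_right, hv, mul_zero, mul_zero]
      have s1 := H_self P w
      have s2 := H_self P y
      rw [hww, hwy] at s1
      rw [hyy] at s2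
      obtain ⟨M, hM1, hM2⟩ := exists_plane_map P (a := H y P.f) (b := H y P.e) (a' := H w P.f)
        (b' := H w P.e) (fun h0 => hy0.1 (by rw [h0, add_zero] at s2; exact s2.symm))
        (by linear_combination s2 - s1)
      have hmap : mat (planeHom P M) *ᵥ y = w := by
        obtain ⟨e1, e2, e3⟩ := split_colE P M.1 y
        have h1 : planeMat P M.1 *ᵥ y = mat (planeHom P M) *ᵥ y := rfl
        rw [← h1, orth_add P (planeMat P M.1 *ᵥ y), e1, e2, hM1, hM2]
        conv_rhs => rw [orth_add P w, hwy]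
        congr 1
      exact hmap ▸ tfull_map P.hF hTy (h M)
  rw [eq_top_iff, ← tvGroup_eq_top P.hF (by omega) (fun h' => hq h'.2), tvGroup, Subgroup.closure_le]
  rintro g' ⟨v, c, hv, hc, hg'⟩
  obtain ⟨t, ht, hte⟩ := hall v hv c hc
  have : g' = t := SU_ext fun x => by rw [hte, hg', HermStd.transvection_mulVec]
  exact this ▸ ht

end Cfsg.Agent.Classical.UnitaryPairGen

namespace Cfsg.Agent.Classical.UnitaryPairGen

open Matrix
open Cfsg.Agent.Forms
open Cfsg.Agent.Classical.Unitary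
open Cfsg.Agent.Classical.UnitaryTwoGen

variable {F : Type*} [Field F] [Fintype F] {q : ℕ} {K : Type*} [Field K]

local notation "Vec" => (Fin 3 → F)
local notation "H" => Cfsg.hermForm 3 F q

/-- Two transvections with non-orthogonal centres in the frame of their plane. -/
theorem exists_frame (hF : Fintype.card F = q ^ 2) {ι : K →+* F} (hι : ∀ x, x ∈ Set.range ι ↔ x ^ q = x)
    {a b : Vec} (ha : H a a = 0) (hb : H b b = 0) (hab : H a b ≠ 0) {C D : F} (hC : C + C ^ q = 0)
    (hD : D + D ^ q = 0) (hD0 : D ≠ 0) {g g' : Cfsg.SU 3 F q}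
    (hg : ∀ x, mat g *ᵥ x = x + (C * H x a) • a) (hg' : ∀ x, mat g' *ᵥ x = x + (D * H x b) • b) :
    ∃ (P : Frame F q K) (L : K), P.e = a ∧ (∃ k : F, k ≠ 0 ∧ b = k • P.f) ∧
      P.ι L = C * D * H a b ^ (q + 1) ∧ planeHom P (upper L) = g ∧ planeHom P (lower 1) = g' := by
  set h := H a b with hh
  have hN : (h ^ (q + 1)) ^ q = h ^ (q + 1) := by rw [pow_succ, mul_pow, pow_qq hF, mul_comm]
  have hhq : h ^ q ≠ 0 := pow_ne_zero _ hab
  have hτ : D * h ^ (q + 1) + (D * h ^ (q + 1)) ^ q = 0 := by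
    rw [mul_pow, hN, ← add_mul, hD, zero_mul]
  obtain ⟨L, hL⟩ := (hι (C * D * h ^ (q + 1))).2 (by
    rw [mul_pow, mul_pow, hN, eq_neg_of_add_eq_zero_right hC, eq_neg_of_add_eq_zero_right hD]
    ring)
  let P : Frame F q K :=
    { hF := hF, e := a, f := (h ^ q)⁻¹ • b, he := ha
      hf := by rw [H_smul_left, H_smul_right, hb, mul_zero, mul_zero]
      hef := by rw [H_smul_right, inv_pow, pow_qq hF, inv_mul_cancel₀ hab]
      ι := ι, hι := hι, τ := D * h ^ (q + 1)
      hτ0 := mul_ne_zero hD0 (pow_ne_zero _ hab), hτ := hτ }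
  refine ⟨P, L, rfl, ⟨h ^ q, hhq, by rw [smul_smul, mul_inv_cancel₀ hhq, one_smul]⟩, hL, ?_, ?_⟩
  · refine SU_ext fun x => ?_
    rw [planeHom_upper, hg]
    show x + (ι L * (D * h ^ (q + 1))⁻¹ * H x a) • a = _
    rw [hL]
    have := pow_ne_zero (q + 1) hab
    congr 2
    field_simp
  · refine SU_ext fun x => ?_
    rw [planeHom_lower, hg']
    show x + (ι 1 * (D * h ^ (q + 1)) * H x ((h ^ q)⁻¹ • b)) • ((h ^ q)⁻¹ • b) = _
    rw [map_one, H_smul_right, smul_smul, inv_pow, pow_qq hF]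
    congr 2
    field_simp
    ring

/-- Membership of the whole plane group from two generating elements. -/
theorem plane_mem (P : Frame F q K) {G : Subgroup (Cfsg.SU 3 F q)}
    {S : Set (SpecialLinearGroup (Fin 2) K)} (hS : Subgroup.closure S = ⊤)
    (h : ∀ M ∈ S, planeHom P M ∈ G) (M : SpecialLinearGroup (Fin 2) K) : planeHom P M ∈ G := by
  have : Subgroup.closure S ≤ G.comap (planeHom P) := (Subgroup.closure_le _).2 h
  rw [hS] at this
  exact this (Subgroup.mem_top M)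

/-- A unipotent element fixing only a line moves one of two hyperbolic vectors out of their plane. -/
theorem escape (P : Frame F q K) {u : Cfsg.SU 3 F q} (hu : (mat u - 1) ^ 3 = 0)
    (hu2 : (mat u - 1) ^ 2 ≠ 0) {a : Vec} (hfix : ∀ y, mat u *ᵥ y = y → ∃ c : F, y = c • a)
    (he : orth P (mat u *ᵥ P.e) = 0) : orth P (mat u *ᵥ P.f) ≠ 0 := by
  intro hf
  obtain ⟨⟨n, hne, hnf, hnn⟩, -⟩ := exists_perp_pair P.hF (le_refl 3) P.he P.hf P.hef
  set m := mat u *ᵥ n with hm
  have hmm : H m m = 1 := by rw [hm, SU_H, hnn]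
  have hm0 : m ≠ 0 := fun h0 => by rw [h0, H_zero_left] at hmm; exact zero_ne_one hmm
  have hn0 : n ≠ 0 := fun h0 => by rw [h0, H_zero_left] at hnn; exact zero_ne_one hnn
  have k1 := orth_add P (mat u *ᵥ P.e)
  rw [he, zero_add] at k1
  have k2 := orth_add P (mat u *ᵥ P.f)
  rw [hf, zero_add] at k2
  have e1 : H m (mat u *ᵥ P.e) = 0 := by rw [hm, SU_H, hne]
  have e2 : H m (mat u *ᵥ P.f) = 0 := by rw [hm, SU_H, hnf]
  rw [k1, H_add_right P.hF, H_smul_right, H_smul_right] at e1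
  rw [k2, H_add_right P.hF, H_smul_right, H_smul_right] at e2
  set p := H (mat u *ᵥ P.e) P.f with hp
  set p' := H (mat u *ᵥ P.e) P.e with hp'
  set r := H (mat u *ᵥ P.f) P.f with hr
  set r' := H (mat u *ᵥ P.f) P.e with hr'
  have hdet : p ^ q * r' ^ q - p' ^ q * r ^ q ≠ 0 := by
    intro h0
    have h1 : H (mat u *ᵥ P.e) (mat u *ᵥ P.f) = 1 := by rw [SU_H, P.hef]
    have h2 : H (mat u *ᵥ P.e) (mat u *ᵥ P.e) = 0 := by rw [SU_H, P.he]
    rw [k2, H_add_right P.hF, H_smul_right, H_smul_right, ← hp, ← hp'] at h1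
    rw [H_self P (mat u *ᵥ P.e), he, H_zero_left, zero_add, ← hp, ← hp'] at h2
    have h3 : p = 0 ∧ p' = 0 := by
      constructor
      · refine eq_zero_of_pow_eq_zero (n := q) ?_
        linear_combination (-p ^ q) * h1 + r ^ q * h2 + p * h0
      · refine eq_zero_of_pow_eq_zero (n := q) ?_
        linear_combination (-p' ^ q) * h1 + r' ^ q * h2 - p' * h0
    rw [h3.1, h3.2, mul_zero, mul_zero, add_zero] at h1
    exact zero_ne_one h1
  have z1 : H m P.e = 0 := by
    refine (mul_eq_zero.1 (?_ : H m P.e * (p ^ q * r' ^ q - p' ^ q * r ^ q) = 0)).resolve_right hdet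
    linear_combination r' ^ q * e1 - p' ^ q * e2
  have z2 : H m P.f = 0 := by
    refine (mul_eq_zero.1 (?_ : H m P.f * (p ^ q * r' ^ q - p' ^ q * r ^ q) = 0)).resolve_right hdet
    linear_combination p ^ q * e2 - r ^ q * e1
  obtain ⟨k, hk⟩ := (orth_prop P hn0 hne hnf).2 m z1 z2
  have e3 : (mat u - 1) *ᵥ n = (k - 1) • n := by
    rw [Matrix.sub_mulVec, Matrix.one_mulVec, ← hm, hk, sub_smul, one_smul]
  have e4 : (mat u - 1) ^ 3 *ᵥ n = (k - 1) ^ 3 • n := by
    rw [pow_succ, pow_two, ← Matrix.mulVec_mulVec, e3, Matrix.mulVec_smul, ← Matrix.mulVec_mulVec,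
      e3, Matrix.mulVec_smul, e3, smul_smul, smul_smul]
    congr 1
    ring
  rw [hu, Matrix.zero_mulVec] at e4
  have hk1 : k = 1 := by
    rcases smul_eq_zero.1 e4.symm with h0 | h0
    · exact sub_eq_zero.1 (pow_eq_zero_iff (by norm_num : 3 ≠ 0) |>.1 h0)
    · exact absurd h0 hn0
  rw [hk1, one_smul] at hk
  obtain ⟨c, hc⟩ := hfix n (by rw [← hm]; exact hk)
  have hc0 : c ≠ 0 := fun h0 => hn0 (by rw [hc, h0, zero_smul])
  obtain ⟨x, hx⟩ : ∃ x, (mat u - 1) ^ 2 *ᵥ x ≠ 0 := by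
    by_contra hall
    push Not at hall
    exact hu2 (Matrix.ext_of_mulVec_single fun i => by rw [hall, Matrix.zero_mulVec])
  set z := (mat u - 1) ^ 2 *ᵥ x with hz
  have hzfix : mat u *ᵥ z = z := by
    have : (mat u - 1) *ᵥ z = 0 := by
      rw [hz, Matrix.mulVec_mulVec, ← pow_succ', hu, Matrix.zero_mulVec]
    rwa [Matrix.sub_mulVec, Matrix.one_mulVec, sub_eq_zero] at this
  obtain ⟨c', hc'⟩ := hfix z hzfix
  have hzn : H z n = 0 := by
    have e5 : z = mat u *ᵥ ((mat u - 1) *ᵥ x) - (mat u - 1) *ᵥ x := by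
      rw [hz, pow_two, ← Matrix.mulVec_mulVec]
      exact (Matrix.sub_mulVec _ _ _).trans (by rw [Matrix.one_mulVec])
    rw [e5, H_sub_left]
    conv_lhs => arg 1; rw [← hk, hm, SU_H]
    exact sub_self _
  rw [hc', show c' • a = (c' / c) • n by rw [hc, smul_smul, div_mul_cancel₀ _ hc0], H_smul_left, hnn,
    mul_one, div_eq_zero_iff, or_iff_left hc0] at hzn
  exact hx (by rw [hc', hzn, zero_smul])

end Cfsg.Agent.Classical.UnitaryPairGen
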