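import Mathlib
import Cfsg.Agent.Lib.Classical.UnitaryPairGen

/-!
# Hyperbolic coordinates for `SU₃(q)`, unipotent elements from their trace, and the pair `R h`, `h R`
-/

set_option autoImplicit false
set_option linter.unusedSectionVars false

namespace Cfsg.Agent.Classical.SU3Reg

open Matrix
open Cfsg.Agent.Forms
open Cfsg.Agent.Classical.Unitary
open Cfsg.Agent.Classical.UnitaryTwoGen

variable {F : Type*} [Field F] [Fintype F] {q : ℕ}

local notation "Vec" => (Fin 3 → F)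
local notation "Mat" => Matrix (Fin 3) (Fin 3) F
local notation "H" => Cfsg.hermForm 3 F q

/-- The form in hyperbolic coordinates. -/
def hj (q : ℕ) (x y : Fin 3 → F) : F := x 0 * y 1 ^ q + x 1 * y 0 ^ q + x 2 * y 2 ^ q

/-- A hyperbolic basis as a matrix. -/
structure Coord (F : Type*) [Field F] [Fintype F] (q : ℕ) where
  hF : Fintype.card F = q ^ 2
  P : Matrix (Fin 3) (Fin 3) F
  unit : IsUnit P.det
  form : ∀ x y : Fin 3 → F, Cfsg.hermForm 3 F q (P *ᵥ x) (P *ᵥ y) = hj q x y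

theorem exists_coord (hF : Fintype.card F = q ^ 2) : Nonempty (Coord F q) := by
  obtain ⟨T⟩ := exists_pair (N := 1) hF
  set m := ep F (0 : Fin 1) with hm
  have hmm : H m m = 1 := by rw [hm]; exact (ep_ep (N := 1) hF 0 0).trans (if_pos rfl)
  let P : Mat := Matrix.of fun i j => ![T.e i, T.f i, m i] j
  have hP : ∀ x, P *ᵥ x = x 0 • T.e + x 1 • T.f + x 2 • m := fun x => by
    funext i
    simp [P, Matrix.mulVec, dotProduct, Fin.sum_univ_three, mul_comm]
  have hfe : H T.f T.e = 1 := by rw [← H_conj hF, T.hef, one_pow]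
  have hem : H T.e m = 0 := T.hej 0
  have hfm : H T.f m = 0 := T.hfj 0
  have hme : H m T.e = 0 := (H_eq_zero_comm hF).1 hem
  have hmf : H m T.f = 0 := (H_eq_zero_comm hF).1 hfm
  have hform : ∀ x y : Vec, H (P *ᵥ x) (P *ᵥ y) = hj q x y := fun x y => by
    simp only [hP, H_add_left, H_add_right hF, H_smul_left, H_smul_right, T.he, T.hf, T.hef, hfe, hem,
      hfm, hme, hmf, hmm, hj]
    ring
  refine ⟨⟨hF, P, isUnit_iff_ne_zero.2 fun h => ?_, hform⟩⟩
  obtain ⟨x, hx, hx'⟩ := Matrix.exists_mulVec_eq_zero_iff.2 h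
  have k := fun y => (hform x y).symm.trans (by rw [hx', H_zero_left])
  have h0 := k ![0, 1, 0]
  have h1 := k ![1, 0, 0]
  have h2 := k ![0, 0, 1]
  simp [hj, zero_pow (q_ne_zero hF)] at h0 h1 h2
  exact hx (funext fun i => by fin_cases i <;> assumption)

variable (B : Coord F q)

theorem P_cancel (x : Vec) : B.P⁻¹ *ᵥ (B.P *ᵥ x) = x := by
  rw [Matrix.mulVec_mulVec, Matrix.nonsing_inv_mul _ B.unit, Matrix.one_mulVec]

theorem P_surj (x : Vec) : B.P *ᵥ (B.P⁻¹ *ᵥ x) = x := by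
  rw [Matrix.mulVec_mulVec, Matrix.mul_nonsing_inv _ B.unit, Matrix.one_mulVec]

theorem P_inj {x y : Vec} (h : B.P *ᵥ x = B.P *ᵥ y) : x = y := by
  rw [← P_cancel B x, h, P_cancel]

/-- An element given in coordinates. -/
noncomputable def su (A : Mat) (hd : A.det = 1) (hA : ∀ x y, hj q (A *ᵥ x) (A *ᵥ y) = hj q x y) :
    Cfsg.SU 3 F q :=
  suMk (B.P * A * B.P⁻¹)
    (by rw [Matrix.det_conj ((Matrix.isUnit_iff_isUnit_det _).2 B.unit), hd])
    (fun u v => by
      rw [← Matrix.mulVec_mulVec, ← Matrix.mulVec_mulVec, ← Matrix.mulVec_mulVec, ← Matrix.mulVec_mulVec,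
        B.form, hA, ← B.form, P_surj, P_surj])

theorem su_mulVec (A : Mat) (hd : A.det = 1) (hA : ∀ x y, hj q (A *ᵥ x) (A *ᵥ y) = hj q x y) (x : Vec) :
    mat (su B A hd hA) *ᵥ (B.P *ᵥ x) = B.P *ᵥ (A *ᵥ x) := by
  rw [su, suMk_mulVec, ← Matrix.mulVec_mulVec, P_cancel, ← Matrix.mulVec_mulVec]

theorem su_trace (A A' : Mat) (hd : A.det = 1) (hA : ∀ x y, hj q (A *ᵥ x) (A *ᵥ y) = hj q x y)
    (hd' : A'.det = 1) (hA' : ∀ x y, hj q (A' *ᵥ x) (A' *ᵥ y) = hj q x y) :
    (mat (su B A hd hA * su B A' hd' hA')).trace = (A * A').trace := by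
  show ((B.P * A * B.P⁻¹) * (B.P * A' * B.P⁻¹)).trace = _
  rw [show (B.P * A * B.P⁻¹) * (B.P * A' * B.P⁻¹) = B.P * (A * A') * B.P⁻¹ by
    simp only [mul_assoc, Matrix.nonsing_inv_mul_cancel_left _ _ B.unit]]
  exact Matrix.trace_conj ((Matrix.isUnit_iff_isUnit_det _).2 B.unit) _

/-- Cayley–Hamilton in dimension three. -/
theorem cayley_three (M : Mat) :
    M * M * M - M.trace • (M * M) + (Matrix.adjugate M).trace • M - M.det • (1 : Mat) = 0 := by
  rw [Matrix.trace_fin_three, Matrix.trace_fin_three, Matrix.det_fin_three, Matrix.adjugate_fin_three]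
  ext i j
  fin_cases i <;> fin_cases j <;> simp [Matrix.mul_apply, Fin.sum_univ_three] <;> ring

/-- An element of trace three is unipotent. -/
theorem unipotent_of_trace (hF : Fintype.card F = q ^ 2) (g : Cfsg.SU 3 F q) (h : (mat g).trace = 3) :
    (mat g - 1) ^ 3 = 0 := by
  have hp := (preserves_iff hF (mat g)).1 (SU_H g)
  set T := ((mat g).map (HermStd.qHom hF))ᵀ with hT
  have h1 : T * mat g = 1 := by
    have := congrArg Matrix.transpose hp
    rwa [Matrix.transpose_mul, Matrix.transpose_transpose, Matrix.transpose_one] at this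
  have hd : (mat g).det = 1 := g.1.2
  have hadj : Matrix.adjugate (mat g) = T :=
    calc Matrix.adjugate (mat g) = (T * mat g) * Matrix.adjugate (mat g) := by rw [h1, one_mul]
      _ = T := by rw [mul_assoc, Matrix.mul_adjugate, hd, one_smul, mul_one]
  have htr : (Matrix.adjugate (mat g)).trace = 3 := by
    have e : ((mat g).map (HermStd.qHom hF)).trace = HermStd.qHom hF ((mat g).trace) := by
      simp [Matrix.trace, map_sum]
    rw [hadj, hT, Matrix.trace_transpose, e, h, map_ofNat]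
  have hc := cayley_three (mat g)
  rw [htr, h, hd, one_smul] at hc
  have e2 : (mat g - 1) ^ 3 = mat g * mat g * mat g - (3 : F) • (mat g * mat g) + (3 : F) • mat g - 1 := by
    rw [show (3 : F) = ((3 : ℕ) : F) by norm_num, Nat.cast_smul_eq_nsmul, Nat.cast_smul_eq_nsmul,
      pow_succ, pow_two]
    simp only [sub_mul, mul_sub, mul_one, one_mul]
    abel
  rw [e2, hc]

/-- A unipotent element whose fixed vectors lie on a line is regular, and that line is isotropic. -/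
theorem regular_of_fix {u : Cfsg.SU 3 F q} {a : Vec}
    (hfix : ∀ y, mat u *ᵥ y = y → ∃ c : F, y = c • a) : (mat u - 1) ^ 2 ≠ 0 := by
  intro h2
  set N := (mat u - 1).mulVecLin with hN
  have hker : LinearMap.ker N ≤ F ∙ a := fun y hy => by
    rw [LinearMap.mem_ker, hN, Matrix.mulVecLin_apply, Matrix.sub_mulVec, Matrix.one_mulVec, sub_eq_zero] at hy
    obtain ⟨c, rfl⟩ := hfix y hy
    exact Submodule.smul_mem _ _ (Submodule.mem_span_singleton_self a)
  have hran : LinearMap.range N ≤ F ∙ a := by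
    rintro _ ⟨y, rfl⟩
    refine hker ?_
    rw [LinearMap.mem_ker, hN, Matrix.mulVecLin_apply, Matrix.mulVecLin_apply, Matrix.mulVec_mulVec,
      ← pow_two, h2, Matrix.zero_mulVec]
  have h1 := Submodule.finrank_mono hker
  have h3 := Submodule.finrank_mono hran
  have h4 := N.finrank_range_add_finrank_ker
  have h5 : Module.finrank F (F ∙ a) ≤ 1 := by
    refine (finrank_span_le_card _).trans ?_
    simp
  rw [Module.finrank_fin_fun] at h4
  omega

/-- The two elements `R h` and `h R` for an involution `h`: the first is regular unipotent,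
the second is its conjugate, and their product is the square of `R`. -/
theorem pair_facts (hF : Fintype.card F = q ^ 2) (R h : Cfsg.SU 3 F q) (hh : h * h = 1)
    (htr : (mat (R * h)).trace = 3) {a : Vec}
    (hfix : ∀ y, mat (R * h) *ᵥ y = y → ∃ c : F, y = c • a) :
    (IsNilpotent (mat (R * h) - 1) ∧ (mat (R * h) - 1) ^ (3 - 1) ≠ 0) ∧
      R * h * (h * (R * h) * h⁻¹) = R * R := by
  refine ⟨⟨⟨3, unipotent_of_trace hF _ htr⟩, regular_of_fix hfix⟩, ?_⟩
  calc R * h * (h * (R * h) * h⁻¹) = R * (h * h) * R * (h * h⁻¹) := by group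
    _ = R * R := by rw [hh, mul_inv_cancel, mul_one, mul_one]

end Cfsg.Agent.Classical.SU3Reg

namespace Cfsg.Agent.Classical.SU3Reg

open Matrix
open Cfsg.Agent.Forms
open Cfsg.Agent.Classical.Unitary
open Cfsg.Agent.Classical.UnitaryTwoGen

variable {F : Type*} [Field F] [Fintype F] {q : ℕ}

local notation "Vec" => (Fin 3 → F)
local notation "Mat" => Matrix (Fin 3) (Fin 3) F
local notation "H" => Cfsg.hermForm 3 F q

/-- The torus element times a transvection. -/
def rMat (q : ℕ) (s c : F) : Matrix (Fin 3) (Fin 3) F := !![s, s * c, 0; 0, s, 0; 0, 0, (s ^ q) ^ 2]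

/-- The point `(α, 1, γ)`. -/
def wVec (α γ : F) : Fin 3 → F := ![α, 1, γ]

/-- The involution attached to `(α, 1, γ)`. -/
def hMat (q : ℕ) (ε d α γ : F) : Matrix (Fin 3) (Fin 3) F :=
  !![ε + d * α, d * α * α ^ q, d * α * γ ^ q;
     d, ε + d * α ^ q, d * γ ^ q;
     d * γ, d * γ * α ^ q, ε + d * γ * γ ^ q]

theorem rMat_mulVec (s c : F) (x : Vec) :
    rMat q s c *ᵥ x = ![s * x 0 + s * c * x 1, s * x 1, (s ^ q) ^ 2 * x 2] := by
  funext i
  fin_cases i <;> simp [rMat, Matrix.mulVec, dotProduct, Fin.sum_univ_three]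

theorem hj_wVec (hF : Fintype.card F = q ^ 2) (α γ : F) (x : Vec) :
    hj q x (wVec α γ) = x 0 + x 1 * α ^ q + x 2 * γ ^ q := by
  simp [hj, wVec]

theorem hMat_mulVec (hF : Fintype.card F = q ^ 2) (ε d α γ : F) (x : Vec) :
    hMat q ε d α γ *ᵥ x = ε • x + (d * hj q x (wVec α γ)) • wVec α γ := by
  funext i
  rw [hj_wVec hF]
  fin_cases i <;> simp [hMat, wVec, Matrix.mulVec, dotProduct, Fin.sum_univ_three] <;> ring

theorem hj_smul_left (a : F) (x y : Vec) : hj q (a • x) y = a * hj q x y := by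
  simp [hj]; ring

theorem hj_add_left (x y z : Vec) : hj q (x + y) z = hj q x z + hj q y z := by
  simp [hj]; ring

theorem hj_smul_right (a : F) (x y : Vec) : hj q x (a • y) = a ^ q * hj q x y := by
  simp [hj, mul_pow]; ring

theorem hj_add_right (hF : Fintype.card F = q ^ 2) (x y z : Vec) :
    hj q x (y + z) = hj q x y + hj q x z := by
  simp [hj, HermStd.add_pow_q hF]; ring

theorem hj_conj (hF : Fintype.card F = q ^ 2) (x y : Vec) : hj q x y ^ q = hj q y x := by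
  simp only [hj, HermStd.add_pow_q hF, mul_pow, pow_qq hF]; ring

theorem pow_mul_self {s : F} (hs : s ^ (q + 1) = 1) : s * s ^ q = 1 := by rw [mul_comm, ← pow_succ, hs]

theorem rMat_det {s : F} (hs : s ^ (q + 1) = 1) (c : F) : (rMat q s c).det = 1 := by
  have h := pow_mul_self hs
  rw [rMat, Matrix.det_fin_three]
  simp
  linear_combination (s * s ^ q + 1) * h

theorem rMat_preserves (hF : Fintype.card F = q ^ 2) {s c : F} (hs : s ^ (q + 1) = 1)
    (hc : c + c ^ q = 0) (x y : Vec) : hj q (rMat q s c *ᵥ x) (rMat q s c *ᵥ y) = hj q x y := by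
  have h := pow_mul_self hs
  have hsq : (s ^ q) ^ q = s := pow_qq hF s
  have h2 : ((s ^ q) ^ 2) ^ q = s ^ 2 := by rw [← pow_mul, mul_comm, pow_mul, hsq]
  simp only [rMat_mulVec, hj, Matrix.cons_val_zero, Matrix.cons_val_one, Matrix.cons_val_two,
    Matrix.head_cons, Matrix.tail_cons, HermStd.add_pow_q hF, mul_pow, h2,
    eq_neg_of_add_eq_zero_right hc]
  linear_combination (x 0 * y 1 ^ q + x 1 * y 0 ^ q + x 2 * y 2 ^ q * (s * s ^ q + 1)) * h

theorem hMat_preserves (hF : Fintype.card F = q ^ 2) {ε d α γ : F} (hε : ε ^ 2 = 1) (hεq : ε ^ q = ε)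
    (hd : d ^ q = d) (hN : d * (2 * ε + d * (α + α ^ q + γ * γ ^ q)) = 0) (x y : Vec) :
    hj q (hMat q ε d α γ *ᵥ x) (hMat q ε d α γ *ᵥ y) = hj q x y := by
  have hww : hj q (wVec α γ) (wVec α γ) = α + α ^ q + γ * γ ^ q := by rw [hj_wVec hF]; simp [wVec]
  simp only [hMat_mulVec hF, hj_add_left, hj_add_right hF, hj_smul_left, hj_smul_right, mul_pow, hεq, hd,
    hj_conj hF, hww]
  linear_combination (hj q x y) * hε + (hj q x (wVec α γ) * hj q (wVec α γ) y) * hN

theorem hMat_det {ε d α γ : F} (hdet : ε ^ 3 + ε ^ 2 * d * (α + α ^ q + γ * γ ^ q) = 1) :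
    (hMat q ε d α γ).det = 1 := by
  rw [hMat, Matrix.det_fin_three]
  simp
  linear_combination hdet

theorem hMat_sq (hF : Fintype.card F = q ^ 2) {ε d α γ : F} (hε : ε ^ 2 = 1)
    (hN : d * (2 * ε + d * (α + α ^ q + γ * γ ^ q)) = 0) :
    hMat q ε d α γ * hMat q ε d α γ = 1 := by
  refine mat_ext fun x => ?_
  rw [← Matrix.mulVec_mulVec, Matrix.one_mulVec]
  have hww : hj q (wVec α γ) (wVec α γ) = α + α ^ q + γ * γ ^ q := by rw [hj_wVec hF]; simp [wVec]
  simp only [hMat_mulVec hF, hj_add_left, hj_smul_left, hww]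
  match_scalars
  · linear_combination hε
  · linear_combination (hj q x (wVec α γ)) * hN

theorem trace_rh (hF : Fintype.card F = q ^ 2) (s c ε d α γ : F) :
    (rMat q s c * hMat q ε d α γ).trace =
      ε * (2 * s + (s ^ q) ^ 2) + d * (s * (α + α ^ q + c) + (s ^ q) ^ 2 * (γ * γ ^ q)) := by
  rw [Matrix.trace_fin_three]
  simp [rMat, hMat, Matrix.mul_apply, Fin.sum_univ_three]
  ring

/-- The candidate fixed vector. -/
def fixZ (q : ℕ) (s c ε α γ : F) : Fin 3 → F :=
  ![(α - s * c * (s - ε)⁻¹) / (s - ε), (s - ε)⁻¹, γ / ((s ^ q) ^ 2 - ε)]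

/-- The data of the pair. -/
structure Datum (B : Coord F q) where
  s : F
  c : F
  ε : F
  d : F
  α : F
  γ : F
  hs : s ^ (q + 1) = 1
  hc : c + c ^ q = 0
  hε : ε ^ 2 = 1
  hεq : ε ^ q = ε
  hd : d ^ q = d
  hN : d * (2 * ε + d * (α + α ^ q + γ * γ ^ q)) = 0
  hdet : ε ^ 3 + ε ^ 2 * d * (α + α ^ q + γ * γ ^ q) = 1
  h1 : s - ε ≠ 0
  h2 : (s ^ q) ^ 2 - ε ≠ 0
  htr : ε * (2 * s + (s ^ q) ^ 2) + d * (s * (α + α ^ q + c) + (s ^ q) ^ 2 * (γ * γ ^ q)) = 3

variable {B : Coord F q} (D : Datum B)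

/-- The element `R`. -/
noncomputable def Datum.R : Cfsg.SU 3 F q :=
  su B (rMat q D.s D.c) (rMat_det D.hs D.c) (rMat_preserves B.hF D.hs D.hc)

/-- The involution `h`. -/
noncomputable def Datum.h : Cfsg.SU 3 F q :=
  su B (hMat q D.ε D.d D.α D.γ) (hMat_det D.hdet) (hMat_preserves B.hF D.hε D.hεq D.hd D.hN)

/-- The regular unipotent. -/
noncomputable def Datum.u : Cfsg.SU 3 F q := D.R * D.h

/-- The coordinates of its fixed vector. -/
def Datum.a (D : Datum B) : Fin 3 → F := hMat q D.ε D.d D.α D.γ *ᵥ fixZ q D.s D.c D.ε D.α D.γ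

theorem R_mulVec (x : Vec) : mat D.R *ᵥ (B.P *ᵥ x) = B.P *ᵥ (rMat q D.s D.c *ᵥ x) := su_mulVec B _ _ _ x

theorem h_mulVec (x : Vec) : mat D.h *ᵥ (B.P *ᵥ x) = B.P *ᵥ (hMat q D.ε D.d D.α D.γ *ᵥ x) :=
  su_mulVec B _ _ _ x

theorem u_mulVec (x : Vec) :
    mat D.u *ᵥ (B.P *ᵥ x) = B.P *ᵥ (rMat q D.s D.c *ᵥ (hMat q D.ε D.d D.α D.γ *ᵥ x)) := by
  rw [Datum.u, mul_mulVec, h_mulVec, R_mulVec]

theorem h_sq : D.h * D.h = 1 := SU_ext fun x => by
  rw [← P_surj B x, mul_mulVec, h_mulVec, h_mulVec, Matrix.mulVec_mulVec (M := hMat q D.ε D.d D.α D.γ),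
    hMat_sq B.hF D.hε D.hN, Matrix.one_mulVec, mat_one, Matrix.one_mulVec]

theorem u_trace : (mat D.u).trace = 3 := by
  rw [Datum.u, Datum.R, Datum.h, su_trace B, trace_rh B.hF]
  exact D.htr

theorem u_fix (y : Vec) (hy : mat D.u *ᵥ y = y) : ∃ c : F, y = c • (B.P *ᵥ D.a) := by
  obtain ⟨x, rfl⟩ : ∃ x, B.P *ᵥ x = y := ⟨_, P_surj B y⟩
  rw [u_mulVec] at hy
  have hy' := P_inj B hy
  set z := hMat q D.ε D.d D.α D.γ *ᵥ x with hz
  have hx : x = hMat q D.ε D.d D.α D.γ *ᵥ z := by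
    rw [hz, Matrix.mulVec_mulVec, hMat_sq B.hF D.hε D.hN, Matrix.one_mulVec]
  set μ := D.d * hj q z (wVec D.α D.γ) with hμ
  have e : rMat q D.s D.c *ᵥ z = D.ε • z + μ • wVec D.α D.γ := by
    rw [hy', hμ, ← hMat_mulVec B.hF, ← hx]
  have e0 := congrFun e 0
  have e1 := congrFun e 1
  have e2 := congrFun e 2
  simp [rMat_mulVec, wVec] at e0 e1 e2
  have hz0 : z = μ • fixZ q D.s D.c D.ε D.α D.γ := by
    have h1 := D.h1
    have h2 := D.h2
    funext i
    fin_cases i <;> simp [fixZ]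
    · field_simp
      linear_combination (D.s - D.ε) * e0 - D.s * D.c * e1
    · field_simp
      linear_combination e1
    · field_simp
      linear_combination e2
  exact ⟨μ, by rw [hx, hz0, Datum.a, ← Matrix.mulVec_smul, ← Matrix.mulVec_smul]⟩

theorem u_regular : IsNilpotent (mat D.u - 1) ∧ (mat D.u - 1) ^ (3 - 1) ≠ 0 :=
  (pair_facts B.hF D.R D.h (h_sq D) (u_trace D) (u_fix D)).1

theorem u_cube : (mat D.u - 1) ^ 3 = 0 := unipotent_of_trace B.hF _ (u_trace D)

theorem u_sq_ne : (mat D.u - 1) ^ 2 ≠ 0 := regular_of_fix (u_fix D)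

theorem uv_eq : D.u * (D.h * D.u * D.h⁻¹) = D.R * D.R :=
  (pair_facts B.hF D.R D.h (h_sq D) (u_trace D) (u_fix D)).2

/-- The group generated by the pair. -/
noncomputable def Datum.G : Subgroup (Cfsg.SU 3 F q) :=
  Subgroup.closure {D.u, D.h * D.u * D.h⁻¹}

theorem u_mem : D.u ∈ D.G := Subgroup.subset_closure (Set.mem_insert _ _)

theorem RR_mem : D.R * D.R ∈ D.G := by
  rw [← uv_eq D]
  exact mul_mem (u_mem D) (Subgroup.subset_closure (Set.mem_insert_of_mem _ rfl))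

/-- The powers of `R`. -/
theorem R_pow_mulVec (k : ℕ) (x : Vec) :
    mat (D.R ^ k) *ᵥ (B.P *ᵥ x) =
      B.P *ᵥ ![D.s ^ k * (x 0 + k * D.c * x 1), D.s ^ k * x 1, ((D.s ^ q) ^ 2) ^ k * x 2] := by
  induction k generalizing x with
  | zero =>
    rw [pow_zero, mat_one, Matrix.one_mulVec]
    congr 1
    funext i; fin_cases i <;> simp
  | succ k ih =>
    rw [pow_succ', mul_mulVec, ih, R_mulVec, rMat_mulVec]
    congr 1
    funext i
    fin_cases i <;> simp <;> ring

/-- A conjugate of a transvection. -/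
theorem conj_transvection (g t : Cfsg.SU 3 F q) {C : F} {v : Vec}
    (ht : ∀ x, mat t *ᵥ x = x + (C * H x v) • v) (x : Vec) :
    mat (g * t * g⁻¹) *ᵥ x = x + (C * H x (mat g *ᵥ v)) • (mat g *ᵥ v) := by
  obtain ⟨y, rfl⟩ : ∃ y, mat g *ᵥ y = x :=
    ⟨mat g⁻¹ *ᵥ x, by rw [← mul_mulVec, mul_inv_cancel, mat_one, Matrix.one_mulVec]⟩
  rw [mul_mulVec, mul_mulVec, inv_mulVec g rfl, ht, SU_H g, Matrix.mulVec_add, Matrix.mulVec_smul]

end Cfsg.Agent.Classical.SU3Reg
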