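import Mathlib
import Cfsg.Agent.Lib.Forms.DicksonTrace
import Cfsg.Agent.Lib.Forms.DicksonCor
import Cfsg.Agent.Lib.Classical.UnitaryPairGen

/-!
# Three involutions generating `SL₂(2^f)`
-/

set_option autoImplicit false
set_option linter.unusedSectionVars false

namespace Cfsg.Agent.Classical.SU3RegEven

open scoped MatrixGroups
open Cfsg.Agent.Forms
open Cfsg.Agent.Classical.UnitaryPairGen (upper lower upper_val lower_val)

variable {K : Type*} [Field K] [Fintype K] [CharP K 2]

local notation "pr" => Cfsg.Agent.Forms.KleinPSL.pi K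

theorem neg_one_eq : (-1 : SL(2, K)) = 1 := Subtype.ext (by
  rw [Matrix.SpecialLinearGroup.coe_neg, Matrix.SpecialLinearGroup.coe_one]
  ext i j
  simp [CharTwo.neg_eq])

theorem pi_inj {X Y : SL(2, K)} (h : pr X = pr Y) : X = Y := by
  rcases KleinPSL.pi_eq_iff.1 h with h | h
  · exact h
  · rw [h, show -Y = -1 * Y from (neg_one_mul Y).symm, neg_one_eq, one_mul]

theorem sq_one_trace (X : SL(2, K)) (h : pr X * pr X = 1) : X.1.trace = 0 := by
  haveI : Fact (Nat.Prime 2) := ⟨Nat.prime_two⟩
  have h4 : (4 : K) = 0 := by linear_combination (2 : K) * CharTwo.two_eq_zero (R := K)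
  rcases DicksonTrace.trace_two 2 X (by rw [pow_two, h]) with h | h
  · exact h
  · rw [h4] at h
    exact pow_eq_zero_iff two_ne_zero |>.1 h

theorem trace_zero_sq {X : SL(2, K)} (h : X.1.trace = 0) : X * X = 1 := by
  refine Subtype.ext ?_
  rw [Matrix.SpecialLinearGroup.coe_mul, Matrix.SpecialLinearGroup.coe_one]
  have hd := X.2
  rw [Matrix.det_fin_two] at hd
  rw [Matrix.trace_fin_two] at h
  ext i j
  fin_cases i <;> fin_cases j <;> simp [Matrix.mul_apply, Fin.sum_univ_two]
  · linear_combination X.1 0 0 * h - hd - CharTwo.two_eq_zero (R := K)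
  · linear_combination X.1 0 1 * h
  · linear_combination X.1 1 0 * h
  · linear_combination X.1 1 1 * h - hd - CharTwo.two_eq_zero (R := K)

/-- The trace of an element of order dividing `2^a ± 1` lies in the field with `2^a` elements. -/
theorem trace_fixed (X : SL(2, K)) {m a : ℕ} (h : pr X ^ m = 1)
    (hm : m ∣ 2 ^ a + 1 ∨ m ∣ 2 ^ a - 1) : X.1.trace ^ 2 ^ a = X.1.trace := by
  haveI : Fact (Nat.Prime 2) := ⟨Nat.prime_two⟩
  obtain ⟨e, he0, he, ht⟩ := DicksonTrace.exists_eigen 2 X h
  haveI : CharP (AlgebraicClosure K) 2 := charP_of_injective_algebraMap (algebraMap K _).injective 2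
  have hem : e ^ m = 1 := by
    have h0 : (e ^ m - 1) ^ 2 = 0 := by
      linear_combination he + (1 - e ^ m) * CharTwo.two_eq_zero (R := AlgebraicClosure K)
    exact sub_eq_zero.1 (pow_eq_zero_iff two_ne_zero |>.1 h0)
  refine (algebraMap K (AlgebraicClosure K)).injective ?_
  rw [map_pow, ← ht, add_pow_char_pow, inv_pow]
  rcases hm with hk | hk <;> obtain ⟨c, hc⟩ := hk
  · have : e ^ (2 ^ a) * e = 1 := by rw [← pow_succ, hc, pow_mul, hem, one_pow]
    rw [eq_inv_of_mul_eq_one_left this, inv_inv, add_comm]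
  · have : e ^ (2 ^ a) = e := by
      conv_lhs => rw [← Nat.sub_add_cancel Nat.one_le_two_pow, pow_succ, hc, pow_mul, hem, one_pow, one_mul]
    rw [this]

theorem trace_fixed_zero (X : SL(2, K)) (h : pr X ^ 2 = 1) (a : ℕ) :
    X.1.trace ^ 2 ^ a = X.1.trace := by
  rw [sq_one_trace X (by rw [← pow_two, h]), zero_pow (Nat.pos_iff_ne_zero.1 (Nat.two_pow_pos a))]

theorem toPGL_surjective (k : Type*) [Field k] [Fintype k] [CharP k 2] :
    Function.Surjective (Matrix.ProjectiveSpecialLinearGroup.toPGL (n := Fin 2) (R := k)) := by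
  intro g
  obtain ⟨A, rfl⟩ := Matrix.ProjGenLinGroup.mk_surjective g
  obtain ⟨r, hr⟩ := FiniteField.isSquare_of_char_two (ringChar.eq k 2) (A.det : k)
  have hr0 : r ≠ 0 := fun h => by rw [h, mul_zero] at hr; exact A.det.ne_zero hr
  let X : SL(2, k) := ⟨r⁻¹ • (A : Matrix (Fin 2) (Fin 2) k), by
    have hA : (A : Matrix (Fin 2) (Fin 2) k).det = r * r := hr
    rw [Matrix.det_smul, Fintype.card_fin, hA]
    field_simp⟩
  refine ⟨KleinPSL.pi k X, ?_⟩
  rw [KleinPSL.pi, QuotientGroup.mk'_apply, Matrix.ProjectiveSpecialLinearGroup.toPGL_mk]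
  refine Matrix.ProjGenLinGroup.mk_eq_mk_iff.2 ⟨Units.mk0 r hr0, ?_⟩
  ext i j
  simp [X, Matrix.SpecialLinearGroup.toGL]
  field_simp

theorem alt4_exp : ∀ g : alternatingGroup (Fin 4), g ^ 2 = 1 ∨ g ^ 3 = 1 := by decide +kernel

theorem sym4_exp : ∀ g : Equiv.Perm (Fin 4), g ^ 4 = 1 ∨ g ^ 3 = 1 := by decide +kernel

theorem alt5_exp : ∀ g : alternatingGroup (Fin 5), g ^ 2 = 1 ∨ g ^ 3 = 1 ∨ g ^ 5 = 1 := by decide +kernel

theorem closure_three_eq_top {f : ℕ} (hK : Fintype.card K = 2 ^ f) (hf : 2 ≤ f) {L : K} (hL : L ≠ 0)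
    {M : SL(2, K)} (hM : M.1.trace = 0) (hM0 : M.1 1 0 ≠ 0)
    (htriple : (upper L * lower 1 * M).1.trace ≠ 0)
    (hfix : ∀ a, 0 < a → a < f → L ^ 2 ^ a = L →
      (upper L * M).1.trace ^ 2 ^ a = (upper L * M).1.trace → False) :
    Subgroup.closure ({upper L, lower 1, M} : Set SL(2, K)) = ⊤ := by
  classical
  haveI : Fact (Nat.Prime 2) := ⟨Nat.prime_two⟩
  set G := Subgroup.closure ({upper L, lower 1, M} : Set SL(2, K)) with hGdef
  have hAG : upper L ∈ G := Subgroup.subset_closure (by simp)
  have hBG : lower (1 : K) ∈ G := Subgroup.subset_closure (by simp)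
  have hMG : M ∈ G := Subgroup.subset_closure (by simp)
  set H := G.map pr with hH
  have hmem : ∀ {X}, X ∈ G → pr X ∈ H := fun hX => ⟨_, hX, rfl⟩
  have h20 : (2 : K) = 0 := CharTwo.two_eq_zero
  have goalTop : H = ⊤ → G = ⊤ := fun h => eq_top_iff.2 fun g _ => by
    have hm : pr g ∈ H := h ▸ Subgroup.mem_top _
    obtain ⟨g', hg', e⟩ := hm
    exact pi_inj e ▸ hg'
  have htAB : (upper L * lower 1).1.trace = L := by
    rw [Matrix.SpecialLinearGroup.coe_mul, upper_val, lower_val]
    simp [Matrix.trace_fin_two]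
    linear_combination h20
  have hcom : upper L * lower 1 ≠ lower 1 * upper L := fun h => by
    have := congrFun (congrFun (congrArg Subtype.val h) 0) 0
    simp [upper_val, lower_val] at this
    exact hL this
  have hsq : ∀ X : SL(2, K), X.1.trace = 0 → ∀ hX : X ∈ G, (⟨pr X, hmem hX⟩ : H) * ⟨pr X, hmem hX⟩ = 1 :=
    fun X h hX => Subtype.ext (by
      show pr X * pr X = 1
      rw [← map_mul, trace_zero_sq h, map_one])
  have hA0 : (upper L).1.trace = 0 := by simp [upper_val, Matrix.trace_fin_two]; linear_combination h20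
  have hB0 : (lower (1 : K)).1.trace = 0 := by simp [lower_val, Matrix.trace_fin_two]; linear_combination h20
  have hsmall : ∀ a, 0 < a → (∀ g : H, g ^ 2 = 1 ∨ ∃ m, g ^ m = 1 ∧ (m ∣ 2 ^ a + 1 ∨ m ∣ 2 ^ a - 1)) →
      f ≤ a := by
    intro a ha h
    by_contra hlt
    have key : ∀ X ∈ G, X.1.trace ^ 2 ^ a = X.1.trace := by
      intro X hX
      rcases h ⟨pr X, hmem hX⟩ with e | ⟨m, e, hm⟩
      · exact trace_fixed_zero X (congrArg Subtype.val e) a
      · exact trace_fixed X (congrArg Subtype.val e) hm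
    refine hfix a ha (not_le.1 hlt) ?_ (key _ (mul_mem hAG hMG))
    have := key _ (mul_mem hAG hBG)
    rwa [htAB] at this
  have hcard := DicksonCor.gcd_mul_natCard (F := K)
  have hg1 : Nat.gcd 2 (Fintype.card K - 1) = 1 := by
    rw [hK]
    refine (Nat.coprime_two_left.2 ?_)
    exact Nat.Even.sub_odd Nat.one_le_two_pow (Nat.even_pow.2 ⟨even_two, by omega⟩) odd_one
  rw [hg1, one_mul] at hcard
  rcases DicksonList.classify 2 H with ⟨g, -, hg, h⟩ | ⟨x, -, hfx⟩ | ⟨⟨e⟩⟩ | ⟨⟨e⟩⟩ | ⟨⟨e⟩⟩ |
      ⟨k, ik, fk, m, hm, h⟩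
  · exfalso
    rcases h with ⟨hc, -⟩ | ⟨⟨e⟩⟩
    · obtain ⟨c, hc⟩ := IsCyclic.exists_generator (α := H)
      obtain ⟨i, hi⟩ := hc ⟨pr (upper L), hmem hAG⟩
      obtain ⟨j, hj⟩ := hc ⟨pr (lower 1), hmem hBG⟩
      refine hcom (pi_inj ?_)
      have := (Commute.zpow_zpow (Commute.refl c) i j).eq
      rw [show c ^ i = _ from hi, show c ^ j = _ from hj] at this
      rw [map_mul, map_mul]
      exact congrArg Subtype.val this
    · set k := orderOf g
      have hodd : Odd k := Nat.odd_iff.2 (Nat.two_dvd_ne_zero.1 hg)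
      haveI : NeZero k := ⟨hodd.pos.ne'⟩
      have hrefl : ∀ X : SL(2, K), X.1.trace = 0 → X ≠ 1 → ∀ hX : X ∈ G,
          ∃ i, e ⟨pr X, hmem hX⟩ = DihedralGroup.sr i := by
        intro X h0 h1 hX
        have hx := congrArg e (hsq X h0 hX)
        rw [map_mul, map_one] at hx
        cases hr : e ⟨pr X, hmem hX⟩ with
        | sr i => exact ⟨i, rfl⟩
        | r i =>
          exfalso
          rw [hr, DihedralGroup.r_mul_r, DihedralGroup.one_def, DihedralGroup.r.injEq] at hx
          have hi : i = 0 := by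
            obtain ⟨u, hu⟩ : IsUnit ((2 : ℕ) : ZMod k) :=
              (ZMod.isUnit_iff_coprime 2 k).2 (Nat.coprime_two_left.2 hodd)
            refine u.mul_right_inj.1 ?_
            rw [hu, mul_zero, Nat.cast_two, two_mul, hx]
          rw [hi, ← DihedralGroup.one_def, ← e.map_one] at hr
          exact h1 (pi_inj ((congrArg Subtype.val (e.injective hr)).trans (map_one _).symm))
      obtain ⟨i, hi⟩ := hrefl _ hA0 (fun h => hL (by
        simpa [upper_val] using congrFun (congrFun (congrArg Subtype.val h) 0) 1)) hAG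
      obtain ⟨j, hj⟩ := hrefl _ hB0 (fun h => by
        simpa [lower_val] using congrFun (congrFun (congrArg Subtype.val h) 1) 0) hBG
      obtain ⟨l, hl⟩ := hrefl _ hM (fun h => hM0 (by rw [h]; rfl)) hMG
      refine htriple (sq_one_trace _ ?_)
      set X : H := ⟨pr (upper L), hmem hAG⟩ * ⟨pr (lower 1), hmem hBG⟩ * ⟨pr M, hmem hMG⟩ with hX
      have : X * X = 1 := e.injective (by
        rw [map_mul, map_one, hX, map_mul, map_mul, hi, hj, hl, DihedralGroup.sr_mul_sr,
          DihedralGroup.r_mul_sr, DihedralGroup.sr_mul_self])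
      simp only [map_mul]
      exact congrArg Subtype.val this
  · exfalso
    have hA := hfx _ (hmem hAG)
    have hB := hfx _ (hmem hBG)
    cases x with
    | infty =>
      rw [DicksonAction.smul_infty_iff] at hB
      simp [lower_val] at hB
    | coe w =>
      rw [DicksonAction.smul_coe_iff] at hA
      simp [upper_val] at hA
      exact hL hA
  · exfalso
    have := hsmall 1 one_pos fun g => by
      rcases alt4_exp (e g) with h | h <;> rw [← map_pow, ← e.map_one] at h
      · exact Or.inl (e.injective h)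
      · exact Or.inr ⟨3, e.injective h, Or.inl (by norm_num)⟩
    omega
  · exfalso
    have := hsmall 1 one_pos fun g => by
      rcases sym4_exp (e g) with h | h <;> rw [← map_pow, ← e.map_one] at h
      · left
        have hh : (g : Matrix.ProjectiveSpecialLinearGroup (Fin 2) K) ^ 4 = 1 :=
          congrArg Subtype.val (e.injective h)
        obtain ⟨X, hX⟩ := KleinPSL.pi_surjective (g : Matrix.ProjectiveSpecialLinearGroup (Fin 2) K)
        refine Subtype.ext ?_
        show (g : Matrix.ProjectiveSpecialLinearGroup (Fin 2) K) ^ 2 = 1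
        rw [← hX, ← map_pow] at hh ⊢
        have h2 := sq_one_trace (X ^ 2) (by rw [← map_mul, ← pow_add]; exact hh)
        have hX0 : X.1.trace = 0 := by
          rw [Matrix.SpecialLinearGroup.coe_pow, pow_two, Matrix.trace_fin_two] at h2
          simp [Matrix.mul_apply, Fin.sum_univ_two] at h2
          have hd := X.2
          rw [Matrix.det_fin_two] at hd
          refine pow_eq_zero_iff two_ne_zero |>.1 ?_
          rw [Matrix.trace_fin_two]
          linear_combination h2 + 2 * hd + h20
        rw [pow_two, trace_zero_sq hX0, map_one]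
      · exact Or.inr ⟨3, e.injective h, Or.inl (by norm_num)⟩
    omega
  · have := hsmall 2 two_pos fun g => by
      rcases alt5_exp (e g) with h | h | h <;> rw [← map_pow, ← e.map_one] at h
      · exact Or.inl (e.injective h)
      · exact Or.inr ⟨3, e.injective h, Or.inr (by norm_num)⟩
      · exact Or.inr ⟨5, e.injective h, Or.inl (by norm_num)⟩
    refine goalTop (H.eq_top_of_card_eq ?_)
    rw [Nat.card_congr e.toEquiv, nat_card_alternatingGroup, Nat.card_fin]
    rw [hK, show f = 2 by omega] at hcard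
    rw [hcard]
    rfl
  · obtain ⟨r, hkc⟩ := CharP.exists k
    haveI hr : Fact r.Prime := ⟨CharP.char_is_prime k r⟩
    obtain ⟨a, -, ha⟩ := FiniteField.card k r
    have hr2 : r = 2 := by
      have hd : r ∣ 2 ^ f := by
        rw [← hK, ← hm, ha, ← pow_mul]
        rcases Nat.eq_zero_or_pos m with rfl | hm0
        · rw [pow_zero, hK] at hm
          exact absurd hm.symm (Nat.one_lt_two_pow (by omega)).ne'
        · exact dvd_pow_self r (Nat.mul_pos a.pos hm0).ne'
      exact (Nat.prime_dvd_prime_iff_eq hr.out Nat.prime_two).1 (hr.out.dvd_of_dvd_pow hd)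
    subst hr2
    obtain ⟨e⟩ : Nonempty (H ≃* Matrix.ProjectiveSpecialLinearGroup (Fin 2) k) := by
      rcases h with h | h
      · exact h
      · obtain ⟨e⟩ := h
        exact ⟨e.trans (MulEquiv.ofBijective _
          ⟨Matrix.ProjectiveSpecialLinearGroup.toPGL_injective, toPGL_surjective k⟩).symm⟩
    have hk1 : Nat.gcd 2 (Fintype.card k - 1) = 1 := by
      rw [ha]
      exact Nat.coprime_two_left.2
        (Nat.Even.sub_odd Nat.one_le_two_pow (Nat.even_pow.2 ⟨even_two, a.ne_zero⟩) odd_one)
    have hfa := hsmall a a.pos fun g => by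
      by_cases hc : 2 ∣ orderOf (e g)
      · left
        have h2 := (DicksonAction.twoPt (F := k) 2).orderOf_eq hc
        rw [← e.injective.eq_iff, map_pow, map_one]
        have h3 := pow_orderOf_eq_one (e g)
        rwa [h2] at h3
      · right
        have hd := DicksonList.order_dvd 2 (e g) hc
        rw [hk1, Nat.div_one, Nat.div_one, ha] at hd
        exact ⟨orderOf (e g), e.injective (by rw [map_pow, map_one, pow_orderOf_eq_one]), hd⟩
    refine goalTop (H.eq_top_of_card_eq ?_)
    have hkK : Fintype.card k = Fintype.card K := by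
      refine le_antisymm ?_ ?_
      · rw [← hm]
        refine Nat.le_self_pow (fun h0 => ?_) _
        rw [h0, pow_zero, hK] at hm
        exact (Nat.one_lt_two_pow (by omega)).ne' hm.symm
      · rw [hK, ha]
        exact Nat.pow_le_pow_right two_pos hfa
    have hk := DicksonCor.gcd_mul_natCard (F := k)
    rw [hk1, one_mul, hkK, ← hcard, ← Nat.card_congr e.toEquiv] at hk
    exact hk

end Cfsg.Agent.Classical.SU3RegEven
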