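import Mathlib
import Cfsg.Agent.Lib.Classical.SU3RegModel
import Cfsg.Agent.Lib.Classical.SU3RegEvenSL
import Cfsg.Agent.Lib.Classical.PSUThreeSpectrum
import Cfsg.Agent.Lib.Classical.UnitaryCount
import Cfsg.Agent.Lib.Classical.UnitaryTwo

/-!
# `SU₃(2^f)`, `f ≥ 2`, is generated by two conjugate regular unipotent elements
-/

set_option autoImplicit false
set_option linter.unusedSectionVars false

namespace Cfsg.Agent.Classical.SU3RegEven

open Matrix
open scoped MatrixGroups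
open Cfsg.Agent.Forms
open Cfsg.Agent.Classical.Unitary
open Cfsg.Agent.Classical.UnitaryTwoGen
open Cfsg.Agent.Classical.SU3Reg
open Cfsg.Agent.Classical.UnitaryPairGen

variable {F : Type*} [Field F] [Fintype F] {q : ℕ}

local notation "Vec" => (Fin 3 → F)
local notation "H" => Cfsg.hermForm 3 F q

/-- The square of a regular unipotent element in characteristic two is a transvection. -/
theorem sq_transvection (hF : Fintype.card F = q ^ 2) (h20 : (2 : F) = 0) {u : Cfsg.SU 3 F q} {a : Vec}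
    (hu : (mat u - 1) ^ 3 = 0) (hu2 : (mat u - 1) ^ 2 ≠ 0)
    (hfix : ∀ y, mat u *ᵥ y = y → ∃ c : F, y = c • a) :
    H a a = 0 ∧ ∃ C : F, C ^ q = C ∧ ∀ y, mat (u * u) *ᵥ y = y + (C * H y a) • a := by
  classical
  set N := mat u - 1 with hN
  have hNy : ∀ y, N *ᵥ y = mat u *ᵥ y - y := fun y => by rw [hN, Matrix.sub_mulVec, Matrix.one_mulVec]
  have hfixN : ∀ y, mat u *ᵥ (N ^ 2 *ᵥ y) = N ^ 2 *ᵥ y := fun y => by
    refine sub_eq_zero.1 ?_
    rw [← hNy, Matrix.mulVec_mulVec, ← pow_succ', hu, Matrix.zero_mulVec]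
  choose φ hφ using fun y => hfix _ (hfixN y)
  have hsq : ∀ y, mat (u * u) *ᵥ y = y + φ y • a := fun y => by
    have e := hφ y
    rw [pow_two, ← Matrix.mulVec_mulVec, hNy y, Matrix.mulVec_sub, hNy, hNy] at e
    rw [← e, mul_mulVec]
    funext i
    simp
    linear_combination (mat u *ᵥ y) i * h20 - y i * h20
  obtain ⟨x, hx⟩ : ∃ x, φ x ≠ 0 := by
    by_contra hall
    push Not at hall
    exact hu2 (Matrix.ext_of_mulVec_single fun i => by rw [hφ, hall, zero_smul, Matrix.zero_mulVec])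
  have ha0 : a ≠ 0 := fun h0 => hu2 (Matrix.ext_of_mulVec_single fun i => by
    rw [hφ, h0, smul_zero, Matrix.zero_mulVec])
  have haa : H a a = 0 := by
    have e1 : H (N ^ 2 *ᵥ x) (N *ᵥ (N *ᵥ x)) = 0 := by
      rw [hNy (N *ᵥ x), H_sub_right hF]
      conv_lhs => arg 1; rw [← hfixN x, SU_H]
      exact sub_self _
    rw [Matrix.mulVec_mulVec, ← pow_two, hφ, H_smul_left, H_smul_right] at e1
    exact ((mul_eq_zero.1 e1).resolve_left hx |> mul_eq_zero.1).resolve_left (pow_ne_zero _ hx)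
  obtain ⟨i, hi⟩ := Function.ne_iff.1 ha0
  simp only [Pi.zero_apply] at hi
  set z₀ : Vec := Pi.single i (((a i)⁻¹) ^ q) with hz₀
  have haz : H a z₀ = 1 := by
    rw [hz₀]
    simp [Cfsg.hermForm, Pi.single_apply, ite_pow, zero_pow (q_ne_zero hF), pow_qq hF, hi]
  have hlin : ∀ y z, φ z ^ q * H y a + φ y * H a z = 0 := fun y z => by
    have := SU_H (u * u) y z
    rw [hsq, hsq] at this
    simp only [H_add_left, H_add_right hF, H_smul_left, H_smul_right, haa, mul_zero, add_zero] at this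
    linear_combination this
  have hC : ∀ y, φ y = φ z₀ ^ q * H y a := fun y => by
    have := hlin y z₀
    rw [haz, mul_one] at this
    linear_combination this - φ z₀ ^ q * H y a * h20
  have hza : H z₀ a = 1 := by rw [← H_conj hF, haz, one_pow]
  refine ⟨haa, φ z₀ ^ q, ?_, fun y => by rw [hsq, hC]⟩
  have := hC z₀
  rw [hza, mul_one] at this
  rw [← this]
  exact this.symm

/-- The identities in `s` and `s⁻¹`. -/
theorem ident (h20 : (2 : F) = 0) {s sb : F} (hssb : s * sb = 1) :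
    (s ^ 4 + sb ^ 2) * (sb ^ 4 + s ^ 2) = s ^ 6 + sb ^ 6 ∧
      sb ^ 2 * (s ^ 4 + sb ^ 2) ^ 2 = s ^ 6 + sb ^ 6 ∧
      s ^ 2 * (sb ^ 4 + s ^ 2) ^ 2 = s ^ 6 + sb ^ 6 := by
  refine ⟨?_, ?_, ?_⟩
  · linear_combination ((s * sb + 1) * (s ^ 2 * sb ^ 2 + 2)) * hssb + h20
  · linear_combination s ^ 6 * (s * sb + 1) * hssb + sb ^ 4 * s ^ 4 * h20
  · linear_combination sb ^ 6 * (s * sb + 1) * hssb + s ^ 4 * sb ^ 4 * h20

set_option maxHeartbeats 1600000 in
theorem exists_pair_even (hF : Fintype.card F = q ^ 2) (h20 : (2 : F) = 0) (hq : 3 ≤ q) :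
    ∃ u g : Cfsg.SU 3 F q, (IsNilpotent (mat u - 1) ∧ (mat u - 1) ^ (3 - 1) ≠ 0) ∧
      Subgroup.closure ({u, g * u * g⁻¹} : Set (Cfsg.SU 3 F q)) = ⊤ := by
  classical
  obtain ⟨p, hpF⟩ := CharP.exists F
  obtain ⟨m, hpp, hm⟩ := FiniteField.card F p
  have hp2 : p = 2 := (Nat.prime_dvd_prime_iff_eq hpp Nat.prime_two).1
    ((CharP.cast_eq_zero_iff F p 2).1 (by exact_mod_cast h20))
  subst hp2
  haveI : Fact (Nat.Prime 2) := ⟨Nat.prime_two⟩
  obtain ⟨f, -, hqf⟩ := (Nat.dvd_prime_pow hpp).1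
    (show q ∣ 2 ^ (m : ℕ) by rw [← hm, hF]; exact dvd_pow_self q two_ne_zero)
  have hf : 2 ≤ f := by
    by_contra h
    have : q ≤ 2 ^ 1 := hqf ▸ Nat.pow_le_pow_right two_pos (by omega)
    omega
  obtain ⟨s, hs0, hos⟩ := PSUThree.exists_norm_one_order hF
  have hs : s ^ (q + 1) = 1 := by rw [← hos]; exact pow_orderOf_eq_one s
  set sb := s⁻¹ with hsb
  have hsq : s ^ q = sb := eq_inv_of_mul_eq_one_left (by rw [← pow_succ, hs])
  have hssb : s * sb = 1 := mul_inv_cancel₀ hs0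
  have hqeven : q % 2 = 0 := by
    obtain ⟨j, rfl⟩ := Nat.exists_eq_add_of_le hf
    rw [hqf, add_comm, pow_add]; omega
  have hord : ∀ k, 0 < k → s ^ k = 1 → q + 1 ∣ k := fun k _ h => hos ▸ orderOf_dvd_of_pow_eq_one h
  set x := s + sb with hx
  set φ := HermStd.qHom hF with hφ
  have hφs : φ s = sb := by rw [hφ, HermStd.qHom_apply, hsq]
  have hφsb : φ sb = s := by rw [hsb, map_inv₀, hφs, hsb, inv_inv]
  have hφx : φ x = x := by rw [hx, map_add, hφs, hφsb, add_comm]
  have hx0 : x ≠ 0 := fun h => by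
    have : s ^ 2 = 1 := by linear_combination s * h - hssb - h20
    exact absurd (Nat.le_of_dvd two_pos (hord 2 two_pos this)) (by omega)
  have hx1 : x + 1 ≠ 0 := fun h => by
    have : s ^ 3 = 1 := by linear_combination (s - 1) * (s * h - hssb)
    exact absurd (Nat.le_of_dvd three_pos (hord 3 three_pos this)) (by omega)
  set c := x / (x + 1) with hc
  set n := x ^ 2 / (x + 1) ^ 2 with hn
  have hn1 : n * (x + 1) ^ 2 = x ^ 2 := div_mul_cancel₀ _ (pow_ne_zero 2 hx1)
  have hc1 : c * (x + 1) = x := div_mul_cancel₀ _ hx1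
  have hφn : φ n = n := by rw [hn]; simp [hφx]
  have hφc : φ c = c := by rw [hc]; simp [hφx]
  have hnne : n ≠ 0 := div_ne_zero (pow_ne_zero 2 hx0) (pow_ne_zero 2 hx1)
  have hn11 : 1 + n ≠ 0 := fun h => one_ne_zero (α := F) (by
    linear_combination (x + 1) ^ 2 * h - hn1 - (x + x ^ 2) * h20)
  have key1 : s * (n + c) + sb ^ 2 * (1 + n) = 1 := by
    refine mul_left_cancel₀ (pow_ne_zero 2 hx1) ?_
    linear_combination (s + sb ^ 2) * hn1 + s * (x + 1) * hc1 - hssb +
      (-1 - x + x ^ 2 * s + sb ^ 2 * (x + x ^ 2)) * h20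
  have key2 : sb ^ 4 * (1 + n) + sb ^ 2 * n = 1 + n := by
    refine mul_left_cancel₀ (pow_ne_zero 2 hx1) ?_
    linear_combination (sb ^ 4 + sb ^ 2 - 1) * hn1 + (s * sb + 1 + 2 * sb ^ 2) * hssb +
      (sb ^ 4 + sb ^ 2 + (sb ^ 4 - 1) * (x + x ^ 2)) * h20
  obtain ⟨γ, hγ⟩ := UnitaryCount.exists_norm_eq' hF (μ := n) (by
    rw [← HermStd.qHom_apply hF, ← hφ, hφn])
  obtain ⟨α, hα⟩ := exists_trace_eq hF (c := n) (by rw [← HermStd.qHom_apply hF, ← hφ, hφn])
  have hγ' : γ * γ ^ q = n := by rw [← pow_succ', hγ]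
  obtain ⟨B⟩ := exists_coord hF
  let D : Datum B :=
    { s := s, c := c, ε := 1, d := 1, α := α, γ := γ
      hs := hs
      hc := by
        rw [← HermStd.qHom_apply hF, ← hφ, hφc]
        linear_combination c * h20
      hε := one_pow 2
      hεq := one_pow q
      hd := one_pow q
      hN := by rw [hα, hγ']; linear_combination (1 + n) * h20
      hdet := by rw [hα, hγ']; linear_combination n * h20
      h1 := sub_ne_zero.2 fun h => by
        rw [h, orderOf_one] at hos; omega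
      h2 := sub_ne_zero.2 fun h => by
        rw [hsq] at h
        have : s ^ 2 = 1 := by linear_combination (-s ^ 2) * h + (s * sb + 1) * hssb
        exact absurd (Nat.le_of_dvd two_pos (hord 2 two_pos this)) (by omega)
      htr := by
        rw [hα, hγ', hsq]
        linear_combination key1 + (s - 1) * h20 }
  refine ⟨D.u, D.h, u_regular D, ?_⟩
  show D.G = ⊤
  set a : Fin 3 → F := B.P *ᵥ D.a with ha
  obtain ⟨haa, C, hCq, hut⟩ := sq_transvection hF h20 (u_cube D) (u_sq_ne D) (u_fix D)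
  rw [← ha] at haa hut
  set a₀ := D.a 0
  set a₁ := D.a 1
  set a₂ := D.a 2
  set N2 := a₂ * a₂ ^ q with hN2
  -- the value of the scalar of the transvection
  have hCN : C * N2 = n := by
    set m : Fin 3 → F := B.P *ᵥ ![0, 0, 1] with hm
    have e1 : H (mat (D.u * D.u) *ᵥ m) m = 1 + C * N2 := by
      rw [hut, H_add_left, H_smul_left, hm, ha, B.form, B.form, B.form]
      simp [hj, zero_pow (q_ne_zero hF), hN2]
      ring
    have e2 : H (mat (D.u * D.u) *ᵥ m) m = 1 + n := by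
      rw [mul_mulVec, hm, u_mulVec, u_mulVec, B.form, hMat_mulVec hF, hMat_mulVec hF, hj_wVec hF,
        hj_wVec hF, rMat_mulVec, rMat_mulVec]
      simp [D, hj, wVec, zero_pow (q_ne_zero hF), hsq]
      linear_combination key2 + sb ^ 2 * γ * γ ^ q * key1 + (sb ^ 4 + sb ^ 2) * hγ' +
        sb ^ 2 * γ * γ ^ q * (s * hα + sb ^ 2 * hγ')
    linear_combination e1.symm.trans e2
  have hC0 : C ≠ 0 := fun h => hnne (by rw [← hCN, h, zero_mul])
  have hN20 : N2 ≠ 0 := fun h => hnne (by rw [← hCN, h, mul_zero])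
  have hhaa : a₀ * a₁ ^ q + a₁ * a₀ ^ q = N2 := by
    have := haa
    rw [ha, B.form, hj] at this
    linear_combination this - N2 * h20
  set X6 := s ^ 6 + sb ^ 6 with hX6
  obtain ⟨hAA, hA2, hA2'⟩ := ident h20 hssb
  rw [← hX6] at hAA hA2 hA2'
  have hX60 : X6 ≠ 0 := fun h => by
    have e : s ^ 12 = 1 := by
      linear_combination s ^ 6 * h -
        (s * sb + 1) * (s ^ 4 * sb ^ 4 + s ^ 2 * sb ^ 2 + 1) * hssb - h20
    have h12 := hord 12 (by norm_num) e
    have hle := Nat.le_of_dvd (by norm_num) h12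
    have hodd : (q + 1) % 2 = 1 := by omega
    have hq' : q = 4 ∨ q = 6 ∨ q = 8 ∨ q = 10 := by omega
    rcases hq' with e' | e' | e' | e' <;> rw [e'] at h12 <;> norm_num at h12
  set W := D.R * D.R with hW
  have hWG : W ∈ D.G := RR_mem D
  have hWv : ∀ z : Fin 3 → F, mat W *ᵥ (B.P *ᵥ z) = B.P *ᵥ ![s ^ 2 * z 0, s ^ 2 * z 1, sb ^ 4 * z 2] := by
    intro z
    rw [hW, ← pow_two, R_pow_mulVec]
    congr 1
    funext i
    fin_cases i <;> simp [D, hsq, h20, ← pow_mul]
  set b := mat W *ᵥ a with hb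
  set t := D.u * D.u with ht
  have htG : t ∈ D.G := mul_mem (u_mem D) (u_mem D)
  set t' := W * t * W⁻¹ with ht'
  have ht'G : t' ∈ D.G := mul_mem (mul_mem hWG htG) (inv_mem hWG)
  have ht'v : ∀ y, mat t' *ᵥ y = y + (C * H y b) • b := fun y => conj_transvection W t hut y
  set t3 := W * t' * W⁻¹ with ht3
  have ht3G : t3 ∈ D.G := mul_mem (mul_mem hWG ht'G) (inv_mem hWG)
  have ht3v : ∀ y, mat t3 *ᵥ y = y + (C * H y (mat W *ᵥ b)) • (mat W *ᵥ b) :=
    fun y => conj_transvection W t' ht'v y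
  have hbb : H b b = 0 := by rw [hb, SU_H, haa]
  have hW2 : mat W *ᵥ b = sb ^ 2 • a + (s ^ 2 + sb ^ 4) • b := by
    rw [hb, ha, hWv, hWv, ← Matrix.mulVec_smul, ← Matrix.mulVec_smul, ← Matrix.mulVec_add]
    congr 1
    funext i
    fin_cases i <;> simp
    · linear_combination (-(sb ^ 2 * D.a 0)) * ((s * sb + 1) * hssb + h20)
    · linear_combination (-(sb ^ 2 * D.a 1)) * ((s * sb + 1) * hssb + h20)
    · linear_combination (-(sb ^ 2 * D.a 2)) * ((s * sb + 1) * hssb + h20)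
  have hN2q : N2 ^ q = N2 := by rw [hN2, mul_pow, pow_qq hF, mul_comm]
  set A := s ^ 4 + sb ^ 2 with hA
  set A' := sb ^ 4 + s ^ 2 with hA'
  have hab : H a b = N2 * A := by
    rw [hb, ha, hWv, B.form]
    have e1 : (s ^ 2) ^ q = sb ^ 2 := by rw [pow_right_comm, hsq]
    have e2 : (sb ^ 4) ^ q = s ^ 4 := by
      rw [pow_right_comm, ← HermStd.qHom_apply hF sb, ← hφ, hφsb]
    simp [hj, mul_pow, e1, e2, hN2, hA]
    linear_combination sb ^ 2 * hhaa
  have hφA : A ^ q = A' := by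
    rw [← HermStd.qHom_apply hF, ← hφ, hA, map_add, map_pow, map_pow, hφs, hφsb, hA']
  have hab0 : H a b ≠ 0 := by
    rw [hab]; exact mul_ne_zero hN20 fun h => hX60 (by rw [← hAA, h, zero_mul])
  have hCC : C + C ^ q = 0 := by rw [hCq]; linear_combination C * h20
  let K := fixField hF
  have hι : ∀ y, y ∈ Set.range K.subtype ↔ y ^ q = y := fun y =>
    ⟨fun ⟨z, hz⟩ => hz ▸ z.2, fun hy => ⟨⟨y, hy⟩, rfl⟩⟩
  obtain ⟨P, L, hPe, ⟨k, hk0, hkf⟩, hPL, hup, hlow⟩ :=
    exists_frame hF (ι := K.subtype) hι haa hbb hab0 hCC hCC hC0 hut ht'v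
  have hk : k = N2 * A' := by
    have e : H a b = k ^ q := by rw [hkf, H_smul_right, ← hPe, P.hef, mul_one]
    rw [← pow_qq hF k, ← e, hab, mul_pow, hN2q, hφA]
  have hτ : P.τ = C * N2 ^ 2 * X6 := by
    have e1 := planeHom_lower P 1 P.e
    rw [hlow, ht'v, map_one, one_mul, P.hef, mul_one, hPe, hab, hkf, smul_smul, hk,
      add_right_inj] at e1
    have hf0 : P.f ≠ 0 := fun h => by
      have := P.hef
      rw [h, H_zero_right hF] at this
      exact zero_ne_one this
    rw [← smul_left_injective F hf0 e1, ← hAA]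
    ring
  have hιL : P.ι L = n ^ 2 * X6 := by
    rw [hPL, pow_succ, hab, mul_pow, hN2q, hφA, ← hCN, ← hAA]
    ring
  have hφX6 : X6 ^ q = X6 := by
    rw [← HermStd.qHom_apply hF, ← hφ, hX6, map_add, map_pow, map_pow, hφs, hφsb, add_comm]
  have hnq : n ^ q = n := by rw [← HermStd.qHom_apply hF, ← hφ, hφn]
  obtain ⟨m00, hm00⟩ := exists_ι P (x := 1 + n * X6) (by
    rw [HermStd.add_pow_q hF, mul_pow, one_pow, hnq, hφX6])
  obtain ⟨m10, hm10⟩ := exists_ι P (x := X6) hφX6
  haveI : Fintype K := Fintype.ofFinite _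
  haveI : CharP K 2 := (RingHom.charP_iff_charP K.subtype 2).2 hpF
  let M : SL(2, K) := ⟨!![m00, L; m10, m00], by
    rw [Matrix.det_fin_two_of]
    refine P.ι.injective ?_
    rw [map_sub, map_mul, map_mul, map_one, hm00, hm10, hιL]
    linear_combination n * X6 * h20⟩
  have hk' : (s ^ 2 + sb ^ 4) * k = N2 * A' ^ 2 := by rw [hk, hA']; ring
  have hM : planeHom P M = t3 := SU_ext fun y => by
    rw [planeHom_mulVec, ht3v, hW2, hkf, ← hPe, smul_smul, hk']
    show y + (H y P.f • ((P.ι m00 - 1) • P.e + (P.ι m10 * P.τ) • P.f) +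
      H y P.e • ((P.ι L * P.τ⁻¹) • P.e + (P.ι m00 - 1) • P.f)) = _
    have hpq : (sb ^ 2) ^ q = s ^ 2 := by
      rw [pow_right_comm, ← HermStd.qHom_apply hF sb, ← hφ, hφsb]
    have hrq : (N2 * A' ^ 2) ^ q = N2 * A ^ 2 := by
      rw [← HermStd.qHom_apply hF, map_mul, map_pow, HermStd.qHom_apply, HermStd.qHom_apply, hN2q,
        ← hφA, pow_qq hF]
    rw [hm00, hm10, hιL, hτ, H_add_right hF, H_smul_right, H_smul_right, hpq, hrq]
    rw [add_right_inj]
    match_scalars
    · field_simp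
      rw [← hCN]
      linear_combination (-(C ^ 2 * N2 ^ 3)) * H y P.f * hA2 - C ^ 2 * N2 ^ 2 * H y P.e * (s * sb + 1) * hssb
    · rw [← hCN]
      linear_combination (-(C * N2)) * H y P.e * hA2' -
        C * N2 ^ 2 * H y P.f * (A * A' + X6) * hAA
  have hkey : ∀ a', 0 < a' → a' < f → L ^ 2 ^ a' = L →
      (UnitaryPairGen.upper L * M).1.trace ^ 2 ^ a' = (UnitaryPairGen.upper L * M).1.trace → False := by
    intro a' ha0' haf e1 e2
    set ψ := iterateFrobenius F 2 a' with hψ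
    have e1' : ψ (n ^ 2 * X6) = n ^ 2 * X6 := by
      rw [hψ, iterateFrobenius_def, ← hιL, ← map_pow, e1]
    have e2' : ψ (n ^ 2 * X6 * X6) = n ^ 2 * X6 * X6 := by
      have ht : P.ι (UnitaryPairGen.upper L * M).1.trace = n ^ 2 * X6 * X6 := by
        rw [Matrix.SpecialLinearGroup.coe_mul, upper_val]
        simp [M, Matrix.trace_fin_two]
        erw [hm00, hm10, hιL]
        linear_combination (1 + n * X6) * h20
      rw [hψ, iterateFrobenius_def, ← ht, ← map_pow, e2]
    rw [map_mul, e1'] at e2'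
    have hX : ψ X6 = X6 := mul_left_cancel₀ (mul_ne_zero (pow_ne_zero 2 hnne) hX60) e2'
    rw [map_mul, hX, map_pow] at e1'
    have hnn : ψ n ^ 2 = n ^ 2 := mul_right_cancel₀ hX60 e1'
    have hxx : ψ x ^ 2 = x ^ 2 := by
      have h1 : (ψ x) ^ 2 * (1 + n) = n + 2 * ((ψ x) ^ 2 + n * ψ x ) := by
        have := congrArg ψ hn1
        rw [map_mul, map_pow, map_pow, map_add, map_one] at this
        have hψn : ψ n = n := by
          refine sub_eq_zero.1 (pow_eq_zero_iff two_ne_zero |>.1 ?_)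
          linear_combination hnn + (n ^ 2 - ψ n * n) * h20
        rw [hψn] at this
        linear_combination this - (n + 2 * n * ψ x) * h20
      refine mul_right_cancel₀ hn11 ?_
      rw [h1]
      linear_combination (ψ x ^ 2 + n * ψ x) * h20 - hn1 + (-(x ^ 2) + n + n * x) * h20
    have hxk : ψ x = x := by
      refine sub_eq_zero.1 (pow_eq_zero_iff two_ne_zero |>.1 ?_)
      linear_combination hxx + (x ^ 2 - ψ x * x) * h20
    set κ := 2 ^ a' with hκ
    have hκq : κ < q := hqf ▸ Nat.pow_lt_pow_right (by norm_num) haf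
    have hκ2 : 2 ≤ κ := Nat.le_self_pow (by omega) 2
    rw [hψ, iterateFrobenius_def, ← hκ, hx, hsb, add_pow_char_pow, ← hκ, inv_pow] at hxk
    have hfac : (s ^ κ - s) * (s ^ (κ + 1) - 1) = 0 := by
      have := pow_ne_zero κ hs0
      field_simp at hxk
      linear_combination hxk
    rcases mul_eq_zero.1 hfac with h | h
    · have : s ^ (κ - 1) = 1 := mul_right_cancel₀ hs0 (by
        rw [← pow_succ, Nat.sub_add_cancel (by omega), one_mul, sub_eq_zero.1 h])
      exact absurd (Nat.le_of_dvd (by omega) (hord _ (by omega) this)) (by omega)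
    · exact absurd (Nat.le_of_dvd (by omega) (hord _ (by omega) (sub_eq_zero.1 h))) (by omega)
  have hKc : Fintype.card K = 2 ^ f := by
    rw [← Nat.card_eq_fintype_card, natCard_fixField hF, hqf]
  have htop := closure_three_eq_top hKc hf (L := L) (M := M)
    (fun h => mul_ne_zero (pow_ne_zero 2 hnne) hX60 (by rw [← hιL, h, map_zero]))
    (by simp [M, Matrix.trace_fin_two, CharTwo.add_self_eq_zero])
    (fun h => hX60 (by
      have h' : m10 = 0 := by simpa [M] using h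
      rw [← hm10, h', map_zero]))
    (fun h => mul_ne_zero (mul_ne_zero (pow_ne_zero 2 hnne) (pow_ne_zero 2 hX60)) hn11 (by
      have h' := congrArg P.ι h
      rw [Matrix.SpecialLinearGroup.coe_mul, Matrix.SpecialLinearGroup.coe_mul, upper_val, lower_val] at h'
      simp [M, Matrix.trace_fin_two] at h'
      erw [hm00, hm10, hιL] at h'
      linear_combination h' - (1 + n * X6 + n ^ 2 * X6) * h20))
    hkey
  have hmem : ∀ M', planeHom P M' ∈ D.G := plane_mem P htop fun M' hM' => by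
    rcases hM' with rfl | rfl | rfl
    · rw [hup]; exact htG
    · rw [hlow]; exact ht'G
    · rw [hM]; exact ht3G
  refine eq_top_of_plane P D.G (by omega) hmem (g := D.u * W) (mul_mem (u_mem D) hWG) ?_
  have horth : ∀ (r : F) (y : Fin 3 → F), UnitaryPairGen.orth P (r • y) = r • UnitaryPairGen.orth P y :=
    fun r y => by simp only [UnitaryPairGen.orth, H_smul_left, smul_sub, smul_add, smul_smul]
  have hue : mat D.u *ᵥ P.e = P.e := by
    obtain ⟨x, hx⟩ : ∃ x, (mat D.u - 1) ^ 2 *ᵥ x ≠ 0 := by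
      by_contra hall
      push Not at hall
      exact u_sq_ne D (Matrix.ext_of_mulVec_single fun i => by rw [hall, Matrix.zero_mulVec])
    have hz : mat D.u *ᵥ ((mat D.u - 1) ^ 2 *ᵥ x) = (mat D.u - 1) ^ 2 *ᵥ x := by
      have e : (mat D.u - 1) *ᵥ ((mat D.u - 1) ^ 2 *ᵥ x) = 0 := by
        rw [Matrix.mulVec_mulVec, ← pow_succ', u_cube, Matrix.zero_mulVec]
      rwa [Matrix.sub_mulVec, Matrix.one_mulVec, sub_eq_zero] at e
    obtain ⟨r, hr⟩ := u_fix D _ hz
    have hr0 : r ≠ 0 := fun h => hx (by rw [hr, h, zero_smul])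
    rw [hr, Matrix.mulVec_smul] at hz
    rw [hPe, ha]
    exact smul_right_injective _ hr0 hz
  have horth0 : UnitaryPairGen.orth P P.e = 0 := by simp [UnitaryPairGen.orth, P.he, P.hef]
  have h0 := escape P (u_cube D) (u_sq_ne D) (u_fix D) (by rw [hue, horth0])
  rw [mul_mulVec, hPe, ← hb, hkf, Matrix.mulVec_smul, horth]
  exact smul_ne_zero hk0 h0

end Cfsg.Agent.Classical.SU3RegEven
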