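import Mathlib
import Cfsg.Agent.Lib.Classical.SU3RegModel
import Cfsg.Agent.Lib.Classical.PSUThreeSpectrum
import Cfsg.Agent.Lib.Classical.UnitaryCount
import Cfsg.Agent.Lib.Classical.UnitaryTwo
import Cfsg.Agent.S0801

/-!
# `SU₃(q)`, odd `q ≥ 5`, is generated by two conjugate regular unipotent elements
-/

set_option autoImplicit false
set_option linter.unusedSectionVars false

namespace Cfsg.Agent.Classical.SU3RegOdd

open Matrix Polynomial
open Cfsg.Agent.Forms
open Cfsg.Agent.Classical.Unitary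
open Cfsg.Agent.Classical.UnitaryTwoGen
open Cfsg.Agent.Classical.SU3Reg
open Cfsg.Agent.Classical.UnitaryPairGen

variable {F : Type*} [Field F] [Fintype F] {q : ℕ}

/-- The parameter of the pair of transvections found in the group. -/
def lval (x : F) : F := 4 * (x + 2) ^ 3 / ((x + 1) ^ 2 * (x - 2))

theorem sum_pow_sub_one_le {p : ℕ} (hp : 3 ≤ p) (m : ℕ) :
    2 * ∑ j ∈ Finset.Icc 1 m, (p ^ j - 1) ≤ 3 * (p ^ m - 1) := by
  induction m with
  | zero => simp
  | succ m ih =>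
    rw [Finset.sum_Icc_succ_top (by omega)]
    have h1 : 3 * p ^ m ≤ p ^ (m + 1) := by rw [pow_succ, mul_comm]; exact Nat.mul_le_mul_left _ hp
    have h2 : 1 ≤ p ^ m := Nat.one_le_pow _ _ (by omega)
    omega

theorem inv_of_normOne {s : F} (hs : s ^ (q + 1) = 1) : s ^ q = s⁻¹ :=
  eq_inv_of_mul_eq_one_left (by rw [← pow_succ, hs])

/-- The exceptional values of `s`. -/
theorem x_facts {s : F} (hs0 : s ≠ 0) (h4 : s ^ 4 ≠ 1) (h3 : s ^ 3 ≠ 1) :
    s + s⁻¹ + 1 ≠ 0 ∧ s + s⁻¹ - 2 ≠ 0 ∧ s + s⁻¹ + 2 ≠ 0 ∧ s⁻¹ - s ≠ 0 := by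
  refine ⟨fun h => h3 ?_, fun h => h3 ?_, fun h => h4 ?_, fun h => h4 ?_⟩
  all_goals field_simp at h
  · linear_combination (s - 1) * h
  · have : s = 1 := by
      have h' : (s - 1) ^ 2 = 0 := by linear_combination h
      exact sub_eq_zero.1 (pow_eq_zero_iff (by norm_num : 2 ≠ 0) |>.1 h')
    rw [this, one_pow]
  · have : s = -1 := by
      have h' : (s + 1) ^ 2 = 0 := by linear_combination h
      exact eq_neg_of_add_eq_zero_left (pow_eq_zero_iff (by norm_num : 2 ≠ 0) |>.1 h')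
    rw [this]; norm_num
  · linear_combination -(1 + s ^ 2) * h

/-- A value of `lval` comes from at most six elements. -/
theorem fibre_le [DecidableEq F] (h2 : (2 : F) ≠ 0) (S : Finset F)
    (hS : ∀ s ∈ S, s ≠ 0 ∧ s ^ 4 ≠ 1 ∧ s ^ 3 ≠ 1) (y : F) :
    (S.filter fun s => lval (s + s⁻¹) = y).card ≤ 6 := by
  let P : F[X] := C 4 * (X + C 1) ^ 6 - C y * ((X ^ 2 + X + C 1) ^ 2 * (X - C 1) ^ 2)
  have hP : P ≠ 0 := fun h => by
    have := congrArg (eval 1) h
    simp [P] at this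
    norm_num at this
    rcases this with h' | h'
    · exact pow_ne_zero 2 h2 (by linear_combination h')
    · exact h2 h'
  have hdeg : P.natDegree ≤ 6 := by unfold P; compute_degree
  refine ((Finset.card_le_card (t := P.roots.toFinset) fun s hs => ?_).trans
    (Multiset.toFinset_card_le _)).trans ((card_roots' P).trans hdeg)
  obtain ⟨hsS, hsy⟩ := Finset.mem_filter.1 hs
  obtain ⟨hs0, h4, h3⟩ := hS s hsS
  obtain ⟨k1, k2, -, -⟩ := x_facts hs0 h4 h3
  rw [Multiset.mem_toFinset, mem_roots hP, IsRoot.def]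
  rw [lval, div_eq_iff (mul_ne_zero (pow_ne_zero 2 k1) k2)] at hsy
  simp [P]
  field_simp at hsy
  linear_combination hsy

/-- The choice of the torus element. -/
theorem exists_s (hF : Fintype.card F = q ^ 2) (h2 : (2 : F) ≠ 0) {p f : ℕ} (hp : 3 ≤ p)
    (hq : q = p ^ f) (hq5 : 5 ≤ q) :
    ∃ s : F, s ^ (q + 1) = 1 ∧ s ^ 4 ≠ 1 ∧ s ^ 3 ≠ 1 ∧
      ∀ j ∈ Finset.Icc 1 (f / 3), lval (s + s⁻¹) ^ (p ^ j - 1) ≠ 1 := by
  classical
  obtain ⟨a, ha0, ha⟩ := PSUThree.exists_norm_one_order hF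
  set m := f / 3 with hm
  rcases Nat.eq_zero_or_pos m with h0 | hpos
  · refine ⟨a, by rw [← ha]; exact pow_orderOf_eq_one a, fun h => ?_, fun h => ?_, fun j hj => ?_⟩
    · have := Nat.le_of_dvd (by norm_num) (orderOf_dvd_of_pow_eq_one h)
      omega
    · have := Nat.le_of_dvd (by norm_num) (orderOf_dvd_of_pow_eq_one h)
      omega
    · rw [Finset.mem_Icc] at hj
      omega
  by_contra hno
  push Not at hno
  let N1 : Finset F := (Finset.range (q + 1)).image (a ^ ·)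
  have hN1 : N1.card = q + 1 := by
    rw [Finset.card_image_of_injOn, Finset.card_range]
    intro i hi j hj hij
    exact pow_injOn_Iio_orderOf (by simpa [ha] using Finset.mem_range.1 hi)
      (by simpa [ha] using Finset.mem_range.1 hj) hij
  have hN1m : ∀ s ∈ N1, s ^ (q + 1) = 1 := fun s hs => by
    obtain ⟨i, -, rfl⟩ := Finset.mem_image.1 hs
    rw [← pow_mul, mul_comm, pow_mul, ← ha, pow_orderOf_eq_one, one_pow]
  let E : Finset F := (nthRoots 4 (1 : F)).toFinset ∪ (nthRoots 3 (1 : F)).toFinset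
  have hE : E.card ≤ 7 := (Finset.card_union_le _ _).trans (add_le_add
    ((Multiset.toFinset_card_le _).trans (card_nthRoots 4 1))
    ((Multiset.toFinset_card_le _).trans (card_nthRoots 3 1)))
  let S := N1 \ E
  have hS : ∀ s ∈ S, s ^ (q + 1) = 1 ∧ s ≠ 0 ∧ s ^ 4 ≠ 1 ∧ s ^ 3 ≠ 1 := by
    intro s hs
    obtain ⟨hsN, hsE⟩ := Finset.mem_sdiff.1 hs
    simp [E, mem_nthRoots] at hsE
    exact ⟨hN1m s hsN, fun h => by simpa [h] using hN1m s hsN, hsE⟩
  let Bad : Finset F := (Finset.Icc 1 m).biUnion fun j => (nthRoots (p ^ j - 1) (1 : F)).toFinset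
  have hBad : 2 * Bad.card ≤ 3 * (p ^ m - 1) :=
    (Nat.mul_le_mul_left 2 (Finset.card_biUnion_le.trans (Finset.sum_le_sum fun j _ =>
      (Multiset.toFinset_card_le _).trans (card_nthRoots _ _)))).trans (sum_pow_sub_one_le hp m)
  have hmaps : ∀ s ∈ S, lval (s + s⁻¹) ∈ Bad := by
    intro s hs
    obtain ⟨h1, -, h4, h3⟩ := hS s hs
    obtain ⟨j, hj, hjy⟩ := hno s h1 h4 h3
    refine Finset.mem_biUnion.2 ⟨j, hj, ?_⟩
    rw [Multiset.mem_toFinset, mem_nthRoots]
    · exact hjy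
    · rw [Finset.mem_Icc] at hj
      have : p ^ 1 ≤ p ^ j := Nat.pow_le_pow_right (by omega) hj.1
      rw [pow_one] at this
      omega
  have h6 : S.card ≤ 6 * Bad.card := Finset.card_le_mul_card_image_of_maps_to hmaps 6
    fun y _ => fibre_le h2 S (fun s hs => (hS s hs).2) y
  have hsd : q + 1 ≤ S.card + 7 := by
    have h7 : N1.card ≤ S.card + E.card := Finset.card_le_card_sdiff_add_card
    omega
  have hbig : 9 * p ^ m ≤ q := by
    rw [hq]
    calc 9 * p ^ m ≤ p ^ (2 * m) * p ^ m := by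
          refine Nat.mul_le_mul_right _ ?_
          calc 9 ≤ p ^ 2 := by nlinarith
            _ ≤ p ^ (2 * m) := Nat.pow_le_pow_right (by omega) (by omega)
      _ = p ^ (3 * m) := by rw [← pow_add]; congr 1; omega
      _ ≤ p ^ f := Nat.pow_le_pow_right (by omega) (by omega)
  have h8 : S.card ≤ 9 * (p ^ m - 1) := by linarith
  have h9 : 1 ≤ p ^ m := Nat.one_le_pow _ _ (by omega)
  omega

/-- A non-square avoiding the small odd subfields generates the field. -/
theorem generates {K : Type*} [Field K] [Fintype K] {p f : ℕ} [hp : Fact p.Prime] [CharP K p]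
    (hK : Fintype.card K = p ^ f) (hp2 : p ≠ 2) {L : K} (hL : ¬ IsSquare L)
    (hbad : ∀ j ∈ Finset.Icc 1 (f / 3), L ^ (p ^ j - 1) ≠ 1) :
    Subfield.closure ({L} : Set K) = ⊤ := by
  classical
  by_contra hne
  set R := Subfield.closure ({L} : Set K) with hR
  have hLR : L ∈ R := Subfield.subset_closure rfl
  have hL0 : L ≠ 0 := fun h => hL (h ▸ IsSquare.zero)
  have : Fintype R := Fintype.ofFinite _
  obtain ⟨⟨j, hjpos⟩, -, hjc⟩ := FiniteField.card R p
  simp only [PNat.mk_coe] at hjc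
  have hK2 : Fintype.card K = Fintype.card R ^ Module.finrank R K :=
    Module.card_eq_pow_finrank
  set e := Module.finrank R K with he
  have hLr : L ^ (p ^ j - 1) = 1 := by
    have h := FiniteField.pow_card_sub_one_eq_one (⟨L, hLR⟩ : R) (fun h => hL0 (congrArg Subtype.val h))
    rw [hjc] at h
    simpa using congrArg Subtype.val h
  have hf : f = j * e := by
    rw [hK, hjc, ← pow_mul] at hK2
    exact Nat.pow_right_injective hp.out.two_le hK2
  have he1 : e ≠ 1 := by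
    intro h
    refine hne (SetLike.ext' (Set.eq_of_subset_of_ncard_le (Set.subset_univ _) ?_ |>.trans rfl))
    rw [Set.ncard_univ, Nat.card_eq_fintype_card, hK2, h, pow_one, ← Nat.card_eq_fintype_card,
      ← Nat.card_coe_set_eq]
    rfl
  have hodd : Odd (p ^ j) := (hp.out.odd_of_ne_two hp2).pow
  rcases Nat.even_or_odd e with ⟨k, hk⟩ | ⟨k, hk⟩
  · refine hL ?_
    have hc : ringChar K ≠ 2 := by rw [ringChar.eq K p]; exact hp2
    rw [FiniteField.isSquare_iff hc hL0]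
    obtain ⟨r, hr⟩ := hodd
    have hdvd : (p ^ j) ^ 2 - 1 ∣ ((p ^ j) ^ 2) ^ k - 1 ^ k := Nat.sub_dvd_pow_sub_pow _ _ _
    obtain ⟨t, ht⟩ := hdvd
    have hKe : Fintype.card K = ((p ^ j) ^ 2) ^ k := by rw [hK2, hjc, ← pow_mul (p ^ j), hk, two_mul]
    have h1 : 1 ≤ ((p ^ j) ^ 2) ^ k := Nat.one_le_pow _ _ (pow_pos (pow_pos hp.out.pos _) _)
    have h2 : (p ^ j) ^ 2 - 1 = (p ^ j - 1) * (2 * (r + 1)) := by
      rw [hr, Nat.sub_eq_iff_eq_add (Nat.one_le_pow _ _ (by omega)), Nat.add_sub_cancel]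
      ring
    rw [one_pow, h2] at ht
    have h3 : Fintype.card K = 2 * ((p ^ j - 1) * ((r + 1) * t)) + 1 := by
      rw [hKe, ← Nat.sub_add_cancel h1, ht]; ring
    rw [show Fintype.card K / 2 = (p ^ j - 1) * ((r + 1) * t) by omega, pow_mul, hLr, one_pow]
  · refine hbad j (Finset.mem_Icc.2 ⟨hjpos, ?_⟩) hLr
    have : 3 ≤ e := by omega
    rw [Nat.le_div_iff_mul_le (by norm_num), hf]
    exact Nat.mul_le_mul_left _ this

/-- The identity behind the trace condition. -/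
theorem trace_identity {s : F} (hs : s ≠ 0) {x : F} (hx : x = s + s⁻¹) :
    2 * (s * (-(6 * x + 4 - x ^ 3) + -((x + 1) * (x + 2) * (s⁻¹ - s))) + s⁻¹ ^ 2 * x ^ 3) =
      2 * ((x + 1) ^ 2 * (x - 2)) * (3 + 2 * s + s⁻¹ ^ 2) := by
  subst hx
  field_simp
  ring

theorem exists_pair_odd (hF : Fintype.card F = q ^ 2) (h2 : (2 : F) ≠ 0) (hq5 : 5 ≤ q) :
    ∃ u g : Cfsg.SU 3 F q, (IsNilpotent (mat u - 1) ∧ (mat u - 1) ^ (3 - 1) ≠ 0) ∧
      Subgroup.closure ({u, g * u * g⁻¹} : Set (Cfsg.SU 3 F q)) = ⊤ := by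
  classical
  obtain ⟨p, hpF⟩ := CharP.exists F
  obtain ⟨n, hpp, hn⟩ := FiniteField.card F p
  obtain ⟨f, -, hqf⟩ := (Nat.dvd_prime_pow hpp).1
    (show q ∣ p ^ (n : ℕ) by rw [← hn, hF]; exact dvd_pow_self q two_ne_zero)
  have hp2 : p ≠ 2 := fun h => h2 (by
    have := CharP.cast_eq_zero F p
    rw [h] at this
    exact_mod_cast this)
  have hp3 : 3 ≤ p := by have := hpp.two_le; omega
  have hqodd : Odd q := hqf ▸ (hpp.odd_of_ne_two hp2).pow
  have hf0 : f ≠ 0 := fun h => by rw [h, pow_zero] at hqf; omega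
  have hq0 : (q : F) = 0 := by rw [hqf, Nat.cast_pow, CharP.cast_eq_zero, zero_pow hf0]
  haveI : Fact p.Prime := ⟨hpp⟩
  obtain ⟨s, hs, h4, h3, hbad⟩ := exists_s hF h2 hp3 hqf hq5
  have hs0 : s ≠ 0 := fun h => by simp [h] at hs
  have hsq : s ^ q = s⁻¹ := inv_of_normOne hs
  set x := s + s⁻¹ with hx
  obtain ⟨k1, k2, k3, k4⟩ := x_facts hs0 h4 h3
  set φ := HermStd.qHom hF with hφ
  have hφs : φ s = s⁻¹ := by rw [hφ, HermStd.qHom_apply, hsq]
  have hφx : φ x = x := by rw [hx, map_add, map_inv₀, hφs, inv_inv, add_comm]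
  obtain ⟨γ, hγ⟩ := UnitaryCount.exists_norm_eq' hF (μ := x ^ 3) (by
    rw [← HermStd.qHom_apply hF, ← hφ, map_pow, hφx])
  obtain ⟨α, hα⟩ := exists_trace_eq hF (c := -(6 * x + 4 - x ^ 3)) (by
    rw [← HermStd.qHom_apply hF, ← hφ]; simp [hφx, map_ofNat])
  set N := 2 * ((x + 1) ^ 2 * (x - 2)) with hN
  have hN0 : N ≠ 0 := mul_ne_zero h2 (mul_ne_zero (pow_ne_zero 2 k1) k2)
  have hsum : α + α ^ q + γ * γ ^ q = N := by
    rw [← pow_succ', hγ, hα, hN]; ring
  obtain ⟨B⟩ := exists_coord hF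
  set c := -((x + 1) * (x + 2) * (s⁻¹ - s)) with hc
  have hφc : φ c = -c := by
    rw [hc]; simp [hφx, hφs, map_ofNat]; ring
  set d := 2 / N with hd
  have hφd : φ d = d := by rw [hd, hN]; simp [hφx, map_ofNat]
  have hd0 : d ≠ 0 := div_ne_zero h2 hN0
  have hdN : d * N = 2 := div_mul_cancel₀ _ hN0
  let D : Datum B :=
    { s := s, c := c, ε := -1, d := d, α := α, γ := γ
      hs := hs
      hc := by rw [← HermStd.qHom_apply hF, ← hφ, hφc, add_neg_cancel]
      hε := by ring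
      hεq := hqodd.neg_one_pow
      hd := by rw [← HermStd.qHom_apply hF, ← hφ, hφd]
      hN := by rw [hsum]; linear_combination d * hdN
      hdet := by rw [hsum]; linear_combination hdN
      h1 := fun h => h4 (by rw [show s = -1 by linear_combination h]; norm_num)
      h2 := fun h => h4 (by
        rw [hsq] at h
        field_simp at h
        linear_combination (s ^ 2 - 1) * h)
      htr := by
        have key := trace_identity hs0 hx
        rw [← pow_succ', hγ, hα, hsq]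
        rw [← hN, ← hc] at key
        refine mul_left_cancel₀ hN0 ?_
        linear_combination key +
          (s * (-(6 * x + 4 - x ^ 3) + c) + s⁻¹ ^ 2 * x ^ 3) * hdN }
  refine ⟨D.u, D.h, u_regular D, ?_⟩
  show D.G = ⊤
  set e : Fin 3 → F := B.P *ᵥ ![1, 0, 0] with he
  set t := (D.R * D.R) ^ (q + 1) with ht
  have htG : t ∈ D.G := pow_mem (RR_mem D) _
  have htv : ∀ y, mat t *ᵥ y = y + ((2 * c) * Cfsg.hermForm 3 F q y e) • e := by
    intro y
    obtain ⟨z, rfl⟩ : ∃ z, B.P *ᵥ z = y := ⟨_, P_surj B y⟩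
    rw [ht, ← pow_two, ← pow_mul, R_pow_mulVec, he, B.form, ← Matrix.mulVec_smul, ← Matrix.mulVec_add]
    congr 1
    have e1 : s ^ (2 * (q + 1)) = 1 := by rw [mul_comm, pow_mul, hs, one_pow]
    have e2 : ((s ^ q) ^ 2) ^ (2 * (q + 1)) = 1 := by
      rw [← pow_mul, ← pow_mul, show q * (2 * (2 * (q + 1))) = (q + 1) * (4 * q) by ring, pow_mul, hs,
        one_pow]
    funext i
    fin_cases i <;> simp [D, hj, e1, e2, hq0, zero_pow (q_ne_zero hF)]
  set v := mat D.u *ᵥ e with hv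
  set t' := D.u * t * D.u⁻¹ with ht'
  have ht'G : t' ∈ D.G := mul_mem (mul_mem (u_mem D) htG) (inv_mem (u_mem D))
  have ht'v : ∀ y, mat t' *ᵥ y = y + ((2 * c) * Cfsg.hermForm 3 F q y v) • v :=
    fun y => conj_transvection D.u t htv y
  have hee : Cfsg.hermForm 3 F q e e = 0 := by
    rw [he, B.form]; simp [hj, zero_pow (q_ne_zero hF)]
  have hvv : Cfsg.hermForm 3 F q v v = 0 := by rw [hv, SU_H, hee]
  have hev : Cfsg.hermForm 3 F q e v = (s * d) ^ q := by
    rw [hv, he, u_mulVec, B.form, rMat_mulVec, hMat_mulVec hF, hj_wVec hF]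
    simp [D, hj, wVec]
  have hC : 2 * c + (2 * c) ^ q = 0 := by
    rw [← HermStd.qHom_apply hF, ← hφ, map_mul, map_ofNat, hφc]; ring
  have hc0 : c ≠ 0 := neg_ne_zero.2 (mul_ne_zero (mul_ne_zero k1 k3) k4)
  let K := fixField hF
  have hι : ∀ y, y ∈ Set.range K.subtype ↔ y ^ q = y := fun y =>
    ⟨fun ⟨z, hz⟩ => hz ▸ z.2, fun hy => ⟨⟨y, hy⟩, rfl⟩⟩
  obtain ⟨P, L, hPe, ⟨k, hk0, hkf⟩, hPL, hup, hlow⟩ := exists_frame hF (ι := K.subtype) hι hee hvv
    (by rw [hev]; exact pow_ne_zero _ (mul_ne_zero hs0 hd0)) hC hC (mul_ne_zero h2 hc0) htv ht'v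
  have hLval : (P.ι L : F) = 4 * c ^ 2 * d ^ 2 := by
    rw [hPL, hev, ← pow_mul, mul_comm q, pow_mul, mul_pow, hs, one_mul, ← pow_mul, mul_comm (q + 1),
      pow_mul, show d ^ q = d by rw [← HermStd.qHom_apply hF, ← hφ, hφd], pow_succ, show d ^ q = d by
        rw [← HermStd.qHom_apply hF, ← hφ, hφd]]
    ring
  have hlv : 4 * c ^ 2 * d ^ 2 = lval x := by
    have : (s⁻¹ - s) ^ 2 = (x + 2) * (x - 2) := by rw [hx]; field_simp; ring
    rw [hc, hd, hN, lval, neg_sq, mul_pow, this]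
    field_simp
  haveI : CharP F p := hpF
  haveI : Fintype K := Fintype.ofFinite _
  have hKc : Fintype.card K = p ^ f := by
    rw [← Nat.card_eq_fintype_card, natCard_fixField hF, hqf]
  have hp2K : (2 : K) ≠ 0 := fun h => h2 (congrArg Subtype.val h)
  haveI : CharP K p := (RingHom.charP_iff_charP K.subtype p).2 hpF
  have hL : ¬ IsSquare L := by
    rintro ⟨r, hr⟩
    have e1 : (2 * c * d) * (2 * c * d) = P.ι r * P.ι r := by
      rw [← map_mul, ← hr, hLval]; ring
    have e2 : (2 * c * d) ^ q = -(2 * c * d) := by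
      rw [← HermStd.qHom_apply hF, ← hφ, map_mul, map_mul, map_ofNat, hφc, hφd]; ring
    have e3 : (2 * c * d) ^ q = 2 * c * d := by
      rcases mul_self_eq_mul_self_iff.1 e1 with h | h
      · rw [h]; exact ιq P r
      · rw [h, neg_pow, hqodd.neg_one_pow, ιq P r]; ring
    refine mul_ne_zero (mul_ne_zero h2 hc0) hd0 ((mul_eq_zero.1 ?_).resolve_left h2)
    linear_combination e2 - e3
  have hgen : Subfield.closure ({L} : Set K) = ⊤ := by
    refine generates hKc hp2 hL fun j hj h => hbad j hj ?_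
    rw [← hlv, ← hLval, ← map_pow, h, map_one]
  have hL0 : L ≠ 0 := fun h => hL (h ▸ IsSquare.zero)
  rcases S0801.result hp2K L hL0 hgen with ⟨htop, -⟩ | ⟨h9, hm1, -⟩
  · have hmem : ∀ M, planeHom P M ∈ D.G := plane_mem P htop fun M hM => by
      rcases hM with hM | hM
      · rw [show M = lower 1 from Subtype.ext hM, hlow]; exact ht'G
      · rw [show M = upper L from Subtype.ext hM, hup]; exact htG
    refine eq_top_of_plane P D.G (by omega) hmem (g := D.u * D.u) (mul_mem (u_mem D) (u_mem D)) ?_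
    have horth : ∀ (a : F) (y : Fin 3 → F), UnitaryPairGen.orth P (a • y) = a • UnitaryPairGen.orth P y := fun a y => by
      simp only [UnitaryPairGen.orth, H_smul_left, smul_sub, smul_add, smul_smul]
    have hfrom : mat D.u *ᵥ P.e = k • P.f := by rw [hPe, ← hv, hkf]
    have horthf : UnitaryPairGen.orth P P.f = 0 := by simp [UnitaryPairGen.orth, P.hf, fe P]
    have h0 := escape P (u_cube D) (u_sq_ne D) (u_fix D) (by rw [hfrom, horth, horthf, smul_zero])
    rw [mul_mulVec, hfrom, Matrix.mulVec_smul, horth]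
    exact smul_ne_zero hk0 h0
  · refine absurd ?_ hL
    have hc2 : ringChar K ≠ 2 := by rw [ringChar.eq K p]; exact hp2
    rw [FiniteField.isSquare_iff hc2 hL0, h9]
    norm_num
    linear_combination (L ^ 2 - 1) * hm1

end Cfsg.Agent.Classical.SU3RegOdd
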