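import Cfsg.Agent.Lib.Chevalley.Exceptional.G2Two
import Cfsg.Agent.Lib.Classical.SU3RegModel
import Cfsg.Agent.Lib.Classical.UnitaryTwo
import Cfsg.Agent.S0801

/-!
# `SU₃(3)` is generated by two conjugate regular unipotent elements

Two words in an explicit pair are transvections with non-orthogonal centres, and the pair moves one
of the two centres out of their plane.
-/

set_option autoImplicit false
set_option linter.unusedSectionVars false

open scoped Matrix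

namespace Cfsg.Agent.Classical.SU3RegThree

open Cfsg.Agent.Forms
open Cfsg.Agent.Classical.Unitary
open Cfsg.Agent.Classical.UnitaryTwoGen
open Cfsg.Agent.Classical.UnitaryPairGen
open Cfsg.Agent.Exceptional.G2Two (E eq3 ι_eq3 map_eqM map_star_ι exists_data eqM Data)

/-- The regular unipotent. -/
def uMat : Matrix (Fin 3) (Fin 3) E :=
  !![⟨0, 1⟩, ⟨0, 1⟩, ⟨1, 2⟩; ⟨2, 0⟩, ⟨2, 2⟩, ⟨1, 0⟩; ⟨2, 2⟩, ⟨2, 0⟩, ⟨1, 0⟩]

/-- The conjugating element. -/
def gMat : Matrix (Fin 3) (Fin 3) E :=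
  !![⟨2, 1⟩, ⟨0, 2⟩, ⟨0, 1⟩; ⟨0, 1⟩, ⟨1, 2⟩, ⟨0, 1⟩; ⟨0, 1⟩, ⟨0, 2⟩, ⟨2, 1⟩]

/-- The conjugate. -/
def vMat : Matrix (Fin 3) (Fin 3) E :=
  !![⟨2, 2⟩, ⟨0, 0⟩, ⟨2, 2⟩; ⟨0, 2⟩, ⟨2, 1⟩, ⟨0, 1⟩; ⟨1, 0⟩, ⟨1, 1⟩, ⟨2, 0⟩]

/-- The first centre. -/
def aVec : Fin 3 → E := ![⟨0, 1⟩, ⟨0, 2⟩, ⟨1, 0⟩]

/-- The second centre. -/
def bVec : Fin 3 → E := ![⟨0, 1⟩, ⟨2, 2⟩, ⟨0, 0⟩]

/-- The inner product. -/
def dotE (a b : Fin 3 → E) : E := a 0 * star (b 0) + a 1 * star (b 1) + a 2 * star (b 2)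

/-- A transvection matrix. -/
def tMat (C : E) (a : Fin 3 → E) : Matrix (Fin 3) (Fin 3) E :=
  Matrix.of fun i j => (if i = j then 1 else 0) + C * a i * star (a j)

/-- The determinant of three columns. -/
def det3 (a b c : Fin 3 → E) : E :=
  a 0 * (b 1 * c 2 - b 2 * c 1) - b 0 * (a 1 * c 2 - a 2 * c 1) + c 0 * (a 1 * b 2 - a 2 * b 1)

/-- The check that a matrix is unitary of determinant one. -/
def unitOK (M : Matrix (Fin 3) (Fin 3) E) : Bool :=
  eqM (Mᵀ * M.map star) 1 &&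
    eq3 (M 0 0 * M 1 1 * M 2 2 - M 0 0 * M 1 2 * M 2 1 - M 0 1 * M 1 0 * M 2 2 + M 0 1 * M 1 2 * M 2 0 +
      M 0 2 * M 1 0 * M 2 1 - M 0 2 * M 1 1 * M 2 0) 1

theorem data_ok : unitOK uMat = true ∧ unitOK gMat = true ∧ unitOK vMat = true ∧
    eqM (gMat * uMat) (vMat * gMat) = true ∧
    eqM ((uMat - 1) * (uMat - 1) * (uMat - 1)) 0 = true ∧
    eq3 (((uMat - 1) * (uMat - 1)) 0 0) 1 = true ∧
    eqM (uMat * vMat * (uMat * vMat)) (tMat ⟨0, 1⟩ aVec) = true ∧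
    eqM (vMat * uMat * (vMat * uMat)) (tMat ⟨0, 1⟩ bVec) = true ∧
    eq3 (dotE aVec aVec) 0 = true ∧ eq3 (dotE bVec bVec) 0 = true ∧
    eq3 (dotE aVec bVec * ⟨1, 1⟩) 1 = true ∧
    eq3 (det3 aVec bVec (uMat *ᵥ aVec) * ⟨1, 1⟩) 1 = true ∧
    eq3 (⟨0, 1⟩ + star ⟨0, 1⟩) 0 = true ∧ eq3 ((⟨0, 1⟩ : E) * ⟨0, 2⟩) 1 = true := by decide +kernel

variable {F : Type*} [Field F] [Fintype F] (d : Data F)

theorem gives {M : Matrix (Fin 3) (Fin 3) E} (h : unitOK M = true) :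
    ∃ A : Cfsg.SU 3 F 3, ∀ v, mat A *ᵥ v = M.map d.ι *ᵥ v := by
  simp only [unitOK, Bool.and_eq_true] at h
  have hu' := map_eqM d h.1
  rw [Matrix.map_mul, map_star_ι, show (Mᵀ.map d.ι) = (M.map d.ι)ᵀ from rfl,
    Matrix.map_one _ (map_zero _) (map_one _)] at hu'
  have hdet : (M.map d.ι).det = 1 := by
    have e := ι_eq3 d h.2
    simp only [map_sub, map_add, map_mul, map_one] at e
    rw [Matrix.det_fin_three]
    exact e
  refine ⟨suMk (M.map d.ι) hdet fun u v => ?_, fun v => suMk_mulVec _ _ _ v⟩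
  have hh : ∀ u v : Fin 3 → F, Cfsg.hermForm 3 F 3 u v = u ⬝ᵥ (d.σ ∘ v) := fun u v => by
    simp [Cfsg.hermForm, dotProduct, d.σ_pow]
  rw [hh, hh, show d.σ ∘ (M.map d.ι *ᵥ v) = (M.map d.ι).map d.σ *ᵥ (d.σ ∘ v) from
    funext (RingHom.map_mulVec d.σ _ _), Matrix.dotProduct_mulVec, ← Matrix.vecMul_transpose,
    Matrix.vecMul_vecMul, hu', Matrix.vecMul_one]

theorem cube_ι (x : E) : d.ι x ^ 3 = d.ι (star x) := by
  have h := congrFun (congrFun (map_star_ι d (Matrix.of fun _ _ => x : Matrix (Fin 3) (Fin 3) E)) 0) 0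
  simp only [Matrix.map_apply, Matrix.of_apply] at h
  rw [h, d.σ_pow]

theorem H_ι (a b : Fin 3 → E) : Cfsg.hermForm 3 F 3 (d.ι ∘ a) (d.ι ∘ b) = d.ι (dotE a b) := by
  simp [Cfsg.hermForm, Fin.sum_univ_three, dotE, cube_ι]

theorem tMat_mulVec (C : E) (a : Fin 3 → E) (x : Fin 3 → F) :
    (tMat C a).map d.ι *ᵥ x = x + (d.ι C * Cfsg.hermForm 3 F 3 x (d.ι ∘ a)) • (d.ι ∘ a) := by
  funext i
  fin_cases i <;>
    simp [tMat, Matrix.mulVec, dotProduct, Fin.sum_univ_three, Cfsg.hermForm, cube_ι] <;> ring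

theorem unit_ne {x y : E} (h : eq3 (x * y) 1 = true) : d.ι x ≠ 0 := fun h0 => by
  have := ι_eq3 d h
  rw [map_mul, h0, zero_mul, map_one] at this
  exact zero_ne_one this

theorem exists_pair_three (hF : Fintype.card F = 9) :
    ∃ u g : Cfsg.SU 3 F 3, (IsNilpotent (mat u - 1) ∧ (mat u - 1) ^ (3 - 1) ≠ 0) ∧
      Subgroup.closure ({u, g * u * g⁻¹} : Set (Cfsg.SU 3 F 3)) = ⊤ := by
  classical
  obtain ⟨d⟩ := exists_data hF
  have hF9 : Fintype.card F = 3 ^ 2 := by rw [hF]; norm_num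
  obtain ⟨hu0, hg0, hv0, hc0, hn0, hs0, hta, htb, haa0, hbb0, hab0, hdet0, hC0, hCu⟩ := data_ok
  obtain ⟨u, hu⟩ := gives d hu0
  obtain ⟨g, hg⟩ := gives d hg0
  obtain ⟨v, hv⟩ := gives d hv0
  have hu' : mat u = uMat.map d.ι := Matrix.ext_of_mulVec_single fun i => hu _
  have hone : ((1 : Matrix (Fin 3) (Fin 3) E)).map d.ι = 1 := Matrix.map_one _ (map_zero _) (map_one _)
  have hN : mat u - 1 = (uMat - 1).map d.ι := by
    rw [Matrix.map_sub _ (map_sub d.ι), hone, hu']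
  have hconj : g * u * g⁻¹ = v := by
    rw [mul_inv_eq_iff_eq_mul]
    refine SU_ext fun x => ?_
    rw [mul_mulVec, mul_mulVec, hu, hg, hv, hg, Matrix.mulVec_mulVec, Matrix.mulVec_mulVec,
      ← Matrix.map_mul, ← Matrix.map_mul, map_eqM d hc0]
  refine ⟨u, g, ⟨⟨3, ?_⟩, ?_⟩, ?_⟩
  · rw [hN, pow_succ, pow_two, ← Matrix.map_mul, ← Matrix.map_mul, map_eqM d hn0,
      Matrix.map_zero _ (map_zero _)]
  · intro h
    rw [hN, pow_two, ← Matrix.map_mul] at h
    have := congrFun (congrFun h 0) 0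
    rw [Matrix.map_apply, ι_eq3 d hs0, map_one] at this
    exact one_ne_zero this
  rw [hconj]
  set G := Subgroup.closure ({u, v} : Set (Cfsg.SU 3 F 3))
  have huG : u ∈ G := Subgroup.subset_closure (by simp)
  have hvG : v ∈ G := Subgroup.subset_closure (by simp)
  set a : Fin 3 → F := d.ι ∘ aVec with ha
  set b : Fin 3 → F := d.ι ∘ bVec with hb
  set C : F := d.ι ⟨0, 1⟩ with hC
  have hta' : ∀ x, mat (u * v * (u * v)) *ᵥ x = x + (C * Cfsg.hermForm 3 F 3 x a) • a := fun x => by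
    rw [← tMat_mulVec, ← map_eqM d hta]
    simp only [mul_mulVec, hu, hv, Matrix.map_mul, Matrix.mulVec_mulVec, mul_assoc]
  have htb' : ∀ x, mat (v * u * (v * u)) *ᵥ x = x + (C * Cfsg.hermForm 3 F 3 x b) • b := fun x => by
    rw [← tMat_mulVec, ← map_eqM d htb]
    simp only [mul_mulVec, hu, hv, Matrix.map_mul, Matrix.mulVec_mulVec, mul_assoc]
  have hCC : C + C ^ 3 = 0 := by rw [hC, cube_ι, ← map_add, ι_eq3 d hC0, map_zero]
  have hC1 : C ≠ 0 := unit_ne d hCu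
  let K := fixField hF9
  have hι : ∀ y, y ∈ Set.range K.subtype ↔ y ^ 3 = y := fun y =>
    ⟨fun ⟨z, hz⟩ => hz ▸ z.2, fun hy => ⟨⟨y, hy⟩, rfl⟩⟩
  have hab : Cfsg.hermForm 3 F 3 a b ≠ 0 := by rw [ha, hb, H_ι]; exact unit_ne d hab0
  obtain ⟨P, L, hPe, ⟨k, hk0, hkf⟩, hPL, hup, hlow⟩ := exists_frame hF9 (ι := K.subtype) hι
    (by rw [ha, H_ι, ι_eq3 d haa0, map_zero]) (by rw [hb, H_ι, ι_eq3 d hbb0, map_zero]) hab hCC hCC hC1
    hta' htb'
  have hL0 : L ≠ 0 := fun h => by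
    rw [h, map_zero] at hPL
    exact mul_ne_zero (mul_ne_zero hC1 hC1) (pow_ne_zero _ hab) hPL.symm
  haveI : Fintype K := Fintype.ofFinite _
  have hK3 : Fintype.card K = 3 := by rw [← Nat.card_eq_fintype_card, natCard_fixField hF9]
  have h3 : (3 : F) = 0 := by rw [← map_ofNat d.ι]; exact d.ι_three
  have h2 : (2 : K) ≠ 0 := fun h => one_ne_zero (α := F) (by
    have h' : (2 : F) = 0 := congrArg Subtype.val h
    linear_combination h3 - h')
  have hgen : Subfield.closure ({L} : Set K) = ⊤ := by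
    refine top_unique fun y _ => ?_
    have h12 : y = 0 ∨ y = 1 ∨ y = 2 := by
      by_contra hno
      push Not at hno
      have h4 : ({0, 1, 2, y} : Finset K).card = 4 := by
        rw [Finset.card_insert_of_notMem, Finset.card_insert_of_notMem, Finset.card_pair hno.2.2.symm]
        · simp only [Finset.mem_insert, Finset.mem_singleton, not_or]
          exact ⟨fun h => one_ne_zero (α := K) (by linear_combination -h), hno.2.1.symm⟩
        · simp only [Finset.mem_insert, Finset.mem_singleton, not_or]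
          exact ⟨zero_ne_one, h2.symm, hno.1.symm⟩
      have := Finset.card_le_univ ({0, 1, 2, y} : Finset K)
      omega
    rcases h12 with rfl | rfl | rfl
    exacts [zero_mem _, one_mem _, ofNat_mem _ 2]
  rcases S0801.result h2 L hL0 hgen with ⟨htop, -⟩ | ⟨h9, -, -⟩
  · have hmem : ∀ M, planeHom P M ∈ G := plane_mem P htop fun M hM => by
      rcases hM with hM | hM
      · rw [show M = lower 1 from Subtype.ext hM, hlow]
        exact mul_mem (mul_mem hvG huG) (mul_mem hvG huG)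
      · rw [show M = upper L from Subtype.ext hM, hup]
        exact mul_mem (mul_mem huG hvG) (mul_mem huG hvG)
    refine eq_top_of_plane P G (by norm_num) hmem huG fun h0 => ?_
    have hsplit := orth_add P (mat u *ᵥ P.e)
    rw [h0, zero_add, show P.f = k⁻¹ • b by rw [hkf, smul_smul, inv_mul_cancel₀ hk0, one_smul], smul_smul,
      hPe, hu, show (uMat.map d.ι *ᵥ a) = d.ι ∘ (uMat *ᵥ aVec) from
        funext fun i => (RingHom.map_mulVec d.ι uMat aVec i).symm] at hsplit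
    refine unit_ne d hdet0 ?_
    have e : ∀ i, d.ι ((uMat *ᵥ aVec) i) = _ := fun i => congrFun hsplit i
    simp only [det3, map_sub, map_add, map_mul, e]
    simp [ha, hb]
    ring
  · omega

end Cfsg.Agent.Classical.SU3RegThree
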