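import Mathlib
import Cfsg.Agent.Lib.Classical.SURegEmbed
import Cfsg.Agent.Lib.Classical.SU3RegModel
import Cfsg.Agent.Lib.Classical.PSUThreeSpectrum
import Cfsg.Agent.S2283

/-!
# Pairs of regular unipotent elements of `SU₃(q)` in a hyperbolic frame
-/

set_option autoImplicit false
set_option linter.unusedSectionVars false

namespace Cfsg.Agent.Classical.SUReg

open Matrix
open Cfsg.Agent.Forms
open Cfsg.Agent.Classical.Unitary
open Cfsg.Agent.Classical.UnitaryTwoGen

variable {F : Type*} [Field F] [Fintype F] {q : ℕ}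

local notation "Vec" => (Fin 3 → F)
local notation "H" => Cfsg.hermForm 3 F q

/-- Two Heisenberg elements at the two isotropic points of a plane, in a frame. -/
structure Pair (F : Type*) [Field F] [Fintype F] (q : ℕ) where
  u : Cfsg.SU 3 F q
  y : Cfsg.SU 3 F q
  a : Fin 3 → F
  z : Fin 3 → F
  b : Fin 3 → F
  γ : F
  β : F
  ν : F
  c : F
  aa : Cfsg.hermForm 3 F q a a = 0
  bb : Cfsg.hermForm 3 F q b b = 0
  ab : Cfsg.hermForm 3 F q a b ≠ 0
  zz : Cfsg.hermForm 3 F q z z = 1
  za : Cfsg.hermForm 3 F q z a = 0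
  zb : Cfsg.hermForm 3 F q z b = 0
  hν : ν ≠ 0
  hγ : γ ^ (q + 1) = 1
  hu : Hsa q u a (ν • z) c
  hy : Hsa q y b (ν • (γ • z + β • b)) c

variable (hF : Fintype.card F = q ^ 2)
include hF

/-- The second element only depends on `β` modulo the multiples of `ν̄` by the subfield. -/
theorem Pair.shift (D : Pair F q) {r : F} (hr : r ^ q = r) :
    Hsa q D.y D.b (D.ν • (D.γ • D.z + (D.β - r * D.ν ^ q) • D.b)) D.c := by
  have h := hsa_shift hF D.bb D.hy (-(r * (D.ν * D.ν ^ q)))
  have hs : (-(r * (D.ν * D.ν ^ q))) ^ q = -(r * (D.ν * D.ν ^ q)) := by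
    rw [neg_pow_q hF, mul_pow, mul_pow, pow_qq hF, hr, mul_comm (D.ν ^ q)]
  rw [hs, sub_add_cancel] at h
  convert h using 1
  module

theorem cube_zero (u : Cfsg.SU 3 F q) (hu : IsNilpotent (mat u - 1)) : (mat u - 1) ^ 3 = 0 := by
  have hchar : (mat u - 1).charpoly = Polynomial.X ^ 3 := by
    have h := Matrix.isNilpotent_charpoly_sub_pow_of_isNilpotent hu
    rw [Fintype.card_fin] at h
    exact sub_eq_zero.1 (IsReduced.eq_zero _ h)
  have h := Matrix.aeval_self_charpoly (mat u - 1)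
  rwa [hchar, map_pow, Polynomial.aeval_X] at h

theorem moves {a : Vec} (haa : H a a = 0) (ha : a ≠ 0) :
    ∃ g : Cfsg.SU 3 F q, ∀ c : F, mat g *ᵥ a ≠ c • a := by
  obtain ⟨f, hff, haf⟩ := exists_partner hF ha haa
  obtain ⟨c, hc0, hc⟩ := exists_traceZero hF
  refine ⟨tvu hF hff hc, fun d hd => ?_⟩
  have h := congrArg (fun v => H v a) hd
  simp only [tvu_mulVec, haf, mul_one, H_add_left, H_smul_left, haa, mul_zero, zero_add] at h
  rw [← H_conj hF, haf, one_pow, mul_one] at h
  exact hc0 h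

/-- A generating pair of conjugate regular unipotent elements in a frame. -/
theorem exists_pair (hq : 3 ≤ q) :
    ∃ D : Pair F q, Subgroup.closure ({D.u, D.y} : Set (Cfsg.SU 3 F q)) = ⊤ := by
  classical
  obtain ⟨u, g, ⟨hnil, hu2⟩, htop⟩ := S2283.result (F := F) q hq hF
  have hu3 := cube_zero hF u hnil
  set N := mat u - 1 with hN
  have hNy : ∀ y, N *ᵥ y = mat u *ᵥ y - y := fun y => by rw [hN, Matrix.sub_mulVec, Matrix.one_mulVec]
  obtain ⟨x, hx⟩ : ∃ x, N ^ 2 *ᵥ x ≠ 0 := by
    by_contra hall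
    push Not at hall
    exact hu2 (Matrix.ext_of_mulVec_single fun i => by rw [hall, Matrix.zero_mulVec])
  set a := N ^ 2 *ᵥ x with ha
  have hua : mat u *ᵥ a = a := by
    refine sub_eq_zero.1 ?_
    rw [← hNy, ha, Matrix.mulVec_mulVec, ← pow_succ', hu3, Matrix.zero_mulVec]
  have haa : H a a = 0 := by
    have e : a = mat u *ᵥ (N *ᵥ x) - N *ᵥ x := by rw [ha, pow_two, ← Matrix.mulVec_mulVec, hNy]
    calc H a a = H a (mat u *ᵥ (N *ᵥ x)) - H a (N *ᵥ x) := by rw [← H_sub_right hF, ← e]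
      _ = H (mat u *ᵥ a) (mat u *ᵥ (N *ᵥ x)) - H a (N *ᵥ x) := by rw [hua]
      _ = 0 := by rw [SU_H, sub_self]
  set b := mat g *ᵥ a with hb
  have hbb : H b b = 0 := by rw [hb, SU_H, haa]
  have hgu : mat (g * u * g⁻¹) *ᵥ b = b := by
    rw [mul_mulVec, mul_mulVec, inv_mulVec g hb.symm, hua]
  have hline : ∀ c : F, b ≠ c • a := by
    intro c hc
    obtain ⟨g', hg'⟩ := moves hF haa hx
    have hc0 : c ≠ 0 := fun h => by
      rw [h, zero_smul, hb] at hc
      exact hx (by rw [← inv_mulVec g hc, Matrix.mulVec_zero])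
    have key : ∀ w ∈ Subgroup.closure ({u, g * u * g⁻¹} : Set (Cfsg.SU 3 F q)), mat w *ᵥ a = a := by
      intro w hw
      induction hw using Subgroup.closure_induction with
      | mem w hw =>
        rcases hw with rfl | rfl
        · exact hua
        · rw [hc, Matrix.mulVec_smul] at hgu
          exact smul_right_injective _ hc0 hgu
      | one => rw [mat_one, Matrix.one_mulVec]
      | mul v w _ _ hv hw => rw [mul_mulVec, hw, hv]
      | inv w _ hw => exact inv_mulVec w hw
    exact hg' 1 (by rw [one_smul]; exact key g' (by rw [htop]; trivial))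
  have ha0 : a ≠ 0 := hx
  have hab : H a b ≠ 0 := by
    intro h0
    obtain ⟨f, hff, haf⟩ := exists_partner hF ha0 haa
    obtain ⟨⟨z, hza, hzf, hzz⟩, -⟩ := exists_perp_pair hF (le_refl 3) haa hff haf
    have P : Hyp q a z f := ⟨haa, hff, haf, hzz, hza, hzf⟩
    have hba : H b a = 0 := (H_eq_zero_comm hF).1 h0
    have e := P.expand hF b
    rw [hba, zero_smul, add_zero] at e
    have hz : H b z = 0 := by
      have h2 : H b b = H b z * H b z ^ q := by
        conv_lhs => rw [e]
        simp [H_add_left, H_add_right hF, H_smul_left, H_smul_right, haa, hzz, hza, P.az hF, mul_comm]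
      rw [hbb, ← pow_succ'] at h2
      exact eq_zero_of_pow_eq_zero h2.symm
    rw [hz, zero_smul, add_zero] at e
    exact hline _ e
  set k := ((H a b) ^ q)⁻¹ with hk
  have hk0 : k ≠ 0 := inv_ne_zero (pow_ne_zero _ hab)
  have haf : H a (k • b) = 1 := by
    rw [H_smul_right, hk, inv_pow, pow_qq hF, inv_mul_cancel₀ hab]
  have hff : H (k • b) (k • b) = 0 := by rw [H_smul_left, H_smul_right, hbb, mul_zero, mul_zero]
  obtain ⟨⟨z, hza, hzf, hzz⟩, -⟩ := exists_perp_pair hF (le_refl 3) haa hff haf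
  set f := k • b with hf
  have P : Hyp q a z f := ⟨haa, hff, haf, hzz, hza, hzf⟩
  have hfa := P.fa hF
  have haz := P.az hF
  have hfz := P.fz hF
  -- the element on the frame
  have ezf : H (mat u *ᵥ z) a = 0 :=
    (congrArg (fun v => H (mat u *ᵥ z) v) hua.symm).trans ((SU_H u z a).trans hza)
  have euz := P.expand hF (mat u *ᵥ z)
  rw [ezf, zero_smul, add_zero] at euz
  set lam := H (mat u *ᵥ z) f with hlam
  set κ := H (mat u *ᵥ z) z with hκ
  have hκ1 : κ = 1 := by
    have e1 : N *ᵥ z = lam • a + (κ - 1) • z := by rw [hNy, euz]; module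
    have e0 : N *ᵥ a = 0 := by rw [hNy, hua, sub_self]
    have e3 : N ^ 3 *ᵥ z = ((κ - 1) ^ 2 * lam) • a + ((κ - 1) ^ 3) • z := by
      rw [pow_succ, pow_two, ← Matrix.mulVec_mulVec, e1, Matrix.mulVec_add, Matrix.mulVec_smul,
        Matrix.mulVec_smul, ← Matrix.mulVec_mulVec, ← Matrix.mulVec_mulVec, e0, e1, Matrix.mulVec_zero,
        Matrix.mulVec_add, Matrix.mulVec_smul, Matrix.mulVec_smul, e0, e1]
      module
    rw [hu3, Matrix.zero_mulVec] at e3
    have := congrArg (fun v => H v z) e3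
    simp [H_zero_left, H_add_left, H_smul_left, hzz, haz] at this
    exact sub_eq_zero.1 (eq_zero_of_pow_eq_zero this.symm)
  rw [hκ1, one_smul] at euz
  have euf := P.expand hF (mat u *ᵥ f)
  have efa : H (mat u *ᵥ f) a = 1 :=
    (congrArg (fun v => H (mat u *ᵥ f) v) hua.symm).trans ((SU_H u f a).trans hfa)
  rw [efa, one_smul] at euf
  set μ := H (mat u *ᵥ f) f with hμ
  set ν := H (mat u *ᵥ f) z with hνdef
  have hlamν : lam = -ν ^ q := by
    have h1 := SU_H u z f
    rw [euz, euf, hzf] at h1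
    simp only [H_add_left, H_add_right hF, H_smul_left, H_smul_right, haa, hff, haf, hzz, hza, hzf, hfa,
      haz, hfz] at h1
    linear_combination h1
  have hμν : μ + μ ^ q = -(ν * ν ^ q) := by
    have h1 := SU_H u f f
    rw [euf, hff] at h1
    simp only [H_add_left, H_add_right hF, H_smul_left, H_smul_right, haa, hff, haf, hzz, hza, hzf, hfa,
      haz, hfz] at h1
    linear_combination h1
  have hu : Hsa q u a (ν • z) μ := by
    refine ⟨by rw [H_smul_left, hza, mul_zero], by rw [H_smul_left, H_smul_right, hzz]; linear_combination hμν,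
      fun y => ?_⟩
    conv_lhs => rw [P.expand hF y]
    rw [Matrix.mulVec_add, Matrix.mulVec_add, Matrix.mulVec_smul, Matrix.mulVec_smul, Matrix.mulVec_smul,
      hua, euz, euf, hlamν, show H y (ν • z) = ν ^ q * H y z from H_smul_right ν y z]
    conv_rhs => arg 1; rw [P.expand hF y]
    module
  have hν0 : ν ≠ 0 := by
    intro h0
    refine hu2 (Matrix.ext_of_mulVec_single fun i => ?_)
    rw [Matrix.zero_mulVec]
    obtain ⟨-, -, h3⟩ := hu
    have eN : ∀ y, N *ᵥ y = (H y a * μ) • a := fun y => by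
      rw [hNy, h3, h0, zero_smul, H_zero_right hF, zero_add]
      module
    rw [show (3 - 1 : ℕ) = 2 from rfl, pow_two, ← Matrix.mulVec_mulVec, eN, eN, H_smul_left, haa, mul_zero,
      zero_mul, zero_smul]
  set γ := H (mat g *ᵥ z) z with hγdef
  have egz := P.expand hF (mat g *ᵥ z)
  have hgzb : H (mat g *ᵥ z) f = 0 := by rw [hf, hb, H_smul_right, SU_H, hza, mul_zero]
  rw [hgzb, zero_smul, zero_add, ← hγdef] at egz
  set β := H (mat g *ᵥ z) a * k with hβ
  have egz' : mat g *ᵥ z = γ • z + β • b := by rw [egz, hf, hβ]; module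
  have hzb : H z b = 0 := by
    rw [hf, H_smul_right, mul_eq_zero, or_iff_right (pow_ne_zero _ hk0)] at hzf
    exact hzf
  have hγ : γ ^ (q + 1) = 1 := by
    have h1 := SU_H g z z
    rw [egz', hzz] at h1
    simp only [H_add_left, H_add_right hF, H_smul_left, H_smul_right, hbb, hzz, hzb,
      (H_eq_zero_comm hF).1 hzb] at h1
    rw [pow_succ']
    linear_combination h1
  have hy : Hsa q (g * u * g⁻¹) b (ν • (γ • z + β • b)) μ := by
    obtain ⟨h1, h2, h3⟩ := hu
    rw [← egz', ← Matrix.mulVec_smul]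
    refine ⟨by rw [hb, SU_H, h1], by rw [SU_H, h2], fun y => ?_⟩
    obtain ⟨y, rfl⟩ : ∃ y', mat g *ᵥ y' = y :=
      ⟨mat g⁻¹ *ᵥ y, by rw [← mul_mulVec, mul_inv_cancel, mat_one, Matrix.one_mulVec]⟩
    rw [mul_mulVec, mul_mulVec, inv_mulVec g rfl, h3, hb, SU_H g y a, SU_H g y (ν • z)]
    simp only [Matrix.mulVec_add, Matrix.mulVec_smul, Matrix.mulVec_neg]
  exact ⟨⟨u, g * u * g⁻¹, a, z, b, γ, β, ν, μ, haa, hbb, hab, hzz, hza, hzb, hν0, hγ, hu, hy⟩, htop⟩

end Cfsg.Agent.Classical.SUReg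

namespace Cfsg.Agent.Classical.SUReg

open Matrix Polynomial
open Cfsg.Agent.Forms
open Cfsg.Agent.Classical.Unitary
open Cfsg.Agent.Classical.UnitaryTwoGen
open Cfsg.Agent.Classical.SU3Reg

variable {F : Type*} [Field F] [Fintype F] {q : ℕ}

set_option maxHeartbeats 1000000 in
/-- For `q = 2`: a pair generating the scalar of order three. -/
theorem exists_pair_two (hF : Fintype.card F = 2 ^ 2) :
    ∃ (D : Pair F 2) (w : F), w ≠ 1 ∧ w ^ 3 = 1 ∧
      (∃ g ∈ Subgroup.closure ({D.u, D.y} : Set (Cfsg.SU 3 F 2)), ∀ v, mat g *ᵥ v = w • v) ∧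
      D.β ≠ 0 ∧ D.γ⁻¹ * (Cfsg.hermForm 3 F 2 D.a D.b) ^ 2 * (D.β * D.β ^ 2) ≠ 1 := by
  classical
  obtain ⟨w, hw0, hw⟩ := PSUThree.exists_norm_one_order hF
  have hw3 : w ^ 3 = 1 := by
    have := pow_orderOf_eq_one w
    rwa [hw] at this
  have hw1 : w ≠ 1 := fun h => by rw [h, orderOf_one] at hw; omega
  have h20 : (2 : F) = 0 := by
    have h := Nat.cast_card_eq_zero F
    rw [hF] at h
    exact pow_eq_zero_iff two_ne_zero |>.1 (by exact_mod_cast h)
  haveI : CharP F 2 := CharTwo.of_one_ne_zero_of_two_eq_zero one_ne_zero h20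
  have hw2 : w * w = w + 1 := by
    have : w * w + w + 1 = 0 := by
      refine (mul_eq_zero.1 (?_ : (w - 1) * (w * w + w + 1) = 0)).resolve_left (sub_ne_zero.2 hw1)
      linear_combination hw3
    linear_combination this - (w + 1) * h20
  obtain ⟨B⟩ := exists_coord (F := F) (q := 2) hF
  let U : Matrix (Fin 3) (Fin 3) F := !![1, w, 1; 0, 1, 0; 0, 1, 1]
  let Y : Matrix (Fin 3) (Fin 3) F := !![1, 0, 0; w, 1, w + 1; w, 0, 1]
  have hUd : U.det = 1 := by simp [U, Matrix.det_fin_three]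
  have hYd : Y.det = 1 := by simp [Y, Matrix.det_fin_three]
  have hwq : w ^ 2 = w + 1 := by rw [pow_two, hw2]
  have hw1q : (w + 1) ^ 2 = w := by linear_combination hwq + (w + 1) * h20
  have hUv : ∀ x, U *ᵥ x = ![x 0 + w * x 1 + x 2, x 1, x 1 + x 2] := fun x => by
    funext i; fin_cases i <;> simp [U, Matrix.mulVec, dotProduct, Fin.sum_univ_three]
  have hYv : ∀ x, Y *ᵥ x = ![x 0, w * x 0 + x 1 + (w + 1) * x 2, w * x 0 + x 2] := fun x => by
    funext i; fin_cases i <;> simp [Y, Matrix.mulVec, dotProduct, Fin.sum_univ_three]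
  have hUp : ∀ x y, hj 2 (U *ᵥ x) (U *ᵥ y) = hj 2 x y := fun x y => by
    simp only [hUv, hj, Matrix.cons_val_zero, Matrix.cons_val_one, Matrix.cons_val_two, Matrix.head_cons,
      Matrix.tail_cons, HermStd.add_pow_q hF, mul_pow, hwq]
    linear_combination (x 1 * y 1 ^ 2 * (w + 1) + x 2 * y 1 ^ 2 + x 1 * y 2 ^ 2) * h20
  have hYp : ∀ x y, hj 2 (Y *ᵥ x) (Y *ᵥ y) = hj 2 x y := fun x y => by
    simp only [hYv, hj, Matrix.cons_val_zero, Matrix.cons_val_one, Matrix.cons_val_two, Matrix.head_cons,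
      Matrix.tail_cons, HermStd.add_pow_q hF, mul_pow, hwq, hw1q]
    linear_combination (x 0 * y 0 ^ 2) * hw2 +
      ((2 * w + 1) * (x 0 * y 0 ^ 2) + (w + 1) * (x 0 * y 2 ^ 2) + (w + 1) * (x 2 * y 0 ^ 2)) * h20
  set u := su B U hUd hUp with hu
  set y := su B Y hYd hYp with hy
  set a : Fin 3 → F := B.P *ᵥ ![1, 0, 0] with ha
  set b : Fin 3 → F := B.P *ᵥ ![0, 1, 0] with hb
  set z : Fin 3 → F := B.P *ᵥ ![0, 0, 1] with hz
  let D : Pair F 2 :=
    { u := u, y := y, a := a, z := z, b := b, γ := w, β := 1, ν := 1, c := w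
      aa := by rw [ha, B.form]; simp [hj]
      bb := by rw [hb, B.form]; simp [hj]
      ab := by rw [ha, hb, B.form]; simp [hj]
      zz := by rw [hz, B.form]; simp [hj]
      za := by rw [hz, ha, B.form]; simp [hj]
      zb := by rw [hz, hb, B.form]; simp [hj]
      hν := one_ne_zero
      hγ := hw3
      hu := by
        refine ⟨by rw [H_smul_left, hz, ha, B.form]; simp [hj], by
          rw [H_smul_left, H_smul_right, hz, B.form]; simp [hj, hwq]
          linear_combination (w + 1) * h20, fun v => ?_⟩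
        obtain ⟨x, rfl⟩ : ∃ x, B.P *ᵥ x = v := ⟨_, P_surj B v⟩
        rw [hu, su_mulVec, one_smul, ha, hz, B.form, B.form, ← Matrix.mulVec_smul,
          ← Matrix.mulVec_add, ← Matrix.mulVec_smul, ← Matrix.mulVec_neg, ← Matrix.mulVec_smul,
          ← Matrix.mulVec_add, ← Matrix.mulVec_add]
        congr 1
        funext i
        fin_cases i <;> simp [hUv, hj] <;>
          first | linear_combination x 2 * h20 | ring1 | linear_combination (0 : F) * h20
      hy := by
        refine ⟨?_, ?_, fun v => ?_⟩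
        · rw [H_smul_left, H_add_left, H_smul_left, H_smul_left, hz, hb, B.form, B.form]; simp [hj]
        · simp only [H_smul_left, H_smul_right, H_add_left, H_add_right hF, hz, hb, B.form]
          simp [hj, hwq]
          linear_combination hw2 + (2 * w + 1) * h20
        obtain ⟨x, rfl⟩ : ∃ x, B.P *ᵥ x = v := ⟨_, P_surj B v⟩
        rw [hy, su_mulVec, one_smul, one_smul, hb, hz, ← Matrix.mulVec_smul, ← Matrix.mulVec_add,
          B.form, B.form, ← Matrix.mulVec_smul,
          ← Matrix.mulVec_add, ← Matrix.mulVec_smul, ← Matrix.mulVec_neg, ← Matrix.mulVec_smul,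
          ← Matrix.mulVec_add, ← Matrix.mulVec_add]
        congr 1
        funext i
        fin_cases i <;> simp [hYv, hj, hwq]
        · linear_combination (x 2 * (w + 1)) * h20
        · ring }
  refine ⟨D, w + 1, ?_, ?_, ⟨u * y * (u * y) * (u * y * (u * y)), ?_, fun v => ?_⟩, one_ne_zero, ?_⟩
  · intro h
    exact hw0 (by linear_combination h)
  · linear_combination (w + 2) * hwq + (w ^ 2 + 3 * w + 1) * h20
  · have h1 : u * y ∈ Subgroup.closure ({D.u, D.y} : Set (Cfsg.SU 3 F 2)) :=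
      mul_mem (Subgroup.subset_closure (Set.mem_insert _ _))
        (Subgroup.subset_closure (Set.mem_insert_of_mem _ rfl))
    exact mul_mem (mul_mem h1 h1) (mul_mem h1 h1)
  · obtain ⟨x, rfl⟩ : ∃ x, B.P *ᵥ x = v := ⟨_, P_surj B v⟩
    have hT : ∀ x, U *ᵥ (Y *ᵥ x) = ![w * x 1, w * x 0 + x 1 + (w + 1) * x 2, x 1 + w * x 2] := fun x => by
      funext i
      fin_cases i <;> simp [hUv, hYv]
      · linear_combination (x 0 + x 2) * hwq + (x 0 * (w + 1) + x 2 * (w + 1)) * h20
      · linear_combination (x 0 * w + x 2 * (w + 1) - x 2 * w) * h20 + (0 : F) * hwq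
    have hT2 : ∀ x, U *ᵥ (Y *ᵥ (U *ᵥ (Y *ᵥ x))) =
        ![(w + 1) * x 0 + w * x 1 + x 2, w * x 0 + x 1 + w * x 2, w * x 0 + (w + 1) * x 1] := fun x => by
      rw [hT, hT]
      funext i
      fin_cases i <;> simp
      · linear_combination (x 0 + x 2) * hwq + x 2 * w * h20
      · linear_combination (x 1 + x 2) * hwq + (x 1 + x 2) * (w + 1) * h20
      · linear_combination x 2 * hwq + x 2 * (w + 1) * h20
    simp only [mul_mulVec, hu, hy, su_mulVec, hT2, ← Matrix.mulVec_smul]
    congr 1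
    funext i
    fin_cases i <;> simp
    · linear_combination (x 1 + x 2) * hwq + (x 0 * (w ^ 2 + w) + x 1 * (2 * w + 1) + x 2 * (w + 1)) * h20
    · linear_combination (x 0 * (w ^ 2 + w) + x 1 * w ^ 2 + x 2 * w) * h20
    · linear_combination (x 1 + x 2) * hwq + (x 0 * (w ^ 2 + w) + x 1 * (w + 1) + x 2 * w) * h20
  · show w⁻¹ * (Cfsg.hermForm 3 F 2 a b) ^ 2 * (1 * 1 ^ 2) ≠ 1
    rw [ha, hb, B.form]
    simp [hj]
    exact fun h => hw1 (by simpa using congrArg (·⁻¹) h)

/-- The parameters of the configuration. -/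
theorem exists_choice (hF : Fintype.card F = q ^ 2) {γ h β ν : F} (hγ : γ ^ (q + 1) = 1) (hh : h ≠ 0)
    (hν : ν ≠ 0) (h2 : q = 2 → ∃ r : F, r ^ q = r ∧ β - r * ν ^ q ≠ 0 ∧
      γ⁻¹ * h ^ q * ((β - r * ν ^ q) * (β - r * ν ^ q) ^ q) ≠ 1) :
    ∃ g r : F, g ^ (q + 1) = 1 ∧ g ≠ 1 ∧ r ^ q = r ∧ β - r * ν ^ q ≠ 0 ∧
      (γ * h + g ^ 4 * (γ⁻¹ * h ^ q)) * ((β - r * ν ^ q) * (β - r * ν ^ q) ^ q) ≠ (g - 1) ^ 4 := by
  classical
  have hγ0 : γ ≠ 0 := fun h => by simp [h] at hγ
  have hq1 := HermStd.one_lt_q hF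
  set A := γ⁻¹ * h ^ q with hA
  set Bc := γ * h with hBc
  have hA0 : A ≠ 0 := mul_ne_zero (inv_ne_zero hγ0) (pow_ne_zero _ hh)
  set K : Finset F := Finset.univ.filter fun r : F => r ^ q = r with hK
  have hKc : K.card = q := by
    rw [hK, ← Fintype.card_subtype, ← Nat.card_eq_fintype_card]
    exact natCard_fixField hF
  obtain ⟨a, ha0, ha⟩ := PSUThree.exists_norm_one_order hF
  have ha1 : a ^ (q + 1) = 1 := by rw [← ha]; exact pow_orderOf_eq_one a
  by_cases h3 : q = 3
  · subst h3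
    obtain ⟨r, hr, hr0⟩ : ∃ r ∈ K, β - r * ν ^ 3 ≠ 0 := by
      by_contra hno
      push Not at hno
      have : K.card ≤ 1 := Finset.card_le_one.2 fun r hr r' hr' => by
        have e := (hno r hr).trans (hno r' hr').symm
        exact mul_right_cancel₀ (pow_ne_zero 3 hν) (sub_right_injective e)
      omega
    have hr' := (Finset.mem_filter.1 hr).2
    set Nb := (β - r * ν ^ 3) * (β - r * ν ^ 3) ^ 3
    have h30 : (3 : F) = 0 := by
      have e := Nat.cast_card_eq_zero F
      rw [hF] at e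
      exact pow_eq_zero_iff two_ne_zero |>.1 (by exact_mod_cast e)
    have ha2 : a ^ 2 = -1 := by
      have hne : a ^ 2 ≠ 1 := fun e => by
        have := Nat.le_of_dvd two_pos (orderOf_dvd_of_pow_eq_one e)
        omega
      refine eq_neg_of_add_eq_zero_left ((mul_eq_zero.1 (?_ : (a ^ 2 - 1) * (a ^ 2 + 1) = 0)).resolve_left
        (sub_ne_zero.2 hne))
      linear_combination ha1
    by_contra hno
    push Not at hno
    have e1 := hno (-1) r (by norm_num) (fun e => one_ne_zero (α := F) (by linear_combination h30 + e))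
      hr' hr0
    have e2 := hno a r ha1 (fun e => by rw [e, orderOf_one] at ha; omega) hr' hr0
    refine one_ne_zero (α := F) ?_
    linear_combination e1 - e2 + (A * Nb * (a ^ 2 - 1)) * ha2 -
      (a ^ 2 - 4 * a + 5) * ha2 + (7 : F) * h30
  obtain ⟨r, hr', hr0, hrA⟩ : ∃ r : F, r ^ q = r ∧ β - r * ν ^ q ≠ 0 ∧
      A * ((β - r * ν ^ q) * (β - r * ν ^ q) ^ q) ≠ 1 := by
    by_cases hq2 : q = 2
    · exact h2 hq2
    by_contra hno
    push Not at hno
    let Q : F[X] := C A * ((C β - X * C (ν ^ q)) * (C (β ^ q) - X * C ν)) - 1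
    have hQ2 : Q.coeff 2 = A * (ν ^ q * ν) := by
      have : Q = C (A * β * β ^ q - 1) + C (-(A * (β * ν + ν ^ q * β ^ q))) * X +
          C (A * (ν ^ q * ν)) * X ^ 2 := by
        simp [Q]; ring
      rw [this]
      simp only [Polynomial.coeff_add, Polynomial.coeff_C_mul, Polynomial.coeff_C, Polynomial.coeff_X,
        Polynomial.coeff_X_pow]
      simp
    have hQ : Q ≠ 0 := fun e => mul_ne_zero hA0 (mul_ne_zero (pow_ne_zero _ hν) hν) (by rw [← hQ2, e]; simp)
    have hdeg : Q.natDegree ≤ 2 := by unfold Q; compute_degree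
    have hsub : K ⊆ insert (β / ν ^ q) Q.roots.toFinset := fun r hr => by
      have hrq := (Finset.mem_filter.1 hr).2
      by_cases h0 : β - r * ν ^ q = 0
      · exact Finset.mem_insert.2 (Or.inl (by rw [eq_div_iff (pow_ne_zero _ hν)]; linear_combination -h0))
      · refine Finset.mem_insert_of_mem ?_
        rw [Multiset.mem_toFinset, mem_roots hQ, IsRoot.def]
        have e := hno r hrq h0
        rw [sub_pow_q hF, mul_pow, pow_qq hF, hrq] at e
        simp [Q]
        linear_combination e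
    have := (Finset.card_le_card hsub).trans ((Finset.card_insert_le _ _).trans
      (Nat.add_le_add_right ((Multiset.toFinset_card_le _).trans ((card_roots' Q).trans hdeg)) 1))
    omega
  set Nb := (β - r * ν ^ q) * (β - r * ν ^ q) ^ q
  by_contra hno
  push Not at hno
  have hroot : ∀ g : F, g ^ (q + 1) = 1 → g ≠ 1 → (Bc + g ^ 4 * A) * Nb = (g - 1) ^ 4 :=
    fun g hg hg1 => hno g r hg hg1 hr' hr0
  have hlead : A * Nb - 1 ≠ 0 := sub_ne_zero.2 hrA
  rcases Nat.even_or_odd q with hev | hodd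
  · have h20 : (2 : F) = 0 := by
      obtain ⟨p, hp⟩ := CharP.exists F
      obtain ⟨k, hpp, hk⟩ := FiniteField.card F p
      have h2p : 2 ∣ p ^ (k : ℕ) := by
        rw [← hk, hF]; exact (hev.two_dvd).trans (dvd_pow_self q two_ne_zero)
      have : p = 2 :=
        ((Nat.prime_dvd_prime_iff_eq Nat.prime_two hpp).1 (Nat.prime_two.dvd_of_dvd_pow h2p)).symm
      subst this
      exact_mod_cast CharP.cast_eq_zero F 2
    have e1 := hroot a ha1 (fun e => by rw [e, orderOf_one] at ha; omega)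
    have e2 := hroot (a ^ 2) (by rw [← pow_mul, mul_comm, pow_mul, ha1, one_pow]) (fun e => by
      have := Nat.le_of_dvd two_pos (orderOf_dvd_of_pow_eq_one e)
      omega)
    have h4 : (a - a ^ 2) ^ 4 = 0 := by
      refine (mul_eq_zero.1 (?_ : (A * Nb - 1) * (a - a ^ 2) ^ 4 = 0)).resolve_left hlead
      linear_combination e1 - e2 + ((A * Nb - 1) * (a ^ 8 - 2 * a ^ 7 + 3 * a ^ 6 - 2 * a ^ 5) -
        2 * a ^ 3 + 3 * a ^ 2 - 2 * a + 2 * a ^ 6 - 3 * a ^ 4 + 2 * a ^ 2) * h20
    have : a = 1 := by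
      have h5 : a * (1 - a) = 0 := by
        rw [mul_sub, mul_one, ← pow_two]
        exact pow_eq_zero_iff (by norm_num : 4 ≠ 0) |>.1 h4
      exact (sub_eq_zero.1 ((mul_eq_zero.1 h5).resolve_left ha0)).symm
    rw [this, orderOf_one] at ha
    omega
  · have hq5 : 5 ≤ q := by obtain ⟨k, rfl⟩ := hodd; omega
    let P : F[X] := (C Bc + X ^ 4 * C A) * C Nb - (X - 1) ^ 4
    have hP4 : P.coeff 4 = A * Nb - 1 := by
      have : P = C (Bc * Nb - 1) + C 4 * X + C (-6) * X ^ 2 + C 4 * X ^ 3 + C (A * Nb - 1) * X ^ 4 := by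
        simp [P, map_ofNat]; ring
      rw [this]
      simp only [Polynomial.coeff_add, Polynomial.coeff_C_mul, Polynomial.coeff_C, Polynomial.coeff_X,
        Polynomial.coeff_X_pow]
      simp
    have hP : P ≠ 0 := fun e => hlead (by rw [← hP4, e]; simp)
    have hdeg : P.natDegree ≤ 4 := by unfold P; compute_degree
    have hsub : ((Finset.range (q + 1)).image (a ^ ·)).erase 1 ⊆ P.roots.toFinset := fun g hg => by
      obtain ⟨hg1, hg⟩ := Finset.mem_erase.1 hg
      obtain ⟨i, -, rfl⟩ := Finset.mem_image.1 hg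
      rw [Multiset.mem_toFinset, mem_roots hP, IsRoot.def]
      have e := hroot _ (by rw [← pow_mul, mul_comm, pow_mul, ha1, one_pow]) hg1
      simp [P]
      linear_combination e
    have hc : ((Finset.range (q + 1)).image (a ^ ·)).card = q + 1 := by
      rw [Finset.card_image_of_injOn, Finset.card_range]
      intro i hi j hj hij
      exact pow_injOn_Iio_orderOf (by simpa [ha] using Finset.mem_range.1 hi)
        (by simpa [ha] using Finset.mem_range.1 hj) hij
    have h5 := (Finset.card_le_card hsub).trans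
      ((Multiset.toFinset_card_le _).trans ((card_roots' P).trans hdeg))
    have h6 := Finset.pred_card_le_card_erase (s := (Finset.range (q + 1)).image (a ^ ·)) (a := (1 : F))
    omega

end Cfsg.Agent.Classical.SUReg
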