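import Mathlib
import Cfsg.Agent.Lib.Classical.SURegModel
import Cfsg.Agent.Lib.Classical.SURegPair
import Cfsg.Agent.Lib.Classical.SURegClose
import Cfsg.Agent.Lib.Classical.UnitaryFrames

/-!
# Three conjugate regular unipotent elements generate `SU n q`, `n ≥ 5` odd
-/

set_option autoImplicit false
set_option linter.unusedSectionVars false

namespace Cfsg.Agent.Classical.SUReg

open Matrix
open Cfsg.Agent.Forms
open Cfsg.Agent.Classical.Unitary
open Cfsg.Agent.Classical.UnitaryTwoGen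

variable {F : Type*} [Field F] [Fintype F] {q n : ℕ}

local notation "Vec" => (Fin n → F)
local notation "H" => Cfsg.hermForm n F q

variable (hF : Fintype.card F = q ^ 2)
include hF

/-- Conjugation of Heisenberg elements, keeping the scalar. -/
theorem hsa_conj {g A : Cfsg.SU n F q} {e w e' w' : Vec} {a : F} (h : Hsa q g e w a)
    (he : mat A *ᵥ e = e') (hw : mat A *ᵥ w = w') : Hsa q (A * g * A⁻¹) e' w' a := by
  obtain ⟨h1, h2, h3⟩ := h
  refine ⟨by rw [← he, ← hw, SU_H, h1], by rw [← hw, SU_H, h2], fun x => ?_⟩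
  obtain ⟨y, rfl⟩ : ∃ y, mat A *ᵥ y = x :=
    ⟨mat A⁻¹ *ᵥ x, by rw [← mul_mulVec, mul_inv_cancel, mat_one, Matrix.one_mulVec]⟩
  rw [mul_mulVec, mul_mulVec, inv_mulVec A rfl, h3, ← he, ← hw, SU_H, SU_H]
  simp only [Matrix.mulVec_add, Matrix.mulVec_smul, Matrix.mulVec_neg]

theorem pair_top (u : Cfsg.SU n F q) (hn : (mat u - 1) ^ n = 0) {i j : ℕ} (hij : i + j = n - 1)
    (hn0 : n ≠ 0) (x y : Vec) :
    H ((mat u - 1) ^ i *ᵥ x) ((mat u - 1) ^ j *ᵥ y) =
      (-1) ^ i * H x ((mat u - 1) ^ (n - 1) *ᵥ y) := by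
  set N := mat u - 1 with hN
  have hfix : mat u *ᵥ (N ^ (n - 1) *ᵥ y) = N ^ (n - 1) *ᵥ y := by
    rw [← sub_eq_zero, ← N_mulVec, Matrix.mulVec_mulVec, ← pow_succ', show n - 1 + 1 = n by omega, hn,
      Matrix.zero_mulVec]
  rw [H_Npow_left hF]
  have e : (mat u⁻¹ - 1) ^ i *ᵥ (N ^ j *ᵥ y) = ((-1 : F) ^ i) • (N ^ (n - 1) *ᵥ y) := by
    rw [inv_sub_one, ← hN, neg_pow, (commute_inv u).mul_pow, Matrix.mulVec_mulVec, mul_assoc, mul_assoc,
      ((commute_inv u).pow_pow j i).symm.eq, ← mul_assoc (N ^ i), ← pow_add, hij,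
      ((commute_inv u).pow_pow (n - 1) i).eq, ← Matrix.mulVec_mulVec, ← Matrix.mulVec_mulVec,
      inv_fix hF u hfix]
    rcases neg_one_pow_eq_or (Matrix (Fin n) (Fin n) F) i with h | h <;>
      rcases Nat.even_or_odd i with hi | hi <;>
      simp [hi.neg_one_pow] at h ⊢ <;> simp_all [Matrix.neg_mulVec]
  rw [e, H_smul_right, ← pow_mul, mul_comm i q, pow_mul, neg_pow_q hF, one_pow]

theorem ι_π (E : Emb F q n) {a z f : Fin 3 → F} (P : Hyp q a z f) (x : Vec) :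
    E.ι (E.π x) = H x (E.ι f) • E.ι a + H x (E.ι z) • E.ι z + H x (E.ι a) • E.ι f := by
  conv_lhs => rw [P.expand hF (E.π x), ← H_ι, ← H_ι, ← H_ι]
  simp only [map_add, map_smul]

theorem hom_fix (E : Emb F q n) {a z f : Fin 3 → F} (P : Hyp q a z f) (g : Cfsg.SU 3 F q) (x : Vec) :
    mat (E.hom g) *ᵥ prj q (E.ι a) (E.ι z) (E.ι f) x = prj q (E.ι a) (E.ι z) (E.ι f) x := by
  have Q : Hyp q (E.ι a) (E.ι z) (E.ι f) :=
    ⟨by rw [E.iso, P.aa], by rw [E.iso, P.ff], by rw [E.iso, P.af], by rw [E.iso, P.zz],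
      by rw [E.iso, P.za], by rw [E.iso, P.zf]⟩
  obtain ⟨h1, h2, h3⟩ := prj_H hF Q x
  have : E.π (prj q (E.ι a) (E.ι z) (E.ι f) x) = 0 := by
    rw [P.expand hF (E.π _), ← H_ι, ← H_ι, ← H_ι, h1, h2, h3]
    simp
  rw [hom_mulVec, this, Matrix.mulVec_zero, sub_zero, map_zero, add_zero]

theorem exists_gu_fix {r : ℕ} (hr : 0 < r) (E : Emb F q (3 + r)) {δ : F} (hδ : δ ^ (q + 1) = 1) :
    ∃ D : Cfsg.GU (3 + r) F q, (gmat D).det = δ ∧ ∀ y, gmat D *ᵥ E.ι y = E.ι y := by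
  classical
  obtain ⟨h, hh⟩ := exists_gu_frame hF (fun i => E.ι (Pi.single i 1)) (fun i j => by
    rw [E.iso, H_single_single hF])
  let d : Fin (3 + r) → F := Function.update 1 (Fin.natAdd 3 ⟨0, hr⟩) δ
  have hd : ∀ i, d i ^ (q + 1) = 1 := fun i => by
    by_cases hi : i = Fin.natAdd 3 ⟨0, hr⟩
    · subst hi; simp [d, hδ]
    · show (Function.update 1 (Fin.natAdd 3 ⟨0, hr⟩) δ : Fin (3 + r) → F) i ^ (q + 1) = 1
      rw [Function.update_of_ne hi, Pi.one_apply, one_pow]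
  refine ⟨h * diagGU hF d hd * h⁻¹, ?_, fun y => ?_⟩
  · rw [← detHom_apply, map_mul, map_mul, map_inv, mul_comm (detHom _ F q h), mul_assoc,
      mul_inv_cancel, mul_one, detHom_apply, gmat_diagGU, Matrix.det_diagonal]
    rw [Finset.prod_eq_single (Fin.natAdd 3 ⟨0, hr⟩) (fun i _ hi => (Function.update_of_ne hi δ (1 : Fin (3 + r) → F)).trans rfl) (by simp)]
    simp [d]
  · have key : ∀ i, gmat (h * diagGU hF d hd * h⁻¹) *ᵥ E.ι (Pi.single i 1) = E.ι (Pi.single i 1) := by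
      intro i
      rw [gmul_mulVec, gmul_mulVec, ginv_mulVec h (hh i), gmat_diagGU]
      have : Matrix.diagonal d *ᵥ Pi.single (Fin.castAdd r i) 1 = Pi.single (Fin.castAdd r i) 1 := by
        funext j
        rw [Matrix.mulVec_diagonal]
        by_cases hj : j = Fin.castAdd r i
        · subst hj
          have : Fin.castAdd r i ≠ Fin.natAdd 3 ⟨0, hr⟩ := by simp [Fin.ext_iff]; omega
          rw [show d (Fin.castAdd r i) = 1 from (Function.update_of_ne this δ (1 : Fin (3 + r) → F)).trans rfl,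
            one_mul]
        · simp [hj]
      rw [this, hh i]
    conv_lhs => rw [pi_eq_sum_univ' y, map_sum, Matrix.mulVec_sum]
    conv_rhs => rw [pi_eq_sum_univ' y, map_sum]
    exact Finset.sum_congr rfl fun i _ => by rw [map_smul, Matrix.mulVec_smul, key]

theorem exists_transport (hn : 3 < n) (E₁ E : Emb F q n) :
    ∃ g : Cfsg.SU n F q, ∀ y, mat g *ᵥ E₁.ι y = E.ι y := by
  classical
  obtain ⟨g, hg⟩ := HermStd.exists_extend hF (LinearMap.range E₁.ι)
    (E.ι ∘ₗ E₁.B.mulVecLin ∘ₗ (LinearMap.range E₁.ι).subtype)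
    (by
      rintro ⟨_, y, rfl⟩ ⟨_, y', rfl⟩ h
      simp only [LinearMap.comp_apply, Submodule.subtype_apply, Matrix.mulVecLin_apply, B_mulVec, π_ι] at h
      have := congrArg E.π h
      rw [π_ι, π_ι] at this
      exact Subtype.ext (by simp [this]))
    (by
      rintro ⟨_, y, rfl⟩ ⟨_, y', rfl⟩
      simp only [LinearMap.comp_apply, Submodule.subtype_apply, Matrix.mulVecLin_apply, B_mulVec, π_ι,
        E.iso, E₁.iso])
  have hgι : ∀ y, gmat g *ᵥ E₁.ι y = E.ι y := fun y => by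
    refine (hg ⟨_, y, rfl⟩).trans ?_
    simp only [LinearMap.comp_apply, Submodule.subtype_apply, Matrix.mulVecLin_apply, B_mulVec, π_ι]
  obtain ⟨r, rfl⟩ : ∃ r, n = 3 + r := ⟨n - 3, by omega⟩
  have hdet : (gmat g).det ^ (q + 1) = 1 := by
    exact HermStd.det_norm hF (gmat g) g.2
  have hd0 : (gmat g).det ≠ 0 := fun h0 => by simp [h0] at hdet
  obtain ⟨D, hD, hDι⟩ := exists_gu_fix hF (by omega) E (δ := (gmat g).det⁻¹)
    (by rw [inv_pow, hdet, inv_one])
  refine ⟨suOfGU (D * g) (by rw [gmat_mul, Matrix.det_mul, hD, inv_mul_cancel₀ hd0]), fun y => ?_⟩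
  show gmat (D * g) *ᵥ _ = _
  rw [gmul_mulVec, hgι, hDι]

theorem exists_torus {a z f : Fin 3 → F} (P : Hyp q a z f) {μ : F} (hμ : μ ≠ 0) :
    ∃ T : Cfsg.SU 3 F q, mat T *ᵥ a = μ • a := by
  classical
  have hμq : μ ^ q ≠ 0 := pow_ne_zero _ hμ
  set ζ := μ ^ q / μ with hζ
  have P' : Hyp q (μ • a) (ζ • z) ((μ ^ q)⁻¹ • f) :=
    { aa := by rw [H_smul_left, H_smul_right, P.aa]; simp
      ff := by rw [H_smul_left, H_smul_right, P.ff]; simp
      af := by rw [H_smul_left, H_smul_right, P.af, inv_pow, pow_qq hF, mul_one, mul_inv_cancel₀ hμ]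
      zz := by rw [H_smul_left, H_smul_right, P.zz, hζ, div_pow, pow_qq hF]; field_simp
      za := by rw [H_smul_left, H_smul_right, P.za]; simp
      zf := by rw [H_smul_left, H_smul_right, P.zf]; simp }
  obtain ⟨E, h1, h2, h3⟩ := exists_emb hF P P'
  let Q : Matrix (Fin 3) (Fin 3) F := Matrix.of fun i j => ![a, z, f] j i
  let d : Fin 3 → F := ![μ, ζ, (μ ^ q)⁻¹]
  have hcol : ∀ c : Fin 3 → F, Q *ᵥ c = c 0 • a + c 1 • z + c 2 • f := fun c => by
    funext i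
    simp [Q, Matrix.mulVec, dotProduct, Fin.sum_univ_three, mul_comm]
  have hQ : Q.det ≠ 0 := by
    refine IsUnit.ne_zero ((Matrix.isUnit_iff_isUnit_det Q).1 (Matrix.mulVec_surjective_iff_isUnit.1 ?_))
    intro y
    refine ⟨![Cfsg.hermForm 3 F q y f, Cfsg.hermForm 3 F q y z, Cfsg.hermForm 3 F q y a], ?_⟩
    rw [hcol]
    simpa using (P.expand hF y).symm
  have hMQ : E.A * Q = Q * Matrix.diagonal d := by
    refine Matrix.ext_of_mulVec_single fun j => ?_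
    rw [← Matrix.mulVec_mulVec, ← Matrix.mulVec_mulVec, A_mulVec, hcol, hcol, map_add, map_add, map_smul,
      map_smul, map_smul, h1, h2, h3]
    simp only [Matrix.mulVec_diagonal, d, Matrix.cons_val_zero, Matrix.cons_val_one, Matrix.cons_val_two,
      Matrix.head_cons, Matrix.tail_cons]
    module
  have hd : E.A.det = 1 := by
    have := congrArg Matrix.det hMQ
    rw [Matrix.det_mul, Matrix.det_mul, Matrix.det_diagonal, Fin.prod_univ_three, mul_comm] at this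
    rw [mul_left_cancel₀ hQ this]
    simp only [d, Matrix.cons_val_zero, Matrix.cons_val_one, Matrix.cons_val_two, Matrix.head_cons,
      Matrix.tail_cons]
    rw [hζ]
    field_simp
  exact ⟨suMk E.A hd fun x y => by rw [A_mulVec, A_mulVec, E.iso], by rw [suMk_mulVec, A_mulVec, h1]⟩

/-- The configuration. -/
theorem exists_ctx {m : ℕ} (hn : n = 2 * m + 1) (hm : 2 ≤ m) (D : Pair F q)
    (h2 : q = 2 → ∃ r : F, r ^ q = r ∧ D.β - r * D.ν ^ q ≠ 0 ∧
      D.γ⁻¹ * (Cfsg.hermForm 3 F q D.a D.b) ^ q *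
        ((D.β - r * D.ν ^ q) * (D.β - r * D.ν ^ q) ^ q) ≠ 1) :
    ∃ (u g h : Cfsg.SU n F q) (v : Vec) (E : Emb F q n) (μ κ κ₂ : F),
      (mat u - 1) ^ n = 0 ∧ (mat u - 1) ^ (n - 1) *ᵥ v ≠ 0 ∧ μ ≠ 0 ∧ κ ≠ 0 ∧
      E.ι D.a = μ • ((mat u - 1) ^ (n - 1) *ᵥ v) ∧
      D.ν • E.ι D.z = κ • ((mat u - 1) ^ m *ᵥ v) + κ₂ • ((mat u - 1) ^ (n - 1) *ᵥ v) ∧
      E.hom D.u ∈ Subgroup.closure ({u, g * u * g⁻¹, h * u * h⁻¹} : Set (Cfsg.SU n F q)) ∧
      E.hom D.y ∈ Subgroup.closure ({u, g * u * g⁻¹, h * u * h⁻¹} : Set (Cfsg.SU n F q)) := by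
  classical
  set h₀ := Cfsg.hermForm 3 F q D.a D.b with hh₀
  obtain ⟨t, r, ht, ht1, hrq, hβ, hcond⟩ := exists_choice hF D.hγ D.ab D.hν h2
  set β' := D.β - r * D.ν ^ q with hβ'
  have hγ0 : D.γ ≠ 0 := fun h => by simpa [h] using D.hγ
  have ht0 : t ≠ 0 := fun h => by simp [h] at ht
  have hγq : D.γ ^ q = D.γ⁻¹ := eq_inv_of_mul_eq_one_left (by rw [← pow_succ, D.hγ])
  have htq : t ^ q = t⁻¹ := eq_inv_of_mul_eq_one_left (by rw [← pow_succ, ht])
  set lam := t / D.γ with hlam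
  have hlam0 : lam ≠ 0 := div_ne_zero ht0 hγ0
  have hlamq : lam ^ q = D.γ / t := by rw [hlam, div_pow, htq, hγq]; field_simp
  set r1 := lam ^ q * h₀ with hr1
  obtain ⟨u, a₁, z₁, hnil, hN1, haa₁, har₁, hza₁, hzz₁, huz₁⟩ :=
    SURegModel.exists_model (n := n) (g := t) (β := β') (r1 := r1) hF ⟨m, by omega⟩ (by omega) ht ht1 hβ (fun _ => by
      convert hcond using 1
      rw [hr1, mul_pow, pow_qq hF, hlamq, hlam]
      rw [← hh₀]
      field_simp)
  obtain ⟨v, hv⟩ := exists_cyclic u hN1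
  set N := mat u - 1 with hN
  set e₀ := N ^ (n - 1) *ᵥ v with he₀
  have hN0 : ∀ {i j : ℕ}, n ≤ i + j → ∀ x y, H (N ^ i *ᵥ x) (N ^ j *ᵥ y) = 0 :=
    fun hij => H_Npow_zero hF u hnil hij
  have hee : H e₀ e₀ = 0 := hN0 (by omega) _ _
  have hue : mat u *ᵥ e₀ = (1 : F) • e₀ := by
    rw [one_smul, ← sub_eq_zero, ← N_mulVec, he₀, Matrix.mulVec_mulVec, ← hN, ← pow_succ',
      show n - 1 + 1 = n by omega, hnil, Matrix.zero_mulVec]
  -- the element
  set w' := N ^ (m - 1) *ᵥ v with hw'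
  obtain ⟨g, hg⟩ := exists_hs hF hee (show H w' e₀ = 0 from hN0 (by omega) _ _)
  have hx := hs_mul hF hee hg (hs_conj hF (hs_inv hF hee hg) hue)
  set X := g * (u * g⁻¹ * u⁻¹) with hX
  have hwx : w' + (1 : F) ^ q • (mat u *ᵥ -w') = -(N ^ m *ᵥ v) := by
    rw [one_pow, one_smul, Matrix.mulVec_neg, ← sub_eq_add_neg, ← neg_sub (mat u *ᵥ w') w',
      ← N_mulVec, ← hN, hw', Matrix.mulVec_mulVec, ← pow_succ', show m - 1 + 1 = m by omega]
  rw [hwx] at hx
  obtain ⟨α, hα⟩ := exists_hsa hx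
  set wx := -(N ^ m *ᵥ v) with hwxd
  have hwxe : H wx e₀ = 0 := hα.1
  have hQ : H wx wx ≠ 0 := by
    rw [hwxd, H_neg_left, H_neg_right hF, neg_neg, pair_top hF u hnil (by omega) (by omega)]
    exact mul_ne_zero (pow_ne_zero _ (by norm_num)) (top_ne hF u hnil hv)
  have hNν : (D.ν * D.ν ^ q) ^ q = D.ν * D.ν ^ q := by rw [mul_pow, pow_qq hF, mul_comm]
  obtain ⟨μ, hμ⟩ := UnitaryCount.exists_norm_eq hF (μ := H wx wx / (D.ν * D.ν ^ q))
    (div_ne_zero hQ (mul_ne_zero D.hν (pow_ne_zero _ D.hν))) (by rw [div_pow, hNν, H_conj hF])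
  rw [pow_succ'] at hμ
  have hνν0 : D.ν * D.ν ^ q ≠ 0 := mul_ne_zero D.hν (pow_ne_zero _ D.hν)
  rw [eq_div_iff hνν0] at hμ
  have hμ0 : μ ≠ 0 := fun h => by rw [h] at hμ; exact hQ (by simpa using hμ.symm)
  have hμq0 : μ ^ q ≠ 0 := pow_ne_zero _ hμ0
  obtain ⟨τ, hτ⟩ := exists_trace_eq hF (c := (1 : F)) (one_pow q)
  set δ := α - μ * μ ^ q * D.c with hδ
  have hδq : δ + δ ^ q = 0 := by
    have hc := D.hu.2.1
    rw [H_smul_left, H_smul_right, D.zz, mul_one] at hc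
    rw [hδ, sub_pow_q hF, mul_pow, mul_pow, pow_qq hF]
    linear_combination hα.2.1 - (μ * μ ^ q) * hc + hμ
  set s := δ * τ with hs
  have hα' : α - s + s ^ q = μ * μ ^ q * D.c := by
    rw [hs, mul_pow]
    linear_combination τ ^ q * hδq - δ * hτ + hδ
  have hX2 := hsa_shift hF hee hα s
  rw [hα'] at hX2
  set w₂ := wx + s • e₀ with hw₂
  set e := μ • e₀ with he
  have hX3 : Hsa q X e ((μ ^ q)⁻¹ • w₂) D.c := by
    have h := hsa_scale hF (μ := μ⁻¹) (e := e)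
      (show Hsa q X (μ⁻¹ • e) w₂ (μ * μ ^ q * D.c) by rwa [he, inv_smul_smul₀ hμ0]) (inv_ne_zero hμ0)
    rw [inv_pow] at h
    convert h using 1
    field_simp
  set zc := (μ ^ q * D.ν)⁻¹ • w₂ with hzc
  have hνz : D.ν • zc = (μ ^ q)⁻¹ • w₂ := by
    rw [hzc, smul_smul, mul_inv, mul_comm (μ ^ q)⁻¹, mul_inv_cancel_left₀ D.hν]
  rw [← hνz] at hX3
  have hw₂w₂ : H w₂ w₂ = H wx wx := by
    have : H e₀ wx = 0 := (H_eq_zero_comm hF).1 hwxe
    simp only [hw₂, H_add_left, H_add_right hF, H_smul_left, H_smul_right, hee, this, hwxe]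
    ring
  have hwe : H w₂ e₀ = 0 := hX2.1
  obtain ⟨f₀, Pf⟩ := exists_hyp hF (a := e) (z := zc)
    (by rw [he, H_smul_left, H_smul_right, hee]; simp)
    (smul_ne_zero hμ0 hv)
    (by
      have hν0 := D.hν
      rw [hzc, H_smul_left, H_smul_right, hw₂w₂, inv_pow, mul_pow, pow_qq hF, ← hμ]
      field_simp)
    (by rw [hzc, he, H_smul_left, H_smul_right, hwe]; simp)
  set k := (h₀ ^ q)⁻¹ with hk
  have hkq : k ^ q = h₀⁻¹ := by rw [hk, inv_pow, pow_qq hF]
  have hh0 : h₀ ≠ 0 := D.ab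
  have P₀ : Hyp q D.a D.z (k • D.b) :=
    { aa := D.aa
      ff := by rw [H_smul_left, H_smul_right, D.bb]; simp
      af := by rw [H_smul_right, hkq, ← hh₀, inv_mul_cancel₀ hh0]
      zz := D.zz
      za := D.za
      zf := by rw [H_smul_right, D.zb]; simp }
  obtain ⟨E, hEa, hEz, -⟩ := exists_emb hF P₀ Pf
  have P₁ : Hyp q a₁ z₁ ((k / lam) • (mat u *ᵥ a₁)) :=
    { aa := haa₁
      ff := by rw [H_smul_left, H_smul_right, SU_H, haa₁]; simp
      af := by
        rw [H_smul_right, har₁, hr1, div_pow, hkq]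
        field_simp
      zz := hzz₁
      za := hza₁
      zf := by
        have h := SU_H u z₁ a₁
        rw [huz₁, H_add_left, H_smul_left, H_smul_left, hza₁, SU_H, haa₁, mul_zero, add_zero,
          mul_eq_zero, or_iff_right ht0] at h
        rw [H_smul_right, h, mul_zero] }
  obtain ⟨E₁, hE₁a, hE₁z, hE₁f⟩ := exists_emb hF P₀ P₁
  obtain ⟨G₁, hG₁⟩ := exists_transport hF (show 3 < n by omega) E₁ E
  have hk0 : k ≠ 0 := inv_ne_zero (pow_ne_zero _ hh0)
  have hG₁a : mat G₁ *ᵥ a₁ = E.ι D.a := by rw [← hE₁a, hG₁]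
  have hG₁z : mat G₁ *ᵥ z₁ = E.ι D.z := by rw [← hE₁z, hG₁]
  have hG₁b : mat G₁ *ᵥ (mat u *ᵥ a₁) = lam • E.ι D.b := by
    have := hG₁ (k • D.b)
    rw [hE₁f, Matrix.mulVec_smul, map_smul] at this
    have h2 := congrArg (fun x => (lam / k) • x) this
    simp only [smul_smul] at h2
    rwa [show lam / k * (k / lam) = 1 by field_simp, one_smul,
      div_mul_cancel₀ _ hk0] at h2
  refine ⟨u, g, G₁, v, E, μ, -(μ ^ q)⁻¹, (μ ^ q)⁻¹ * s, hnil, hv, hμ0,
    neg_ne_zero.2 (inv_ne_zero hμq0), hEa, ?_, ?_⟩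
  · rw [hEz, hνz, hw₂, hwxd, smul_add, smul_smul, smul_neg, neg_smul]
  set G := Subgroup.closure ({u, g * u * g⁻¹, G₁ * u * G₁⁻¹} : Set (Cfsg.SU n F q)) with hG
  have huG : u ∈ G := Subgroup.subset_closure (by simp)
  have hXG : X ∈ G := by
    rw [hX, show g * (u * g⁻¹ * u⁻¹) = g * u * g⁻¹ * u⁻¹ by group]
    exact mul_mem (Subgroup.subset_closure (by simp)) (inv_mem huG)
  have hXeq : E.hom D.u = X := by
    refine hsa_unique (hom_hsa E D.hu) ?_
    rw [hEa, map_smul, hEz]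
    exact hX3
  refine ⟨hXeq ▸ hXG, ?_⟩
  set V := G₁ * u * G₁⁻¹ with hV
  have hVG : V ∈ G := Subgroup.subset_closure (by simp [hV])
  have hVa : mat V *ᵥ E.ι D.a = lam • E.ι D.b := by
    rw [hV, mul_mulVec, mul_mulVec, inv_mulVec G₁ hG₁a, hG₁b]
  have hVz : mat V *ᵥ E.ι D.z = lam • (D.γ • E.ι D.z + β' • E.ι D.b) := by
    rw [hV, mul_mulVec, mul_mulVec, inv_mulVec G₁ hG₁z, huz₁, Matrix.mulVec_add, Matrix.mulVec_smul,
      Matrix.mulVec_smul, hG₁z, hG₁b, show t = lam * D.γ by rw [hlam, div_mul_cancel₀ _ hγ0]]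
    module
  have hY : Hsa q (V * X * V⁻¹) (lam • E.ι D.b) (D.ν • (lam • (D.γ • E.ι D.z + β' • E.ι D.b))) D.c :=
    hsa_conj hF (e := E.ι D.a) (w := D.ν • E.ι D.z) (by rw [hEa, hEz]; exact hX3) hVa
      (by rw [Matrix.mulVec_smul, hVz])
  have hY2 := hsa_scale hF hY hlam0
  have hll : lam * lam ^ q = 1 := by rw [hlamq, hlam]; field_simp
  have hYeq : E.hom D.y = V * X * V⁻¹ := by
    refine hsa_unique (hom_hsa E (Pair.shift hF D hrq)) ?_
    rw [← hβ', map_smul, map_add, map_smul, map_smul]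
    rw [hll, one_mul, smul_smul, smul_smul] at hY2
    convert hY2 using 2
    linear_combination -D.ν * hll
  exact hYeq ▸ mul_mem (mul_mem hVG hXG) (inv_mem hVG)

theorem finish_big (hq : 3 ≤ q) {m : ℕ} (hn : n = 2 * m + 1) (hm : 2 ≤ m) :
    ∃ u g h : Cfsg.SU n F q, IsNilpotent (mat u - 1) ∧ (mat u - 1) ^ (n - 1) ≠ 0 ∧
      Subgroup.closure ({u, g * u * g⁻¹, h * u * h⁻¹} : Set (Cfsg.SU n F q)) = ⊤ := by
  obtain ⟨D, hD⟩ := exists_pair hF hq
  obtain ⟨u, g, h, v, E, μ, κ, κ₂, hnil, hv, hμ, hκ, hea, hνz, hXu, hXy⟩ :=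
    exists_ctx hF hn hm D (fun h => absurd h (by omega))
  refine ⟨u, g, h, ⟨n, hnil⟩, fun h0 => hv (by rw [h0, Matrix.zero_mulVec]), ?_⟩
  set G := Subgroup.closure ({u, g * u * g⁻¹, h * u * h⁻¹} : Set (Cfsg.SU n F q)) with hG
  have huG : u ∈ G := Subgroup.subset_closure (by simp)
  have hall : ∀ x, E.hom x ∈ G := fun x => by
    have hle : (⊤ : Subgroup (Cfsg.SU 3 F q)) ≤ G.comap E.hom := by
      rw [← hD, Subgroup.closure_le]
      rintro _ (rfl | rfl)
      · exact hXu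
      · exact hXy
    exact hle (Subgroup.mem_top x)
  set k := ((Cfsg.hermForm 3 F q D.a D.b) ^ q)⁻¹ with hk
  have P₀ : Hyp q D.a D.z (k • D.b) :=
    { aa := D.aa
      ff := by rw [H_smul_left, H_smul_right, D.bb]; simp
      af := by rw [H_smul_right, hk, inv_pow, pow_qq hF, inv_mul_cancel₀ D.ab]
      zz := D.zz
      za := D.za
      zf := by rw [H_smul_right, D.zb]; simp }
  set f := E.ι (k • D.b) with hf
  set e := E.ι D.a with he
  set z := E.ι D.z with hz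
  have P : Hyp q e z f := ⟨by rw [he, E.iso, P₀.aa], by rw [hf, E.iso, P₀.ff], by rw [he, hf, E.iso, P₀.af],
    by rw [hz, E.iso, P₀.zz], by rw [hz, he, E.iso, P₀.za], by rw [hz, hf, E.iso, P₀.zf]⟩
  have hTι : ∀ p, Cfsg.hermForm 3 F q p p = 0 → TFull q G (E.ι p) := by
    intro p hp c hc
    refine ⟨E.hom (tvu hF hp hc), hall _, fun x => ?_⟩
    rw [hom_mulVec, tvu_mulVec, add_sub_cancel_left, map_smul, H_ι]
  have hue : mat u *ᵥ e = e := by
    rw [hea, ← sub_eq_zero, ← N_mulVec, Matrix.mulVec_smul, Matrix.mulVec_mulVec, ← pow_succ',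
      show n - 1 + 1 = n by omega, hnil, Matrix.zero_mulVec, smul_zero]
  have hS : ∀ w, EH q G e w → H w e = 0 → ∀ c : F, EH q G e (c • prj q e z f w) := by
    intro w hw hwe c
    obtain ⟨g₃, hg₃⟩ := exists_hs hF P₀.aa
      (show Cfsg.hermForm 3 F q ((-H w z) • D.z) D.a = 0 by rw [H_smul_left, D.za, mul_zero])
    obtain ⟨a₃, ha₃⟩ := exists_hsa hg₃
    have h1 : EH q G e ((-H w z) • z) := by
      refine eh_of_hsa hF (hall g₃) (a := a₃) ?_
      have := hom_hsa E ha₃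
      rwa [map_smul] at this
    have h2 := eh_add hF P.aa (eh_shift hF P.aa hw (-H w f)) h1
    have e1 : w + -H w f • e + -H w z • z = prj q e z f w := by
      rw [prj, hwe]; module
    rw [e1] at h2
    by_cases hc : c = 0
    · rw [hc, zero_smul]; exact eh_zero hF
    obtain ⟨T, hT⟩ := exists_torus hF P₀ (μ := c ^ q) (pow_ne_zero _ hc)
    obtain ⟨g', hg', hh'⟩ := h2
    refine ⟨E.hom T * g' * (E.hom T)⁻¹, mul_mem (mul_mem (hall T) hg') (inv_mem (hall T)), ?_⟩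
    have := hs_conj hF hh' (A := E.hom T) (v := e) (α := c ^ q) (by rw [he, hom_ι, hT, map_smul])
    rwa [pow_qq hF, hom_fix hF E P₀] at this
  refine top_of_chain hF (by omega) (by omega) huG hnil hv P hea ?_ (hTι _ P₀.aa) (hTι _ P₀.ff)
    (leading_big hF huG P hue (hTι _ P₀.aa) (hTι _ P₀.ff) hq hS)
  refine ⟨D.ν⁻¹ • (κ • ((mat u - 1) ^ (m - 2) *ᵥ v) + κ₂ • ((mat u - 1) ^ (n - 3) *ᵥ v)), ?_⟩
  rw [Matrix.mulVec_smul, Matrix.mulVec_add, Matrix.mulVec_smul, Matrix.mulVec_smul, Matrix.mulVec_mulVec,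
    Matrix.mulVec_mulVec, ← pow_add, ← pow_add, show 2 + (m - 2) = m by omega,
    show 2 + (n - 3) = n - 1 by omega, ← hνz, inv_smul_smul₀ D.hν]

omit hF

/-- Over four elements the square of a Heisenberg element with anisotropic vector is a transvection. -/
theorem tfull_sq (hF : Fintype.card F = 2 ^ 2) {G : Subgroup (Cfsg.SU n F 2)} {g : Cfsg.SU n F 2}
    {e w : Vec} {a : F} (hg : g ∈ G) (he : Cfsg.hermForm n F 2 e e = 0) (h : Hsa 2 g e w a)
    (hw : Cfsg.hermForm n F 2 w w = 1) : TFull 2 G e := by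
  have h20 : (2 : F) = 0 := by
    have h := Nat.cast_card_eq_zero F
    rw [hF] at h
    exact pow_eq_zero_iff two_ne_zero |>.1 (by exact_mod_cast h)
  intro c hc
  have hc' : c * (c + 1) = 0 := by linear_combination hc
  rcases mul_eq_zero.1 hc' with h0 | h1
  · exact ⟨1, one_mem G, fun x => by rw [h0]; simp [mat_one]⟩
  · refine ⟨g * g, mul_mem hg hg, fun x => ?_⟩
    have hew : Cfsg.hermForm n F 2 e w = 0 := (H_eq_zero_comm hF).1 h.1
    rw [mul_mulVec, h.2.2, h.2.2]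
    simp only [H_add_left, H_smul_left, H_neg_left, he, hew, h.1, hw]
    match_scalars
    all_goals first
      | ring1
      | linear_combination (Cfsg.hermForm n F 2 x e * a - Cfsg.hermForm n F 2 x w) * h20 -
          Cfsg.hermForm n F 2 x e * h1
      | linear_combination Cfsg.hermForm n F 2 x e * h20

theorem finish_two (hF : Fintype.card F = 2 ^ 2) {m : ℕ} (hn : n = 2 * m + 1) (hm : 2 ≤ m) :
    ∃ u g h : Cfsg.SU n F 2, IsNilpotent (mat u - 1) ∧ (mat u - 1) ^ (n - 1) ≠ 0 ∧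
      Subgroup.closure ({u, g * u * g⁻¹, h * u * h⁻¹} : Set (Cfsg.SU n F 2)) = ⊤ := by
  obtain ⟨D, ω, hω1, hω3, ⟨C₃, hC₃, hC₃v⟩, hβ, hcond⟩ := exists_pair_two hF
  obtain ⟨u, g, h, v, E, μ, κ, κ₂, hnil, hv, hμ, hκ, hea, hνz, hXu, hXy⟩ :=
    exists_ctx hF hn hm D (fun _ => ⟨0, by simp, by simpa using hβ, by simpa using hcond⟩)
  refine ⟨u, g, h, ⟨n, hnil⟩, fun h0 => hv (by rw [h0, Matrix.zero_mulVec]), ?_⟩
  set G := Subgroup.closure ({u, g * u * g⁻¹, h * u * h⁻¹} : Set (Cfsg.SU n F 2)) with hG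
  have huG : u ∈ G := Subgroup.subset_closure (by simp)
  set N := mat u - 1 with hN
  have hle : Subgroup.closure ({D.u, D.y} : Set (Cfsg.SU 3 F 2)) ≤ G.comap E.hom := by
    rw [Subgroup.closure_le]
    rintro _ (rfl | rfl)
    · exact hXu
    · exact hXy
  set C := E.hom C₃ with hC
  have hCG : C ∈ G := hle hC₃
  set k := ((Cfsg.hermForm 3 F 2 D.a D.b) ^ 2)⁻¹ with hk
  have hk0 : k ≠ 0 := inv_ne_zero (pow_ne_zero _ D.ab)
  have P₀ : Hyp 2 D.a D.z (k • D.b) :=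
    { aa := D.aa
      ff := by rw [H_smul_left, H_smul_right, D.bb]; simp
      af := by rw [H_smul_right, hk, inv_pow, pow_qq hF, inv_mul_cancel₀ D.ab]
      zz := D.zz
      za := D.za
      zf := by rw [H_smul_right, D.zb]; simp }
  set f := E.ι (k • D.b) with hf
  set e := E.ι D.a with he
  set z := E.ι D.z with hz
  have P : Hyp 2 e z f := ⟨by rw [he, E.iso, P₀.aa], by rw [hf, E.iso, P₀.ff], by rw [he, hf, E.iso, P₀.af],
    by rw [hz, E.iso, P₀.zz], by rw [hz, he, E.iso, P₀.za], by rw [hz, hf, E.iso, P₀.zf]⟩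
  have hnorm : ∀ x : F, x ≠ 0 → x * x ^ 2 = 1 := fun x hx => by
    have h := FiniteField.pow_card_sub_one_eq_one x hx
    rw [hF] at h
    rw [← h]; ring
  have hγ0 : D.γ ≠ 0 := fun h => by simpa [h] using D.hγ
  have hTe : TFull 2 G e := by
    refine tfull_sq hF hXu (by rw [he, E.iso, D.aa]) (hom_hsa E D.hu) ?_
    rw [E.iso, H_smul_left, H_smul_right, D.zz, mul_one, hnorm _ D.hν]
  have hTf : TFull 2 G f := by
    have hTb : TFull 2 G (E.ι D.b) := by
      refine tfull_sq hF hXy (by rw [E.iso, D.bb]) (hom_hsa E D.hy) ?_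
      have hbz : Cfsg.hermForm 3 F 2 D.b D.z = 0 := (H_eq_zero_comm hF).1 D.zb
      rw [E.iso]
      simp only [H_smul_left, H_smul_right, H_add_left, H_add_right hF, D.zz, D.zb, D.bb, hbz]
      linear_combination hnorm _ hγ0 * (D.ν * D.ν ^ 2) + hnorm _ D.hν
    refine tfull_smul hF (inv_ne_zero hk0) ?_
    rwa [hf, map_smul, inv_smul_smul₀ hk0]
  have hue : mat u *ᵥ e = e := by
    rw [hea, ← sub_eq_zero, ← N_mulVec, Matrix.mulVec_smul, Matrix.mulVec_mulVec, ← hN, ← pow_succ',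
      show n - 1 + 1 = n by omega, hnil, Matrix.zero_mulVec, smul_zero]
  have hCv : ∀ x, mat C *ᵥ x = ω • x + (1 - ω) • prj 2 e z f x := fun x => by
    rw [hC, hom_mulVec, hC₃v, map_sub, map_smul, ι_π hF E P₀, prj]
    module
  have hCe : mat C *ᵥ e = ω • e := by rw [hC, he, hom_ι, hC₃v, map_smul]
  have hω : ω ^ 2 + ω + 1 = 0 :=
    (mul_eq_zero.1 (show (ω - 1) * (ω ^ 2 + ω + 1) = 0 by linear_combination hω3)).resolve_left
      (sub_ne_zero.2 hω1)
  have hconj : ∀ w, EH 2 G e w → EH 2 G e (ω ^ 2 • (mat C *ᵥ w)) := fun w ⟨g', hg', hh'⟩ =>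
    ⟨C * g' * C⁻¹, mul_mem (mul_mem hCG hg') (inv_mem hCG), hs_conj hF hh' hCe⟩
  have hneg : ∀ w, EH 2 G e w → EH 2 G e (-w) := fun w ⟨g', hg', hh'⟩ =>
    ⟨g'⁻¹, inv_mem hg', hs_inv hF P.aa hh'⟩
  have hS : ∀ w, EH 2 G e w → Cfsg.hermForm n F 2 w e = 0 →
      ∀ c : F, EH 2 G e (c • prj 2 e z f w) := by
    intro w hw _ c
    set p := prj 2 e z f w with hp
    have hCp : mat C *ᵥ p = p := hom_fix hF E P₀ C₃ w
    set p' := (ω ^ 2 - 1) • p with hp'
    have h0 : EH 2 G e p' := by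
      convert eh_add hF P.aa (hconj w hw) (hneg w hw) using 1
      rw [hp', hCv, hp]
      match_scalars
      · linear_combination hω3
      · linear_combination -hω3
    have h1 : EH 2 G e (ω ^ 2 • p') := by
      have := hconj p' h0
      rwa [hp', Matrix.mulVec_smul, hCp] at this
    have h2 : EH 2 G e (ω • p') := by
      have := hconj _ h1
      rw [Matrix.mulVec_smul, hp', Matrix.mulVec_smul, hCp] at this
      convert this using 1
      rw [hp']
      match_scalars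
      linear_combination -(ω * (ω ^ 2 - 1)) * hω3
    have hne : ω ^ 2 - 1 ≠ 0 := fun h => hω1 (by linear_combination hω3 - ω * h)
    obtain ⟨c', rfl⟩ : ∃ c', c = c' * (ω ^ 2 - 1) := ⟨c / (ω ^ 2 - 1), by field_simp⟩
    rw [← smul_smul, ← hp']
    by_cases hc' : c' = 0
    · rw [hc', zero_smul]; exact eh_zero hF
    have h3 : (c' - 1) * (c' - ω) * (c' - ω ^ 2) = 0 := by
      linear_combination hnorm c' hc' - hω3 - c' ^ 2 * hω + c' * ω * hω
    rcases mul_eq_zero.1 h3 with h3 | h3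
    · rcases mul_eq_zero.1 h3 with h3 | h3
      · rw [sub_eq_zero.1 h3, one_smul]; exact h0
      · rw [sub_eq_zero.1 h3]; exact h2
    · rw [sub_eq_zero.1 h3]; exact h1
  -- a vector of the chain
  have hN0 : ∀ {i j : ℕ}, n ≤ i + j → ∀ x y, Cfsg.hermForm n F 2 (N ^ i *ᵥ x) (N ^ j *ᵥ y) = 0 :=
    fun hij => H_Npow_zero hF u hnil hij
  have hinv : ∀ i, EH 2 G e (N ^ i *ᵥ (D.ν • z)) := by
    intro i
    induction i with
    | zero =>
      rw [pow_zero, Matrix.one_mulVec]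
      refine eh_of_hsa hF hXu (a := D.c) ?_
      have := hom_hsa E D.hu
      rwa [map_smul] at this
    | succ i ih =>
      obtain ⟨g', hg', hh'⟩ := ih
      have h1 : EH 2 G e ((1 : F) ^ 2 • (mat u *ᵥ (N ^ i *ᵥ (D.ν • z)))) :=
        ⟨u * g' * u⁻¹, mul_mem (mul_mem huG hg') (inv_mem huG),
          hs_conj hF hh' (by rw [one_smul]; exact hue)⟩
      have h2 := eh_add hF P.aa h1 (hneg _ ⟨g', hg', hh'⟩)
      rwa [one_pow, one_smul, ← sub_eq_add_neg, ← N_mulVec, ← hN, Matrix.mulVec_mulVec, ← pow_succ'] at h2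
  set l := N ^ (m - 1) *ᵥ (D.ν • z) with hl
  have hl' : l = κ • (N ^ (n - 2) *ᵥ v) := by
    rw [hl, hz, hνz, Matrix.mulVec_add, Matrix.mulVec_smul, Matrix.mulVec_smul, Matrix.mulVec_mulVec,
      Matrix.mulVec_mulVec, ← pow_add, ← pow_add,
      pow_eq_zero_of_le (show n ≤ m - 1 + (n - 1) by omega) hnil, Matrix.zero_mulVec, smul_zero, add_zero,
      show m - 1 + m = n - 2 by omega]
  have hle' : Cfsg.hermForm n F 2 l e = 0 := by
    rw [hl', hea, H_smul_left, H_smul_right, hN0 (by omega)]; simp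
  have hlz : Cfsg.hermForm n F 2 l z = 0 := by
    have h1 : Cfsg.hermForm n F 2 l (D.ν • z) = 0 := by
      rw [hz, hνz, hl', H_smul_left, H_add_right hF, H_smul_right, H_smul_right, hN0 (by omega),
        hN0 (by omega)]
      simp
    rw [H_smul_right, mul_eq_zero, or_iff_right (pow_ne_zero _ D.hν)] at h1
    exact h1
  have hll : Cfsg.hermForm n F 2 l l = 0 := by
    rw [hl', H_smul_left, H_smul_right, hN0 (by omega)]; simp
  have hprjl : prj 2 e z f l = l - Cfsg.hermForm n F 2 l f • e := by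
    rw [prj, hle', hlz]; simp
  have hll' : Cfsg.hermForm n F 2 (prj 2 e z f l) (prj 2 e z f l) = 0 := by
    rw [prj_self hF P, hprjl, H_sub_left, H_smul_left, hll, (H_eq_zero_comm hF).1 hle']; simp
  have hpl : Cfsg.hermForm n F 2 (prj 2 e z f (mat u *ᵥ f - f)) (prj 2 e z f l) ≠ 0 := by
    obtain ⟨h1, h2, h3⟩ := prj_H hF P (mat u *ᵥ f - f)
    have hNfe : Cfsg.hermForm n F 2 (mat u *ᵥ f - f) e = 0 := by
      have := SU_H u f e
      rw [hue] at this
      rw [H_sub_left, this, sub_self]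
    have hle2 : Cfsg.hermForm n F 2 e l = 0 := (H_eq_zero_comm hF).1 hle'
    rw [prj_self hF P, prj, H_sub_left, H_sub_left, H_sub_left, H_smul_left, H_smul_left, H_smul_left,
      hle2, (H_eq_zero_comm hF).1 hlz, hNfe, ← N_mulVec, ← hN, hl', H_smul_right]
    simp only [mul_zero, zero_mul, sub_zero]
    refine mul_ne_zero (pow_ne_zero _ hκ) ?_
    have := pair_top hF u hnil (i := 1) (j := n - 2) (by omega) (by omega) f v
    rw [pow_one] at this
    rw [this]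
    refine mul_ne_zero (by norm_num) fun h0 => ?_
    have h4 := P.fa hF
    rw [hea, H_smul_right, h0, mul_zero] at h4
    exact zero_ne_one h4
  refine top_of_chain hF (by omega) (by omega) huG hnil hv P hea ?_ hTe hTf
    (leading_two hF huG hCG P hue hω1 hω3 hCv hTe hTf hS hle' (hinv _) hll' hpl)
  refine ⟨D.ν⁻¹ • (κ • (N ^ (m - 2) *ᵥ v) + κ₂ • (N ^ (n - 3) *ᵥ v)), ?_⟩
  rw [← hN, Matrix.mulVec_smul, Matrix.mulVec_add, Matrix.mulVec_smul, Matrix.mulVec_smul,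
    Matrix.mulVec_mulVec, Matrix.mulVec_mulVec, ← pow_add, ← pow_add, show 2 + (m - 2) = m by omega,
    show 2 + (n - 3) = n - 1 by omega, ← hνz, inv_smul_smul₀ D.hν]

end Cfsg.Agent.Classical.SUReg
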