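import Mathlib
import Cfsg.Agent.Lib.Classical.Torus
import Cfsg.Agent.Lib.Classical.SylowSL2

/-!
# The maximal tori of `SL₂` and their normalisers
-/

set_option autoImplicit false
set_option linter.unusedSectionVars false

namespace Cfsg.Agent.Classical.TorusNormalizer

open Matrix
open scoped MatrixGroups

/-! ### Dicyclic extensions -/

section abstract

variable {G : Type*} [Group G]

/-- An abelian subgroup with an element inverting it and squaring to its involution. -/
structure Dicyclic (T : Subgroup G) (y z : G) : Prop where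
  comm : ∀ a ∈ T, ∀ b ∈ T, a * b = b * a
  zmem : z ∈ T
  zne : z ≠ 1
  ysq : y * y = z
  ynot : y ∉ T
  inv : ∀ t ∈ T, y * t * y⁻¹ = t⁻¹
  sq : ∀ t ∈ T, t * t = 1 ↔ t = 1 ∨ t = z

variable {T : Subgroup G} {y z : G} (h : Dicyclic T y z)

include h

theorem Dicyclic.mul_y {t : G} (ht : t ∈ T) : t * y = y * t⁻¹ := by
  have e := h.inv _ (T.inv_mem ht)
  rw [inv_inv, mul_inv_eq_iff_eq_mul] at e
  exact e.symm

theorem Dicyclic.sq_out {t : G} (ht : t ∈ T) : y * t * (y * t) = z := by
  rw [mul_assoc, ← mul_assoc t, h.mul_y ht, inv_mul_cancel_right, h.ysq]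

theorem Dicyclic.sq_of_mem {x : G} (hx : y⁻¹ * x ∈ T) : x * x = z := by
  simpa using h.sq_out hx

theorem Dicyclic.card_classes [Finite G] (N : Subgroup G)
    (hN : ∀ x, x ∈ N ↔ x ∈ T ∨ y⁻¹ * x ∈ T) :
    Nat.card N = 2 * Nat.card T ∧ 2 * Nat.card (ConjClasses N) = Nat.card T + 6 := by
  classical
  haveI := Fintype.ofFinite T
  let f : Bool × T → N := fun u => match u with
    | (false, t) => ⟨t, (hN _).2 (Or.inl t.2)⟩
    | (true, t) => ⟨y * t, (hN _).2 (Or.inr (by simp))⟩
  have hf : Function.Bijective f := by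
    constructor
    · rintro ⟨_ | _, s⟩ ⟨_ | _, t⟩ e <;> have e' := congrArg Subtype.val e <;> simp only [f] at e'
      · rw [Subtype.ext e']
      · exact absurd (T.mul_mem_cancel_right t.2 |>.1 (e' ▸ s.2)) h.ynot
      · exact absurd (T.mul_mem_cancel_right s.2 |>.1 (e'.symm ▸ t.2)) h.ynot
      · rw [Subtype.ext (mul_left_cancel e')]
    · rintro ⟨x, hx⟩
      rcases (hN x).1 hx with hx | hx
      · exact ⟨(false, ⟨x, hx⟩), rfl⟩
      · exact ⟨(true, ⟨_, hx⟩), Subtype.ext (mul_inv_cancel_left y x)⟩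
  have hcN : Nat.card N = 2 * Nat.card T := by
    rw [← Nat.card_eq_of_bijective f hf, Nat.card_prod, Nat.card_eq_fintype_card (α := Bool),
      Fintype.card_bool]
  refine ⟨hcN, ?_⟩
  let φ : Bool × T ≃ N := Equiv.ofBijective f hf
  let zT : T := ⟨z, h.zmem⟩
  have hsqT : ∀ t : T, t * t = 1 ↔ t = 1 ∨ t = zT := fun t => by
    simp only [Subtype.ext_iff, Subgroup.coe_mul, Subgroup.coe_one, zT]
    exact h.sq t t.2
  have hmix : ∀ s t : T, Commute (f (false, s)) (f (true, t)) ↔ s * s = 1 := fun s t => by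
    rw [Commute, SemiconjBy, Subtype.ext_iff, Subtype.ext_iff]
    simp only [f, Subgroup.coe_mul, Subgroup.coe_one]
    rw [← mul_assoc, h.mul_y s.2, mul_assoc, mul_assoc, mul_right_inj,
      h.comm _ (T.inv_mem s.2) _ t.2, mul_right_inj, inv_eq_iff_mul_eq_one]
  have hout : ∀ s t : T, Commute (f (true, s)) (f (true, t)) ↔ (s⁻¹ * t = 1 ∨ s⁻¹ * t = zT) := by
    intro s t
    rw [← hsqT, Commute, SemiconjBy, Subtype.ext_iff, Subtype.ext_iff]
    simp only [f, Subgroup.coe_mul, Subgroup.coe_one, Subgroup.coe_inv]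
    rw [mul_assoc y, ← mul_assoc (s : G), h.mul_y s.2, mul_assoc y, mul_assoc y,
      ← mul_assoc (t : G), h.mul_y t.2, mul_assoc y, mul_right_inj, mul_right_inj]
    constructor
    · intro e
      nth_rw 2 [e]
      group
    · intro e
      rw [eq_inv_of_mul_eq_one_left e, _root_.mul_inv_rev, inv_inv]
  have hzT : (1 : T) ≠ zT := fun e => h.zne (congrArg Subtype.val e).symm
  have hfilter : (Finset.univ.filter fun t : T => t * t = 1).card = 2 := by
    rw [show (Finset.univ.filter fun t : T => t * t = 1) = {1, zT} by ext; simp [hsqT],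
      Finset.card_pair hzT]
  have hcase : ∀ u : Bool × T, Nat.card {v : Bool × T // Commute (f u) (f v)} =
      if u.1 = true then 4 else Nat.card T + if u.2 * u.2 = 1 then Nat.card T else 0 := by
    rintro ⟨_ | _, s⟩
    · rw [if_neg (by simp), Nat.card_eq_fintype_card, Fintype.card_subtype,
        show (Finset.univ.filter fun v : Bool × T => Commute (f (false, s)) (f v)) =
          ({false} : Finset Bool) ×ˢ Finset.univ ∪
            (if s * s = 1 then ({true} : Finset Bool) ×ˢ Finset.univ else ∅) by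
          ext ⟨_ | _, t⟩
          · simp [show Commute (f (false, s)) (f (false, t)) from
              Subtype.ext (h.comm _ s.2 _ t.2)]
          · by_cases hs : s * s = 1 <;> simp [hmix, hs]]
      rw [Finset.card_union_of_disjoint (by
        split_ifs
        · simp [Finset.disjoint_left]
        · simp)]
      simp only
      split_ifs <;> simp [Nat.card_eq_fintype_card]
    · rw [if_pos rfl, Nat.card_eq_fintype_card, Fintype.card_subtype,
        show (Finset.univ.filter fun v : Bool × T => Commute (f (true, s)) (f v)) =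
          {(false, 1), (false, zT), (true, s), (true, s * zT)} by
          ext ⟨_ | _, t⟩
          · simp only [Finset.mem_filter, Finset.mem_univ, true_and]
            rw [Commute.symm_iff, hmix, hsqT]
            simp
          · simp [hout, inv_mul_eq_iff_eq_mul, eq_comm]]
      have hne : s ≠ s * zT := fun e => hzT (mul_left_cancel (a := s) (by rwa [mul_one]))
      simp [Finset.card_insert_of_notMem, hzT, hne]
  have hpair : Nat.card {p : N × N // Commute p.1 p.2} = Nat.card T * (Nat.card T + 6) := by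
    rw [← Nat.card_congr ((φ.prodCongr φ).subtypeEquiv
        (p := fun uv => Commute (φ uv.1) (φ uv.2)) fun uv => Iff.rfl),
      Nat.card_congr (Equiv.subtypeProdEquivSigmaSubtype fun u v => Commute (φ u) (φ v)),
      Nat.card_sigma]
    refine (Finset.sum_congr rfl fun u _ => hcase u).trans ?_
    rw [Fintype.sum_prod_type]
    simp only [Fintype.sum_bool, if_true, Bool.false_eq_true, if_false, Finset.sum_add_distrib,
      Finset.sum_const, Finset.card_univ, ← Finset.sum_filter, hfilter, smul_eq_mul,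
      Nat.card_eq_fintype_card]
    ring
  rw [card_comm_eq_card_conjClasses_mul_card, hcN] at hpair
  refine Nat.eq_of_mul_eq_mul_right (Nat.card_pos (α := T)) ?_
  rw [mul_comm 2 (Nat.card (ConjClasses N)), mul_assoc, hpair]
  ring

end abstract

/-! ### Tori of `SL₂` -/

variable {F : Type*} [Field F]

/-- The scalar `-1`. -/
def negOne (F : Type*) [Field F] : SL(2, F) := ⟨-1, by simp [det_fin_two]⟩

theorem coe_negOne : (negOne F : Matrix (Fin 2) (Fin 2) F) = -1 := rfl

theorem negOne_sq : negOne F * negOne F = 1 := Subtype.ext (by simp [coe_negOne])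

/-- A maximal torus of `SL₂` with an element inverting it. -/
structure TorusData (T : Subgroup SL(2, F)) (y : SL(2, F)) : Prop where
  comm : ∀ a ∈ T, ∀ b ∈ T, a * b = b * a
  negmem : negOne F ∈ T
  ysq : y * y = negOne F
  inv : ∀ t ∈ T, y * t * y⁻¹ = t⁻¹
  cent : ∀ g ∈ T, g * g ≠ 1 → ∀ x, g * x = x * g → x ∈ T
  tr : ∀ g ∈ T, ∀ g' ∈ T, (g : Matrix (Fin 2) (Fin 2) F).trace =
    (g' : Matrix (Fin 2) (Fin 2) F).trace → g' = g ∨ g' = g⁻¹
  gen : ∃ g ∈ T, g * g ≠ 1

variable {T : Subgroup SL(2, F)} {y : SL(2, F)} (h : TorusData T y)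

include h

theorem TorusData.centralizer_singleton {g : SL(2, F)} (hg : g ∈ T) (hg2 : g * g ≠ 1) :
    Subgroup.centralizer ({g} : Set SL(2, F)) = T := by
  ext x
  rw [Subgroup.mem_centralizer_singleton_iff]
  exact ⟨fun e => h.cent g hg hg2 x e.symm, fun hx => h.comm x hx g hg⟩

theorem TorusData.centralizer_of_le {P : Subgroup SL(2, F)} (hP : P ≤ T) {g : SL(2, F)} (hg : g ∈ P)
    (hg2 : g * g ≠ 1) : Subgroup.centralizer (P : Set SL(2, F)) = T := by
  refine le_antisymm ?_ fun x hx => Subgroup.mem_centralizer_iff.2 fun a ha => h.comm a (hP ha) x hx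
  rw [← h.centralizer_singleton (hP hg) hg2]
  exact Subgroup.centralizer_le (Set.singleton_subset_iff.2 hg)

theorem TorusData.centralizer_eq : Subgroup.centralizer (T : Set SL(2, F)) = T := by
  obtain ⟨g, hg, hg2⟩ := h.gen
  exact h.centralizer_of_le le_rfl hg hg2

theorem TorusData.y_not_mem : y ∉ T := fun hy => by
  obtain ⟨g, hg, hg2⟩ := h.gen
  have e := h.inv g hg
  rw [h.comm y hy g hg, mul_inv_cancel_right] at e
  exact hg2 (by nth_rw 2 [e]; exact mul_inv_cancel g)

theorem TorusData.mem_or_mem {n g : SL(2, F)} (hg : g ∈ T) (hg2 : g * g ≠ 1)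
    (hn : n * g * n⁻¹ ∈ T) : n ∈ T ∨ y⁻¹ * n ∈ T := by
  have ht : (g : Matrix (Fin 2) (Fin 2) F).trace =
      ((n * g * n⁻¹ : SL(2, F)) : Matrix (Fin 2) (Fin 2) F).trace := by
    rw [Matrix.SpecialLinearGroup.coe_mul, Matrix.trace_mul_comm, ← Matrix.SpecialLinearGroup.coe_mul,
      ← mul_assoc, inv_mul_cancel, one_mul]
  rcases h.tr g hg _ hn ht with e | e
  · exact Or.inl (h.cent g hg hg2 n (mul_inv_eq_iff_eq_mul.1 e).symm)
  · refine Or.inr (h.cent g hg hg2 _ ?_)
    have e2 : n * g * n⁻¹ = y * g * y⁻¹ := e.trans (h.inv g hg).symm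
    calc g * (y⁻¹ * n) = y⁻¹ * (y * g * y⁻¹) * n := by group
      _ = y⁻¹ * n * g := by rw [← e2]; group

theorem TorusData.mem_normalizer_of_le {P : Subgroup SL(2, F)} (hP : P ≤ T) {g : SL(2, F)}
    (hg : g ∈ P) (hg2 : g * g ≠ 1) (n : SL(2, F)) :
    n ∈ Subgroup.normalizer (P : Set SL(2, F)) ↔ n ∈ T ∨ y⁻¹ * n ∈ T := by
  refine ⟨fun hn => h.mem_or_mem (hP hg) hg2
    (hP ((Subgroup.mem_normalizer_iff.1 hn g).1 hg)), fun hn => ?_⟩
  suffices hconj : ∀ n : SL(2, F), (n ∈ T ∨ y⁻¹ * n ∈ T) → ∀ x ∈ P, n * x * n⁻¹ ∈ P by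
    refine Subgroup.mem_normalizer_iff.2 fun x => ⟨hconj n hn x, fun hx => ?_⟩
    have hn' : n⁻¹ ∈ T ∨ y⁻¹ * n⁻¹ ∈ T := by
      refine hn.imp T.inv_mem fun hy => ?_
      have : y⁻¹ * n⁻¹ = (y⁻¹ * y⁻¹) * (y * (y⁻¹ * n)⁻¹ * y⁻¹) := by group
      rw [this, h.inv _ (T.inv_mem hy), inv_inv]
      refine T.mul_mem ?_ hy
      rw [← _root_.mul_inv_rev, h.ysq]
      exact T.inv_mem h.negmem
    have := hconj n⁻¹ hn' _ hx
    simpa [mul_assoc] using this
  rintro n (hn | hn) x hx
  · rw [h.comm n hn x (hP hx), mul_inv_cancel_right]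
    exact hx
  · have : n * x * n⁻¹ = y * ((y⁻¹ * n) * x * (y⁻¹ * n)⁻¹) * y⁻¹ := by group
    rw [this, h.comm _ hn x (hP hx), mul_inv_cancel_right, h.inv x (hP hx)]
    exact P.inv_mem hx

theorem TorusData.mem_normalizer (n : SL(2, F)) :
    n ∈ Subgroup.normalizer (T : Set SL(2, F)) ↔ n ∈ T ∨ y⁻¹ * n ∈ T := by
  obtain ⟨g, hg, hg2⟩ := h.gen
  exact h.mem_normalizer_of_le le_rfl hg hg2 n

theorem TorusData.dicyclic [Fintype F] (h2 : (2 : F) ≠ 0) : Dicyclic T y (negOne F) where
  comm := h.comm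
  zmem := h.negmem
  zne := fun e => h2 (by
    have := congrArg (fun M : SL(2, F) => (M : Matrix (Fin 2) (Fin 2) F) 0 0) e
    simp [coe_negOne] at this
    linear_combination -this)
  ysq := h.ysq
  ynot := h.y_not_mem
  inv := h.inv
  sq := fun t _ => ⟨fun ht => or_iff_not_imp_left.2 fun h1 =>
      Subtype.ext (SylowSL2.eq_neg_one_of_sq h2 t h1 ht),
    by rintro (rfl | rfl); exacts [one_mul 1, negOne_sq]⟩

omit h

/-- The centraliser of a conjugate. -/
theorem centralizer_map_conj {G : Type*} [Group G] (c : G) (H : Subgroup G) :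
    Subgroup.centralizer ((H.map (MulAut.conj c).toMonoidHom : Subgroup G) : Set G) =
      (Subgroup.centralizer (H : Set G)).map (MulAut.conj c).toMonoidHom := by
  ext x
  simp only [Subgroup.mem_centralizer_iff, Subgroup.mem_map_equiv, SetLike.mem_coe]
  constructor
  · intro hx a ha
    refine (MulAut.conj c).injective ?_
    rw [map_mul, map_mul, MulEquiv.apply_symm_apply]
    exact hx _ (by rw [MulEquiv.symm_apply_apply]; exact ha)
  · intro hx a ha
    refine (MulAut.conj c).symm.injective ?_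
    rw [map_mul, map_mul]
    exact hx _ ha

/-- Sylow subgroups for odd primes whose part lies in a torus. -/
theorem sylow_of_torus [Fintype F] (h2 : (2 : F) ≠ 0) (h : TorusData T y) [IsCyclic T] (ℓ : ℕ)
    [Fact ℓ.Prime] (hℓ : ℓ ≠ 2) (hdvd : ℓ ∣ Nat.card T)
    (hv : (Nat.card T).factorization ℓ = (Nat.card SL(2, F)).factorization ℓ)
    (P : Sylow ℓ SL(2, F)) :
    Nat.card (Subgroup.centralizer ((P : Subgroup SL(2, F)) : Set SL(2, F))) = Nat.card T ∧
      IsCyclic (Subgroup.centralizer ((P : Subgroup SL(2, F)) : Set SL(2, F))) ∧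
      Nat.card (Subgroup.normalizer ((P : Subgroup SL(2, F)) : Set SL(2, F))) = 2 * Nat.card T := by
  classical
  obtain ⟨D⟩ : Nonempty (Sylow ℓ T) := inferInstance
  have hHcard : Nat.card ((D : Subgroup T).map T.subtype) =
      ℓ ^ (Nat.card SL(2, F)).factorization ℓ := by
    rw [Subgroup.card_map_of_injective T.subtype_injective, Sylow.card_eq_multiplicity, hv]
  obtain ⟨c, hc⟩ := MulAction.exists_smul_eq SL(2, F) (Sylow.ofCard _ hHcard) P
  have hP : (P : Subgroup SL(2, F)) =
      ((D : Subgroup T).map T.subtype).map (MulAut.conj c).toMonoidHom := by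
    rw [← hc]
    rfl
  have hHT : (D : Subgroup T).map T.subtype ≤ T := Subgroup.map_subtype_le _
  obtain ⟨g, hg, hg2⟩ : ∃ g ∈ (D : Subgroup T).map T.subtype, g * g ≠ 1 := by
    have hpos : 0 < (Nat.card SL(2, F)).factorization ℓ := by
      rw [← hv]
      exact Nat.Prime.factorization_pos_of_dvd Fact.out Nat.card_pos.ne' hdvd
    have hne : (D : Subgroup T).map T.subtype ≠ ⊥ := fun e => by
      rw [e, Subgroup.card_bot] at hHcard
      exact (Nat.one_lt_pow hpos.ne' (Fact.out : ℓ.Prime).one_lt).ne hHcard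
    obtain ⟨g, hg, hg1⟩ := (Subgroup.bot_or_exists_ne_one _).resolve_left hne
    refine ⟨g, hg, fun e => hg1 ?_⟩
    rw [← orderOf_eq_one_iff]
    have d1 : orderOf g ∣ ℓ ^ (Nat.card SL(2, F)).factorization ℓ :=
      hHcard ▸ Subgroup.orderOf_dvd_natCard _ hg
    have d2 : orderOf g ∣ 2 := orderOf_dvd_of_pow_eq_one (by rw [sq, e])
    exact Nat.eq_one_of_dvd_coprimes
      ((((Nat.coprime_primes Fact.out Nat.prime_two).2 hℓ)).pow_left _) d1 d2
  have hcent := h.centralizer_of_le hHT hg hg2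
  have hnorm : Subgroup.normalizer (((D : Subgroup T).map T.subtype : Subgroup SL(2, F)) : Set SL(2, F))
      = Subgroup.normalizer (T : Set SL(2, F)) := by
    ext n
    rw [h.mem_normalizer, h.mem_normalizer_of_le hHT hg hg2]
  rw [hP, centralizer_map_conj, hcent]
  refine ⟨Subgroup.card_map_of_injective (MulAut.conj c).injective, ?_, ?_⟩
  · exact isCyclic_of_surjective
      (T.equivMapOfInjective (MulAut.conj c).toMonoidHom (MulAut.conj c).injective)
      (MulEquiv.surjective _)
  · rw [← Subgroup.map_equiv_normalizer_eq, hnorm,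
      Subgroup.card_map_of_injective (MulAut.conj c).injective]
    exact ((h.dicyclic h2).card_classes _ h.mem_normalizer).1

/-! ### The two tori -/

theorem coe_diagHom (a : Fˣ) :
    (Torus.diagHom a : Matrix (Fin 2) (Fin 2) F) = !![(a : F), 0; 0, ((a⁻¹ : Fˣ) : F)] := rfl

/-- The element inverting the diagonal torus. -/
def swapY (F : Type*) [Field F] : SL(2, F) := ⟨!![0, 1; -1, 0], by simp [det_fin_two]⟩

theorem coe_swapY : (swapY F : Matrix (Fin 2) (Fin 2) F) = !![0, 1; -1, 0] := rfl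

theorem torusData_diag [Fintype F] (hq : 4 ≤ Fintype.card F) :
    TorusData (Torus.diagHom (F := F)).range (swapY F) where
  comm := by rintro _ ⟨a, rfl⟩ _ ⟨b, rfl⟩; rw [← map_mul, ← map_mul, mul_comm]
  negmem := ⟨-1, Subtype.ext (by
    rw [coe_diagHom, coe_negOne]
    ext i j; fin_cases i <;> fin_cases j <;> simp)⟩
  ysq := Subtype.ext (by
    rw [Matrix.SpecialLinearGroup.coe_mul, coe_swapY, coe_negOne]
    ext i j; fin_cases i <;> fin_cases j <;> simp [Matrix.mul_apply, Fin.sum_univ_two])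
  inv := by
    rintro _ ⟨a, rfl⟩
    rw [← map_inv, mul_inv_eq_iff_eq_mul]
    refine Subtype.ext ?_
    show !![(0 : F), 1; -1, 0] * !![(a : F), 0; 0, (a⁻¹ : Fˣ)] =
      !![((a⁻¹ : Fˣ) : F), 0; 0, ((a⁻¹)⁻¹ : Fˣ)] * !![0, 1; -1, 0]
    simp
  cent := by
    rintro _ ⟨a, rfl⟩ ha x hx
    have hne : (a : F) ≠ ((a⁻¹ : Fˣ) : F) := fun e => ha (by
      have e' : a = a⁻¹ := Units.ext e
      nth_rw 2 [e']
      rw [← map_mul, mul_inv_cancel, map_one])
    have hm := congrArg (fun g : SL(2, F) => (g : Matrix (Fin 2) (Fin 2) F)) hx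
    simp only [Matrix.SpecialLinearGroup.coe_mul] at hm
    have h01 := congrFun (congrFun hm 0) 1
    have h10 := congrFun (congrFun hm 1) 0
    simp [coe_diagHom, Matrix.mul_apply, Fin.sum_univ_two, -Units.val_inv_eq_inv_val] at h01 h10
    have hne' : ((a⁻¹ : Fˣ) : F) - a ≠ 0 := sub_ne_zero.2 hne.symm
    have e01 : (x : Matrix (Fin 2) (Fin 2) F) 0 1 = 0 :=
      (mul_eq_zero.1 (by linear_combination -h01 :
        (x : Matrix (Fin 2) (Fin 2) F) 0 1 * (((a⁻¹ : Fˣ) : F) - a) = 0)).resolve_right hne'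
    have e10 : (x : Matrix (Fin 2) (Fin 2) F) 1 0 = 0 :=
      (mul_eq_zero.1 (by linear_combination h10 :
        (x : Matrix (Fin 2) (Fin 2) F) 1 0 * (((a⁻¹ : Fˣ) : F) - a) = 0)).resolve_right hne'
    have hd := Matrix.SpecialLinearGroup.det_coe x
    rw [det_fin_two, e01, zero_mul, sub_zero] at hd
    refine ⟨Units.mk0 ((x : Matrix (Fin 2) (Fin 2) F) 0 0) (left_ne_zero_of_mul_eq_one hd),
      Subtype.ext ?_⟩
    ext i j
    fin_cases i <;> fin_cases j <;> simp [coe_diagHom, e01, e10]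
    exact inv_eq_of_mul_eq_one_right hd
  tr := by
    rintro _ ⟨a, rfl⟩ _ ⟨b, rfl⟩ e
    simp [coe_diagHom, trace_fin_two, -Units.val_inv_eq_inv_val] at e
    have hprod : ((b : F) - a) * ((b : F) - ((a⁻¹ : Fˣ) : F)) = 0 := by
      linear_combination -(b : F) * e + Units.mul_inv a - Units.mul_inv b
    rcases mul_eq_zero.1 hprod with h | h
    · exact Or.inl (by rw [Units.ext (sub_eq_zero.1 h)])
    · exact Or.inr (by rw [Units.ext (sub_eq_zero.1 h), map_inv])
  gen := by
    obtain ⟨g, hg⟩ := IsCyclic.exists_generator (α := Fˣ)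
    refine ⟨_, ⟨g, rfl⟩, fun e => ?_⟩
    rw [← map_mul, ← map_one (Torus.diagHom (F := F))] at e
    have h1 := Nat.le_of_dvd two_pos
      (orderOf_dvd_of_pow_eq_one (x := g) (n := 2) (by rw [sq, Torus.diagHom_injective e]))
    rw [orderOf_eq_card_of_forall_mem_zpowers hg, Linear.natCard_units_eq] at h1
    omega

section nonsplit

variable [Fintype F] {A B : F} [Fact (∀ r : F, r ^ 2 ≠ A + B * r)]

local notation "K" => QuadraticAlgebra F A B

theorem disc_not_square (h2 : (2 : F) ≠ 0) : ¬ IsSquare (B ^ 2 + 4 * A) := by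
  rintro ⟨s, hs⟩
  refine (Fact.out : ∀ r : F, r ^ 2 ≠ A + B * r) ((B + s) / 2) ?_
  field_simp
  linear_combination -hs

theorem trace_torusHom (z : Torus.normOne F A B) :
    (Torus.torusHom z : Matrix (Fin 2) (Fin 2) F).trace =
      2 * ((z.1 : Kˣ) : K).re + B * ((z.1 : Kˣ) : K).im := by
  rw [Torus.coe_torusHom, Torus.mulMat_apply, trace_fin_two]
  simp
  ring

/-- The element inverting the non-split torus. -/
def starY {c : K} (hc : QuadraticAlgebra.norm c = -1) : SL(2, F) :=
  ⟨Torus.mulMat c * Torus.starMat B, by rw [det_mul, Torus.det_mulMat, Torus.det_starMat, hc]; norm_num⟩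

theorem torusData_normOne (hodd : Odd (Fintype.card F)) {c : K} (hc : QuadraticAlgebra.norm c = -1) :
    TorusData (Torus.torusHom (F := F) (A := A) (B := B)).range (starY hc) where
  comm := by rintro _ ⟨a, rfl⟩ _ ⟨b, rfl⟩; rw [← map_mul, ← map_mul, mul_comm]
  negmem := by
    refine ⟨⟨-1, Torus.mem_normOne.2 (by simp)⟩, Subtype.ext ?_⟩
    rw [Torus.coe_torusHom, coe_negOne, Torus.mulMat_apply]
    ext i j; fin_cases i <;> fin_cases j <;> simp [QuadraticAlgebra.re_one, QuadraticAlgebra.im_one]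
  ysq := Subtype.ext (by
    show Torus.mulMat c * Torus.starMat B * (Torus.mulMat c * Torus.starMat B) = -1
    rw [mul_assoc, ← mul_assoc (Torus.starMat B), Torus.starMat_mul_mulMat, mul_assoc,
      Torus.starMat_mul_starMat, mul_one, ← map_mul, ← QuadraticAlgebra.algebraMap_norm_eq_mul_star,
      hc, Torus.mulMat_apply]
    ext i j; fin_cases i <;> fin_cases j <;>
      simp [QuadraticAlgebra.re_one, QuadraticAlgebra.im_one])
  inv := by
    rintro _ ⟨z, rfl⟩
    rw [← map_inv, mul_inv_eq_iff_eq_mul]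
    exact GL2.sl_ext (SylowSL2.torus_conj c z)
  cent := by
    rintro _ ⟨z, rfl⟩ hz x hx
    have him : ((z.1 : Kˣ) : K).im ≠ 0 := fun e => hz (by
      refine Subtype.ext ?_
      rw [Matrix.SpecialLinearGroup.coe_mul, Torus.coe_torusHom, Matrix.SpecialLinearGroup.coe_one,
        Torus.mulMat_apply]
      have hn := Torus.mem_normOne.1 z.2
      rw [QuadraticAlgebra.norm_def, e] at hn
      ext i j
      fin_cases i <;> fin_cases j <;> simp [Matrix.mul_apply, Fin.sum_univ_two, e] <;>
        linear_combination hn)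
    have hm := congrArg (fun g : SL(2, F) => (g : Matrix (Fin 2) (Fin 2) F)) hx
    simp only [Matrix.SpecialLinearGroup.coe_mul, Torus.coe_torusHom, Torus.mulMat_apply] at hm
    have h00 := congrFun (congrFun hm 0) 0
    have h10 := congrFun (congrFun hm 1) 0
    simp [Matrix.mul_apply, Fin.sum_univ_two] at h00 h10
    have e01 : (x : Matrix (Fin 2) (Fin 2) F) 0 1 = A * (x : Matrix (Fin 2) (Fin 2) F) 1 0 :=
      mul_right_cancel₀ him (by linear_combination -h00)
    have e11 : (x : Matrix (Fin 2) (Fin 2) F) 1 1 =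
        (x : Matrix (Fin 2) (Fin 2) F) 0 0 + B * (x : Matrix (Fin 2) (Fin 2) F) 1 0 :=
      mul_right_cancel₀ him (by linear_combination -h10)
    let w : K := ⟨(x : Matrix (Fin 2) (Fin 2) F) 0 0, (x : Matrix (Fin 2) (Fin 2) F) 1 0⟩
    have hw : Torus.mulMat w = (x : Matrix (Fin 2) (Fin 2) F) := by
      ext i j
      fin_cases i <;> fin_cases j <;> simp [w, Torus.mulMat_apply, e01, e11]
    have hn : QuadraticAlgebra.norm w = 1 := by
      rw [← Torus.det_mulMat, hw, Matrix.SpecialLinearGroup.det_coe]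
    have hu : IsUnit w := IsUnit.of_mul_eq_one (star w) (by
      rw [← QuadraticAlgebra.algebraMap_norm_eq_mul_star, hn, map_one])
    exact ⟨⟨hu.unit, Torus.mem_normOne.2 hn⟩, Subtype.ext hw⟩
  tr := by
    rintro _ ⟨z, rfl⟩ _ ⟨w, rfl⟩ e
    have h2 := SylowSL2.two_ne_zero_of_odd hodd
    rw [trace_torusHom, trace_torusHom] at e
    have hz := Torus.mem_normOne.1 z.2
    have hw := Torus.mem_normOne.1 w.2
    rw [QuadraticAlgebra.norm_def] at hz hw
    set a := ((z.1 : Kˣ) : K) with ha
    set b := ((w.1 : Kˣ) : K) with hb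
    have hD : B ^ 2 + 4 * A ≠ 0 := fun h0 => disc_not_square (A := A) (B := B) h2 (h0 ▸ IsSquare.zero)
    have hsq : (b.im - a.im) * (b.im + a.im) = 0 := by
      refine mul_left_cancel₀ hD ?_
      linear_combination -(2 * b.re + B * b.im + (2 * a.re + B * a.im)) * e - 4 * hw + 4 * hz
    rcases mul_eq_zero.1 hsq with h | h
    · refine Or.inl (congrArg _ (Subtype.ext (Units.ext ?_)))
      have hi := sub_eq_zero.1 h
      refine QuadraticAlgebra.ext ?_ hi
      exact mul_left_cancel₀ h2 (by linear_combination -e - B * h)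
    · refine Or.inr ?_
      rw [← map_inv]
      refine congrArg _ (Subtype.ext (Units.ext ?_))
      rw [← SylowSL2.star_coe_normOne]
      refine QuadraticAlgebra.ext ?_ ?_
      · simp only [QuadraticAlgebra.re_star]
        exact mul_left_cancel₀ h2 (by linear_combination -e - B * h)
      · simp only [QuadraticAlgebra.im_star]
        linear_combination h
  gen := by
    obtain ⟨g, hg⟩ := IsCyclic.exists_generator (α := Torus.normOne F A B)
    refine ⟨_, ⟨g, rfl⟩, fun e => ?_⟩
    rw [← map_mul, ← map_one (Torus.torusHom (F := F) (A := A) (B := B))] at e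
    have h1 := Nat.le_of_dvd two_pos
      (orderOf_dvd_of_pow_eq_one (x := g) (n := 2) (by rw [sq, Torus.torusHom_injective e]))
    rw [orderOf_eq_card_of_forall_mem_zpowers hg, Torus.natCard_normOne] at h1
    have := Fintype.one_lt_card (α := F)
    omega

theorem exists_mem_of_trace (h2 : (2 : F) ≠ 0) {t : F} (ht : ¬ IsSquare (t ^ 2 - 4)) :
    ∃ z : Torus.normOne F A B, (Torus.torusHom z : Matrix (Fin 2) (Fin 2) F).trace = t := by
  classical
  have hD := disc_not_square (A := A) (B := B) h2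
  have hD0 : B ^ 2 + 4 * A ≠ 0 := fun h0 => hD (h0 ▸ IsSquare.zero)
  have ht0 : t ^ 2 - 4 ≠ 0 := fun h0 => ht (h0 ▸ IsSquare.zero)
  obtain ⟨r, hr⟩ : IsSquare ((t ^ 2 - 4) / (B ^ 2 + 4 * A)) := by
    rw [← quadraticChar_one_iff_isSquare (div_ne_zero ht0 hD0), div_eq_mul_inv, map_mul,
      quadraticChar_neg_one_iff_not_isSquare.2 ht,
      quadraticChar_neg_one_iff_not_isSquare.2 (fun h => hD (by simpa using h.inv))]
    norm_num
  rw [div_eq_iff hD0] at hr
  let w : K := ⟨(t - r * B) / 2, r⟩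
  have hn : QuadraticAlgebra.norm w = 1 := by
    rw [QuadraticAlgebra.norm_def]
    simp only [w]
    field_simp
    linear_combination hr
  have hu : IsUnit w := IsUnit.of_mul_eq_one (star w) (by
    rw [← QuadraticAlgebra.algebraMap_norm_eq_mul_star, hn, map_one])
  refine ⟨⟨hu.unit, Torus.mem_normOne.2 hn⟩, ?_⟩
  rw [trace_torusHom]
  simp only [IsUnit.unit_spec, w]
  field_simp
  ring

end nonsplit

end Cfsg.Agent.Classical.TorusNormalizer
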