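import Cfsg.Agent.Lib.AutPSU.Radical
import Cfsg.Agent.Lib.Classical.UnitaryFrames
import Cfsg.Agent.Lib.Classical.PSUThreeEigen

/-!
Three conjugates of a transvection of `SU₃(q)` whose product has any prime order with the largest possible
multiplicative order: the product is steered to have the same trace as such an element.
-/

set_option autoImplicit false
set_option linter.unusedSectionVars false

namespace Cfsg.Agent.Classical.UnitaryThreeTriple

open Matrix Polynomial Cfsg.Agent.Classical Cfsg.Agent.Classical.Unitary Cfsg.Agent.Forms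

universe u

variable {F : Type u} [Field F]

theorem charpoly_three (M : Matrix (Fin 3) (Fin 3) F) :
    M.charpoly = X ^ 3 - C M.trace * X ^ 2 + C (Matrix.adjugate M).trace * X - C M.det := by
  rw [Matrix.adjugate_fin_three, Matrix.trace_fin_three, Matrix.trace_fin_three, Matrix.det_fin_three,
    Matrix.charpoly, Matrix.det_fin_three]
  simp [Matrix.charmatrix_apply]
  ring

/-- An element of order `r`, for a prime `r` of multiplicative order `3` for `|F|`, has an irreducible
characteristic polynomial dividing `X ^ r - 1`. -/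
theorem charpoly_irreducible [Fintype F] {p : ℕ} [Fact p.Prime] [CharP F p] {r : ℕ} (hr : r.Prime)
    (hrp : r ≠ p)
    (h1 : ¬ r ∣ Fintype.card F - 1) (h2 : ¬ r ∣ Fintype.card F ^ 2 - 1)
    {M : Matrix (Fin 3) (Fin 3) F} (hM : M ^ r = 1) (hM1 : M ≠ 1) :
    Irreducible M.charpoly ∧ M.charpoly ∣ (X ^ r - 1 : F[X]) := by
  let Ω := AlgebraicClosure F
  let f : F →+* Ω := algebraMap F Ω
  haveI : CharP Ω p := charP_of_injective_algebraMap f.injective p
  have hroot : ∀ α : Ω, (f.mapMatrix M).charpoly.IsRoot α → α ^ r = 1 := fun α hα => by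
    have := PSUThree.root_pow_of_scalar f (a := (1 : F)) (by rw [hM, one_smul]) hα
    rwa [map_one] at this
  obtain ⟨α, hα, hα1⟩ : ∃ α : Ω, (f.mapMatrix M).charpoly.IsRoot α ∧ α ≠ 1 := by
    by_contra hne
    push Not at hne
    obtain ⟨x, y, z, hxyz, -⟩ := PSUThree.exists_roots (f.mapMatrix M)
    have hx : x = 1 := hne x (by rw [hxyz]; simp)
    have hy : y = 1 := hne y (by rw [hxyz]; simp)
    have hz : z = 1 := hne z (by rw [hxyz]; simp)
    have h0 := Matrix.aeval_self_charpoly (f.mapMatrix M)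
    rw [hxyz, hx, hy, hz] at h0
    simp only [map_mul, map_sub, aeval_X, map_one] at h0
    have hN : (f.mapMatrix M - 1) ^ 3 = 0 := by rw [pow_succ, pow_succ, pow_one]; exact h0
    have hp3 : 3 ≤ p ^ 2 := by nlinarith [(Fact.out : p.Prime).two_le]
    have hP : (f.mapMatrix M) ^ p ^ 2 = 1 := by
      rw [← sub_eq_zero, ← one_pow (M := Matrix (Fin 3) (Fin 3) Ω) (p ^ 2),
        ← sub_pow_char_pow_of_commute _ _ (Commute.one_right _)]
      exact pow_eq_zero_of_le hp3 hN
    have hR : (f.mapMatrix M) ^ r = 1 := by rw [← map_pow, hM, map_one]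
    have hco : Nat.Coprime r (p ^ 2) := ((Nat.coprime_primes hr Fact.out).mpr hrp).pow_right 2
    have h1' := pow_gcd_eq_one.2 ⟨hR, hP⟩
    rw [hco.gcd_eq_one, pow_one] at h1'
    exact hM1 (Matrix.map_injective f.injective (h1'.trans (map_one f.mapMatrix).symm))
  have hαr := hroot α hα
  have hint : IsIntegral F α := Algebra.IsIntegral.isIntegral α
  have hev : aeval α M.charpoly = 0 := by
    rw [RingHom.mapMatrix_apply, Matrix.charpoly_map, Polynomial.IsRoot, eval_map] at hα
    exact hα
  have hdvd : minpoly F α ∣ M.charpoly := minpoly.dvd F α hev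
  have hdeg : 3 ≤ (minpoly F α).natDegree := by
    set d := (minpoly F α).natDegree with hd
    have hd0 : 0 < d := minpoly.natDegree_pos hint
    haveI : FiniteDimensional F (IntermediateField.adjoin F {α}) :=
      IntermediateField.adjoin.finiteDimensional hint
    haveI : Finite (IntermediateField.adjoin F {α}) := Module.finite_of_finite F
    haveI := Fintype.ofFinite (IntermediateField.adjoin F {α})
    have hcard : Fintype.card (IntermediateField.adjoin F {α}) = Fintype.card F ^ d := by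
      rw [Module.card_eq_pow_finrank (K := F) (V := IntermediateField.adjoin F {α}),
        IntermediateField.adjoin.finrank hint]
    have hαd : α ^ (Fintype.card F ^ d - 1) = 1 := by
      have h := FiniteField.pow_card_sub_one_eq_one
        (⟨α, IntermediateField.mem_adjoin_simple_self F α⟩ : IntermediateField.adjoin F {α})
        (fun h0 => by
          have h0' : α = 0 := congrArg Subtype.val h0
          rw [h0', zero_pow hr.ne_zero] at hαr
          exact zero_ne_one hαr)
      rw [hcard] at h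
      exact congrArg Subtype.val h
    have hrd : r ∣ Fintype.card F ^ d - 1 := by
      rcases hr.eq_one_or_self_of_dvd _ (orderOf_dvd_of_pow_eq_one hαr) with ho | ho
      · exact absurd (orderOf_eq_one_iff.mp ho) hα1
      · rw [← ho]; exact orderOf_dvd_of_pow_eq_one hαd
    by_contra hlt
    obtain h | h : d = 1 ∨ d = 2 := by omega
    · rw [h, pow_one] at hrd; exact h1 hrd
    · rw [h] at hrd; exact h2 hrd
  have heq : minpoly F α = M.charpoly :=
    eq_of_monic_of_associated (minpoly.monic hint) M.charpoly_monic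
      (associated_of_dvd_of_natDegree_le hdvd M.charpoly_monic.ne_zero (by
        rw [Matrix.charpoly_natDegree_eq_dim, Fintype.card_fin]; exact hdeg))
  rw [← heq]
  exact ⟨minpoly.irreducible hint, minpoly.dvd F α (by simp [hαr])⟩

variable [Fintype F] {q : ℕ} (hF : Fintype.card F = q ^ 2)

local notation "Vec" => (Fin 3 → F)
local notation "Mat" => Matrix (Fin 3) (Fin 3) F
local notation "SU3" => Cfsg.SU 3 F q
local notation "H" => Cfsg.hermForm 3 F q

include hF

theorem adjugate_trace (g : SU3) : (Matrix.adjugate (mat g)).trace = (mat g).trace ^ q := by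
  have h := (preserves_iff hF (mat g)).1 (SU_H g)
  have h' : ((mat g).map (HermStd.qHom hF))ᵀ * mat g = 1 := by
    have := congrArg Matrix.transpose h
    rwa [Matrix.transpose_mul, Matrix.transpose_transpose, Matrix.transpose_one] at this
  have h2 : mat g * Matrix.adjugate (mat g) = 1 := by
    rw [Matrix.mul_adjugate, (g : Matrix.SpecialLinearGroup (Fin 3) F).2, one_smul]
  rw [← left_inv_eq_right_inv h' h2, Matrix.trace_transpose, ← AddMonoidHom.map_trace,
    HermStd.qHom_apply]

theorem charpoly_SU (g : SU3) : (mat g).charpoly =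
    X ^ 3 - C (mat g).trace * X ^ 2 + C ((mat g).trace ^ q) * X - 1 := by
  rw [charpoly_three, adjugate_trace hF, (g : Matrix.SpecialLinearGroup (Fin 3) F).2, map_one]

theorem trace_three {v₁ v₂ v₃ : Vec} (h₁ : H v₁ v₁ = 0) (h₂ : H v₂ v₂ = 0) (h₃ : H v₃ v₃ = 0) (c : F)
    (hc : c + c ^ q = 0) :
    (mat (tvu hF h₁ hc * tvu hF h₂ hc * tvu hF h₃ hc)).trace =
      3 + c ^ 2 * (H v₁ v₂ * H v₂ v₁ + H v₁ v₃ * H v₃ v₁ + H v₂ v₃ * H v₃ v₂) +
        c ^ 3 * (H v₂ v₁ * H v₃ v₂ * H v₁ v₃) := by
  have hm : ∀ (v : Vec) (hv : H v v = 0), mat (tvu hF hv hc) =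
      1 + c • Matrix.vecMulVec v (fun j => v j ^ q) := fun v hv => rfl
  rw [mat_mul, mat_mul, hm, hm, hm]
  have d : ∀ a b : Vec, (fun j => a j ^ q) ⬝ᵥ b = H b a := fun a b => by
    rw [dotProduct_comm]; rfl
  have d' : ∀ a b : Vec, b ⬝ᵥ (fun j => a j ^ q) = H b a := fun a b => rfl
  simp only [mul_add, add_mul, one_mul, mul_one, smul_mul_assoc, mul_smul_comm, smul_smul,
    Matrix.vecMulVec_mul_vecMulVec, Matrix.vecMulVec_smul, Matrix.trace_add, Matrix.trace_smul,
    Matrix.trace_vecMulVec, Matrix.trace_one, Fintype.card_fin, dotProduct_smul, smul_dotProduct, d,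
    d', smul_eq_mul, h₁, h₂, h₃, smul_add]
  push_cast
  ring

theorem exists_base {e : Vec} (he : H e e = 0) (he0 : e ≠ 0) :
    ∃ f w : Vec, H f f = 0 ∧ H e f = 1 ∧ H w e = 0 ∧ H w f = 0 ∧ H w w = 1 := by
  obtain ⟨f, hf, hef⟩ := exists_partner hF he0 he
  obtain ⟨w, hw0, hwe, hwf⟩ := AutPSU.Basic.exists_perp_two hF (n := 3) le_rfl e f
  have hww : H w w ≠ 0 := by
    intro hww
    obtain ⟨r', -, hwr', hr'e, hr'f⟩ :=
      AutPSU.Radical.exists_partner_in hF he hf hef hw0 hww hwe hwf
    have hfe : H f e = 1 := by rw [← H_conj hF, hef, one_pow]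
    have hew : H e w = 0 := (H_eq_zero_comm hF).1 hwe
    have hfw : H f w = 0 := (H_eq_zero_comm hF).1 hwf
    have her' : H e r' = 0 := (H_eq_zero_comm hF).1 hr'e
    have hfr' : H f r' = 0 := (H_eq_zero_comm hF).1 hr'f
    have hli : LinearIndependent F ![e, f, w, r'] := by
      rw [Fintype.linearIndependent_iff]
      intro g hg
      have hsum : g 0 • e + g 1 • f + g 2 • w + g 3 • r' = 0 := by
        simpa [Fin.sum_univ_four, add_assoc] using hg
      have c0 := congrArg (fun v => H v f) hsum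
      have c1 := congrArg (fun v => H v e) hsum
      have c2 := congrArg (fun v => H v r') hsum
      have c3 := congrArg (fun v => H v w) hsum
      simp only [H_add_left, H_smul_left, H_zero_left, hef, hf, hwf, hr'f, he, hfe, hwe, hr'e,
        her', hfr', hwr', hew, hfw, hww, mul_one, mul_zero, add_zero, zero_add] at c0 c1 c2 c3
      have hr'w : H r' w = 1 := by rw [← H_conj hF, hwr', one_pow]
      have e0 : g 0 = 0 := c0
      have e1 : g 1 = 0 := c1
      have e3 : g 3 = 0 := by rwa [hr'w, mul_one] at c3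
      have e2 : g 2 = 0 := by simpa [e3] using c2
      intro i
      fin_cases i <;> assumption
    have := hli.fintype_card_le_finrank
    simp at this
  have hwwq : (H w w) ^ q = H w w := H_conj hF w w
  obtain ⟨x, hx⟩ := UnitaryCount.exists_norm_eq hF hww hwwq
  have hx0 : x ≠ 0 := fun h => by
    rw [h, zero_pow (Nat.succ_ne_zero _)] at hx
    exact hww hx.symm
  exact ⟨f, x⁻¹ • w, hf, hef, by rw [H_smul_left, hwe, mul_zero],
    by rw [H_smul_left, hwf, mul_zero], by
      rw [H_smul_left, H_smul_right, ← mul_assoc, ← pow_succ', ← hx, inv_pow,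
        inv_mul_cancel₀ (pow_ne_zero _ hx0)]⟩

/-- `SU₃` is transitive on non-zero isotropic vectors. -/
theorem exists_move {e e' : Vec} (he : H e e = 0) (he0 : e ≠ 0) (he' : H e' e' = 0) (he0' : e' ≠ 0) :
    ∃ s : SU3, mat s *ᵥ e = e' := by
  obtain ⟨f, w, hf, hef, hwe, hwf, hww⟩ := exists_base hF he he0
  obtain ⟨f', w', hf', hef', hwe', hwf', hww'⟩ := exists_base hF he' he0'
  have hfe : H f e = 1 := by rw [← H_conj hF, hef, one_pow]
  have hew : H e w = 0 := (H_eq_zero_comm hF).1 hwe
  have hfw : H f w = 0 := (H_eq_zero_comm hF).1 hwf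
  have hfe' : H f' e' = 1 := by rw [← H_conj hF, hef', one_pow]
  have hew' : H e' w' = 0 := (H_eq_zero_comm hF).1 hwe'
  have hfw' : H f' w' = 0 := (H_eq_zero_comm hF).1 hwf'
  have hmv : ∀ (a b x : Vec), Matrix.vecMulVec a (fun j => b j ^ q) *ᵥ x = H x b • a := fun a b x => by
    rw [Matrix.vecMulVec_mulVec, op_smul_eq_smul, dotProduct_comm]; rfl
  have hdec : ∀ x : Vec, x = H x f • e + H x e • f + H x w • w := fun x => by
    refine sub_eq_zero.1 (AutPSU.Radical.eq_zero_three hF rfl he hf hef hwe hwf hww ?_ ?_ ?_) <;>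
      simp [H_sub_left, H_add_left, H_smul_left, he, hf, hef, hfe, hwe, hwf, hww, hew, hfw]
  set M : Mat := Matrix.vecMulVec e' (fun j => f j ^ q) + Matrix.vecMulVec f' (fun j => e j ^ q) +
    Matrix.vecMulVec w' (fun j => w j ^ q)
  have hM : ∀ x, M *ᵥ x = H x f • e' + H x e • f' + H x w • w' := fun x => by
    simp only [M, Matrix.add_mulVec, hmv]
  have hMH : ∀ x y, H (M *ᵥ x) (M *ᵥ y) = H x y := fun x y => by
    conv_rhs => rw [hdec x, hdec y]
    simp [hM, H_add_left, H_add_right hF, H_smul_left, H_smul_right, he, hf, hef, hfe, hwe, hwf, hww,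
      hew, hfw, he', hf', hef', hfe', hwe', hwf', hww', hew', hfw']
  have hd0 := det_ne_zero_of_preserves hF hMH
  set k : F := M.det⁻¹ - 1
  have hk : k + k ^ q + k * k ^ q = 0 := by
    have h1 : (1 + k) ^ (q + 1) = 1 := by
      rw [show 1 + k = M.det⁻¹ from by simp [k], inv_pow, HermStd.det_norm hF M hMH, inv_one]
    rw [pow_succ, ← HermStd.qHom_apply hF (1 + k), map_add, map_one, HermStd.qHom_apply] at h1
    linear_combination h1
  set D : Mat := 1 + Matrix.vecMulVec (k • w) (fun j => w j ^ q)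
  have hD : ∀ x, D *ᵥ x = x + (H x w * k) • w := fun x => by
    simp only [D, Matrix.add_mulVec, hmv, Matrix.one_mulVec, smul_smul]
  have hDdet : D.det = M.det⁻¹ := by
    simp only [D]
    rw [Matrix.vecMulVec_eq Unit, Matrix.det_one_add_replicateCol_mul_replicateRow, dotProduct_comm,
      show (k • w) ⬝ᵥ (fun j => w j ^ q) = H (k • w) w from rfl, H_smul_left, hww]
    simp [k]
  have hDH : ∀ x y, H (D *ᵥ x) (D *ᵥ y) = H x y := fun x y => by
    simp only [hD, H_add_left, H_add_right hF, H_smul_left, H_smul_right, hww, mul_pow, H_conj hF]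
    linear_combination (H x w * H w y) * hk
  refine ⟨suMk (M * D) (by rw [Matrix.det_mul, hDdet, mul_inv_cancel₀ hd0]) (fun x y => by
    rw [← Matrix.mulVec_mulVec, ← Matrix.mulVec_mulVec, hMH, hDH]), ?_⟩
  rw [suMk_mulVec, ← Matrix.mulVec_mulVec, hD, hew, zero_mul, zero_smul, add_zero, hM, hef, he, hew,
    one_smul, zero_smul, zero_smul, add_zero, add_zero]

/-- The fixed field has at least `q` elements. -/
theorem exists_fixed_avoiding (s : Finset F) (hs : s.card < q) : ∃ k : F, k ^ q = k ∧ k ∉ s := by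
  classical
  have h1 : q ≤ (Finset.univ.filter fun x : F => x ^ q = x).card := by
    have hq := HermStd.one_lt_q hF
    let N : Fˣ →* Fˣ := powMonoidHom (q + 1)
    have hker : Nat.card N.ker = q + 1 := natCard_normOne hF
    have hmul := Subgroup.card_mul_index N.ker
    rw [Subgroup.index_ker, hker, natCard_units_F hF, mul_comm (q - 1)] at hmul
    have hr : Nat.card N.range = q - 1 := Nat.eq_of_mul_eq_mul_left (by omega) hmul
    let R : Finset F := insert 0 ((Finset.univ.filter fun u : Fˣ => u ∈ N.range).image fun u : Fˣ => (u : F))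
    have hR : R.card = q := by
      rw [Finset.card_insert_of_notMem (by simp), Finset.card_image_of_injective _ Units.val_injective,
        ← Fintype.card_subtype, ← Nat.card_eq_fintype_card]
      have : Nat.card {u : Fˣ // u ∈ N.range} = q - 1 := hr
      omega
    refine le_of_eq_of_le hR.symm (Finset.card_le_card fun x hx => ?_)
    simp only [Finset.mem_filter, Finset.mem_univ, true_and]
    simp only [R, Finset.mem_insert, Finset.mem_image, Finset.mem_filter] at hx
    rcases hx with rfl | ⟨u, ⟨-, v, rfl⟩, rfl⟩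
    · exact zero_pow (q_ne_zero hF)
    · show (((v ^ (q + 1) : Fˣ)) : F) ^ q = ((v ^ (q + 1) : Fˣ) : F)
      rw [Units.val_pow_eq_pow_val, pow_succ, mul_pow, pow_qq hF, mul_comm]
  obtain ⟨k, hk, hks⟩ := Finset.exists_mem_notMem_of_card_lt_card (hs.trans_le h1)
  exact ⟨k, (Finset.mem_filter.1 hk).2, hks⟩

variable (p : ℕ) [Fact p.Prime] [CharP F p]
include p

/-- Parameters of three vectors giving a prescribed trace. -/
theorem exists_params {c σ : F} (hc0 : c ≠ 0) (hc : c ^ q = -c) (hσ : σ ^ q ≠ σ) :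
    ∃ l A u : F, l ≠ 0 ∧ l ^ q = l ∧ A ≠ 0 ∧ A ^ q = A ∧
      σ = l + A + l * (u * u ^ q) / A + c * l * u := by
  have hq := HermStd.one_lt_q hF
  set φ := HermStd.qHom hF with hφ
  have hφφ : ∀ x, φ (φ x) = x := fun x => HermStd.qHom_qHom hF x
  rw [← HermStd.qHom_apply hF] at hσ hc
  rw [← hφ] at hσ hc
  suffices h : ∃ l A u : F, l ≠ 0 ∧ φ l = l ∧ A ≠ 0 ∧ φ A = A ∧
      σ = l + A + l * (u * φ u) / A + c * l * u by
    obtain ⟨l, A, u, h1, h2, h3, h4, h5⟩ := h
    exact ⟨l, A, u, h1, h2, h3, h4, h5⟩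
  obtain ⟨hp2, -⟩ | hp2 : (p = 2 ∧ True) ∨ p ≠ 2 := by by_cases h : p = 2 <;> simp [h]
  · subst hp2
    set N := (σ + 1) * (φ σ + 1) / c ^ 2 with hN
    have hN0 : N ≠ 0 := by
      refine div_ne_zero (mul_ne_zero ?_ ?_) (pow_ne_zero 2 hc0) <;>
        rw [ne_eq, CharTwo.add_eq_zero] <;> intro h
      · exact hσ (by rw [h, map_one])
      · have := congrArg φ h; rw [hφφ, map_one] at this; exact hσ (by rw [this, map_one])
    obtain ⟨P, hP⟩ : ∃ P, P ^ 2 = N := by
      obtain ⟨P, hP⟩ := (FiniteField.isSquare_of_char_two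
        (Nat.le_antisymm (by rw [ringChar.eq F 2]) (by rw [ringChar.eq F 2])) N)
      exact ⟨P, by rw [sq, ← hP]⟩
    have hP0 : P ≠ 0 := fun h => hN0 (by rw [← hP, h]; simp)
    have hcc : φ c = c := by rw [hc, CharTwo.neg_eq]
    have hPP : φ P = P := by
      have h1 : φ P ^ 2 = P ^ 2 := by
        rw [← map_pow, hP, hN]
        simp [hφφ, hcc, mul_comm]
      rw [← sub_eq_zero, CharTwo.sub_eq_add, ← sq_eq_zero_iff, CharTwo.add_sq, h1, CharTwo.add_self_eq_zero]
    refine ⟨P, 1, (σ + 1) / (c * P), hP0, hPP, one_ne_zero, map_one φ, ?_⟩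
    have e : (σ + 1) / (c * P) * φ ((σ + 1) / (c * P)) = 1 := by
      rw [map_div₀, map_add, map_one, map_mul, hcc, hPP]
      field_simp
      rw [hN] at hP
      field_simp at hP
      linear_combination -hP
    rw [e, mul_one, div_one, mul_div_assoc']
    field_simp
    linear_combination (-(P + 1)) * CharTwo.two_eq_zero (R := F)
  · have h2 : (2 : F) ≠ 0 := by
      intro h
      have h' : ((2 : ℕ) : F) = 0 := by exact_mod_cast h
      rw [CharP.cast_eq_zero_iff F p] at h'
      exact hp2 ((Nat.prime_dvd_prime_iff_eq Fact.out Nat.prime_two).1 h')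
    set T := (σ - φ σ) / (2 * c) with hT
    set R := (σ + φ σ) / 2 with hR
    have hT0 : T ≠ 0 := div_ne_zero (sub_ne_zero.2 (Ne.symm hσ)) (mul_ne_zero h2 hc0)
    have hTT : φ T = T := by
      rw [hT, map_div₀, map_sub, map_mul, map_ofNat, hφφ, hc]
      field_simp
      ring
    have hRR : φ R = R := by
      rw [hR, map_div₀, map_add, map_ofNat, hφφ, add_comm]
    have hσRT : σ = R + T * c := by
      rw [hR, hT]
      field_simp
      ring
    set d := c ^ 2 with hd
    have hd0 : d ≠ 0 := pow_ne_zero 2 hc0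
    have hdd : φ d = d := by rw [hd, map_pow, hc, neg_sq]
    suffices h : ∃ l A k : F, l ≠ 0 ∧ φ l = l ∧ A ≠ 0 ∧ φ A = A ∧ φ k = k ∧
        R * (l * A) = l ^ 2 * A + l * A ^ 2 + T ^ 2 + d * l ^ 2 * A ^ 2 * (k - k * k) by
      obtain ⟨l, A, k, hl, hll, hA, hAA, hkk, he⟩ := h
      refine ⟨l, A, T / l + c * k * A, hl, hll, hA, hAA, ?_⟩
      rw [map_add, map_div₀, map_mul, map_mul, hTT, hll, hc, hkk, hAA, hσRT]
      field_simp
      rw [hd] at he
      linear_combination he
    by_cases hgood : ∃ k : F, φ k = k ∧ k - k * k ≠ 0 ∧ 1 + R * d * (k - k * k) ≠ 0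
    · obtain ⟨k, hkk, hε, hne⟩ := hgood
      set j := -(d * (k - k * k))
      have hj : j ≠ 0 := neg_ne_zero.2 (mul_ne_zero hd0 hε)
      have hjj : φ j = j := by simp only [j, map_neg, map_mul, map_sub, hdd, hkk]
      have hS : R - 1 / j ≠ 0 := by
        intro h
        apply hne
        field_simp at h
        simp only [j] at h
        linear_combination -h
      set P := T ^ 2 / (R - 1 / j)
      have hP : P ≠ 0 := div_ne_zero (pow_ne_zero 2 hT0) hS
      have hPP : φ P = P := by simp only [P, map_div₀, map_pow, map_sub, map_one, hTT, hRR, hjj]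
      refine ⟨P * j, 1 / j, k, mul_ne_zero hP hj, by rw [map_mul, hPP, hjj], one_div_ne_zero hj,
        by rw [map_div₀, map_one, hjj], hkk, ?_⟩
      have hPdef : P * (R - 1 / j) = T ^ 2 := div_mul_cancel₀ _ hS
      have hε' : d * (k - k * k) = -j := by simp only [j, neg_neg]
      field_simp
      field_simp at hPdef
      linear_combination hPdef - (P ^ 2 * j) * hε'
    · push Not at hgood
      have hq4 : q < 5 := by
        by_contra hq5
        classical
        obtain ⟨k, hk, hks⟩ := exists_fixed_avoiding hF ({0, 1} : Finset F) (lt_of_le_of_lt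
          Finset.card_le_two (by omega))
        simp only [Finset.mem_insert, Finset.mem_singleton, not_or] at hks
        obtain ⟨k', hk', hks'⟩ := exists_fixed_avoiding hF ({0, 1, k, 1 - k} : Finset F) (lt_of_le_of_lt
          Finset.card_le_four (by omega))
        simp only [Finset.mem_insert, Finset.mem_singleton, not_or] at hks'
        have hne : ∀ x : F, x ≠ 0 → x ≠ 1 → x - x * x ≠ 0 := fun x h0 h1 h => by
          have : x * (1 - x) = 0 := by linear_combination h
          exact (mul_eq_zero.1 this).elim h0 fun h' => h1 (sub_eq_zero.1 h').symm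
        have e1 := hgood k hk (hne k hks.1 hks.2)
        have e2 := hgood k' hk' (hne k' hks'.1 hks'.2.1)
        have hRd : R * d ≠ 0 := fun h => by rw [h, zero_mul, add_zero] at e1; exact one_ne_zero e1
        have e3 : (k - k') * (1 - k - k') = 0 := by
          have : R * d * ((k - k') * (1 - k - k')) = 0 := by linear_combination e1 - e2
          exact (mul_eq_zero.1 this).resolve_left hRd
        rcases mul_eq_zero.1 e3 with h | h
        · exact hks'.2.2.1 (sub_eq_zero.1 h).symm
        · exact hks'.2.2.2 (sub_eq_zero.1 h).symm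
      obtain ⟨a, -, ha⟩ := FiniteField.card F p
      have hpq : p ∣ q := (Fact.out : p.Prime).dvd_of_dvd_pow (by
        rw [← hF, ha]; exact dvd_pow_self p a.pos.ne')
      have hp3 : p = 3 := by
        have := Nat.le_of_dvd (by omega) hpq
        have h4 := (Fact.out : p.Prime).two_le
        rcases (by omega : p = 3 ∨ p = 4) with h | h
        · exact h
        · exact absurd (h ▸ (Fact.out : p.Prime)) (by norm_num)
      have hq3 : q = 3 := by
        rw [hp3] at hpq
        obtain ⟨t, rfl⟩ := hpq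
        omega
      have h3 : (3 : F) = 0 := by
        subst hp3
        exact_mod_cast CharP.cast_eq_zero F 3
      have hcube : ∀ x : F, φ x = x → x = 0 ∨ x = 1 ∨ x = -1 := fun x hx => by
        rw [hφ, HermStd.qHom_apply, hq3] at hx
        have : x * ((x - 1) * (x + 1)) = 0 := by linear_combination hx
        rcases mul_eq_zero.1 this with h | h
        · exact Or.inl h
        · rcases mul_eq_zero.1 h with h | h
          · exact Or.inr (Or.inl (sub_eq_zero.1 h))
          · exact Or.inr (Or.inr (eq_neg_of_add_eq_zero_left h))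
      have hdne : d ≠ 1 := by
        intro h
        rcases sq_eq_one_iff.1 (hd ▸ h) with h' | h' <;>
          rw [h'] at hc <;> simp only [map_neg, map_one] at hc
        · exact h2 (by linear_combination hc)
        · exact h2 (by linear_combination -hc)
      have hd1 : d = -1 := ((hcube d hdd).resolve_left hd0).resolve_left hdne
      have hT1 : T ^ 2 = 1 := by
        rcases (hcube T hTT).resolve_left hT0 with h | h <;> simp [h]
      have e := hgood (-1) (by simp) (by
        rw [show (-1 : F) - -1 * -1 = -2 by norm_num]; exact neg_ne_zero.2 h2)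
      rw [hd1] at e
      refine ⟨-1, -1, -1, neg_ne_zero.2 one_ne_zero, by simp, neg_ne_zero.2 one_ne_zero, by simp, by simp, ?_⟩
      rw [hd1, hT1]
      linear_combination (-1 : F) * e + (R + 0) * h3 - 2 * h3 * 0

/-- Three isotropic vectors giving a prescribed trace. -/
theorem exists_vectors {c a : F} (hc0 : c ≠ 0) (hc : c + c ^ q = 0) (ha : a ^ q ≠ a) :
    ∃ (v₁ v₂ v₃ : Vec) (h₁ : H v₁ v₁ = 0) (h₂ : H v₂ v₂ = 0) (h₃ : H v₃ v₃ = 0), v₁ ≠ 0 ∧ v₂ ≠ 0 ∧
      v₃ ≠ 0 ∧ (mat (tvu hF h₁ hc * tvu hF h₂ hc * tvu hF h₃ hc)).trace = a := by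
  have hcc : c ^ q = -c := eq_neg_of_add_eq_zero_right hc
  set φ := HermStd.qHom hF with hφ
  obtain ⟨l, A, u, hl, hll, hA, hAA, heq⟩ := exists_params hF p (σ := (a - 3) / c ^ 2) hc0 hcc (by
    intro h
    apply ha
    have h' : φ ((a - 3) / c ^ 2) = (a - 3) / c ^ 2 := h
    rw [map_div₀, map_sub, map_pow, map_ofNat, show φ c = -c from hcc, neg_sq] at h'
    exact sub_left_inj.1 ((div_left_inj' (pow_ne_zero 2 hc0)).1 h'))
  obtain ⟨lam, hlam⟩ := UnitaryCount.exists_norm_eq hF hl hll
  obtain ⟨y, hy⟩ := UnitaryCount.exists_norm_eq hF hA hAA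
  have hy0 : y ≠ 0 := fun h => hA (by rw [← hy, h]; simp)
  have hyq : y ^ q ≠ 0 := pow_ne_zero _ hy0
  have hlam0 : lam ≠ 0 := fun h => hl (by rw [← hlam, h]; simp)
  obtain ⟨v₁, hv₁, hv₁0, -, -⟩ := exists_isotropic_pair (n := 3) hF (0 : Fin 3) 1 (by decide)
  have he0 : v₁ ≠ 0 := fun h => by simp [h] at hv₁0
  obtain ⟨f, w, hf, hef, hwe, hwf, hww⟩ := exists_base hF hv₁ he0
  have hfe : H f v₁ = 1 := by rw [← H_conj hF, hef, one_pow]
  have hew : H v₁ w = 0 := (H_eq_zero_comm hF).1 hwe
  have hfw : H f w = 0 := (H_eq_zero_comm hF).1 hwf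
  set x := u / y ^ q with hx
  have hxy : x * y ^ q = u := div_mul_cancel₀ u hyq
  obtain ⟨z, hz⟩ := UnitaryCount.exists_norm_eq' hF (μ := -(u + u ^ q)) (by
    have : φ (-(u + φ u)) = -(u + φ u) := by
      rw [map_neg, map_add, hφ, HermStd.qHom_qHom hF, add_comm]
    exact this)
  have h₂ : H (lam • f) (lam • f) = 0 := by simp [H_smul_left, H_smul_right, hf]
  have hxq : x ^ q * y = u ^ q := by rw [← hxy, mul_pow, pow_qq hF]
  have h₃ : H (x • v₁ + y • f + z • w) (x • v₁ + y • f + z • w) = 0 := by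
    simp only [H_add_left, H_add_right hF, H_smul_left, H_smul_right, hv₁, hf, hef, hfe, hwe, hwf, hww,
      hew, hfw, mul_zero, add_zero, zero_add, mul_one]
    rw [show z ^ q * z = z ^ (q + 1) from (pow_succ z q).symm, hz]
    linear_combination hxy + hxq
  refine ⟨v₁, lam • f, x • v₁ + y • f + z • w, hv₁, h₂, h₃, he0, ?_, ?_, ?_⟩
  · exact smul_ne_zero hlam0 fun h => by rw [h, H_zero_right hF] at hef; exact zero_ne_one hef
  · intro h
    have h' := congrArg (fun v => H v v₁) h
    simp only [H_add_left, H_smul_left, H_zero_left, hv₁, hfe, hwe, mul_zero, mul_one, add_zero,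
      zero_add] at h'
    exact hy0 h'
  rw [trace_three hF hv₁ h₂ h₃ c hc]
  simp only [H_add_left, H_add_right hF, H_smul_left, H_smul_right, hv₁, hf, hef, hfe, hwe, hwf,
    hew, hfw, mul_zero, add_zero, zero_add, mul_one]
  rw [pow_succ] at hlam hy
  have hN : x * x ^ q * (y * y ^ q) = u * u ^ q := by linear_combination (x ^ q * y) * hxy + u * hxq
  have hN' : x * x ^ q * A = u * u ^ q := by rw [← hN, ← hy]; ring
  field_simp at heq
  refine mul_right_cancel₀ hA ?_
  linear_combination (c ^ 2 * A * (1 + x * x ^ q) + c ^ 3 * A * u) * hlam + c ^ 2 * A * hy +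
    c ^ 2 * l * hN' + c ^ 3 * A * lam * lam ^ q * hxy - heq

/-- Three conjugates of a transvection have a product of order `r` modulo scalars. -/
theorem exists_product {r : ℕ} (hr : r.Prime) (hrp : r ≠ p) (h1 : ¬ r ∣ Fintype.card F - 1)
    (h2 : ¬ r ∣ Fintype.card F ^ 2 - 1) (h3 : r ∣ q ^ 3 + 1) {e : Vec} (he : H e e = 0) (he0 : e ≠ 0)
    {c : F} (hc : c + c ^ q = 0) (hc0 : c ≠ 0) :
    ∃ s₁ s₂ s₃ : SU3, orderOf (QuotientGroup.mk (s₁ * tvu hF he hc * s₁⁻¹ * (s₂ * tvu hF he hc * s₂⁻¹) *
      (s₃ * tvu hF he hc * s₃⁻¹)) : Cfsg.PSU 3 F q) = r := by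
  haveI := Fact.mk hr
  have hrq : ¬ r ∣ q + 1 := fun h => h1 (h.trans ⟨q - 1, by rw [hF, ← Nat.sq_sub_sq, one_pow]⟩)
  have hrS : r ∣ Nat.card SU3 := by
    have h := natCard_SU_mul (n := 3) hF (by norm_num)
    have hd : r ∣ Nat.card (Cfsg.GU 3 F q) := by
      rw [natCard_GU hF]
      refine Dvd.dvd.mul_left (h3.trans ?_) _
      have := Finset.dvd_prod_of_mem (fun i => if Even i then q ^ (i + 1) + 1 else q ^ (i + 1) - 1)
        (show 2 ∈ Finset.range 3 by simp)
      simpa using this
    rw [← h] at hd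
    exact (hr.dvd_mul.1 hd).resolve_left hrq
  obtain ⟨y, hy⟩ := exists_prime_orderOf_dvd_card' (G := SU3) r hrS
  have hpw : ∀ (g : SU3) (k : ℕ), mat (g ^ k) = mat g ^ k := fun g k => by
    induction k with
    | zero => simp [mat_one]
    | succ k ih => rw [pow_succ, pow_succ, mat_mul, ih]
  have hy1 : mat y ≠ 1 := fun h => by
    have : y = 1 := SU_ext fun v => by rw [h, mat_one]
    rw [this, orderOf_one] at hy
    exact hr.ne_one hy.symm
  have hyr : mat y ^ r = 1 := by rw [← hpw, ← hy, pow_orderOf_eq_one, mat_one]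
  obtain ⟨hirr, hdiv⟩ := charpoly_irreducible hr hrp h1 h2 hyr hy1
  set a := (mat y).trace with ha
  have hnoroot : ∀ x : F, ¬ (mat y).charpoly.IsRoot x := fun x hx => by
    have := degree_eq_one_of_irreducible_of_root hirr hx
    rw [degree_eq_natDegree (mat y).charpoly_monic.ne_zero, Matrix.charpoly_natDegree_eq_dim,
      Fintype.card_fin] at this
    norm_num at this
  have haq : a ^ q ≠ a := fun h => hnoroot 1 (by
    rw [charpoly_SU hF, ← ha, h]; simp)
  obtain ⟨v₁, v₂, v₃, k₁, k₂, k₃, n₁, n₂, n₃, htr⟩ := exists_vectors hF p hc0 hc haq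
  obtain ⟨s₁, hs₁⟩ := exists_move hF he he0 k₁ n₁
  obtain ⟨s₂, hs₂⟩ := exists_move hF he he0 k₂ n₂
  obtain ⟨s₃, hs₃⟩ := exists_move hF he he0 k₃ n₃
  refine ⟨s₁, s₂, s₃, ?_⟩
  rw [tvu_conj hF s₁ hs₁ he k₁ hc, tvu_conj hF s₂ hs₂ he k₂ hc, tvu_conj hF s₃ hs₃ he k₃ hc]
  set g := tvu hF k₁ hc * tvu hF k₂ hc * tvu hF k₃ hc
  have hcp : (mat g).charpoly = (mat y).charpoly := by
    rw [charpoly_SU hF, charpoly_SU hF, htr]
  have hgr : g ^ r = 1 := by
    refine SU_ext fun v => ?_
    obtain ⟨s, hs⟩ := hdiv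
    have h0 : aeval (mat g) (X ^ r - 1 : F[X]) = 0 := by
      rw [hs, ← hcp, map_mul, Matrix.aeval_self_charpoly, zero_mul]
    rw [map_sub, map_pow, aeval_X, map_one, sub_eq_zero] at h0
    rw [hpw, h0, mat_one]
  refine orderOf_eq_prime (by rw [← QuotientGroup.mk_pow, hgr]; rfl) fun h => ?_
  rw [QuotientGroup.eq_one_iff, mem_center_iff hF (by norm_num)] at h
  obtain ⟨b, hb⟩ := h
  refine hnoroot b ?_
  rw [← hcp]
  refine PSUThree.isRoot_of_eigvec (v := Pi.single 0 1) (fun h0 => by simpa using congrFun h0 0) ?_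
  rw [hb, Matrix.smul_mulVec, Matrix.one_mulVec]

end Cfsg.Agent.Classical.UnitaryThreeTriple
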