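import Mathlib

/-!
# The subgroups `A₅` of `PSL₂(11)`
-/

set_option autoImplicit false

namespace Cfsg.Agent.Classical.AltFiveElevenData

local notation "𝔽" => ZMod 11

/-- Entries of a two by two matrix. -/
abbrev Tup : Type := 𝔽 × 𝔽 × 𝔽 × 𝔽

/-- Product of tuples. -/
def tmul (x y : Tup) : Tup :=
  (x.1 * y.1 + x.2.1 * y.2.2.1, x.1 * y.2.1 + x.2.1 * y.2.2.2,
    x.2.2.1 * y.1 + x.2.2.2 * y.2.2.1, x.2.2.1 * y.2.1 + x.2.2.2 * y.2.2.2)

/-- Negation of a tuple. -/
def tneg (x : Tup) : Tup := (-x.1, -x.2.1, -x.2.2.1, -x.2.2.2)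

/-- Adjugate of a tuple. -/
def tinv (x : Tup) : Tup := (x.2.2.2, -x.2.1, -x.2.2.1, x.1)

/-- Position of a tuple. -/
def enc (x : Tup) : ℕ := x.1.val * 1331 + x.2.1.val * 121 + x.2.2.1.val * 11 + x.2.2.2.val

/-- Decoding. -/
def dec (n : ℕ) : Tup := ((n / 1331 : ℕ), (n / 121 % 11 : ℕ), (n / 11 % 11 : ℕ), (n % 11 : ℕ))

/-- A code for a class up to sign. -/
def code (x : Tup) : ℕ := min (enc x) (enc (tneg x))

/-- The involution. -/
def tJ : Tup := (0, 10, 1, 0)

/-- First element of order three. -/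
def tB1 : Tup := (0, 2, 5, 1)

/-- Second element of order three. -/
def tB2 : Tup := (8, 9, 1, 4)

/-- The diagonal automorphism. -/
def tK : Tup := (1, 10, 1, 1)

/-- Its inverse. -/
def tK' : Tup := (6, 6, 5, 6)

/-- First subgroup. -/
def S1 : List ℕ := [1332, 231, 298, 2679, 6785, 2486, 2156, 2789, 580, 6675, 5415, 628, 4360, 7354, 3562, 5005, 7450, 5592, 443, 4658, 6516, 4565, 4030, 7684, 3232, 6295, 4803, 1477, 5737, 7069, 2583, 4913, 5847, 3145, 6135, 5303, 6245, 5193, 7179, 1813, 7982, 2934, 3915, 1990, 3848, 1587, 1880, 3738, 5947, 7002, 6650, 4266, 7589, 3456, 2261, 3324, 5507, 7772, 4133, 2397]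

/-- Second subgroup. -/
def S2 : List ℕ := [1332, 231, 4352, 3708, 1850, 5684, 6564, 3598, 3411, 1740, 7009, 5232, 2887, 1693, 297, 2477, 3983, 2668, 2971, 1465, 6664, 2037, 3767, 2573, 627, 7889, 5737, 7570, 6245, 4913, 6034, 5847, 6135, 7806, 7069, 3206, 7179, 3316, 4803, 6474, 5462, 5056, 7366, 2254, 4408, 7460, 2144, 4518, 4705, 572, 6794, 6388, 7713, 5327, 3063, 3997, 5145, 440, 2397, 4133]

/-- Conjugators fixing the involution. -/
def conjs : List Tup := [(0, 1, 10, 0), (1, 3, 3, 10), (3, 6, 5, 3)]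

theorem enc_injective {x y : Tup} (h : enc x = enc y) : x = y := by
  obtain ⟨a, b, c, d⟩ := x
  obtain ⟨a', b', c', d'⟩ := y
  have := ZMod.val_lt a
  have := ZMod.val_lt b
  have := ZMod.val_lt c
  have := ZMod.val_lt d
  have := ZMod.val_lt a'
  have := ZMod.val_lt b'
  have := ZMod.val_lt c'
  have := ZMod.val_lt d'
  simp only [enc] at h
  simp only [Prod.mk.injEq]
  refine ⟨?_, ?_, ?_, ?_⟩ <;> exact ZMod.val_injective _ (by omega)

theorem code_neg (x : Tup) : code (tneg x) = code x := by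
  simp [code, tneg, min_comm]

theorem code_eq {x y : Tup} (h : code x = code y) : x = y ∨ x = tneg y := by
  have nn : ∀ z, tneg (tneg z) = z := fun z => by simp [tneg]
  simp only [code] at h
  rcases min_choice (enc x) (enc (tneg x)) with hx | hx <;>
    rcases min_choice (enc y) (enc (tneg y)) with hy | hy <;> rw [hx, hy] at h
  · exact Or.inl (enc_injective h)
  · exact Or.inr (enc_injective h)
  · exact Or.inr ((nn x).symm.trans (congrArg tneg (enc_injective h)))
  · exact Or.inl ((nn x).symm.trans ((congrArg tneg (enc_injective h)).trans (nn y)))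

/-- Entries of a determinant one tuple. -/
def tdet (x : Tup) : 𝔽 := x.1 * x.2.2.2 - x.2.1 * x.2.2.1

theorem S1_closed : ∀ s ∈ S1, code (tmul tJ (dec s)) ∈ S1 ∧ code (tmul tB1 (dec s)) ∈ S1 := by
  decide +kernel

theorem S2_closed : ∀ s ∈ S2, code (tmul tJ (dec s)) ∈ S2 ∧ code (tmul tB2 (dec s)) ∈ S2 := by
  decide +kernel

theorem one_mem_S1 : code (1, 0, 0, 1) ∈ S1 ∧ code (1, 0, 0, 1) ∈ S2 ∧ S1.length = 60 ∧
    S2.length = 60 := by
  decide +kernel

theorem dec_facts : ∀ s ∈ S1 ++ S2, code (dec s) = s := by decide +kernel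

set_option maxRecDepth 100000 in
theorem dec_det : ∀ s ∈ S1 ++ S2, tdet (dec s) = 1 := by decide +kernel

theorem aut_facts : tmul tK tK' = (1, 0, 0, 1) ∧ tmul (tmul tK tJ) tK' = tJ ∧
    tmul (tmul tK tB1) tK' = tB2 := by decide +kernel

/-- Covering test. -/
def coverTest (x : Tup) : Bool :=
  if tdet x = 1 ∧ code (tmul x (tmul x x)) = code (1, 0, 0, 1) ∧
      code (tmul (tmul (tmul tJ x) (tmul tJ x)) (tmul (tmul (tmul tJ x) (tmul tJ x)) (tmul tJ x))) =
        code (1, 0, 0, 1) ∧ code x ≠ code (1, 0, 0, 1) then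
    conjs.any fun k =>
      S1.contains (code (tmul (tmul (tinv k) x) k)) || S2.contains (code (tmul (tmul (tinv k) x) k))
  else true

/-- Separation test. -/
def apartTest (x : Tup) : Bool :=
  if tdet x = 1 ∧ code (tmul x tJ) = code (tmul tJ x) then
    !S2.contains (code (tmul (tmul x tB1) (tinv x)))
  else true

/-- All field elements. -/
def elems : List 𝔽 := (List.range 11).map fun n => (n : 𝔽)

theorem mem_elems (a : 𝔽) : a ∈ elems := by revert a; decide +kernel

/-- Run a test on the tuples with given first entry. -/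
def runTest (f : Tup → Bool) (a : 𝔽) : Bool :=
  elems.all fun b => elems.all fun c => elems.all fun d => f (a, b, c, d)

set_option maxRecDepth 100000 in
theorem cover_run : ∀ a : 𝔽, runTest coverTest a = true := by decide +kernel

set_option maxRecDepth 100000 in
theorem apart_run : ∀ a : 𝔽, runTest apartTest a = true := by decide +kernel

theorem of_run {f : Tup → Bool} (h : ∀ a, runTest f a = true) (x : Tup) : f x = true := by
  obtain ⟨a, b, c, d⟩ := x
  exact List.all_eq_true.1 (List.all_eq_true.1 (List.all_eq_true.1 (h a) b (mem_elems b)) c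
    (mem_elems c)) d (mem_elems d)

theorem cover (x : Tup) (h1 : tdet x = 1) (h0 : code x ≠ code (1, 0, 0, 1))
    (h3 : code (tmul x (tmul x x)) = code (1, 0, 0, 1))
    (h5 : code (tmul (tmul (tmul tJ x) (tmul tJ x))
      (tmul (tmul (tmul tJ x) (tmul tJ x)) (tmul tJ x))) = code (1, 0, 0, 1)) :
    ∃ k ∈ conjs, code (tmul (tmul (tinv k) x) k) ∈ S1 ∨ code (tmul (tmul (tinv k) x) k) ∈ S2 := by
  have h := of_run cover_run x
  rw [coverTest, if_pos ⟨h1, h3, h5, h0⟩, List.any_eq_true] at h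
  obtain ⟨k, hk, hk'⟩ := h
  exact ⟨k, hk, by simpa using hk'⟩

set_option maxRecDepth 100000 in
theorem conjs_facts : ∀ k ∈ conjs, tdet k = 1 ∧ code (tmul (tmul (tinv k) tJ) k) = code tJ := by
  decide +kernel

theorem apart (x : Tup) (h1 : tdet x = 1) (h : code (tmul x tJ) = code (tmul tJ x)) :
    code (tmul (tmul x tB1) (tinv x)) ∉ S2 := by
  have h' := of_run apart_run x
  rw [apartTest, if_pos ⟨h1, h⟩] at h'
  simpa using h'

/-- Each entry arises from an earlier one. -/
def reachTest (b : Tup) (S : List ℕ) : Bool :=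
  (List.range S.length).all fun j => decide (S.getD j 0 = code (1, 0, 0, 1)) ||
    (List.range j).any fun i => decide (code (tmul tJ (dec (S.getD i 0))) = S.getD j 0) ||
      decide (code (tmul b (dec (S.getD i 0))) = S.getD j 0)

set_option maxRecDepth 100000 in
theorem reach_facts : reachTest tB1 S1 = true ∧ reachTest tB2 S2 = true ∧ S1.Nodup ∧ S2.Nodup := by
  decide +kernel

set_option maxRecDepth 100000 in
theorem gen_facts : tdet tJ = 1 ∧ tdet tB1 = 1 ∧ tdet tB2 = 1 ∧ tdet tK * tdet tK' = 1 := by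
  decide +kernel

end Cfsg.Agent.Classical.AltFiveElevenData
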