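import Mathlib
import Cfsg.Agent.Lib.Classical.AltFiveElevenData
import Cfsg.Agent.Lib.Forms.KleinPSL
import Cfsg.Agent.Lib.Forms.KleinIco
import Cfsg.Agent.Lib.Classical.Linear
import Cfsg.Agent.Lib.Classical.SmallIso
import Cfsg.Agent.Lib.Classical.GL2

/-!
# The two classes of subgroups `A₅` in `PSL₂(11)`
-/

set_option autoImplicit false

namespace Cfsg.Agent.Classical.AltFiveEleven

open Cfsg.Agent.Classical.AltFiveElevenData Cfsg.Agent.Forms
open scoped MatrixGroups Pointwise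

local notation "𝔽" => ZMod 11
local notation "PG11" => Matrix.ProjectiveSpecialLinearGroup (Fin 2) (ZMod 11)
local notation "A5" => alternatingGroup (Fin 5)

instance fact11 : Fact (Nat.Prime 11) := ⟨by norm_num⟩

theorem two_ne : (2 : 𝔽) ≠ 0 := by decide +kernel

/-- Entries of a matrix. -/
def tup (g : SL(2, 𝔽)) : Tup :=
  ((g : Matrix (Fin 2) (Fin 2) 𝔽) 0 0, (g : Matrix (Fin 2) (Fin 2) 𝔽) 0 1,
    (g : Matrix (Fin 2) (Fin 2) 𝔽) 1 0, (g : Matrix (Fin 2) (Fin 2) 𝔽) 1 1)

theorem tup_mul (g h : SL(2, 𝔽)) : tup (g * h) = tmul (tup g) (tup h) := by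
  simp [tup, tmul, Matrix.mul_apply, Fin.sum_univ_two]

theorem tup_neg (g : SL(2, 𝔽)) : tup (-g) = tneg (tup g) := by
  simp [tup, tneg]

theorem tup_one : tup 1 = (1, 0, 0, 1) := by simp [tup]

theorem tup_inv (g : SL(2, 𝔽)) : tup g⁻¹ = tinv (tup g) := by
  simp [tup, tinv, Matrix.SpecialLinearGroup.coe_inv, Matrix.adjugate_fin_two]

theorem tdet_tup (g : SL(2, 𝔽)) : tdet (tup g) = 1 := by
  have := g.2
  rwa [Matrix.det_fin_two] at this

theorem tup_injective {g h : SL(2, 𝔽)} (e : tup g = tup h) : g = h := by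
  simp only [tup, Prod.mk.injEq] at e
  refine Subtype.ext (Matrix.ext fun i j => ?_)
  fin_cases i <;> fin_cases j
  exacts [e.1, e.2.1, e.2.2.1, e.2.2.2]

/-- A matrix from its entries. -/
def mk (x : Tup) (h : tdet x = 1) : SL(2, 𝔽) :=
  ⟨!![x.1, x.2.1; x.2.2.1, x.2.2.2], by rwa [Matrix.det_fin_two_of]⟩

theorem tup_mk (x : Tup) (h : tdet x = 1) : tup (mk x h) = x := rfl

theorem code_tup_eq_iff (g h : SL(2, 𝔽)) :
    code (tup g) = code (tup h) ↔ KleinPSL.pi 𝔽 g = KleinPSL.pi 𝔽 h := by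
  rw [KleinPSL.pi_eq_iff]
  refine ⟨fun e => ?_, ?_⟩
  · rcases code_eq e with e | e
    · exact Or.inl (tup_injective e)
    · exact Or.inr (tup_injective (e.trans (tup_neg h).symm))
  · rintro (rfl | rfl)
    · rfl
    · rw [tup_neg, code_neg]

/-- The code of a group element. -/
noncomputable def cd (x : PG11) : ℕ := code (tup (Function.surjInv KleinPSL.pi_surjective x))

theorem cd_pi (g : SL(2, 𝔽)) : cd (KleinPSL.pi 𝔽 g) = code (tup g) :=
  (code_tup_eq_iff _ _).2 (Function.surjInv_eq _ _)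

theorem cd_injective : Function.Injective cd := fun x y h => by
  obtain ⟨g, rfl⟩ := KleinPSL.pi_surjective x
  obtain ⟨g', rfl⟩ := KleinPSL.pi_surjective y
  rw [cd_pi, cd_pi] at h
  exact (code_tup_eq_iff _ _).1 h

theorem cd_one : cd 1 = code (1, 0, 0, 1) := by
  rw [← map_one (KleinPSL.pi 𝔽), cd_pi, tup_one]

theorem cd_mul_dec (g : SL(2, 𝔽)) (z : PG11) :
    cd (KleinPSL.pi 𝔽 g * z) = code (tmul (tup g) (dec (cd z))) ∨ cd z ∉ S1 ++ S2 := by
  obtain ⟨h, rfl⟩ := KleinPSL.pi_surjective z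
  rw [← map_mul, cd_pi, cd_pi, tup_mul]
  by_cases hm : code (tup h) ∈ S1 ++ S2
  · refine Or.inl ?_
    rcases code_eq ((dec_facts _ hm).symm) with e | e
    · rw [← e]
    · generalize dec (code (tup h)) = d at e ⊢
      rw [e, show tmul (tup g) (tneg d) = tneg (tmul (tup g) d) by
        simp [tmul, tneg]; refine ⟨?_, ?_, ?_, ?_⟩ <;> ring, code_neg]
  · exact Or.inr hm

/-- The chosen involution. -/
def a0 : PG11 := KleinPSL.pi 𝔽 (mk tJ gen_facts.1)

/-- The first element of order three. -/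
def b1 : PG11 := KleinPSL.pi 𝔽 (mk tB1 gen_facts.2.1)

/-- The second element of order three. -/
def b2 : PG11 := KleinPSL.pi 𝔽 (mk tB2 gen_facts.2.2.1)

/-- The subgroup generated with the chosen involution. -/
def Hsub (b : PG11) : Subgroup PG11 := Subgroup.closure {a0, b}

theorem exists_cd (s : ℕ) (hs : s ∈ S1 ++ S2) : ∃ y, cd y = s :=
  ⟨KleinPSL.pi 𝔽 (mk (dec s) (dec_det s hs)), by rw [cd_pi, tup_mk, dec_facts s hs]⟩

theorem mem_Hsub_iff {t : Tup} (ht : tdet t = 1) {S : List ℕ}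
    (hS : ∀ s ∈ S, code (tmul tJ (dec s)) ∈ S ∧ code (tmul t (dec s)) ∈ S)
    (h1 : code (1, 0, 0, 1) ∈ S) (hsub : ∀ s ∈ S, s ∈ S1 ++ S2) (hr : reachTest t S = true)
    (x : PG11) : x ∈ Hsub (KleinPSL.pi 𝔽 (mk t ht)) ↔ cd x ∈ S := by
  constructor
  · intro hx
    let T : Submonoid PG11 :=
      { carrier := {g | ∀ z, cd z ∈ S → cd (g * z) ∈ S}
        one_mem' := fun z hz => by rwa [one_mul]
        mul_mem' := fun {g h} hg hh z hz => by rw [mul_assoc]; exact hg _ (hh z hz) }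
    have hT : x ∈ T := by
      have hx' : x ∈ (Hsub (KleinPSL.pi 𝔽 (mk t ht))).toSubmonoid := hx
      rw [Hsub, Subgroup.closure_toSubmonoid_of_finite] at hx'
      refine Submonoid.closure_le.2 ?_ hx'
      rintro g (rfl | rfl) z hz
      · rcases cd_mul_dec (mk tJ gen_facts.1) z with e | e
        · rw [a0, e]; exact (hS _ hz).1
        · exact absurd (hsub _ hz) e
      · rcases cd_mul_dec (mk t ht) z with e | e
        · rw [e]; exact (hS _ hz).2
        · exact absurd (hsub _ hz) e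
    have := hT 1 (by rwa [cd_one])
    rwa [mul_one] at this
  · have key : ∀ j, j < S.length → ∀ z : PG11, cd z = S.getD j 0 →
        z ∈ Hsub (KleinPSL.pi 𝔽 (mk t ht)) := by
      intro j
      induction j using Nat.strong_induction_on with
      | _ j ih =>
        intro hj z hz
        have h := List.all_eq_true.1 hr j (List.mem_range.2 hj)
        rw [Bool.or_eq_true, decide_eq_true_eq] at h
        rcases h with h | h
        · rw [cd_injective (hz.trans (h.trans cd_one.symm))]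
          exact one_mem _
        · rw [List.any_eq_true] at h
          obtain ⟨i, hi, h⟩ := h
          rw [Bool.or_eq_true, decide_eq_true_eq, decide_eq_true_eq] at h
          rw [List.mem_range] at hi
          have hil : i < S.length := lt_trans hi hj
          have hmem : S.getD i 0 ∈ S := by
            rw [List.getD_eq_getElem _ _ hil]; exact List.getElem_mem hil
          rcases h with h | h
          · obtain ⟨y, hy⟩ : ∃ y, cd y = S.getD i 0 := exists_cd _ (hsub _ hmem)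
            rcases cd_mul_dec (mk tJ gen_facts.1) y with e | e
            · rw [hy, tup_mk, h, ← hz] at e
              rw [← cd_injective e]
              exact mul_mem (Subgroup.subset_closure (Or.inl rfl)) (ih i hi hil y hy)
            · exact absurd (hsub _ (hy ▸ hmem)) e
          · obtain ⟨y, hy⟩ : ∃ y, cd y = S.getD i 0 := exists_cd _ (hsub _ hmem)
            rcases cd_mul_dec (mk t ht) y with e | e
            · rw [hy, tup_mk, h, ← hz] at e
              rw [← cd_injective e]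
              exact mul_mem (Subgroup.subset_closure (Or.inr rfl)) (ih i hi hil y hy)
            · exact absurd (hsub _ (hy ▸ hmem)) e
    intro hx
    obtain ⟨j, hj, e⟩ := List.mem_iff_getElem.1 hx
    exact key j hj x (by rw [List.getD_eq_getElem _ _ hj, e])

theorem mem_H1 (x : PG11) : x ∈ Hsub b1 ↔ cd x ∈ S1 :=
  mem_Hsub_iff gen_facts.2.1 S1_closed one_mem_S1.1 (fun _ h => List.mem_append_left _ h)
    reach_facts.1 x

theorem mem_H2 (x : PG11) : x ∈ Hsub b2 ↔ cd x ∈ S2 :=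
  mem_Hsub_iff gen_facts.2.2.1 S2_closed one_mem_S1.2.1 (fun _ h => List.mem_append_right _ h)
    reach_facts.2.1 x

theorem card_of_codes {H : Subgroup PG11} {S : List ℕ} (hn : S.Nodup) (hsub : ∀ s ∈ S, s ∈ S1 ++ S2)
    (hH : ∀ x, x ∈ H ↔ cd x ∈ S) : Nat.card H = S.length := by
  rw [← List.toFinset_card_of_nodup hn, ← Fintype.card_coe, ← Nat.card_eq_fintype_card]
  refine Nat.card_eq_of_bijective (fun x : H => (⟨cd x, List.mem_toFinset.2 ((hH _).1 x.2)⟩ :
    {y // y ∈ S.toFinset})) ⟨fun x y h => Subtype.ext (cd_injective (congrArg Subtype.val h)), ?_⟩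
  rintro ⟨s, hs⟩
  rw [List.mem_toFinset] at hs
  have e : cd (KleinPSL.pi 𝔽 (mk (dec s) (dec_det s (hsub s hs)))) = s := by
    rw [cd_pi, tup_mk, dec_facts s (hsub s hs)]
  exact ⟨⟨_, (hH _).2 (e.symm ▸ hs)⟩, Subtype.ext e⟩

theorem natCard_H1 : Nat.card (Hsub b1) = 60 :=
  (card_of_codes reach_facts.2.2.1 (fun _ h => List.mem_append_left _ h) mem_H1).trans
    one_mem_S1.2.2.1

theorem natCard_H2 : Nat.card (Hsub b2) = 60 :=
  (card_of_codes reach_facts.2.2.2 (fun _ h => List.mem_append_right _ h) mem_H2).trans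
    one_mem_S1.2.2.2

theorem natCard_A5 : Nat.card A5 = 60 := by
  rw [nat_card_alternatingGroup, Nat.card_fin]; rfl

theorem natCard_PG11 : Nat.card PG11 = 660 := by
  have h := Classical.SmallIso.natCard_pslTwo 𝔽
  rw [Classical.GL2.natCard_SL_two, ZMod.card] at h
  norm_num at h ⊢
  omega

theorem orderOf_a0 : orderOf a0 = 2 := by
  rw [a0, KleinPSL.orderOf_pi_eq_two two_ne]
  exact tup_injective (by rw [tup_mul, tup_mk, tup_neg, tup_one]; rfl)

/-! ### Facts on `A₅` -/

theorem invol_conj : ∀ a b : A5, a * a = 1 → a ≠ 1 → b * b = 1 → b ≠ 1 →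
    ∃ c : A5, c * a = b * c := by decide +kernel

theorem pair_exists : ∃ s t : A5, s * s = 1 ∧ s ≠ 1 ∧ t * (t * t) = 1 ∧ t ≠ 1 ∧
    (s * t) * (s * t) * ((s * t) * (s * t) * (s * t)) = 1 ∧ s * t ≠ 1 := by decide +kernel

theorem closure_pair {s t : A5} (hs : s * s = 1) (hs1 : s ≠ 1) (ht : t * (t * t) = 1) (ht1 : t ≠ 1)
    (hst : (s * t) * (s * t) * ((s * t) * (s * t) * (s * t)) = 1) (hst1 : s * t ≠ 1) :
    Subgroup.closure {s, t} = ⊤ := by
  set K := Subgroup.closure ({s, t} : Set A5)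
  have sK : s ∈ K := Subgroup.subset_closure (Or.inl rfl)
  have tK : t ∈ K := Subgroup.subset_closure (Or.inr rfl)
  have o2 : orderOf s = 2 := orderOf_eq_prime (by rw [pow_two, hs]) hs1
  have o3 : orderOf t = 3 := orderOf_eq_prime (by rw [pow_succ', pow_two, ht]) ht1
  have : Fact (Nat.Prime 5) := ⟨by norm_num⟩
  have o5 : orderOf (s * t) = 5 := orderOf_eq_prime
    (by simp only [pow_succ, pow_zero, one_mul, ← mul_assoc] at hst ⊢; exact hst) hst1
  have d2 : 2 ∣ Nat.card K := o2 ▸ Subgroup.orderOf_dvd_natCard K sK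
  have d3 : 3 ∣ Nat.card K := o3 ▸ Subgroup.orderOf_dvd_natCard K tK
  have d5 : 5 ∣ Nat.card K := by
    have := Subgroup.orderOf_dvd_natCard K (mul_mem sK tK); rwa [o5] at this
  have hm := K.card_mul_index
  rw [natCard_A5] at hm
  have hpos : 0 < Nat.card K := Nat.card_pos
  have hi : K.index = 1 ∨ K.index = 2 := by
    have h30 : 30 ∣ Nat.card K := by omega
    obtain ⟨r, hr⟩ := h30
    rw [hr] at hm
    have hr2 : r * K.index = 2 := by nlinarith
    exact (Nat.dvd_prime Nat.prime_two).1 ⟨r, by rw [← hr2]; ring⟩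
  rcases hi with hi | hi
  · exact Subgroup.index_eq_one.1 hi
  · have hn := Subgroup.normal_of_index_eq_two hi
    rcases hn.eq_bot_or_eq_top with h | h
    · exact absurd ((Subgroup.eq_bot_iff_forall K).1 h s sK) hs1
    · exact h

/-! ### Subgroups containing the chosen involution -/

variable (L : Subgroup PG11)

theorem invol_conj_in (e : L ≃* A5) {u v : PG11} (hu : u ∈ L) (hv : v ∈ L) (hu2 : orderOf u = 2)
    (hv2 : orderOf v = 2) : ∃ h ∈ L, h * u * h⁻¹ = v := by
  have h1 : ∀ w (hw : w ∈ L), orderOf w = 2 → e ⟨w, hw⟩ * e ⟨w, hw⟩ = 1 ∧ e ⟨w, hw⟩ ≠ 1 :=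
    fun w hw h => by
      constructor
      · rw [← map_mul, map_eq_one_iff _ e.injective]
        exact Subtype.ext (KleinPSL.mul_self_of_order_two h)
      · rw [Ne, map_eq_one_iff _ e.injective]
        exact fun h' => KleinPSL.ne_one_of_order_two h (congrArg Subtype.val h')
  obtain ⟨c, hc⟩ := invol_conj _ _ (h1 u hu hu2).1 (h1 u hu hu2).2 (h1 v hv hv2).1 (h1 v hv hv2).2
  refine ⟨e.symm c, SetLike.coe_mem _, ?_⟩
  have := congrArg (fun x => (e.symm x : PG11)) hc
  simp only [map_mul, e.symm_apply_apply, Subgroup.coe_mul] at this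
  rw [this, mul_inv_cancel_right]

theorem exists_std_of_mem (e : L ≃* A5) (ha : a0 ∈ L) :
    ∃ c : PG11, c * a0 = a0 * c ∧
      (L = MulAut.conj c • Hsub b1 ∨ L = MulAut.conj c • Hsub b2) := by
  obtain ⟨s, t, hs, hs1, ht, ht1, hst, hst1⟩ := pair_exists
  have hgen : Subgroup.closure {(e.symm s : PG11), (e.symm t : PG11)} = L := by
    have h := congrArg (Subgroup.map (L.subtype.comp e.symm.toMonoidHom))
      (closure_pair hs hs1 ht ht1 hst hst1)
    rw [MonoidHom.map_closure, Set.image_pair, ← MonoidHom.range_eq_map] at h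
    exact h.trans (by
      rw [MonoidHom.range_comp, MonoidHom.range_eq_top.2 e.symm.surjective,
        ← MonoidHom.range_eq_map, Subgroup.range_subtype])
  have hos : orderOf (e.symm s : PG11) = 2 := by
    rw [Subgroup.orderOf_coe, MulEquiv.orderOf_eq]
    exact orderOf_eq_prime (by rw [pow_two, hs]) hs1
  obtain ⟨h, hh, hconj⟩ := invol_conj_in L e (SetLike.coe_mem _) ha hos orderOf_a0
  let x : PG11 := h * (e.symm t : PG11) * h⁻¹
  have hxL : x ∈ L := mul_mem (mul_mem hh (SetLike.coe_mem _)) (inv_mem hh)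
  have hL : Subgroup.closure {a0, x} = L := by
    refine le_antisymm ((Subgroup.closure_le L).2 ?_) ?_
    · rintro g (rfl | rfl)
      exacts [ha, hxL]
    · have h' : Subgroup.closure {a0, x} = L.map (MulAut.conj h).toMonoidHom := by
        rw [← hgen, MonoidHom.map_closure, Set.image_pair]
        simp [x, hconj]
      rw [h']
      exact fun g hg => ⟨h⁻¹ * g * h, mul_mem (mul_mem (inv_mem hh) hg) hh, by simp [mul_assoc]⟩
  have hax : a0 * x = h * ((e.symm (s * t) : L) : PG11) * h⁻¹ := by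
    rw [← hconj, map_mul, Subgroup.coe_mul]; simp only [x, mul_assoc, inv_mul_cancel_left]
  obtain ⟨X, hX⟩ := KleinPSL.pi_surjective x
  obtain ⟨-, -, -⟩ := gen_facts
  have hdet := tdet_tup X
  have hc0 : code (tup X) ≠ code (1, 0, 0, 1) := by
    rw [← cd_pi, hX, ← cd_one]
    intro h'
    have hx1 := cd_injective h'
    simp only [x, conj_eq_one_iff] at hx1
    exact ht1 (e.symm.injective ((Subtype.ext hx1).trans (map_one _).symm))
  have hc3 : code (tmul (tup X) (tmul (tup X) (tup X))) = code (1, 0, 0, 1) := by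
    rw [← tup_mul, ← tup_mul, ← cd_pi, map_mul, map_mul, hX, ← cd_one]
    congr 1
    have h3 := congrArg (fun y => h * (e.symm y : PG11) * h⁻¹) ht
    simp only [map_mul, map_one, Subgroup.coe_mul, OneMemClass.coe_one, mul_one, mul_inv_cancel] at h3
    rw [← h3]
    simp only [x, mul_assoc, inv_mul_cancel_left]
  have hc5 : code (tmul (tmul (tmul tJ (tup X)) (tmul tJ (tup X)))
      (tmul (tmul (tmul tJ (tup X)) (tmul tJ (tup X))) (tmul tJ (tup X)))) = code (1, 0, 0, 1) := by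
    rw [← tup_mk tJ gen_facts.1, ← tup_mul, ← tup_mul, ← tup_mul, ← tup_mul, ← cd_pi, ← cd_one]
    simp only [map_mul, hX, show KleinPSL.pi 𝔽 (mk tJ gen_facts.1) = a0 from rfl, hax]
    congr 1
    have h5 := congrArg (fun y => h * (e.symm y : PG11) * h⁻¹) hst
    simp only [map_mul, map_one, Subgroup.coe_mul, OneMemClass.coe_one, mul_one, mul_inv_cancel] at h5
    rw [← h5]
    simp only [map_mul, Subgroup.coe_mul, mul_assoc, inv_mul_cancel_left]
  obtain ⟨k, hk, hkS⟩ := cover _ hdet hc0 hc3 hc5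
  obtain ⟨hkd, hkJ⟩ := conjs_facts k hk
  let c : PG11 := KleinPSL.pi 𝔽 (mk k hkd)
  have hcc : c⁻¹ * a0 * c = a0 := cd_injective (by
    rw [a0, ← map_inv, ← map_mul, ← map_mul, cd_pi, cd_pi, tup_mul, tup_mul, tup_inv, tup_mk, tup_mk,
      hkJ])
  have hcx : cd (c⁻¹ * x * c) = code (tmul (tmul (tinv k) (tup X)) k) := by
    rw [← hX, ← map_inv, ← map_mul, ← map_mul, cd_pi, tup_mul, tup_mul, tup_inv, tup_mk]
  refine ⟨c, ?_, ?_⟩
  · calc c * a0 = c * (c⁻¹ * a0 * c) := by rw [hcc]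
      _ = a0 * c := by rw [mul_assoc, mul_inv_cancel_left]
  have fin : ∀ b : PG11, Nat.card (Hsub b) = 60 → c⁻¹ * x * c ∈ Hsub b →
      L = MulAut.conj c • Hsub b := fun b hb hm => by
    refine Subgroup.eq_of_le_of_card_ge ?_ ?_
    · rw [← hL, Subgroup.closure_le]
      have ha' : a0 ∈ Hsub b := Subgroup.subset_closure (Or.inl rfl)
      rintro g (rfl | rfl)
      · exact Subgroup.mem_pointwise_smul_iff_inv_smul_mem.2 (by
          simpa [MulAut.smul_def, MulAut.conj_inv_apply, hcc] using ha')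
      · exact Subgroup.mem_pointwise_smul_iff_inv_smul_mem.2 (by
          simpa [MulAut.smul_def, MulAut.conj_inv_apply] using hm)
    · rw [← Nat.card_congr (Subgroup.equivSMul (MulAut.conj c) (Hsub b)).toEquiv, hb,
        Nat.card_congr e.toEquiv, natCard_A5]
  rcases hkS with h1 | h1
  · exact Or.inl (fin b1 natCard_H1 ((mem_H1 _).2 (hcx ▸ h1)))
  · exact Or.inr (fin b2 natCard_H2 ((mem_H2 _).2 (hcx ▸ h1)))

theorem exists_std (e : L ≃* A5) :
    ∃ g : PG11, MulAut.conj g • L = Hsub b1 ∨ MulAut.conj g • L = Hsub b2 := by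
  obtain ⟨s, -, hs, hs1, -⟩ := pair_exists
  have hos : orderOf (e.symm s : PG11) = 2 := by
    rw [Subgroup.orderOf_coe, MulEquiv.orderOf_eq]
    exact orderOf_eq_prime (by rw [pow_two, hs]) hs1
  obtain ⟨g, hg⟩ := isConj_iff.1 (KleinPSL.involutions_isConj two_ne _ a0 hos orderOf_a0)
  let L' : Subgroup PG11 := MulAut.conj g • L
  have ha : a0 ∈ L' := hg ▸ Subgroup.smul_mem_pointwise_smul _ (MulAut.conj g) L (SetLike.coe_mem _)
  obtain ⟨c, -, h⟩ := exists_std_of_mem L' ((Subgroup.equivSMul (MulAut.conj g) L).symm.trans e) ha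
  refine ⟨c⁻¹ * g, ?_⟩
  rw [map_mul, mul_smul, map_inv, inv_smul_eq_iff, inv_smul_eq_iff]
  exact h

/-! ### The diagonal automorphism -/

theorem tdet_tmul (x y : Tup) : tdet (tmul x y) = tdet x * tdet y := by
  simp only [tdet, tmul]; ring

theorem tmul_assoc (x y z : Tup) : tmul (tmul x y) z = tmul x (tmul y z) := by
  simp only [tmul, Prod.mk.injEq]; refine ⟨?_, ?_, ?_, ?_⟩ <;> ring

theorem one_tmul (x : Tup) : tmul (1, 0, 0, 1) x = x := by simp [tmul]

theorem theta_det (g : SL(2, 𝔽)) : tdet (tmul (tmul tK (tup g)) tK') = 1 := by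
  rw [tdet_tmul, tdet_tmul, tdet_tup, mul_one, gen_facts.2.2.2]

theorem tK'_tK : tmul tK' tK = (1, 0, 0, 1) := by decide +kernel

/-- Conjugation by a matrix of non-square determinant. -/
def theta : SL(2, 𝔽) →* SL(2, 𝔽) where
  toFun g := mk (tmul (tmul tK (tup g)) tK') (theta_det g)
  map_one' := tup_injective (by rw [tup_mk, tup_one]; decide +kernel)
  map_mul' g h := tup_injective (by
    rw [tup_mk, tup_mul, tup_mul, tup_mk, tup_mk]
    simp only [tmul_assoc]
    rw [← tmul_assoc tK' tK, tK'_tK, one_tmul])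

/-- Its action on the projective group. -/
noncomputable def thetaP : PG11 →* PG11 :=
  QuotientGroup.lift _ ((KleinPSL.pi 𝔽).comp theta) fun g hg => by
    have h1 : KleinPSL.pi 𝔽 g = 1 := (QuotientGroup.eq_one_iff g).2 hg
    rw [MonoidHom.mem_ker, MonoidHom.comp_apply]
    rcases KleinPSL.pi_eq_one.1 h1 with rfl | rfl
    · rw [map_one, map_one]
    · refine (KleinPSL.pi_eq_one).2 (Or.inr (tup_injective ?_))
      rw [tup_neg, tup_one]
      show tmul (tmul tK (tup (-1))) tK' = _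
      rw [tup_neg, tup_one]
      decide +kernel

theorem thetaP_a0 : thetaP a0 = a0 :=
  congrArg (KleinPSL.pi 𝔽) (tup_injective (show tmul (tmul tK (tup (mk tJ gen_facts.1))) tK' = _ from
    aut_facts.2.1))

theorem thetaP_b1 : thetaP b1 = b2 :=
  congrArg (KleinPSL.pi 𝔽) (tup_injective (show tmul (tmul tK (tup (mk tB1 gen_facts.2.1))) tK' = _ from
    aut_facts.2.2))

theorem nonempty_equiv : Nonempty (Hsub b1 ≃* Hsub b2) := by
  have hmap : (Hsub b1).map thetaP = Hsub b2 := by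
    rw [Hsub, MonoidHom.map_closure, Set.image_pair, thetaP_a0, thetaP_b1, Hsub]
  let f : Hsub b1 →* Hsub b2 :=
    (thetaP.comp (Hsub b1).subtype).codRestrict _ fun x => hmap ▸ Subgroup.mem_map_of_mem thetaP x.2
  refine ⟨MulEquiv.ofBijective f ?_⟩
  rw [Nat.bijective_iff_surjective_and_card, natCard_H1, natCard_H2]
  refine ⟨fun y => ?_, rfl⟩
  obtain ⟨x, hx, hxy⟩ := Subgroup.mem_map.1 (hmap.symm ▸ y.2 : (y : PG11) ∈ (Hsub b1).map thetaP)
  exact ⟨⟨x, hx⟩, Subtype.ext hxy⟩

theorem both_alt : Nonempty (Hsub b1 ≃* A5) ∧ Nonempty (Hsub b2 ≃* A5) := by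
  obtain ⟨e12⟩ := nonempty_equiv
  obtain ⟨L, ⟨e⟩⟩ := KleinIco.exists_icosahedral (F := 𝔽) two_ne (by decide +kernel) (t := (4 : 𝔽))
    (by decide +kernel)
  obtain ⟨g, h | h⟩ := exists_std L e
  · let e1 : Hsub b1 ≃* A5 :=
      ((MulEquiv.subgroupCongr h).symm.trans (Subgroup.equivSMul (MulAut.conj g) L).symm).trans e
    exact ⟨⟨e1⟩, ⟨e12.symm.trans e1⟩⟩
  · let e2 : Hsub b2 ≃* A5 :=
      ((MulEquiv.subgroupCongr h).symm.trans (Subgroup.equivSMul (MulAut.conj g) L).symm).trans e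
    exact ⟨⟨e12.trans e2⟩, ⟨e2⟩⟩

theorem not_conj (g : PG11) : MulAut.conj g • Hsub b1 ≠ Hsub b2 := by
  intro hg
  obtain ⟨e2⟩ := both_alt.2
  have hm : ∀ y ∈ Hsub b1, g * y * g⁻¹ ∈ Hsub b2 := fun y hy =>
    hg ▸ Subgroup.smul_mem_pointwise_smul y (MulAut.conj g) _ hy
  obtain ⟨h, hh, hc⟩ := invol_conj_in (Hsub b2) e2 (hm a0 (Subgroup.subset_closure (Or.inl rfl)))
    (Subgroup.subset_closure (Or.inl rfl))
    ((MulEquiv.orderOf_eq (MulAut.conj g) a0).trans orderOf_a0) orderOf_a0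
  obtain ⟨U, hU⟩ := KleinPSL.pi_surjective (h * g)
  have hcomm : code (tmul (tup U) tJ) = code (tmul tJ (tup U)) := by
    rw [← tup_mk tJ gen_facts.1, ← tup_mul, ← tup_mul, ← cd_pi, ← cd_pi, map_mul, map_mul, hU, ← a0]
    congr 1
    calc h * g * a0 = h * (g * a0 * g⁻¹) * h⁻¹ * (h * g) := by group
      _ = a0 * (h * g) := by rw [hc]
  refine apart _ (tdet_tup U) hcomm ?_
  rw [← tup_inv, ← tup_mk tB1 gen_facts.2.1, ← tup_mul, ← tup_mul, ← cd_pi, map_mul, map_mul, map_inv,
    hU, ← b1, ← mem_H2]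
  rw [show h * g * b1 * (h * g)⁻¹ = h * (g * b1 * g⁻¹) * h⁻¹ by group]
  exact mul_mem (mul_mem hh (hm b1 (Subgroup.subset_closure (Or.inr rfl)))) (inv_mem hh)

theorem natCard_orbit {H : Subgroup PG11} (hH : Nat.card H = 60) :
    Nat.card {L : Subgroup PG11 // ∃ g : PG11, MulAut.conj g • L = H} = 11 := by
  have : IsSimpleGroup PG11 :=
    Classical.Linear.isSimpleGroup_PSL_fin (F := 𝔽) (n := 2) le_rfl (fun _ => by rw [ZMod.card]; omega)
  have hidx : H.index = 11 := by
    have := H.card_mul_index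
    rw [hH, natCard_PG11] at this
    omega
  have hN : Subgroup.normalizer (H : Set PG11) = H := by
    have hle := H.le_normalizer
    have hd := Subgroup.index_dvd_of_le hle
    rw [hidx] at hd
    rcases (Nat.dvd_prime (by norm_num : Nat.Prime 11)).1 hd with h | h
    · exfalso
      have hn : H.Normal := Subgroup.normalizer_eq_top_iff.1 (Subgroup.index_eq_one.1 h)
      rcases hn.eq_bot_or_eq_top with h' | h' <;> subst h'
      · rw [Subgroup.card_bot] at hH; omega
      · rw [Subgroup.index_top] at hidx; omega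
    · refine (Subgroup.eq_of_le_of_card_ge hle ?_).symm
      have h1 := (Subgroup.normalizer (H : Set PG11)).card_mul_index
      rw [h, natCard_PG11] at h1
      omega
  have hmk : ∀ a b : PG11, (QuotientGroup.leftRel H) a b →
      (⟨MulAut.conj a • H, a⁻¹, by rw [map_inv, inv_smul_smul]⟩ :
        {L : Subgroup PG11 // ∃ g : PG11, MulAut.conj g • L = H}) =
      ⟨MulAut.conj b • H, b⁻¹, by rw [map_inv, inv_smul_smul]⟩ := fun a b hab => by
    rw [QuotientGroup.leftRel_apply] at hab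
    apply Subtype.ext
    show MulAut.conj a • H = MulAut.conj b • H
    conv_rhs => rw [show b = a * (a⁻¹ * b) by group, map_mul, mul_smul,
      Subgroup.conj_smul_eq_self_of_mem hab]
  refine Eq.trans ?_ hidx
  refine (Nat.card_eq_of_bijective (fun x : PG11 ⧸ H => Quotient.liftOn' x _ hmk) ⟨?_, ?_⟩).symm
  · intro x y
    induction x using QuotientGroup.induction_on with | _ a
    induction y using QuotientGroup.induction_on with | _ b
    intro hab
    have hab' : MulAut.conj a • H = MulAut.conj b • H := congrArg Subtype.val hab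
    rw [QuotientGroup.eq, ← hN, Subgroup.mem_normalizer_iff]
    intro y
    have e : MulAut.conj (a⁻¹ * b) • H = H := by
      rw [map_mul, mul_smul, ← hab', ← mul_smul, ← map_mul, inv_mul_cancel, map_one, one_smul]
    conv_rhs => rw [← e]
    exact (Subgroup.smul_mem_pointwise_smul_iff (a := MulAut.conj (a⁻¹ * b))).symm
  · rintro ⟨L, g, hg⟩
    refine ⟨((g⁻¹ : PG11) : PG11 ⧸ H), Subtype.ext ?_⟩
    show MulAut.conj g⁻¹ • H = L
    rw [← hg, map_inv, inv_smul_smul]

theorem main : Nat.card {H : Subgroup PG11 // Nonempty (H ≃* A5)} = 22 ∧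
    ∃ H K : Subgroup PG11, Nonempty (H ≃* A5) ∧ Nonempty (K ≃* A5) ∧
      (∀ g : PG11, MulAut.conj g • H ≠ K) ∧ ∀ L : Subgroup PG11, Nonempty (L ≃* A5) →
        ∃ g : PG11, MulAut.conj g • L = H ∨ MulAut.conj g • L = K := by
  classical
  obtain ⟨⟨e1⟩, ⟨e2⟩⟩ := both_alt
  refine ⟨?_, Hsub b1, Hsub b2, ⟨e1⟩, ⟨e2⟩, not_conj, fun L ⟨e⟩ => exists_std L e⟩
  have hiff : ∀ L : Subgroup PG11, Nonempty (L ≃* A5) ↔
      (∃ g : PG11, MulAut.conj g • L = Hsub b1) ∨ ∃ g : PG11, MulAut.conj g • L = Hsub b2 := fun L => by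
    constructor
    · rintro ⟨e⟩
      exact exists_or.1 (exists_std L e)
    · rintro (⟨g, h⟩ | ⟨g, h⟩)
      · exact ⟨((Subgroup.equivSMul (MulAut.conj g) L).trans (MulEquiv.subgroupCongr h)).trans e1⟩
      · exact ⟨((Subgroup.equivSMul (MulAut.conj g) L).trans (MulEquiv.subgroupCongr h)).trans e2⟩
  have hdisj : Disjoint (fun L : Subgroup PG11 => ∃ g : PG11, MulAut.conj g • L = Hsub b1)
      (fun L : Subgroup PG11 => ∃ g : PG11, MulAut.conj g • L = Hsub b2) := by
    rw [Pi.disjoint_iff]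
    intro L
    rw [Prop.disjoint_iff, not_and]
    rintro ⟨g, h1⟩ ⟨g', h2⟩
    refine not_conj (g' * g⁻¹) ?_
    rw [map_mul, mul_smul, ← h1, map_inv, inv_smul_smul, h2]
  rw [Nat.card_congr (Equiv.subtypeEquivRight hiff), Nat.card_congr (subtypeOrEquiv _ _ hdisj),
    Nat.card_sum, natCard_orbit natCard_H1, natCard_orbit natCard_H2]

end Cfsg.Agent.Classical.AltFiveEleven
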