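import Mathlib
import Cfsg.Agent.Lib.Classical.LinearExtend

/-!
# Subgroups `A₇` of `GL₄(2)`
-/

set_option autoImplicit false

namespace Cfsg.Agent.Classical.AltSevenGLFour

open Matrix

local notation "𝔽" => ZMod 2
local notation "G4" => Matrix.GeneralLinearGroup (Fin 4) (ZMod 2)
local notation "A7" => alternatingGroup (Fin 7)

theorem add_self (a : 𝔽) : a + a = 0 := by revert a; decide

theorem eq_one {a : 𝔽} (h : a ≠ 0) : a = 1 := by revert a; decide

/-- Transvections. -/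
def IsT (g : G4) : Prop :=
  ∃ c φ : Fin 4 → 𝔽, c ≠ 0 ∧ φ ≠ 0 ∧ φ ⬝ᵥ c = 0 ∧
    (g : Matrix (Fin 4) (Fin 4) 𝔽) = 1 + vecMulVec c φ

theorem pow_two_of_isT {g : G4} (h : IsT g) : g ^ 2 = 1 ∧ g ≠ 1 := by
  obtain ⟨c, φ, hc, hφ, h0, hg⟩ := h
  constructor
  · refine Units.ext ?_
    rw [pow_two, Units.val_mul, hg, Units.val_one]
    have e : vecMulVec c φ * vecMulVec c φ = 0 := by
      rw [Matrix.vecMulVec_mul_vecMulVec, h0]; ext; simp [vecMulVec]
    have e2 : vecMulVec c φ + vecMulVec c φ = 0 := by ext; exact add_self _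
    simp only [add_mul, mul_add, one_mul, mul_one, e, add_zero]
    rw [add_assoc, e2, add_zero]
  · rintro rfl
    rw [Units.val_one, left_eq_add] at hg
    obtain ⟨i, hi⟩ := Function.ne_iff.1 hc
    obtain ⟨j, hj⟩ := Function.ne_iff.1 hφ
    exact mul_ne_zero hi hj (congrFun (congrFun hg i) j)

theorem isT_conj (h : G4) {g : G4} (hg : IsT g) : IsT (h * g * h⁻¹) := by
  obtain ⟨c, φ, hc, hφ, h0, hm⟩ := hg
  refine ⟨(h : Matrix (Fin 4) (Fin 4) 𝔽) *ᵥ c, φ ᵥ* ((h⁻¹ : G4) : Matrix (Fin 4) (Fin 4) 𝔽),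
    fun e => hc ?_, fun e => hφ ?_, ?_, ?_⟩
  · have := congrArg (((h⁻¹ : G4) : Matrix (Fin 4) (Fin 4) 𝔽) *ᵥ ·) e
    simpa [Matrix.mulVec_mulVec] using this
  · have := congrArg (· ᵥ* (h : Matrix (Fin 4) (Fin 4) 𝔽)) e
    simpa [Matrix.vecMul_vecMul] using this
  · rw [← Matrix.dotProduct_mulVec, Matrix.mulVec_mulVec, ← Units.val_mul, inv_mul_cancel,
      Units.val_one, Matrix.one_mulVec, h0]
  · rw [Units.val_mul, Units.val_mul, hm, mul_add, add_mul, mul_one, ← Units.val_mul,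
      mul_inv_cancel, Units.val_one, Matrix.mul_vecMulVec, Matrix.vecMulVec_mul]

theorem pair_count : Fintype.card {p : (Fin 4 → 𝔽) × (Fin 4 → 𝔽) //
    p.1 ≠ 0 ∧ p.2 ≠ 0 ∧ p.2 ⬝ᵥ p.1 = 0} = 105 := by decide +kernel

theorem natCard_isT_le : Nat.card {g : G4 // IsT g} ≤ 105 := by
  classical
  rw [← pair_count, ← Nat.card_eq_fintype_card]
  choose c φ hc hφ h0 hg using fun g : {g : G4 // IsT g} => g.2
  refine Nat.card_le_card_of_injective
    (fun g => (⟨(c g, φ g), hc g, hφ g, h0 g⟩ :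
      {p : (Fin 4 → 𝔽) × (Fin 4 → 𝔽) // p.1 ≠ 0 ∧ p.2 ≠ 0 ∧ p.2 ⬝ᵥ p.1 = 0}))
    fun g g' h => Subtype.ext (Units.ext ?_)
  have h' := congrArg Subtype.val h
  rw [hg g, hg g', show c g = c g' from congrArg Prod.fst h',
    show φ g = φ g' from congrArg Prod.snd h']

theorem eq_top_of_isT (H : Subgroup G4) (hH : ∀ g, IsT g → g ∈ H) : H = ⊤ := by
  refine (Subgroup.eq_top_iff' H).2 fun g => ?_
  obtain ⟨L, L', D, hD⟩ := Matrix.Pivot.exists_list_transvec_mul_diagonal_mul_list_transvec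
    (g : Matrix (Fin 4) (Fin 4) 𝔽)
  have hlist : ∀ L : List (TransvectionStruct (Fin 4) 𝔽),
      ∃ h ∈ H, (h : Matrix (Fin 4) (Fin 4) 𝔽) = (L.map TransvectionStruct.toMatrix).prod := by
    intro L
    induction L with
    | nil => exact ⟨1, one_mem H, rfl⟩
    | cons t L ih =>
      obtain ⟨h, hh, hh'⟩ := ih
      obtain ⟨i, j, hij, a⟩ := t
      by_cases ha : a = 0
      · exact ⟨h, hh, by rw [List.map_cons, List.prod_cons, ← hh']; simp [TransvectionStruct.toMatrix, ha]⟩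
      let u : G4 := Matrix.GeneralLinearGroup.mk'' (Matrix.transvection i j a)
        (by rw [Matrix.det_transvection_of_ne _ _ hij]; exact isUnit_one)
      refine ⟨u * h, mul_mem (hH _ ⟨Pi.single i 1, Pi.single j 1, by simp, by simp,
        by simp [hij.symm], ?_⟩) hh, ?_⟩
      · show Matrix.transvection i j a = _
        rw [eq_one ha, Matrix.transvection, Matrix.single_eq_single_vecMulVec_single]
      · rw [Units.val_mul, hh', List.map_cons, List.prod_cons]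
        rfl
  obtain ⟨a, ha, ha'⟩ := hlist L
  obtain ⟨b, hb, hb'⟩ := hlist L'
  have hu : IsUnit (Matrix.diagonal D) := by
    have hg := g.isUnit.map Matrix.detMonoidHom
    rw [Matrix.isUnit_iff_isUnit_det]
    simpa [hD, Matrix.det_mul] using hg
  have hD1 : Matrix.diagonal D = 1 := by
    rw [Matrix.isUnit_diagonal, Pi.isUnit_iff] at hu
    exact Matrix.diagonal_eq_one.2 (funext fun i => eq_one (hu i).ne_zero)
  have : g = a * b := Units.ext (by rw [Units.val_mul, ha', hb', hD, hD1, mul_one])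
  exact this ▸ mul_mem ha hb

theorem natCard_G4 : Nat.card G4 = 20160 := by
  rw [Matrix.card_GL_field, ZMod.card]
  decide

/-! ### Involutions of `A₇` -/

theorem cycleType_invol {a : A7} (h1 : a ^ 2 = 1) (h2 : a ≠ 1) :
    (a : Equiv.Perm (Fin 7)).cycleType = {2, 2} := by
  have ho : orderOf (a : Equiv.Perm (Fin 7)) = 2 :=
    orderOf_eq_prime (congrArg Subtype.val h1) fun h => h2 (Subtype.ext h)
  obtain ⟨k, hk⟩ := Equiv.Perm.cycleType_prime_order (σ := (a : Equiv.Perm (Fin 7)))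
    (ho ▸ Nat.prime_two)
  rw [ho] at hk
  have hle := Equiv.Perm.sum_cycleType_le (a : Equiv.Perm (Fin 7))
  rw [hk, Multiset.sum_replicate, smul_eq_mul, Fintype.card_fin] at hle
  have hs := Equiv.Perm.sign_of_cycleType (a : Equiv.Perm (Fin 7))
  rw [Equiv.Perm.mem_alternatingGroup.1 a.2, hk, Multiset.sum_replicate, Multiset.card_replicate,
    smul_eq_mul] at hs
  obtain rfl : k = 1 := by
    have : k = 0 ∨ k = 1 ∨ k = 2 := by omega
    rcases this with rfl | rfl | rfl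
    · exact absurd hs (by decide)
    · rfl
    · exact absurd hs (by decide)
  rw [hk]; rfl

theorem isConj_invol {a b : A7} (h1 : a ^ 2 = 1) (h2 : a ≠ 1) (h3 : b ^ 2 = 1) (h4 : b ≠ 1) :
    IsConj a b := by
  refine alternatingGroup.isConj_of
    (Equiv.Perm.isConj_iff_cycleType_eq.2 ((cycleType_invol h1 h2).trans
      (cycleType_invol h3 h4).symm)) ?_
  rw [← Equiv.Perm.sum_cycleType, cycleType_invol h1 h2]
  decide

theorem natCard_invol : Nat.card {a : A7 // a ^ 2 = 1 ∧ a ≠ 1} = 105 := by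
  classical
  have h := AlternatingGroup.card_of_cycleType (Fin 7) {2, 2}
  rw [Fintype.card_fin] at h
  rw [Nat.card_eq_fintype_card, Fintype.card_subtype]
  refine (congrArg Finset.card (Finset.filter_congr fun a _ => ?_)).trans (h.trans (by decide))
  refine ⟨fun h => cycleType_invol h.1 h.2, fun hc => ?_⟩
  have ho : orderOf (a : Equiv.Perm (Fin 7)) = 2 := by
    rw [← Equiv.Perm.lcm_cycleType, hc]; decide
  exact ⟨Subtype.ext (by rw [SubgroupClass.coe_pow, ← ho, pow_orderOf_eq_one]; rfl),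
    fun e => by rw [e, OneMemClass.coe_one, orderOf_one] at ho; omega⟩

/-! ### The subgroup -/

variable (H : Subgroup G4)

theorem natCard_H (e : H ≃* A7) : Nat.card H = 2520 := by
  rw [Nat.card_congr e.toEquiv, nat_card_alternatingGroup, Nat.card_eq_fintype_card,
    Fintype.card_fin]
  decide

theorem no_isT (e : H ≃* A7) (t : G4) (ht : t ∈ H) : ¬ IsT t := by
  intro hT
  obtain ⟨h1, h2⟩ := pow_two_of_isT hT
  have t1 : e ⟨t, ht⟩ ^ 2 = 1 := by
    rw [← map_pow, map_eq_one_iff _ e.injective]; exact Subtype.ext h1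
  have t2 : e ⟨t, ht⟩ ≠ 1 := fun h => h2 (congrArg Subtype.val ((map_eq_one_iff _ e.injective).1 h))
  have key : ∀ a : {a : A7 // a ^ 2 = 1 ∧ a ≠ 1}, IsT (e.symm a.1 : G4) := fun a => by
    obtain ⟨c, hc⟩ := isConj_iff.1 (isConj_invol t1 t2 a.2.1 a.2.2)
    rw [← hc, map_mul, map_mul, map_inv, e.symm_apply_apply, Subgroup.coe_mul, Subgroup.coe_mul,
      Subgroup.coe_inv]
    exact isT_conj _ hT
  let f : {a : A7 // a ^ 2 = 1 ∧ a ≠ 1} → {g : G4 // IsT g} := fun a => ⟨_, key a⟩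
  have hf : Function.Injective f := fun a b h => by
    have h' : (f a).1 = (f b).1 := congrArg Subtype.val h
    exact Subtype.ext (e.symm.injective (Subtype.ext h'))
  have hb : Function.Bijective f := hf.bijective_of_nat_card_le (by
    rw [natCard_invol]; exact natCard_isT_le)
  have htop := eq_top_of_isT H fun g hg => by
    obtain ⟨a, ha⟩ := hb.2 ⟨g, hg⟩
    rw [← show (e.symm a.1 : G4) = g from congrArg Subtype.val ha]
    exact SetLike.coe_mem _
  have h := natCard_H H e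
  rw [htop, Subgroup.card_top, natCard_G4] at h
  omega

/-! ### The stabilizer of two vectors -/

/-- Fixing the first two unit vectors. -/
def fix01 : Subgroup G4 where
  carrier := {g | (g : Matrix (Fin 4) (Fin 4) 𝔽) *ᵥ Pi.single 0 1 = Pi.single 0 1 ∧
    (g : Matrix (Fin 4) (Fin 4) 𝔽) *ᵥ Pi.single 1 1 = Pi.single 1 1}
  mul_mem' {a b} ha hb := by
    constructor
    · rw [Units.val_mul, ← Matrix.mulVec_mulVec, hb.1, ha.1]
    · rw [Units.val_mul, ← Matrix.mulVec_mulVec, hb.2, ha.2]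
  one_mem' := ⟨Matrix.one_mulVec _, Matrix.one_mulVec _⟩
  inv_mem' {a} ha := by
    constructor
    · conv_lhs => rw [← ha.1]
      rw [Matrix.mulVec_mulVec, ← Units.val_mul, inv_mul_cancel, Units.val_one, Matrix.one_mulVec]
    · conv_lhs => rw [← ha.2]
      rw [Matrix.mulVec_mulVec, ← Units.val_mul, inv_mul_cancel, Units.val_one, Matrix.one_mulVec]

theorem cols {g : G4} (hg : g ∈ fix01) : ∀ i,
    (g : Matrix (Fin 4) (Fin 4) 𝔽) i 0 = (Pi.single 0 1 : Fin 4 → 𝔽) i ∧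
    (g : Matrix (Fin 4) (Fin 4) 𝔽) i 1 = (Pi.single 1 1 : Fin 4 → 𝔽) i := fun i => by
  constructor
  · simpa [Matrix.mulVec_single] using congrFun hg.1 i
  · simpa [Matrix.mulVec_single] using congrFun hg.2 i

theorem ext_fix {g h : G4} (hg : g ∈ fix01) (hh : h ∈ fix01)
    (e : ∀ i, (g : Matrix (Fin 4) (Fin 4) 𝔽) i 2 = (h : Matrix (Fin 4) (Fin 4) 𝔽) i 2 ∧
      (g : Matrix (Fin 4) (Fin 4) 𝔽) i 3 = (h : Matrix (Fin 4) (Fin 4) 𝔽) i 3) : g = h := by
  refine Units.ext (Matrix.ext fun i j => ?_)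
  fin_cases j
  · exact ((cols hg i).1).trans (cols hh i).1.symm
  · exact ((cols hg i).2).trans (cols hh i).2.symm
  · exact (e i).1
  · exact (e i).2

/-- The lower right block. -/
def block (g : G4) : Matrix (Fin 2) (Fin 2) 𝔽 :=
  !![(g : Matrix (Fin 4) (Fin 4) 𝔽) 2 2, (g : Matrix (Fin 4) (Fin 4) 𝔽) 2 3;
    (g : Matrix (Fin 4) (Fin 4) 𝔽) 3 2, (g : Matrix (Fin 4) (Fin 4) 𝔽) 3 3]

/-- The block homomorphism. -/
def blockHom : fix01 →* Matrix (Fin 2) (Fin 2) 𝔽 where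
  toFun g := block g
  map_one' := by ext i j; fin_cases i <;> fin_cases j <;> simp [block]
  map_mul' a b := by
    have ha := cols a.2
    ext i j
    fin_cases i <;> fin_cases j <;>
      simp [block, Matrix.mul_apply, Fin.sum_univ_four, Fin.sum_univ_two, Subgroup.coe_mul,
        (ha 2).1, (ha 2).2, (ha 3).1, (ha 3).2]

theorem card_GL2 : Fintype.card (Matrix (Fin 2) (Fin 2) 𝔽)ˣ = 6 := by
  rw [← Nat.card_eq_fintype_card]
  show Nat.card (Matrix.GeneralLinearGroup (Fin 2) 𝔽) = 6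
  rw [Matrix.card_GL_field, ZMod.card]
  decide

/-- The row-one coordinates of a kernel element. -/
def rowOne (g : G4) : 𝔽 × 𝔽 :=
  ((g : Matrix (Fin 4) (Fin 4) 𝔽) 1 2, (g : Matrix (Fin 4) (Fin 4) 𝔽) 1 3)

/-- Kernel matrices. -/
def K (a b c d : 𝔽) : Matrix (Fin 4) (Fin 4) 𝔽 :=
  !![1, 0, a, b; 0, 1, c, d; 0, 0, 1, 0; 0, 0, 0, 1]

/-- Matrices above `!![1, 1; 0, 1]`. -/
def P (a b c d : 𝔽) : Matrix (Fin 4) (Fin 4) 𝔽 :=
  !![1, 0, a, b; 0, 1, c, d; 0, 0, 1, 1; 0, 0, 0, 1]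

theorem K_mul (a b c d a' b' c' d' : 𝔽) :
    K a b c d * K a' b' c' d' = K (a + a') (b + b') (c + c') (d + d') := by
  revert a b c d a' b' c' d'; decide +kernel

theorem conj_key : ∀ a b w x y z p q r t : 𝔽, K p q r t * P w x y z = P w x y z * K a b 1 0 →
    p = a ∧ q = a + b ∧ r = 1 ∧ t = 1 := by decide +kernel

theorem K_row (a b : 𝔽) :
    K a b 0 0 = 1 + vecMulVec (Pi.single 0 1) ![0, 0, a, b] := by
  revert a b; decide +kernel

theorem K_prod (a b : 𝔽) :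
    K a b 1 0 * K a (a + b) 1 1 = 1 + vecMulVec ![a, 1, 0, 0] (Pi.single 3 1) := by
  revert a b; decide +kernel

theorem K_zero : K 0 0 0 0 = 1 := by decide +kernel

theorem eq_K {g : G4} (hg : g ∈ fix01) (hb : block g = 1) :
    (g : Matrix (Fin 4) (Fin 4) 𝔽) = K ((g : Matrix (Fin 4) (Fin 4) 𝔽) 0 2)
      ((g : Matrix (Fin 4) (Fin 4) 𝔽) 0 3) ((g : Matrix (Fin 4) (Fin 4) 𝔽) 1 2)
      ((g : Matrix (Fin 4) (Fin 4) 𝔽) 1 3) := by
  have h0 := congrFun (congrFun hb 0)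
  have h1 := congrFun (congrFun hb 1)
  have c := cols hg
  ext i j
  fin_cases i <;> fin_cases j
  all_goals first
    | rfl
    | exact (c _).1
    | exact (c _).2
    | exact h0 0
    | exact h0 1
    | exact h1 0
    | exact h1 1

theorem eq_P {g : G4} (hg : g ∈ fix01) (hb : block g = !![1, 1; 0, 1]) :
    (g : Matrix (Fin 4) (Fin 4) 𝔽) = P ((g : Matrix (Fin 4) (Fin 4) 𝔽) 0 2)
      ((g : Matrix (Fin 4) (Fin 4) 𝔽) 0 3) ((g : Matrix (Fin 4) (Fin 4) 𝔽) 1 2)
      ((g : Matrix (Fin 4) (Fin 4) 𝔽) 1 3) := by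
  have h0 := congrFun (congrFun hb 0)
  have h1 := congrFun (congrFun hb 1)
  have c := cols hg
  ext i j
  fin_cases i <;> fin_cases j
  all_goals first
    | rfl
    | exact (c _).1
    | exact (c _).2
    | exact h0 0
    | exact h0 1
    | exact h1 0
    | exact h1 1

theorem rowOne_K {g : G4} {a b c d : 𝔽} (h : (g : Matrix (Fin 4) (Fin 4) 𝔽) = K a b c d) :
    rowOne g = (c, d) := by
  rw [rowOne, h]; rfl

theorem isT_of_row {g : G4} {a b : 𝔽} (h : (g : Matrix (Fin 4) (Fin 4) 𝔽) = K a b 0 0)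
    (hne : g ≠ 1) : IsT g := by
  refine ⟨Pi.single 0 1, ![0, 0, a, b], by simp, fun e => hne (Units.ext ?_), by simp, h.trans (K_row a b)⟩
  have ha : a = 0 := congrFun e 2
  have hb : b = 0 := congrFun e 3
  rw [h, ha, hb, K_zero, Units.val_one]

theorem stab_ne (e : H ≃* A7) : Nat.card ↥(H ⊓ fix01) ≠ 24 ∧ Nat.card ↥(H ⊓ fix01) ∣ 96 := by
  classical
  set L := H ⊓ fix01 with hLdef
  have hT : ∀ g ∈ L, ¬ IsT g := fun g hg => no_isT H e g hg.1
  have hL : L ≤ fix01 := inf_le_right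
  let π : L →* (Matrix (Fin 2) (Fin 2) 𝔽)ˣ :=
    (blockHom.comp (Subgroup.inclusion hL)).toHomUnits
  have hπ : ∀ g : L, (π g : Matrix (Fin 2) (Fin 2) 𝔽) = block g := fun g => rfl
  have hker : ∀ g : π.ker, block (g.1 : G4) = 1 := fun g => by
    rw [← hπ, MonoidHom.mem_ker.1 g.2, Units.val_one]
  have hK : ∀ g : π.ker, ∃ a b c d, (((g : L) : G4) : Matrix (Fin 4) (Fin 4) 𝔽) = K a b c d :=
    fun g => ⟨_, _, _, _, eq_K (hL g.1.2) (hker g)⟩
  let r : π.ker →* Multiplicative (𝔽 × 𝔽) :=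
    MonoidHom.mk' (fun g => Multiplicative.ofAdd (rowOne ((g : L) : G4))) fun g h => by
      obtain ⟨a, b, c, d, hg⟩ := hK g
      obtain ⟨a', b', c', d', hh⟩ := hK h
      have hgh : ((((g * h : π.ker) : L) : G4) : Matrix (Fin 4) (Fin 4) 𝔽) =
          K (a + a') (b + b') (c + c') (d + d') := by
        rw [Subgroup.coe_mul, Subgroup.coe_mul, Units.val_mul, hg, hh, K_mul]
      rw [rowOne_K hgh, rowOne_K hg, rowOne_K hh]
      rfl
  have hr : Function.Injective r := (injective_iff_map_eq_one r).2 fun g hg => by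
    by_contra hne
    obtain ⟨a, b, c, d, h⟩ := hK g
    have h0 : (c, d) = ((0, 0) : 𝔽 × 𝔽) := (rowOne_K h).symm.trans hg
    rw [Prod.mk.injEq] at h0
    rw [h0.1, h0.2] at h
    exact hT _ g.1.2 (isT_of_row h fun e => hne (Subtype.ext (Subtype.ext e)))
  have hk : Nat.card π.ker ∣ 4 := by
    have := Subgroup.card_dvd_of_injective r hr
    simpa using this
  have hmul := π.ker.card_mul_index
  rw [Subgroup.index_ker] at hmul
  have hi6 : Nat.card π.range ∣ 6 := by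
    have := Subgroup.card_subgroup_dvd_card π.range
    rwa [Nat.card_eq_fintype_card (α := (Matrix (Fin 2) (Fin 2) 𝔽)ˣ), card_GL2] at this
  constructor
  · intro h24
    have hi := Nat.le_of_dvd (by norm_num) hi6
    have hk4 := Nat.le_of_dvd (by norm_num) hk
    have hk' : Nat.card π.ker = 4 ∧ Nat.card π.range = 6 := by
      rw [← hmul] at h24; constructor <;> nlinarith
    have hrb : Function.Bijective r := hr.bijective_of_nat_card_le (by rw [hk'.1]; simp)
    obtain ⟨m, hm⟩ := hrb.2 (Multiplicative.ofAdd (1, 0))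
    have hsurj : π.range = ⊤ := Subgroup.eq_top_of_card_eq _ (by
      rw [hk'.2, Nat.card_eq_fintype_card, card_GL2])
    let U : (Matrix (Fin 2) (Fin 2) 𝔽)ˣ :=
      ⟨!![1, 1; 0, 1], !![1, 1; 0, 1], by decide, by decide⟩
    obtain ⟨h, hh⟩ : U ∈ π.range := hsurj ▸ Subgroup.mem_top _
    let m' : π.ker := ⟨h * m.1 * h⁻¹, π.normal_ker.conj_mem _ m.2 h⟩
    obtain ⟨a, b, c, d, hM⟩ := hK m
    obtain ⟨a', b', c', d', hM'⟩ := hK m'
    have hcd : (c, d) = ((1, 0) : 𝔽 × 𝔽) := (rowOne_K hM).symm.trans hm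
    rw [Prod.mk.injEq] at hcd
    rw [hcd.1, hcd.2] at hM
    have hPh := eq_P (hL h.2) ((hπ h).symm.trans (congrArg Units.val hh))
    have heq : ((((m' : L) : G4)) : Matrix (Fin 4) (Fin 4) 𝔽) * ((h : G4) : Matrix _ _ 𝔽) =
        ((h : G4) : Matrix _ _ 𝔽) * (((m : L) : G4) : Matrix _ _ 𝔽) := by
      rw [← Units.val_mul, ← Units.val_mul]
      simp [m']
    rw [hM', hM, hPh] at heq
    obtain ⟨e1, e2, e3, e4⟩ := conj_key _ _ _ _ _ _ _ _ _ _ heq
    rw [e1, e2, e3, e4] at hM'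
    refine hT _ (mul_mem m.1.2 m'.1.2) ⟨![a, 1, 0, 0], Pi.single 3 1,
      fun e => one_ne_zero (α := 𝔽) (congrFun e 1), by simp, by simp, ?_⟩
    rw [Units.val_mul, hM, hM', K_prod]
  · rw [← hmul, show (96 : ℕ) = 16 * 6 from rfl]
    exact Nat.mul_dvd_mul (hk.trans (by norm_num)) hi6

/-! ### Two-transitivity -/

/-- The orbit map of the first two unit vectors. -/
def orb (K : Subgroup G4) (g : K) : (Fin 4 → 𝔽) × (Fin 4 → 𝔽) :=
  (((g : G4) : Matrix (Fin 4) (Fin 4) 𝔽) *ᵥ Pi.single 0 1,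
    ((g : G4) : Matrix (Fin 4) (Fin 4) 𝔽) *ᵥ Pi.single 1 1)

theorem good_count : Fintype.card {p : (Fin 4 → 𝔽) × (Fin 4 → 𝔽) //
    p.1 ≠ 0 ∧ p.2 ≠ 0 ∧ p.1 ≠ p.2} = 210 := by decide +kernel

theorem orb_eq_iff (x g : H) : orb H x = orb H g ↔ ((g⁻¹ * x : H) : G4) ∈ fix01 := by
  have key : ∀ u : Fin 4 → 𝔽,
      ((x : G4) : Matrix (Fin 4) (Fin 4) 𝔽) *ᵥ u = ((g : G4) : Matrix (Fin 4) (Fin 4) 𝔽) *ᵥ u ↔
        (((g⁻¹ * x : H) : G4) : Matrix (Fin 4) (Fin 4) 𝔽) *ᵥ u = u := fun u => by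
    rw [Subgroup.coe_mul, Units.val_mul, ← Matrix.mulVec_mulVec, Subgroup.coe_inv]
    constructor
    · intro h
      rw [h, Matrix.mulVec_mulVec, ← Units.val_mul, inv_mul_cancel, Units.val_one, Matrix.one_mulVec]
    · intro h
      have h' := congrArg (((g : G4) : Matrix (Fin 4) (Fin 4) 𝔽) *ᵥ ·) h
      simpa only [Matrix.mulVec_mulVec, ← mul_assoc, ← Units.val_mul, mul_inv_cancel, Units.val_one,
        one_mul] using h'
  exact Prod.ext_iff.trans (and_congr (key _) (key _))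

theorem orbit_std (e : H ≃* A7) {v w : Fin 4 → 𝔽} (hv : v ≠ 0) (hw : w ≠ 0) (hvw : v ≠ w) :
    ∃ g : H, orb H g = (v, w) := by
  classical
  have hgood : ∀ g : H, (orb H g).1 ≠ 0 ∧ (orb H g).2 ≠ 0 ∧ (orb H g).1 ≠ (orb H g).2 := fun g => by
    have hi := Matrix.mulVec_injective_of_isUnit (g : G4).isUnit
    refine ⟨fun h => ?_, fun h => ?_, fun h => ?_⟩
    · exact one_ne_zero (α := 𝔽) (by simpa using congrFun (hi (h.trans (Matrix.mulVec_zero _).symm)) 0)
    · exact one_ne_zero (α := 𝔽) (by simpa using congrFun (hi (h.trans (Matrix.mulVec_zero _).symm)) 1)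
    · exact one_ne_zero (α := 𝔽) (by simpa using congrFun (hi h) 0)
  let o : H → {p : (Fin 4 → 𝔽) × (Fin 4 → 𝔽) // p.1 ≠ 0 ∧ p.2 ≠ 0 ∧ p.1 ≠ p.2} :=
    fun g => ⟨orb H g, hgood g⟩
  suffices hs : Function.Surjective o by
    obtain ⟨g, hg⟩ := hs ⟨(v, w), hv, hw, hvw⟩
    exact ⟨g, congrArg Subtype.val hg⟩
  obtain ⟨hne, hdvd⟩ := stab_ne H e
  set s := Nat.card ↥(H ⊓ fix01) with hs
  have hfib : ∀ g : H, Nat.card {x : H // o x = o g} = s := fun g => by
    rw [hs]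
    refine (Nat.card_congr ((Equiv.mulLeft g⁻¹).subtypeEquiv (q := fun y : H => (y : G4) ∈ fix01)
      fun x => ?_)).trans (Nat.card_congr (Equiv.subtypeSubtypeEquivSubtypeInter _ _))
    rw [Equiv.coe_mulLeft, ← orb_eq_iff H x g]
    exact Subtype.ext_iff
  have hn : Nat.card H = Nat.card (Set.range o) * s := by
    rw [Nat.card_congr (Equiv.sigmaFiberEquiv fun x : H => (⟨o x, x, rfl⟩ : Set.range o)).symm,
      Nat.card_sigma, Finset.sum_congr rfl (fun p _ => ?_), Finset.sum_const, Finset.card_univ,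
      Nat.card_eq_fintype_card (α := Set.range o), smul_eq_mul]
    obtain ⟨-, g, rfl⟩ := p
    rw [← hfib g]
    exact Nat.card_congr (Equiv.subtypeEquivRight fun x =>
      ⟨fun h => congrArg Subtype.val h, fun h => Subtype.ext h⟩)
  rw [natCard_H H e] at hn
  have hle : Nat.card (Set.range o) ≤ 210 := by
    rw [← good_count, ← Nat.card_eq_fintype_card]
    exact Nat.card_le_card_of_injective _ Subtype.val_injective
  have hs24 : s ∣ 24 := by
    have h1 : s ∣ 2520 := hn ▸ dvd_mul_left _ _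
    have := Nat.dvd_gcd h1 hdvd
    norm_num at this
    exact this
  have hs12 : 12 ≤ s := by nlinarith
  have hs_le := Nat.le_of_dvd (by norm_num) hs24
  have heq : s = 12 := by interval_cases s <;> first | rfl | omega
  rw [heq] at hn
  have hcard : Nat.card (Set.range o) = 210 := by omega
  rw [← Set.range_eq_univ]
  refine Set.eq_univ_of_forall fun p => ?_
  have hb : Function.Bijective (Subtype.val : Set.range o → _) :=
    Subtype.val_injective.bijective_of_nat_card_le (by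
      rw [hcard, Nat.card_eq_fintype_card, good_count])
  obtain ⟨q, hq⟩ := hb.2 p
  exact hq ▸ q.2

theorem exists_std {v w : Fin 4 → 𝔽} (hv : v ≠ 0) (hw : w ≠ 0) (hvw : v ≠ w) :
    ∃ g : G4, (g : Matrix (Fin 4) (Fin 4) 𝔽) *ᵥ Pi.single 0 1 = v ∧
      (g : Matrix (Fin 4) (Fin 4) 𝔽) *ᵥ Pi.single 1 1 = w := by
  have li : ∀ a b : Fin 4 → 𝔽, a ≠ 0 → b ≠ 0 → a ≠ b → LinearIndependent 𝔽 ![a, b] :=
    fun a b ha hb hab => (LinearIndependent.pair_iff' ha).2 fun c h => by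
      by_cases hc : c = 0
      · rw [hc, zero_smul] at h; exact hb h.symm
      · rw [eq_one hc, one_smul] at h; exact hab h
  have h1 := li (Pi.single 0 1) (Pi.single 1 1) (by simp) (by simp) (by decide)
  have h2 := li v w hv hw hvw
  obtain ⟨E, hE⟩ := LinearExtend.exists_extend rfl
    ((Module.Basis.span h1).equiv (Module.Basis.span h2) (Equiv.refl _))
  have hmap : ∀ i, E (![Pi.single 0 1, Pi.single 1 1] i) = ![v, w] i := fun i => by
    have := hE (Module.Basis.span h1 i)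
    rw [Module.Basis.equiv_apply, Equiv.refl_apply, Module.Basis.span_apply,
      Module.Basis.span_apply] at this
    exact this
  let u : G4 := Matrix.GeneralLinearGroup.toLin.symm
    (LinearMap.GeneralLinearGroup.ofLinearEquiv E)
  have hu : ∀ x, (u : Matrix (Fin 4) (Fin 4) 𝔽) *ᵥ x = E x := fun x => by
    have h : Matrix.GeneralLinearGroup.toLin u = LinearMap.GeneralLinearGroup.ofLinearEquiv E :=
      MulEquiv.apply_symm_apply _ _
    have h' := congrArg (fun t : LinearMap.GeneralLinearGroup 𝔽 (Fin 4 → 𝔽) =>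
      (t : Module.End 𝔽 (Fin 4 → 𝔽)) x) h
    simpa using h'
  exact ⟨u, (hu _).trans (hmap 0), (hu _).trans (hmap 1)⟩

theorem two_transitive (e : H ≃* A7) {v w v' w' : Fin 4 → 𝔽} (hv : v ≠ 0) (hw : w ≠ 0)
    (hvw : v ≠ w) (hv' : v' ≠ 0) (hw' : w' ≠ 0) (hvw' : v' ≠ w') :
    ∃ g ∈ H, (g : Matrix (Fin 4) (Fin 4) 𝔽) *ᵥ v = v' ∧
      (g : Matrix (Fin 4) (Fin 4) 𝔽) *ᵥ w = w' := by
  obtain ⟨c, hc0, hc1⟩ := exists_std hv hw hvw
  let K : Subgroup G4 := H.map (MulAut.conj c⁻¹).toMonoidHom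
  let eK : K ≃* A7 := (H.equivMapOfInjective _ (MulAut.conj c⁻¹).injective).symm.trans e
  have hi := Matrix.mulVec_injective_of_isUnit (c⁻¹ : G4).isUnit
  obtain ⟨⟨k, hk⟩, hko⟩ := orbit_std K eK
    (v := ((c⁻¹ : G4) : Matrix (Fin 4) (Fin 4) 𝔽) *ᵥ v')
    (w := ((c⁻¹ : G4) : Matrix (Fin 4) (Fin 4) 𝔽) *ᵥ w')
    (fun h => hv' (hi (h.trans (Matrix.mulVec_zero _).symm)))
    (fun h => hw' (hi (h.trans (Matrix.mulVec_zero _).symm))) (fun h => hvw' (hi h))
  obtain ⟨g, hg, rfl⟩ := Subgroup.mem_map.1 hk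
  simp only [orb, Prod.mk.injEq, MulEquiv.coe_toMonoidHom, MulAut.conj_apply, inv_inv,
    Units.val_mul, ← Matrix.mulVec_mulVec, hc0, hc1] at hko
  exact ⟨g, hg, hi hko.1, hi hko.2⟩

end Cfsg.Agent.Classical.AltSevenGLFour
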