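import Cfsg.Agent.Lib.AutPSL.Conj
import Cfsg.Agent.Lib.Classical.SpectrumFactors

/-!
# The orders of the automorphisms of `PSL_d(q)`
-/

set_option autoImplicit false
set_option linter.unusedSectionVars false

namespace Cfsg.Agent.Classical.AutPSLOrder

open Matrix Polynomial Module
open Cfsg.Agent.AutPSL.Basic Cfsg.Agent.AutPSL.Main Cfsg.Agent.AutPSL.Out
  Cfsg.Agent.AutPSL.Speiser Cfsg.Agent.AutPSL.Conj

universe u v

variable {F : Type u} [Field F] [Fintype F] {d : ℕ}

local notation "M" => Matrix (Fin d) (Fin d) F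
local notation "GLd" => GL (Fin d) F

section Units

variable {K : Type v} [Field K] [Algebra K F]

/-- The invertible elements of a subalgebra. -/
def unitsIn (R : Subalgebra K M) : Subgroup GLd where
  carrier := {g | (g : M) ∈ R}
  one_mem' := R.one_mem
  mul_mem' := fun {a b} ha hb => R.mul_mem ha hb
  inv_mem' := fun {g} hg => by
    show ((g⁻¹ : GLd) : M) ∈ R
    have hpos := orderOf_pos g
    rw [show g⁻¹ = g ^ (orderOf g - 1) from inv_eq_of_mul_eq_one_right
      (by rw [← pow_succ', Nat.sub_add_cancel hpos, pow_orderOf_eq_one]), Units.val_pow_eq_pow_val]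
    exact pow_mem hg _

theorem mem_unitsIn {R : Subalgebra K M} {g : GLd} : g ∈ unitsIn R ↔ (g : M) ∈ R := Iff.rfl

theorem exists_repr [Nonempty (Fin d)] {B : M} {p : K[X]} (hp : p.Monic) (hpB : aeval B p = 0) {x : M}
    (hx : x ∈ Algebra.adjoin K {B}) :
    ∃ f : Fin p.natDegree → K, ∑ i, f i • B ^ (i : ℕ) = x := by
  rw [Algebra.adjoin_singleton_eq_range_aeval] at hx
  obtain ⟨r, rfl⟩ := hx
  refine ⟨fun i => (r %ₘ p).coeff i, ?_⟩
  show _ = aeval B r
  have hsplit : aeval B r = aeval B (r %ₘ p) := by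
    conv_lhs => rw [← modByMonic_add_div r p, map_add, map_mul, hpB, zero_mul, add_zero]
  rw [hsplit, aeval_eq_sum_range' (n := p.natDegree), ← Fin.sum_univ_eq_sum_range]
  exact natDegree_modByMonic_lt r hp fun h => by
    rw [h, map_one] at hpB
    exact one_ne_zero hpB

variable [Fintype K]

theorem units_lt (hd : 0 < d) (B : M) (p : K[X]) (hp : p.Monic) (hpB : aeval B p = 0) :
    Nat.card (unitsIn (Algebra.adjoin K {B})) < Fintype.card K ^ p.natDegree := by
  classical
  let ev : (Fin p.natDegree → K) → M := fun f => ∑ i, f i • B ^ (i : ℕ)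
  have hne : Nonempty (Fin d) := ⟨⟨0, hd⟩⟩
  let S := {f : Fin p.natDegree → K // ev f ≠ 0}
  have hsel : ∀ g : unitsIn (Algebra.adjoin K {B}), ∃ f : S, ev f.1 = (g.1 : M) := fun g => by
    obtain ⟨f, hf⟩ := exists_repr hp hpB g.2
    exact ⟨⟨f, fun h => g.1.ne_zero (hf.symm.trans h)⟩, hf⟩
  choose φ hφ using hsel
  have h1 := Nat.card_le_card_of_injective φ fun a b h =>
    Subtype.ext (Units.ext (by rw [← hφ a, ← hφ b, h]))
  have h2 : Nat.card S < Nat.card (Fin p.natDegree → K) :=
    Finite.card_subtype_lt (x := 0) (by simp [ev])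
  rw [Nat.card_fun, Nat.card_eq_fintype_card (α := Fin p.natDegree), Fintype.card_fin,
    Nat.card_eq_fintype_card (α := K)] at h2
  exact h1.trans_lt h2

/-- a cyclic group of polynomials over the small field -/
theorem exists_pow_scalar (hd : 0 < d) (B : GLd) (p : K[X]) (hp : p.Monic) (hpd : p.natDegree ≤ d)
    (hpB : aeval (B : M) p = 0) :
    ∃ n, 0 < n ∧ (Fintype.card K - 1) * n ≤ Fintype.card K ^ d - 1 ∧
      B ^ n ∈ Subgroup.center GLd := by
  classical
  let R := Algebra.adjoin K {(B : M)}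
  let U := unitsIn R
  have hBU : B ∈ U := Algebra.self_mem_adjoin_singleton K (B : M)
  let ι : Kˣ →* GLd := (sc (F := F) (n := d)).comp (Units.map (algebraMap K F).toMonoidHom)
  have hι : Function.Injective ι := by
    refine (sc_injective (by omega)).comp fun a b h => Units.ext ((algebraMap K F).injective ?_)
    exact congrArg Units.val h
  have hιU : ι.range ≤ U := by
    rintro _ ⟨c, rfl⟩
    show (ι c : M) ∈ R
    have : (ι c : M) = algebraMap K M (c : K) := by
      show Matrix.scalar (Fin d) (algebraMap K F (c : K)) = _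
      rw [Matrix.algebraMap_eq_diagonal]
      rfl
    rw [this]; exact R.algebraMap_mem _
  let Z := ι.range.subgroupOf U
  have hZ : Nat.card Z = Fintype.card K - 1 := by
    rw [Nat.card_congr (Subgroup.subgroupOfEquivOfLe hιU).toEquiv, Nat.card_congr (MonoidHom.ofInjective hι).toEquiv.symm,
      Nat.card_eq_fintype_card, Fintype.card_units]
  have hZn : Z.Normal := ⟨fun z hz g => by
    obtain ⟨c, hc⟩ := Subgroup.mem_subgroupOf.1 hz
    have hcomm : g * z = z * g := Subtype.ext (by
      show (g : GLd) * (z : GLd) = (z : GLd) * g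
      rw [← hc]
      exact (sc_comm _ _).symm)
    rw [hcomm, mul_inv_cancel_right]; exact hz⟩
  have hUcard : Nat.card U ≤ Fintype.card K ^ d - 1 := by
    have h2 : Nat.card U < _ := units_lt hd (B : M) p hp hpB
    have h3 := Nat.pow_le_pow_right (n := Fintype.card K) Fintype.card_pos hpd
    omega
  refine ⟨Z.index, Nat.pos_of_ne_zero Subgroup.index_ne_zero_of_finite, ?_, ?_⟩
  · rw [← hZ, Subgroup.card_mul_index]; exact hUcard
  · have h := Subgroup.pow_index_mem Z ⟨B, hBU⟩
    obtain ⟨c, hc⟩ := Subgroup.mem_subgroupOf.1 h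
    rw [show B ^ Z.index = ι c from hc.symm]
    exact sc_mem_center _

end Units

/-! ### Fixed fields -/

/-- The fixed field of `σ`. -/
abbrev fixK (σ : F ≃+* F) : Subfield F := FixedPoints.subfield (Subgroup.zpowers σ) F

theorem mem_fixK {σ : F ≃+* F} {x : F} (h : σ x = x) : x ∈ fixK σ := by
  intro g
  have hg : (g : F ≃+* F) ∈ MulAction.stabilizer (F ≃+* F) x :=
    (Subgroup.zpowers_le.2 (show σ ∈ MulAction.stabilizer (F ≃+* F) x from h)) g.2
  exact hg

theorem card_fixK (σ : F ≃+* F) :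
    Fintype.card F = Nat.card (fixK σ) ^ orderOf σ := by
  classical
  have : Finite (F ≃+* F) := Finite.of_injective (fun e => (e : F → F)) DFunLike.coe_injective
  have : Fintype (Subgroup.zpowers σ) := Fintype.ofFinite _
  rw [← Nat.card_eq_fintype_card, Module.natCard_eq_pow_finrank (K := fixK σ) (V := F),
    FixedPoints.finrank_eq_card, ← Nat.card_eq_fintype_card, Nat.card_zpowers]

theorem two_le_fixK (σ : F ≃+* F) : 2 ≤ Nat.card (fixK σ) := Finite.one_lt_card

/-! ### Field automorphisms -/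

theorem map_minpoly {σ : F ≃+* F} {B P : GLd} (h : fieldGL σ B = P⁻¹ * B * P) :
    (minpoly F (B : M)).map σ.toRingHom = minpoly F (B : M) := by
  set m := minpoly F (B : M) with hm
  have hint : IsIntegral F (B : M) := IsIntegral.of_finite F _
  have h0 : aeval ((fieldGL σ B : GLd) : M) (m.map σ.toRingHom) = 0 := by
    have h1 := map_aeval_eq_aeval_map (φ := σ.toRingHom) (ψ := (RingHom.mapMatrix (m := Fin d) σ.toRingHom))
      (by
        ext c i j
        simp [Matrix.algebraMap_matrix_apply, apply_ite σ]) m (B : M)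
    rw [minpoly.aeval, map_zero] at h1
    exact h1.symm
  rw [h, Units.val_mul, Units.val_mul] at h0
  have h2 : aeval (B : M) (m.map σ.toRingHom) = 0 := by
    have h3 : ∀ (q : F[X]), aeval (((P⁻¹ : GLd) : M) * (B : M) * (P : M)) q =
        ((P⁻¹ : GLd) : M) * aeval (B : M) q * (P : M) := fun q => by
      induction q using Polynomial.induction_on' with
      | add a b ha hb => rw [map_add, map_add, ha, hb, mul_add, add_mul]
      | monomial j c =>
        rw [aeval_monomial, aeval_monomial, ← Algebra.smul_def, ← Algebra.smul_def,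
          mul_smul_comm, smul_mul_assoc]
        congr 1
        induction j with
        | zero => simp
        | succ j ih =>
          rw [pow_succ, ih, pow_succ]
          simp [mul_assoc]
    rw [h3] at h0
    have := congrArg (fun X => (P : M) * X * ((P⁻¹ : GLd) : M)) h0
    simpa [mul_assoc] using this
  refine eq_of_monic_of_dvd_of_natDegree_le (minpoly.monic hint) ((minpoly.monic hint).map _)
    (minpoly.dvd F _ h2) ?_
  rw [natDegree_map]

theorem minpoly_le (B : M) : (minpoly F B).natDegree ≤ d := by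
  have h := natDegree_le_of_dvd (Matrix.minpoly_dvd_charpoly B) B.charpoly_monic.ne_zero
  rwa [Matrix.charpoly_natDegree_eq_dim, Fintype.card_fin] at h

theorem field_bound (hd : 2 ≤ d) (σ : F ≃+* F) (A : GLd) :
    ∃ n, 0 < n ∧ (Nat.card (fixK σ) - 1) * n ≤ Nat.card (fixK σ) ^ d - 1 ∧
      (gAut A * fAut σ : MulAut (ProjectiveSpecialLinearGroup (Fin d) F)) ^ (orderOf σ * n) = 1 := by
  classical
  set e := orderOf σ with he
  set B := twist σ A e with hB
  have hconj : fieldGL σ B = A⁻¹ * B * A := by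
    have h1 : A * fieldGL σ (twist σ A e) = twist σ A e * fieldGL (σ ^ e) A := twist_succ' σ A e
    rw [he, pow_orderOf_eq_one, fieldGL_one, ← he, ← hB] at h1
    rw [mul_assoc, ← h1, inv_mul_cancel_left]
  have hlift : minpoly F (B : M) ∈ Polynomial.lifts (algebraMap (fixK σ) F) := by
    rw [Polynomial.lifts_iff_coeff_lifts]
    intro j
    refine ⟨⟨(minpoly F (B : M)).coeff j, mem_fixK ?_⟩, rfl⟩
    have h1 := congrArg (fun q : F[X] => q.coeff j) (map_minpoly hconj)
    simp only [coeff_map] at h1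
    exact h1
  obtain ⟨p, hp, hpd, hpm⟩ := Polynomial.lifts_and_natDegree_eq_and_monic hlift
    (minpoly.monic (IsIntegral.of_finite F _))
  obtain ⟨n, hn0, hn, hnc⟩ := exists_pow_scalar (K := fixK σ) (by omega) B p hpm
    (hpd ▸ minpoly_le _) (by
      rw [← aeval_map_algebraMap F, hp, minpoly.aeval])
  rw [← Nat.card_eq_fintype_card] at hn
  refine ⟨n, hn0, hn, ?_⟩
  rw [pow_mul, pow_gAut_fAut, he, pow_orderOf_eq_one, map_one, mul_one, ← he, ← hB, ← map_pow,
    (gAut_eq_one_iff hd _).2 hnc]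

/-! ### Graph automorphisms -/

theorem two_mul_pow_lt {q : ℕ} (hq : 3 ≤ q) : 2 * (q - 1) ^ (q - 1) < q ^ (q - 1) := by
  obtain ⟨a, rfl⟩ : ∃ a, q = a + 3 := ⟨q - 3, by omega⟩
  have key : ∀ x m : ℕ, x ^ (m + 2) + (m + 2) * x ^ (m + 1) + 1 ≤ (x + 1) ^ (m + 2) := by
    intro x m
    induction m with
    | zero => ring_nf; omega
    | succ m ih =>
      calc x ^ (m + 1 + 2) + (m + 1 + 2) * x ^ (m + 1 + 1) + 1
          ≤ (x ^ (m + 2) + (m + 2) * x ^ (m + 1) + 1) * (x + 1) := by ring_nf; omega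
        _ ≤ (x + 1) ^ (m + 2) * (x + 1) := Nat.mul_le_mul_right _ ih
        _ = _ := by rw [← pow_succ]
  have h := key (a + 2) a
  have e : (a + 2) ^ (a + 2) = (a + 2) * (a + 2) ^ (a + 1) := by rw [← pow_succ']
  show 2 * (a + 2) ^ (a + 2) < (a + 3) ^ (a + 2)
  rw [← e, show a + 2 + 1 = a + 3 from rfl] at h
  omega

/-- the units of an algebra all of whose non-zero scalars are eigenvalues -/
theorem units_bound (B : M) (hev : ∀ a : F, a ≠ 0 → ∃ v, v ≠ 0 ∧ B *ᵥ v = a • v) :
    2 * Nat.card (unitsIn (Algebra.adjoin F {B})) ≤ Fintype.card F ^ (minpoly F B).natDegree ∧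
    (3 ≤ Fintype.card F →
      2 * Nat.card (unitsIn (Algebra.adjoin F {B})) < Fintype.card F ^ (minpoly F B).natDegree) := by
  classical
  set m := minpoly F B with hm
  set k := m.natDegree
  set q := Fintype.card F with hq
  have hint : IsIntegral F B := IsIntegral.of_finite F _
  have hev' : ∀ (a : F), a ≠ 0 → ∀ r : F[X], ∃ v, v ≠ 0 ∧ aeval B r *ᵥ v = r.eval a • v := by
    intro a ha r
    obtain ⟨v, hv, hBv⟩ := hev a ha
    refine ⟨v, hv, ?_⟩
    induction r using Polynomial.induction_on' with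
    | add r s hr hs => rw [map_add, add_mulVec, hr, hs, eval_add, add_smul]
    | monomial j c =>
      rw [aeval_monomial, eval_monomial, ← Algebra.smul_def, smul_mulVec, mul_smul]
      congr 1
      induction j with
      | zero => simp
      | succ j ih => rw [pow_succ', ← mulVec_mulVec, ih, mulVec_smul, hBv, smul_smul, pow_succ]
  have hroots : ∀ a : F, a ≠ 0 → m.eval a = 0 := fun a ha => by
    obtain ⟨v, hv, h⟩ := hev' a ha m
    rw [hm, minpoly.aeval, zero_mulVec] at h
    exact (smul_eq_zero.1 h.symm).resolve_right hv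
  let s : Finset F := Finset.univ.erase 0
  have hs : s.card = q - 1 := by rw [Finset.card_erase_of_mem (Finset.mem_univ _), Finset.card_univ]
  have hsk : q - 1 ≤ k := by
    rw [← hs]
    calc s.card ≤ m.roots.toFinset.card := Finset.card_le_card fun a ha => by
          rw [Multiset.mem_toFinset, mem_roots (minpoly.ne_zero hint)]
          exact hroots a (Finset.ne_of_mem_erase ha)
      _ ≤ Multiset.card m.roots := m.roots.toFinset_card_le
      _ ≤ k := m.card_roots'
  -- evaluation at the non-zero scalars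
  let pol : (Fin k → F) →ₗ[F] F[X] :=
    (Polynomial.degreeLTEquiv F k).symm.toLinearMap |> fun L => (Polynomial.degreeLT F k).subtype.comp L
  let L : (Fin k → F) →ₗ[F] (s → F) := LinearMap.pi fun a => (leval (a : F)).comp pol
  have hL : Function.Surjective L := fun t => by
    let g : F → F := fun a => if h : a ∈ s then t ⟨a, h⟩ else 0
    have hdeg : Lagrange.interpolate s id g ∈ Polynomial.degreeLT F k := by
      rw [Polynomial.mem_degreeLT]
      refine lt_of_lt_of_le (Lagrange.degree_interpolate_lt _ (Set.injOn_id _)) ?_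
      rw [hs]; exact_mod_cast hsk
    refine ⟨Polynomial.degreeLTEquiv F k ⟨_, hdeg⟩, funext fun a => ?_⟩
    show eval (a : F) (((Polynomial.degreeLTEquiv F k).symm (Polynomial.degreeLTEquiv F k ⟨_, hdeg⟩)).1) = t a
    rw [LinearEquiv.symm_apply_apply]
    show eval (id (a : F)) _ = _
    rw [Lagrange.eval_interpolate_at_node g (Set.injOn_id _) a.2]
    simp [g]
  have hsurj := LinearMap.range_eq_top.2 hL
  have hker : Nat.card (LinearMap.ker L) = q ^ (k - (q - 1)) := by
    rw [Module.natCard_eq_pow_finrank (K := F), Nat.card_eq_fintype_card]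
    congr 1
    have h := LinearMap.finrank_range_add_finrank_ker L
    rw [hsurj, finrank_top, Module.finrank_pi, Module.finrank_pi, Fintype.card_coe, hs,
      Fintype.card_fin] at h
    omega
  let S := {f : Fin k → F // ∀ a : s, L f a ≠ 0}
  have h1 : Nat.card (unitsIn (Algebra.adjoin F {B})) ≤ Nat.card S := by
    have hsel : ∀ g : unitsIn (Algebra.adjoin F {B}), ∃ f : S, aeval B (pol f.1) = (g.1 : M) := by
      intro g
      have hg : (g.1 : M) ∈ Algebra.adjoin F {B} := g.2
      obtain ⟨r, hr⟩ := (Algebra.adjoin_singleton_eq_range_aeval F B).le hg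
      have hr' : aeval B r = (g.1 : M) := hr
      have hmod : r %ₘ m ∈ Polynomial.degreeLT F k := by
        rw [Polynomial.mem_degreeLT]
        exact lt_of_lt_of_eq (degree_modByMonic_lt r (minpoly.monic hint))
          (degree_eq_natDegree (minpoly.ne_zero hint))
      have hval : aeval B (pol (Polynomial.degreeLTEquiv F k ⟨_, hmod⟩)) = (g.1 : M) := by
        show aeval B (((Polynomial.degreeLTEquiv F k).symm (Polynomial.degreeLTEquiv F k ⟨_, hmod⟩)).1) = _
        rw [LinearEquiv.symm_apply_apply]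
        show aeval B (r %ₘ m) = _
        rw [← hr']
        conv_rhs => rw [← modByMonic_add_div r m, map_add, map_mul, hm, minpoly.aeval, zero_mul, add_zero]
      refine ⟨⟨_, fun a h0 => ?_⟩, hval⟩
      obtain ⟨v, hv, h⟩ := hev' a (Finset.ne_of_mem_erase a.2) (pol (Polynomial.degreeLTEquiv F k ⟨_, hmod⟩))
      rw [hval, show eval (a : F) (pol (Polynomial.degreeLTEquiv F k ⟨_, hmod⟩)) = 0 from h0, zero_smul] at h
      refine hv ?_
      have h' := congrArg (((g.1⁻¹ : GLd) : M) *ᵥ ·) h
      simpa [mulVec_mulVec] using h'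
    choose φ hφ using hsel
    exact Nat.card_le_card_of_injective φ fun a b h =>
      Subtype.ext (Units.ext (by rw [← hφ a, ← hφ b, h]))
  have h2 : Nat.card S ≤ q ^ (k - (q - 1)) * (q - 1) ^ (q - 1) := by
    let T := {t : s → F // ∀ a, t a ≠ 0}
    have hT : Nat.card T = (q - 1) ^ (q - 1) := by
      rw [Nat.card_congr (Equiv.subtypePiEquivPi (p := fun _ (x : F) => x ≠ 0)), Nat.card_pi]
      simp [hs, Fintype.card_subtype_compl, q]
    choose sec hsec using hL
    rw [← hker, ← hT, ← Nat.card_prod]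
    refine Nat.card_le_card_of_injective (fun f : S => ((⟨f.1 - sec (L f.1), by
      rw [LinearMap.mem_ker, map_sub, hsec, sub_self]⟩ : LinearMap.ker L), (⟨L f.1, f.2⟩ : T))) fun a b h => ?_
    have e2 := congrArg (fun x => x.2.1) h
    have e1 := congrArg (fun x => x.1.1) h
    simp only at e1 e2
    rw [e2] at e1
    exact Subtype.ext (sub_left_inj.1 e1)
  have hq2 : 2 ≤ q := Fintype.one_lt_card
  have hsplit : q ^ k = q ^ (k - (q - 1)) * q ^ (q - 1) := by rw [← pow_add, Nat.sub_add_cancel hsk]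
  have hpos : 0 < q ^ (k - (q - 1)) := Nat.pow_pos (by omega)
  have hle : 2 * Nat.card (unitsIn (Algebra.adjoin F {B})) ≤
      q ^ (k - (q - 1)) * (2 * (q - 1) ^ (q - 1)) := by
    rw [mul_left_comm]; exact Nat.mul_le_mul_left 2 (h1.trans h2)
  constructor
  · rw [hsplit]
    refine hle.trans (Nat.mul_le_mul_left _ ?_)
    rcases Nat.lt_or_ge q 3 with h | h
    · rw [show q = 2 by omega]; norm_num
    · exact (two_mul_pow_lt h).le
  · intro h3
    rw [hsplit]
    exact hle.trans_lt (Nat.mul_lt_mul_of_pos_left (two_mul_pow_lt h3) hpos)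

theorem minpoly_le_two (B : GLd) {c c' e : F} (hc0 : c ≠ 0)
    (h : (1 + c • (B : M)) * (1 + c' • ((B⁻¹ : GLd) : M)) = e • 1) :
    (minpoly F (B : M)).natDegree ≤ 2 := by
  let p : F[X] := C c * X ^ 2 + C (1 + c * c' - e) * X + C c'
  have hp : aeval (B : M) p = 0 := by
    have h := congrArg (fun X => X * (B : M)) h
    simp only [add_mul, mul_add, one_mul, mul_one, smul_mul_assoc, mul_smul_comm,
      Units.inv_mul, Units.mul_inv, mul_assoc] at h
    simp only [p, map_add, map_mul, aeval_C, aeval_X, Algebra.algebraMap_eq_smul_one,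
      smul_mul_assoc, one_mul, pow_two]
    linear_combination (norm := module) h
  have hd2 := minpoly.degree_le_of_ne_zero F (B : M) (p := p) (fun h0 => hc0 (by
    simpa [p, coeff_C, coeff_X, coeff_one] using congrArg (fun r : F[X] => r.coeff 2) h0)) hp
  exact natDegree_le_iff_degree_le.2 (hd2.trans (degree_quadratic_le (R := F)))

theorem graph_bound (hd : 3 ≤ d) (h32 : ¬ (d = 3 ∧ Fintype.card F = 2)) (σ : F ≃+* F)
    (hσ : σ ^ 2 = 1) (A : GLd) :
    ∃ n, 0 < n ∧ 2 * ((Fintype.card F - 1) * n) ≤ Fintype.card F ^ d - 1 ∧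
      (A * fieldGL σ (dual A)) ^ n ∈ Subgroup.center GLd := by
  classical
  set q := Fintype.card F with hq
  set B := A * fieldGL σ (dual A) with hB
  have hσσ : ∀ x, σ (σ x) = x := fun x => DFunLike.congr_fun ((pow_two σ).symm.trans hσ) x
  let τ : M → M := fun X => (A : M) * (X.map σ)ᵀ * ((A⁻¹ : GLd) : M)
  have τadd : ∀ X Y, τ (X + Y) = τ X + τ Y := fun X Y => by
    simp [τ, Matrix.map_add, transpose_add, mul_add, add_mul]
  have τmul : ∀ X Y, τ (X * Y) = τ Y * τ X := fun X Y => by
    show (A : M) * ((X * Y).map σ)ᵀ * _ = (A : M) * (Y.map σ)ᵀ * _ * ((A : M) * (X.map σ)ᵀ * _)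
    rw [Matrix.map_mul, transpose_mul]
    simp [mul_assoc]
  have τsc : ∀ c : F, τ (c • 1) = σ c • 1 := fun c => by
    show (A : M) * ((c • (1 : M)).map σ)ᵀ * _ = _
    rw [show ((c • (1 : M)).map σ) = σ c • 1 by
      ext i j; simp [Matrix.one_apply, apply_ite σ], transpose_smul, transpose_one, mul_smul_comm,
      mul_one, smul_mul_assoc, Units.mul_inv]
  have τone : τ 1 = 1 := by simpa using τsc 1
  have hτB : τ (B : M) = ((B⁻¹ : GLd) : M) := by
    have e1 : ((fieldGL σ (dual A) : GLd) : M) = ((((A⁻¹ : GLd) : M))ᵀ).map σ := rfl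
    have e2 : (((fieldGL σ (dual A))⁻¹ : GLd) : M) = ((A : M)ᵀ).map σ := rfl
    rw [hB, _root_.mul_inv_rev]
    simp only [Units.val_mul]
    rw [e2]
    show (A : M) * (((A : M) * ((fieldGL σ (dual A) : GLd) : M)).map σ)ᵀ * _ = _
    rw [e1, Matrix.map_mul, transpose_mul]
    rw [show ((((((A⁻¹ : GLd) : M))ᵀ).map σ).map σ)ᵀ = ((A⁻¹ : GLd) : M) by ext i j; simp [hσσ]]
    rw [← mul_assoc, Units.mul_inv, one_mul, transpose_map]
  let R := Algebra.adjoin F {(B : M)}
  let U := unitsIn R
  have hBU : B ∈ U := Algebra.self_mem_adjoin_singleton F (B : M)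
  have hτR : ∀ x ∈ R, τ x ∈ R := fun x hx => by
    induction hx using Algebra.adjoin_induction with
    | mem x hx => rw [Set.mem_singleton_iff.1 hx, hτB]; exact U.inv_mem hBU
    | algebraMap c => rw [Algebra.algebraMap_eq_smul_one, τsc]; exact R.smul_mem R.one_mem _
    | add x y _ _ hx hy => rw [τadd]; exact R.add_mem hx hy
    | mul x y _ _ hx hy => rw [τmul]; exact R.mul_mem hy hx
  have hRcomm : ∀ x ∈ R, ∀ y ∈ R, x * y = y * x := fun x hx y hy => by
    obtain ⟨r, rfl⟩ := (Algebra.adjoin_singleton_eq_range_aeval F (B : M)).le hx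
    obtain ⟨s, rfl⟩ := (Algebra.adjoin_singleton_eq_range_aeval F (B : M)).le hy
    show aeval (B : M) r * aeval (B : M) s = aeval (B : M) s * aeval (B : M) r
    rw [← map_mul, ← map_mul, mul_comm]
  let H : Subgroup GLd :=
    { carrier := {g | g ∈ U ∧ ∃ c : F, (g : M) * τ g = c • 1}
      one_mem' := ⟨U.one_mem, 1, by rw [Units.val_one, τone, one_mul, one_smul]⟩
      mul_mem' := by
        rintro a b ⟨ha, c, hc⟩ ⟨hb, c', hc'⟩
        refine ⟨U.mul_mem ha hb, c * c', ?_⟩
        rw [Units.val_mul, τmul, mul_assoc, ← mul_assoc (b : M), hc', smul_mul_assoc, one_mul,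
          mul_smul_comm, hc, smul_smul, mul_comm c']
      inv_mem' := by
        rintro a ⟨ha, c, hc⟩
        have e1 : τ (a : M) * τ ((a⁻¹ : GLd) : M) = 1 := by rw [← τmul, Units.inv_mul, τone]
        have hτu : IsUnit (τ (a : M)) := by
          rw [Matrix.isUnit_iff_isUnit_det]
          have := congrArg Matrix.det e1
          rw [det_mul, det_one] at this
          exact IsUnit.of_mul_eq_one _ this
        have hc0 : c ≠ 0 := by
          intro h0
          rw [h0, zero_smul] at hc
          have h1 : τ (a : M) = 0 := by simpa using congrArg (((a⁻¹ : GLd) : M) * ·) hc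
          rw [h1, zero_mul] at e1
          have hne : Nonempty (Fin d) := ⟨⟨0, by omega⟩⟩
          exact zero_ne_one e1
        refine ⟨U.inv_mem ha, c⁻¹, ?_⟩
        rw [hRcomm _ (U.inv_mem ha) _ (hτR _ (U.inv_mem ha))]
        have e2 : τ ((a⁻¹ : GLd) : M) = c⁻¹ • (a : M) := by
          have h1 : (c • (1 : M)) * τ ((a⁻¹ : GLd) : M) = (a : M) := by
            rw [← hc, mul_assoc, e1, mul_one]
          rw [← h1, smul_mul_assoc, one_mul, smul_smul, inv_mul_cancel₀ hc0, one_smul]
        rw [e2, smul_mul_assoc, Units.mul_inv] }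
  have hHU : H ≤ U := fun g hg => hg.1
  have hBH : B ∈ H := ⟨hBU, 1, by rw [hτB, Units.mul_inv, one_smul]⟩
  have hscU : ∀ c : Fˣ, sc c ∈ U := fun c => by
    show ((sc c : GLd) : M) ∈ R
    have : ((sc c : GLd) : M) = algebraMap F M (c : F) := by
      rw [sc_coe, Matrix.algebraMap_eq_diagonal]; rfl
    rw [this]; exact R.algebraMap_mem _
  have hscH : (sc (F := F) (n := d)).range ≤ H := by
    rintro _ ⟨c, rfl⟩
    refine ⟨hscU c, (c : F) * σ c, ?_⟩
    rw [sc_coe, Matrix.scalar_apply, ← smul_one_eq_diagonal, τsc, smul_mul_assoc, one_mul, smul_smul]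
  let Z := (sc (F := F) (n := d)).range.subgroupOf H
  have hZ : Nat.card Z = q - 1 := by
    rw [Nat.card_congr (Subgroup.subgroupOfEquivOfLe hscH).toEquiv,
      Nat.card_congr (MonoidHom.ofInjective (sc_injective (F := F) (n := d) (by omega))).toEquiv.symm,
      Nat.card_eq_fintype_card, Fintype.card_units]
  have hZn : Z.Normal := ⟨fun z hz g => by
    obtain ⟨c, hc⟩ := Subgroup.mem_subgroupOf.1 hz
    have hcomm : g * z = z * g := Subtype.ext (by
      show (g : GLd) * (z : GLd) = (z : GLd) * g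
      rw [← hc]
      exact (sc_comm _ _).symm)
    rw [hcomm, mul_inv_cancel_right]; exact hz⟩
  have hmain : 2 * Nat.card H ≤ q ^ d - 1 →
      ∃ n, 0 < n ∧ 2 * ((q - 1) * n) ≤ q ^ d - 1 ∧ B ^ n ∈ Subgroup.center GLd := fun hH => by
    refine ⟨Z.index, Nat.pos_of_ne_zero Subgroup.index_ne_zero_of_finite, ?_, ?_⟩
    · rw [← hZ, Subgroup.card_mul_index]; exact hH
    · obtain ⟨c, hc⟩ := Subgroup.mem_subgroupOf.1 (Subgroup.pow_index_mem Z ⟨B, hBH⟩)
      rw [show B ^ Z.index = sc c from hc.symm]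
      exact sc_mem_center _
  set m := minpoly F (B : M) with hm
  set k := m.natDegree with hk
  have hint : IsIntegral F (B : M) := IsIntegral.of_finite F _
  have hkd : k ≤ d := minpoly_le _
  have hq2 : 2 ≤ q := Fintype.one_lt_card
  have hUk : Nat.card U < q ^ k :=
    units_lt (by omega) (B : M) _ (minpoly.monic hint) (minpoly.aeval F _)
  have hcardHU : Nat.card H ≤ Nat.card U := Subgroup.card_le_of_le hHU
  have hqd : q ^ k ≤ q ^ d := Nat.pow_le_pow_right (by omega) hkd
  rcases Nat.lt_or_ge k 3 with hk3 | hk3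
  · refine hmain ?_
    have h1 : q ^ k ≤ q ^ 2 := Nat.pow_le_pow_right (by omega) (by omega)
    have h2 : q ^ 3 ≤ q ^ d := Nat.pow_le_pow_right (by omega) hd
    have h3 : 2 * q ^ 2 ≤ q ^ 3 := by rw [pow_succ q 2, mul_comm]; exact Nat.mul_le_mul_left _ hq2
    omega
  by_cases hsh : ∃ c : F, c ≠ 0 ∧ IsUnit (1 + c • (B : M))
  · obtain ⟨c, hc0, hu⟩ := hsh
    have hgU : hu.unit ∈ U := R.add_mem R.one_mem (R.smul_mem (Algebra.self_mem_adjoin_singleton F _) c)
    have hne : H ≠ U := by
      intro he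
      obtain ⟨-, e, he'⟩ : hu.unit ∈ H := he ▸ hgU
      rw [IsUnit.unit_spec, τadd, τone, show τ (c • (B : M)) = σ c • ((B⁻¹ : GLd) : M) by
        rw [show c • (B : M) = (B : M) * (c • 1) by rw [mul_smul_comm, mul_one], τmul, τsc, hτB,
          smul_mul_assoc, one_mul]] at he'
      have : k ≤ 2 := minpoly_le_two B hc0 he'
      omega
    refine hmain ?_
    have hdvd := Subgroup.card_dvd_of_le hHU
    obtain ⟨j, hj⟩ := hdvd
    have hj2 : 2 ≤ j := by
      rcases j with _ | _ | j
      · rw [mul_zero] at hj; exact absurd hj Nat.card_pos.ne'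
      · exact absurd (Subgroup.eq_of_le_of_card_ge hHU (by omega)) hne
      · omega
    have : 2 * Nat.card H ≤ Nat.card U := by rw [hj, mul_comm]; exact Nat.mul_le_mul_left _ hj2
    omega
  push Not at hsh
  have hev : ∀ a : F, a ≠ 0 → ∃ v, v ≠ 0 ∧ (B : M) *ᵥ v = a • v := fun a ha => by
    have h := hsh (-a⁻¹) (by simpa using ha)
    rw [Matrix.isUnit_iff_isUnit_det, isUnit_iff_ne_zero, not_not] at h
    obtain ⟨v, hv, hv'⟩ := Matrix.exists_mulVec_eq_zero_iff.2 h
    refine ⟨v, hv, ?_⟩
    rw [add_mulVec, one_mulVec, smul_mulVec, neg_smul, ← sub_eq_add_neg, sub_eq_zero] at hv'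
    conv_rhs => rw [hv', smul_smul, mul_inv_cancel₀ ha, one_smul]
  obtain ⟨hb1, hb2⟩ := units_bound (B : M) hev
  rcases Nat.lt_or_ge q 3 with hq3 | hq3
  swap
  · exact hmain (by have : 2 * Nat.card U < q ^ k := hb2 hq3; omega)
  have hqe : q = 2 := by omega
  rcases hkd.eq_or_lt with hkeq | hklt
  swap
  · refine hmain ?_
    have h1 : q ^ k < q ^ d := Nat.pow_lt_pow_right (by omega) hklt
    have : 2 * Nat.card U ≤ q ^ k := hb1
    omega
  by_cases hlt : Nat.card U < 2 ^ (d - 1)
  · refine hmain ?_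
    rw [hqe]
    have : 2 ^ d = 2 * 2 ^ (d - 1) := by rw [← pow_succ', Nat.sub_add_cancel (by omega)]
    omega
  have hd4 : 4 ≤ d := by
    by_contra h
    exact h32 ⟨by omega, hqe⟩
  have hUeq : Nat.card U = 2 ^ (d - 1) := by
    have h1 : 2 * Nat.card U ≤ q ^ k := hb1
    rw [hqe, hkeq] at h1
    have : 2 ^ d = 2 * 2 ^ (d - 1) := by rw [← pow_succ', Nat.sub_add_cancel (by omega)]
    omega
  have hchar : CharP F 2 := by
    have : Fact (Nat.Prime 2) := ⟨Nat.prime_two⟩
    exact charP_of_card_eq_prime_pow (f := 1) (by rw [pow_one]; exact hqe)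
  have hBp : ((B : M) - 1) ^ 2 ^ (d - 1) = 0 := by
    have h1 : B ^ 2 ^ (d - 1) = 1 := by
      rw [← hUeq]
      exact congrArg Subtype.val (pow_card_eq_one' (x := (⟨B, hBU⟩ : U)))
    have h2 : (Polynomial.X - 1 : F[X]) ^ 2 ^ (d - 1) = Polynomial.X ^ 2 ^ (d - 1) - 1 := by
      rw [sub_pow_char_pow, one_pow]
    have h3 := congrArg (aeval (B : M)) h2
    simp only [map_pow, map_sub, aeval_X, map_one] at h3
    rw [h3, ← Units.val_pow_eq_pow_val, h1, Units.val_one, sub_self]
  have hnil : ((B : M) - 1) ^ d = 0 := by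
    have h1 : IsNilpotent ((B : M) - 1) := ⟨_, hBp⟩
    have h2 := (sub_eq_zero.1 (Matrix.isNilpotent_charpoly_sub_pow_of_isNilpotent h1).eq_zero)
    have h3 := Matrix.aeval_self_charpoly ((B : M) - 1)
    rwa [h2, map_pow, aeval_X, Fintype.card_fin] at h3
  refine ⟨2 ^ (d - 2), Nat.two_pow_pos _, ?_, ?_⟩
  · rw [hqe]
    have e1 : 2 ^ d = 2 * 2 ^ (d - 1) := by rw [← pow_succ', Nat.sub_add_cancel (by omega)]
    have e2 : 2 ^ (d - 1) = 2 * 2 ^ (d - 2) := by rw [← pow_succ']; congr 1; omega
    have : 0 < 2 ^ (d - 2) := Nat.two_pow_pos _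
    omega
  · have hle : ∀ j, 2 ≤ j → j + 2 ≤ 2 ^ j := fun j hj => by
      induction j, hj using Nat.le_induction with
      | base => norm_num
      | succ j _ ih => rw [pow_succ]; omega
    have hz : ((B : M) - 1) ^ 2 ^ (d - 2) = 0 :=
      _root_.pow_eq_zero_of_le (by have := hle (d - 2) (by omega); omega) hnil
    have h2 : (Polynomial.X - 1 : F[X]) ^ 2 ^ (d - 2) = Polynomial.X ^ 2 ^ (d - 2) - 1 := by
      rw [sub_pow_char_pow, one_pow]
    have h3 := congrArg (aeval (B : M)) h2
    simp only [map_pow, map_sub, aeval_X, map_one] at h3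
    rw [hz, eq_comm, sub_eq_zero] at h3
    rw [show B ^ 2 ^ (d - 2) = 1 from Units.ext (by rw [Units.val_pow_eq_pow_val, h3, Units.val_one])]
    exact one_mem _

end Cfsg.Agent.Classical.AutPSLOrder
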