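import Mathlib
import Cfsg.Agent.Lib.Classical.SylowSL2
import Cfsg.Agent.Lib.PGroups.UniqueSubgroup

/-!
# Sylow 2-subgroups of subgroups of `SL₂` containing a copy of `SL₂(p)`
-/

set_option autoImplicit false

namespace Cfsg.Agent.Classical.DicksonQuaternion

open Matrix
open scoped MatrixGroups

theorem not_isCyclic_quaternion (n : ℕ) (hn : 2 ≤ n) : ¬ IsCyclic (QuaternionGroup n) := by
  intro h
  have hc : ∀ a b : QuaternionGroup n, a * b = b * a := fun a b =>
    (IsCyclic.commGroup (α := QuaternionGroup n)).mul_comm a b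
  have h1 := hc (QuaternionGroup.a 1) (QuaternionGroup.xa 0)
  rw [QuaternionGroup.a_mul_xa, QuaternionGroup.xa_mul_a] at h1
  have h2 : (0 - 1 : ZMod (2 * n)) = 0 + 1 := QuaternionGroup.xa.inj h1
  have h3 : ((2 : ℕ) : ZMod (2 * n)) = 0 := by push_cast; linear_combination -h2
  have h4 := Nat.le_of_dvd two_pos ((ZMod.natCast_eq_zero_iff _ _).1 h3)
  omega

theorem sylow_two_quaternion {F : Type*} [Field F] [Fintype F] (p : ℕ) [Fact p.Prime] [CharP F p]
    (hp : p ≠ 2) (H : Subgroup SL(2, F)) (K : Subgroup SL(2, F)) (hK : K ≤ H)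
    (hiso : Nonempty (K ≃* SL(2, ZMod p))) (S : Sylow 2 H) :
    ∃ k : ℕ, 1 ≤ k ∧ Nonempty ((S : Subgroup H) ≃* QuaternionGroup (2 ^ k)) := by
  obtain ⟨e⟩ := hiso
  have h2 : (2 : F) ≠ 0 := Ring.two_ne_zero (by rw [ringChar.eq F p]; exact hp)
  have hnc : ¬ IsCyclic (S : Subgroup H) := fun hc => by
    obtain ⟨T⟩ : Nonempty (Sylow 2 K) := inferInstance
    have hoddp : Odd (Fintype.card (ZMod p)) := by
      rw [ZMod.card]; exact (Fact.out : p.Prime).odd_of_ne_two hp
    obtain ⟨⟨f⟩, hk⟩ := SylowSL2.sylow_two hoddp (T.mapSurjective (f := e.toMonoidHom) e.surjective)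
    have hT : ¬ IsCyclic (T : Subgroup K) := fun hTc => by
      refine not_isCyclic_quaternion _ (Nat.le_self_pow (show (Nat.card SL(2, ZMod p)).factorization 2 - 2 ≠ 0 by omega) 2) ?_
      have g : (T : Subgroup K) ≃*
          ((T.mapSurjective (f := e.toMonoidHom) e.surjective : Sylow 2 SL(2, ZMod p)) :
            Subgroup SL(2, ZMod p)) := (T : Subgroup K).equivMapOfInjective _ e.injective
      exact isCyclic_of_surjective (g.trans f).toMonoidHom (g.trans f).surjective
    refine hT ?_
    let j : (T : Subgroup K) →* H := (Subgroup.inclusion hK).comp (T : Subgroup K).subtype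
    have hj : Function.Injective j :=
      (Subgroup.inclusion_injective hK).comp Subtype.val_injective
    obtain ⟨S', hS'⟩ := IsPGroup.exists_le_sylow (P := j.range) (T.isPGroup'.of_equiv (MonoidHom.ofInjective hj))
    have : IsCyclic (S' : Subgroup H) :=
      isCyclic_of_surjective (S.equiv S').toMonoidHom (S.equiv S').surjective
    exact isCyclic_of_injective ((Subgroup.inclusion hS').comp j.rangeRestrict)
      ((Subgroup.inclusion_injective hS').comp ((MonoidHom.rangeRestrict_injective_iff).2 hj))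
  have huniq : ∀ A B : Subgroup (S : Subgroup H), Nat.card A = 2 → Nat.card B = 2 → A = B := by
    intro A B hA hB
    obtain ⟨x, hx⟩ : ∃ x, x ∈ A ∧ x ≠ 1 := by
      by_contra hc
      push Not at hc
      rw [(Subgroup.eq_bot_iff_forall A).2 hc, Subgroup.card_bot] at hA
      omega
    obtain ⟨y, hy⟩ : ∃ y, y ∈ B ∧ y ≠ 1 := by
      by_contra hc
      push Not at hc
      rw [(Subgroup.eq_bot_iff_forall B).2 hc, Subgroup.card_bot] at hB
      omega
    have sq : ∀ (C : Subgroup (S : Subgroup H)), Nat.card C = 2 → ∀ z ∈ C, z * z = 1 := fun C hC z hz => by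
      have := congrArg Subtype.val (pow_card_eq_one' (x := (⟨z, hz⟩ : C)))
      rw [hC, SubmonoidClass.coe_pow, Subgroup.coe_one, pow_two] at this
      exact this
    have val : ∀ z : (S : Subgroup H), z ≠ 1 → z * z = 1 →
        (((z : H) : SL(2, F)) : Matrix (Fin 2) (Fin 2) F) = -1 := fun z h1 hz =>
      SylowSL2.eq_neg_one_of_sq h2 _ (fun h => h1 (Subtype.ext (Subtype.ext h)))
        (congrArg (fun w : (S : Subgroup H) => ((w : H) : SL(2, F))) hz)
    have hxy : x = y := Subtype.ext (Subtype.ext (Subtype.ext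
      ((val x hx.2 (sq A hA x hx.1)).trans (val y hy.2 (sq B hB y hy.1)).symm)))
    have gen : ∀ (C : Subgroup (S : Subgroup H)), Nat.card C = 2 → x ∈ C → C = Subgroup.zpowers x := by
      intro C hC hxC
      refine (Subgroup.eq_of_le_of_card_ge (Subgroup.zpowers_le.2 hxC) ?_).symm
      rw [hC, Nat.card_zpowers, orderOf_eq_prime (by rw [pow_two]; exact sq A hA x hx.1) hx.2]
    rw [gen A hA hx.1, gen B hB (hxy ▸ hy.1)]
  rcases PGroups.UniqueSubgroup.isCyclic_or_quaternion S.isPGroup' huniq with h | ⟨-, n, ⟨g⟩⟩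
  · exact absurd h hnc
  · refine ⟨n, Nat.one_le_iff_ne_zero.2 fun h0 => hnc ?_, ⟨g⟩⟩
    subst h0
    have : IsCyclic (QuaternionGroup (2 ^ 0)) := by
      rw [pow_zero]; exact QuaternionGroup.quaternionGroup_one_isCyclic
    exact isCyclic_of_surjective g.symm.toMonoidHom g.symm.surjective

end Cfsg.Agent.Classical.DicksonQuaternion
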