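import Cfsg.Agent.Lib.Classical.QuadClass

/-!
# Quadratic forms over `ZMod 2` polarizing to a fixed alternating form
-/

set_option autoImplicit false

namespace Cfsg.Agent.Classical.QuadTwo

open Cfsg.Agent.Forms.PlusStd Cfsg.Agent.Classical.OrthCount Cfsg.Agent.Classical.OrthForms
open Cfsg.Agent.Classical.QuadClass

local notation "𝔽" => ZMod 2
local notation "Pol" => QuadraticMap.polarBilin

variable {m : ℕ}

/-- `Q₀ + f(·, w)` as a quadratic form. -/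
noncomputable def tw (w : Fin m ⊕ Fin m → 𝔽) : QuadraticForm 𝔽 (Fin m ⊕ Fin m → 𝔽) :=
  plusQ 𝔽 m + QuadraticMap.linMulLin (Pol (plusQ 𝔽 m) w) (Pol (plusQ 𝔽 m) w)

theorem sq_self (a : 𝔽) : a * a = a := by revert a; decide

theorem neg_self (a : 𝔽) : -a = a := by revert a; decide

theorem eq_one {a : 𝔽} (h : a ≠ 0) : a = 1 := by revert a; decide

theorem tw_apply (w v : Fin m ⊕ Fin m → 𝔽) :
    tw w v = plusQ 𝔽 m (v + w) - plusQ 𝔽 m w := by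
  simp only [tw, QuadraticMap.add_apply, QuadraticMap.linMulLin_apply, sq_self, map_add_pol,
    pol_comm (plusQ 𝔽 m) v w]
  ring

theorem tw_apply' (w v : Fin m ⊕ Fin m → 𝔽) :
    tw w v = plusQ 𝔽 m v + Pol (plusQ 𝔽 m) v w := by
  rw [tw_apply, map_add_pol]; ring

theorem tw_pol (w : Fin m ⊕ Fin m → 𝔽) : Pol (tw w) = Pol (plusQ 𝔽 m) := by
  refine LinearMap.ext fun u => LinearMap.ext fun v => ?_
  show QuadraticMap.polar (tw w) u v = QuadraticMap.polar (plusQ 𝔽 m) u v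
  simp only [QuadraticMap.polar, tw_apply', map_add, LinearMap.add_apply]
  ring

theorem tw_nondeg (w : Fin m ⊕ Fin m → 𝔽) : (Pol (tw w)).Nondegenerate := by
  rw [tw_pol]; exact plusQ_nondeg 𝔽 m

theorem polarizes_iff (q : (Fin m ⊕ Fin m → 𝔽) → 𝔽) :
    (∀ u v : Fin m ⊕ Fin m → 𝔽, q (u + v) = q u + q v + (Cfsg.quadFormPlus m 𝔽 (u + v) -
      Cfsg.quadFormPlus m 𝔽 u - Cfsg.quadFormPlus m 𝔽 v)) ↔ ∃ w, q = ⇑(tw w) := by
  simp only [← plusQ_apply]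
  constructor
  · intro h
    let l : (Fin m ⊕ Fin m → 𝔽) →+ 𝔽 :=
      AddMonoidHom.mk' (fun v => q v - plusQ 𝔽 m v) fun u v => by rw [h]; ring
    let L : Module.Dual 𝔽 (Fin m ⊕ Fin m → 𝔽) := l.toZModLinearMap 2
    let B : LinearMap.BilinForm 𝔽 (Fin m ⊕ Fin m → 𝔽) := Pol (plusQ 𝔽 m)
    refine ⟨(B.toDual (plusQ_nondeg 𝔽 m)).symm L, funext fun v => ?_⟩
    rw [tw_apply', pol_comm, LinearMap.BilinForm.apply_toDual_symm_apply]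
    show q v = plusQ 𝔽 m v + (q v - plusQ 𝔽 m v)
    ring
  · rintro ⟨w, rfl⟩ u v
    rw [map_add_pol (tw w), tw_pol, map_add_pol]
    ring

theorem tw_injective : Function.Injective fun w : Fin m ⊕ Fin m → 𝔽 => ⇑(tw w) := by
  intro a b h
  refine sub_eq_zero.1 ((plusQ_nondeg 𝔽 m).1 _ fun y => ?_)
  have := congrFun h y
  simp only [tw_apply', pol_comm (plusQ 𝔽 m) y] at this
  rw [map_sub, LinearMap.sub_apply]
  linear_combination this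

theorem zeros_add_ones (P : (Fin m ⊕ Fin m → 𝔽) → 𝔽) :
    Nat.card {v // P v = 0} + Nat.card {v // ¬ P v = 0} = 2 ^ (2 * m) := by
  classical
  rw [← Nat.card_sum, Nat.card_congr (Equiv.sumCompl fun v => P v = 0)]
  simp [two_mul]

theorem zeros_tw (w : Fin m ⊕ Fin m → 𝔽) :
    zeros ⇑(tw w) = Nat.card {v // plusQ 𝔽 m v = plusQ 𝔽 m w} := by
  refine Nat.card_congr ((Equiv.addRight w).subtypeEquiv fun v => ?_)
  show tw w v = 0 ↔ plusQ 𝔽 m (v + w) = plusQ 𝔽 m w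
  rw [tw_apply, sub_eq_zero]

theorem aniso : ∀ z₁ z₂ : 𝔽, z₁ ^ 2 + 1 * z₁ * z₂ + 1 * z₂ ^ 2 = 0 → z₁ = 0 ∧ z₂ = 0 := by
  decide

theorem zeros_plus (hm : 1 ≤ m) : zeros ⇑(plusQ 𝔽 m) = 2 ^ (2 * m - 1) + 2 ^ (m - 1) := by
  obtain ⟨k, rfl⟩ : ∃ k, m = k + 1 := ⟨m - 1, by omega⟩
  have h := cast_zeros_plus (F := 𝔽) (q := 2) (ZMod.card 2) (k + 1)
  rw [show 2 * (k + 1) - 1 = 2 * k + 1 by omega, show k + 1 - 1 = k from rfl]
  zify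
  push_cast at h
  rw [show 2 * (k + 1) = 2 * k + 1 + 1 by ring] at h
  simp only [pow_succ] at h ⊢
  linarith

theorem zeros_min (hm : 1 ≤ m) :
    zeros ⇑(minQ 𝔽 (m - 1) 1 1) + 2 ^ (m - 1) = 2 ^ (2 * m - 1) := by
  have h := cast_zeros_min (F := 𝔽) (q := 2) (ZMod.card 2) (m - 1) (a := 1) (b := 1) aniso
  rw [show 2 * m - 1 = 2 * (m - 1) + 1 by omega]
  generalize m - 1 = k at h ⊢
  zify
  push_cast at h
  simp only [pow_succ] at h ⊢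
  linarith

theorem card_ones (hm : 1 ≤ m) :
    Nat.card {v // ¬ plusQ 𝔽 m v = 0} = 2 ^ (2 * m - 1) - 2 ^ (m - 1) := by
  have h : zeros ⇑(plusQ 𝔽 m) + Nat.card {v // ¬ plusQ 𝔽 m v = 0} = 2 ^ (2 * m) :=
    zeros_add_ones _
  have hp : 2 ^ (2 * m) = 2 * 2 ^ (2 * m - 1) := by
    rw [← pow_succ', show 2 * m - 1 + 1 = 2 * m by omega]
  rw [zeros_plus hm] at h
  omega

theorem zeros_tw_zero {w : Fin m ⊕ Fin m → 𝔽} (h : plusQ 𝔽 m w = 0) :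
    zeros ⇑(tw w) = zeros ⇑(plusQ 𝔽 m) := by
  rw [zeros_tw, h]; rfl

theorem zeros_tw_one (hm : 1 ≤ m) {w : Fin m ⊕ Fin m → 𝔽} (h : plusQ 𝔽 m w ≠ 0) :
    zeros ⇑(tw w) = zeros ⇑(minQ 𝔽 (m - 1) 1 1) := by
  have e : Nat.card {v // plusQ 𝔽 m v = plusQ 𝔽 m w} = Nat.card {v // ¬ plusQ 𝔽 m v = 0} :=
    Nat.card_congr (Equiv.subtypeEquivRight fun v =>
      ⟨fun h' h0 => h (h'.symm.trans h0), fun h' => (eq_one h').trans (eq_one h).symm⟩)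
  have h2 := zeros_min hm
  rw [zeros_tw, e, card_ones hm]
  omega

theorem zeros_tw_eq_iff (hm : 1 ≤ m) (a b : Fin m ⊕ Fin m → 𝔽) :
    zeros ⇑(tw a) = zeros ⇑(tw b) ↔ plusQ 𝔽 m a = plusQ 𝔽 m b := by
  have hne : zeros ⇑(plusQ 𝔽 m) ≠ zeros ⇑(minQ 𝔽 (m - 1) 1 1) := plus_ne_min hm aniso
  by_cases ha : plusQ 𝔽 m a = 0 <;> by_cases hb : plusQ 𝔽 m b = 0
  · simp [zeros_tw_zero ha, zeros_tw_zero hb, ha, hb]
  · simp [zeros_tw_zero ha, zeros_tw_one hm hb, ha, Ne.symm hb, hne]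
  · simp [zeros_tw_one hm ha, zeros_tw_zero hb, hb, ha, Ne.symm hne]
  · simp [zeros_tw_one hm ha, zeros_tw_one hm hb, eq_one ha, eq_one hb]

theorem isometric_tw_iff (hm : 1 ≤ m) (a b : Fin m ⊕ Fin m → 𝔽) :
    (∃ g : (Fin m ⊕ Fin m → 𝔽) ≃ₗ[𝔽] (Fin m ⊕ Fin m → 𝔽), ∀ v, tw a v = tw b (g v)) ↔
      plusQ 𝔽 m a = plusQ 𝔽 m b := by
  rw [← zeros_tw_eq_iff hm]
  refine ⟨fun ⟨g, hg⟩ => zeros_eq _ _ g fun v => (hg v).symm, fun h => ?_⟩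
  obtain ⟨e, he⟩ := exists_isometry_of_zeros (m := m) (tw a) (tw b) (by simp [two_mul])
    (by simp [two_mul]) (tw_nondeg a) (tw_nondeg b) h
  exact ⟨e, fun v => (he v).symm⟩

theorem plus_type_iff (hm : 1 ≤ m) (w : Fin m ⊕ Fin m → 𝔽) :
    (∃ g : (Fin m ⊕ Fin m → 𝔽) ≃ₗ[𝔽] (Fin m ⊕ Fin m → 𝔽),
      ∀ v, tw w v = Cfsg.quadFormPlus m 𝔽 (g v)) ↔ plusQ 𝔽 m w = 0 := by
  have h0 : ⇑(tw (0 : Fin m ⊕ Fin m → 𝔽)) = Cfsg.quadFormPlus m 𝔽 := funext fun v => by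
    rw [tw_apply', map_zero, add_zero, plusQ_apply]
  rw [← h0, isometric_tw_iff hm, QuadraticMap.map_zero]

theorem minus_type_iff (hm : 1 ≤ m) (w : Fin m ⊕ Fin m → 𝔽) :
    (∃ g : (Fin m ⊕ Fin m → 𝔽) ≃ₗ[𝔽] ((Fin (m - 1) ⊕ Fin (m - 1)) ⊕ Fin 2 → 𝔽),
      ∀ v, tw w v = Cfsg.quadFormMinus (m - 1) 𝔽 1 1 (g v)) ↔ plusQ 𝔽 m w ≠ 0 := by
  rw [← minQ_eq]
  constructor
  · rintro ⟨g, hg⟩ h
    exact plus_ne_min hm aniso
      ((zeros_tw_zero h).symm.trans (zeros_eq _ _ g fun v => (hg v).symm))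
  · intro h
    obtain ⟨e, he⟩ := exists_isometry_of_zeros (m := m) (tw w) (minQ 𝔽 (m - 1) 1 1)
      (by simp [two_mul]) (by simp; omega) (tw_nondeg w) (minQ_nondeg (m - 1) aniso)
      (zeros_tw_one hm h)
    exact ⟨e, fun v => (he v).symm⟩

end Cfsg.Agent.Classical.QuadTwo
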