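import Mathlib
import Cfsg.Agent.Lib.Classical.QuadTwo
import Cfsg.Prelude.Def_Classical

/-!
# Symmetric groups acting on even subsets modulo complementation, over `ZMod 2`
-/

set_option autoImplicit false

namespace Cfsg.Agent.Classical.EvenPerm

open Cfsg.Agent.Classical.OrthCount Cfsg.Agent.Classical.OrthForms Cfsg.Agent.Classical.QuadClass

local notation "𝔽" => ZMod 2

theorem val_add_mul (a b : 𝔽) : (a + b).val + 2 * (a * b).val = a.val + b.val := by
  revert a b; decide

theorem sq_self (a : 𝔽) : a * a = a := by revert a; decide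

theorem add_self (a : 𝔽) : a + a = 0 := by revert a; decide

theorem cases_two (a : 𝔽) : a = 0 ∨ a = 1 := by revert a; decide

theorem cases_smul {m : ℕ} (a : 𝔽) (x : Fin m → 𝔽) : a • x = 0 ∧ a = 0 ∨ a • x = x ∧ a = 1 := by
  rcases cases_two a with rfl | rfl
  · exact Or.inl ⟨zero_smul _ _, rfl⟩
  · exact Or.inr ⟨one_smul _ _, rfl⟩

section weight

variable {α : Type*} [Fintype α]

/-- The weight of a binary vector. -/
def wt (v : α → 𝔽) : ℕ := ∑ i, (v i).val

theorem wt_cast (v : α → 𝔽) : (wt v : 𝔽) = ∑ i, v i := by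
  simp [wt]

theorem wt_even {v : α → 𝔽} (h : ∑ i, v i = 0) : ∃ a, wt v = 2 * a := by
  obtain ⟨a, ha⟩ := ZMod.natCast_eq_zero_iff_even.1 ((wt_cast v).trans h)
  exact ⟨a, by omega⟩

theorem wt_odd {v : α → 𝔽} (h : ∑ i, v i = 1) : ∃ a, wt v = 2 * a + 1 := by
  obtain ⟨a, ha⟩ := ZMod.natCast_eq_one_iff_odd.1 ((wt_cast v).trans h)
  exact ⟨a, by omega⟩

theorem wt_add (v w : α → 𝔽) : wt (v + w) + 2 * wt (v * w) = wt v + wt w := by
  simp only [wt, Finset.mul_sum, ← Finset.sum_add_distrib]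
  exact Finset.sum_congr rfl fun i _ => val_add_mul _ _

theorem wt_perm (σ : Equiv.Perm α) (v : α → 𝔽) : wt (fun i => v (σ.symm i)) = wt v :=
  Equiv.sum_comp σ.symm fun i => (v i).val

/-- Half the weight, modulo two. -/
def half (v : α → 𝔽) : 𝔽 := ((wt v / 2 : ℕ) : 𝔽)

theorem half_add {v w : α → 𝔽} (hv : ∑ i, v i = 0) (hw : ∑ i, w i = 0) :
    half (v + w) = half v + half w + ∑ i, v i * w i := by
  obtain ⟨a, ha⟩ := wt_even hv
  obtain ⟨b, hb⟩ := wt_even hw
  obtain ⟨c, hc⟩ := wt_even (v := v + w) (by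
    simp only [Pi.add_apply, Finset.sum_add_distrib, hv, hw, add_zero])
  have h := wt_add v w
  have hd : ∑ i, v i * w i = (wt (v * w) : 𝔽) := (wt_cast (v * w)).symm
  rw [hd, half, half, half, ha, hb, hc, Nat.mul_div_cancel_left _ two_pos,
    Nat.mul_div_cancel_left _ two_pos, Nat.mul_div_cancel_left _ two_pos]
  have hab : c + wt (v * w) = a + b := by omega
  have hab' := congrArg (Nat.cast : ℕ → 𝔽) hab
  push_cast at hab'
  rw [← hab', add_assoc, add_self, add_zero]

theorem half_perm (σ : Equiv.Perm α) (v : α → 𝔽) : half (fun i => v (σ.symm i)) = half v := by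
  rw [half, half, wt_perm]

theorem half_add_const (hα : 4 ∣ Fintype.card α) {v : α → 𝔽} (hv : ∑ i, v i = 0) (c : 𝔽) :
    half (v + fun _ => c) = half v := by
  obtain ⟨j, hj⟩ := hα
  have hs : ∑ _i : α, c = 0 := by
    rw [Finset.sum_const, Finset.card_univ, hj, nsmul_eq_mul, Nat.cast_mul,
      show ((4 : ℕ) : 𝔽) = 0 from rfl, zero_mul, zero_mul]
  have hh : half (fun _ : α => c) = 0 := by
    have : wt (fun _ : α => c) = 2 * (2 * j * c.val) := by
      rw [wt, Finset.sum_const, Finset.card_univ, hj, smul_eq_mul]; ring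
    rw [half, this, Nat.mul_div_cancel_left _ two_pos, Nat.cast_mul, Nat.cast_mul,
      show ((2 : ℕ) : 𝔽) = 0 from rfl, zero_mul, zero_mul]
  rw [half_add hv hs, hh, ← Finset.sum_mul, hv, zero_mul, add_zero, add_zero]

end weight

/-! ### The quotient space -/

variable {m : ℕ}

/-- The lift of a class to an even vector with last coordinate zero. -/
def lift : (Fin m → 𝔽) →ₗ[𝔽] (Fin (m + 1 + 1) → 𝔽) where
  toFun x := Fin.snoc (Fin.snoc x (∑ a, x a) : Fin (m + 1) → 𝔽) 0
  map_add' x y := by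
    funext i
    refine Fin.lastCases ?_ (fun i => Fin.lastCases ?_ (fun j => ?_) i) i <;>
      simp [Finset.sum_add_distrib]
  map_smul' c x := by
    funext i
    refine Fin.lastCases ?_ (fun i => Fin.lastCases ?_ (fun j => ?_) i) i <;>
      simp [Finset.mul_sum]

@[simp] theorem lift_last (x : Fin m → 𝔽) : lift x (Fin.last (m + 1)) = 0 := by simp [lift]

@[simp] theorem lift_penult (x : Fin m → 𝔽) :
    lift x (Fin.last m).castSucc = ∑ a, x a := by simp [lift]

@[simp] theorem lift_init (x : Fin m → 𝔽) (a : Fin m) : lift x a.castSucc.castSucc = x a := by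
  simp [lift]

theorem sum_lift (x : Fin m → 𝔽) : ∑ i, lift x i = 0 := by
  rw [Fin.sum_univ_castSucc, Fin.sum_univ_castSucc]
  simp [add_self]

/-- The class of an even vector. -/
def proj : (Fin (m + 1 + 1) → 𝔽) →ₗ[𝔽] (Fin m → 𝔽) where
  toFun v a := v a.castSucc.castSucc + v (Fin.last (m + 1))
  map_add' v w := by funext a; simp only [Pi.add_apply]; ring
  map_smul' c v := by funext a; simp only [Pi.smul_apply, smul_eq_mul, RingHom.id_apply]; ring

theorem proj_lift (x : Fin m → 𝔽) : proj (lift x) = x := by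
  funext a
  simp [proj]

theorem proj_const (c : 𝔽) : proj (fun _ : Fin (m + 1 + 1) => c) = 0 := by
  funext a
  simp [proj, add_self]

theorem lift_proj (hm : Even m) {v : Fin (m + 1 + 1) → 𝔽} (hv : ∑ i, v i = 0) :
    lift (proj v) = v + fun _ => v (Fin.last (m + 1)) := by
  funext i
  refine Fin.lastCases ?_ (fun i => Fin.lastCases ?_ (fun j => ?_) i) i
  · simp [add_self]
  · rw [lift_penult, Pi.add_apply]
    simp only [proj, LinearMap.coe_mk, AddHom.coe_mk, Finset.sum_add_distrib, Finset.sum_const,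
      Finset.card_univ, Fintype.card_fin, nsmul_eq_mul, ZMod.natCast_eq_zero_iff_even.2 hm,
      zero_mul, add_zero]
    rw [Fin.sum_univ_castSucc, Fin.sum_univ_castSucc] at hv
    have e : ∀ s p l : 𝔽, s + p + l = 0 → s = p + l := by decide
    exact e _ _ _ hv
  · simp [proj]

/-- A permutation as a linear map. -/
def permMap {α : Type*} (σ : Equiv.Perm α) : (α → 𝔽) →ₗ[𝔽] (α → 𝔽) := LinearMap.funLeft 𝔽 𝔽 σ.symm

/-- The action on classes. -/
def act (σ : Equiv.Perm (Fin (m + 1 + 1))) : (Fin m → 𝔽) →ₗ[𝔽] (Fin m → 𝔽) :=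
  proj ∘ₗ permMap σ ∘ₗ lift

theorem sum_permMap (σ : Equiv.Perm (Fin (m + 1 + 1))) (v : Fin (m + 1 + 1) → 𝔽) :
    ∑ i, permMap σ v i = ∑ i, v i :=
  Equiv.sum_comp σ.symm v

theorem lift_act (hm : Even m) (σ : Equiv.Perm (Fin (m + 1 + 1))) (x : Fin m → 𝔽) :
    lift (act σ x) = permMap σ (lift x) + fun _ => permMap σ (lift x) (Fin.last (m + 1)) :=
  lift_proj hm ((sum_permMap σ (lift x)).trans (sum_lift x))

/-- The representation on classes. -/
def actHom (hm : Even m) : Equiv.Perm (Fin (m + 1 + 1)) →* Module.End 𝔽 (Fin m → 𝔽) where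
  toFun := act
  map_one' := LinearMap.ext fun x => proj_lift x
  map_mul' σ τ := LinearMap.ext fun x => by
    show act (σ * τ) x = proj (permMap σ (lift (act τ x)))
    rw [lift_act hm τ, map_add, map_add,
      show permMap σ (fun _ => permMap τ (lift x) (Fin.last (m + 1))) =
        fun _ => permMap τ (lift x) (Fin.last (m + 1)) from rfl, proj_const, add_zero]
    rfl

/-- The form induced by half the weight. -/
def qfun (x : Fin m → 𝔽) : 𝔽 := half (lift x)

theorem qfun_act (hm : 4 ∣ m + 1 + 1) (σ : Equiv.Perm (Fin (m + 1 + 1))) (x : Fin m → 𝔽) :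
    qfun (act σ x) = qfun x := by
  have hm' : Even m := by obtain ⟨j, hj⟩ := hm; exact ⟨2 * j - 1, by omega⟩
  rw [qfun, lift_act hm', half_add_const (by simpa using hm) ((sum_permMap σ (lift x)).trans (sum_lift x))]
  exact half_perm σ (lift x)

/-- The bilinear part. -/
def pair (x y : Fin m → 𝔽) : 𝔽 := ∑ i, lift x i * lift y i

theorem qfun_add (x y : Fin m → 𝔽) : qfun (x + y) = qfun x + qfun y + pair x y := by
  rw [qfun, map_add, half_add (sum_lift x) (sum_lift y)]
  rfl

/-- The quadratic form. -/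
noncomputable def form (m : ℕ) : QuadraticForm 𝔽 (Fin m → 𝔽) :=
  QuadraticMap.ofPolar qfun
    (fun a x => by
      have h0 : qfun (0 : Fin m → 𝔽) = 0 := by simp [qfun, half, wt]
      rcases cases_smul a x with ⟨h, rfl⟩ | ⟨h, rfl⟩ <;> simp [h0])
    (fun x x' y => by
      simp only [QuadraticMap.polar, qfun_add, pair, map_add, Pi.add_apply, add_mul,
        Finset.sum_add_distrib]
      ring)
    (fun a x y => by
      have h0 : qfun (0 : Fin m → 𝔽) = 0 := by simp [qfun, half, wt]
      rcases cases_smul a x with ⟨h, rfl⟩ | ⟨h, rfl⟩ <;> simp [QuadraticMap.polar, h0])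

theorem form_apply (x : Fin m → 𝔽) : form m x = qfun x := rfl

theorem form_nondeg (hm : Even m) : (QuadraticMap.polarBilin (form m)).Nondegenerate := by
  have hB : ∀ x y, QuadraticMap.polarBilin (form m) x y = pair x y := fun x y => by
    simp only [QuadraticMap.polarBilin_apply_apply, QuadraticMap.polar, form_apply, qfun_add]
    ring
  have key : ∀ x : Fin m → 𝔽, (∀ y, pair x y = 0) → x = 0 := fun x hx => by
    have hc : ∀ a, x a + ∑ b, x b = 0 := fun a => by
      have h := hx (Pi.single a 1)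
      rw [pair, Fin.sum_univ_castSucc, Fin.sum_univ_castSucc] at h
      simpa [Pi.single_apply] using h
    have e : ∀ u s : 𝔽, u + s = 0 → u = s := by decide
    have hall : ∀ a, x a = ∑ b, x b := fun a => e _ _ (hc a)
    have hs : ∑ b, x b = 0 := by
      conv_lhs => enter [2, b]; rw [hall b]
      simp [ZMod.natCast_eq_zero_iff_even.2 hm]
    funext a
    exact (hall a).trans hs
  refine ⟨fun x hx => key x fun y => by rw [← hB]; exact hx y, fun y hy => key y fun x => ?_⟩
  rw [← hy x, hB, pair, pair]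
  exact Finset.sum_congr rfl fun i _ => mul_comm _ _

/-! ### Counting zeros -/

/-- The sign of an element of `ZMod 2`. -/
def sgn (a : 𝔽) : ℤ := if a = 0 then 1 else -1

theorem i_pow (n : ℕ) :
    (⟨0, 1⟩ : GaussianInt) ^ (2 * n) = ((sgn (n : 𝔽) : ℤ) : GaussianInt) := by
  rw [pow_mul, show ((⟨0, 1⟩ : GaussianInt)) ^ 2 = -1 by decide]
  rcases Nat.even_or_odd n with h | h
  · rw [h.neg_one_pow, sgn, if_pos (ZMod.natCast_eq_zero_iff_even.2 h)]; rfl
  · rw [h.neg_one_pow, sgn, if_neg (by rw [ZMod.natCast_eq_one_iff_odd.2 h]; exact one_ne_zero)]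
    rfl

/-- Coordinates on all binary vectors. -/
def coords (p : (Fin m → 𝔽) × 𝔽 × 𝔽) : Fin (m + 1 + 1) → 𝔽 :=
  lift p.1 + (fun _ => p.2.1) + Pi.single (Fin.last m).castSucc p.2.2

theorem sum_coords (hm : Even m) (p : (Fin m → 𝔽) × 𝔽 × 𝔽) : ∑ i, coords p i = p.2.2 := by
  have h2 : ((m + 1 + 1 : ℕ) : 𝔽) = 0 := ZMod.natCast_eq_zero_iff_even.2 (by
    obtain ⟨a, rfl⟩ := hm; exact ⟨a + 1, by omega⟩)
  simp only [coords, Pi.add_apply, Finset.sum_add_distrib, sum_lift, Finset.sum_const,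
    Finset.card_univ, Fintype.card_fin, nsmul_eq_mul, h2, zero_mul, zero_add,
    Finset.sum_pi_single']
  simp

theorem coords_bijective (hm : Even m) : Function.Bijective (coords (m := m)) := by
  rw [Fintype.bijective_iff_injective_and_card]
  refine ⟨fun ⟨x, c, d⟩ ⟨x', c', d'⟩ h => ?_, by simp [pow_succ, mul_assoc]⟩
  have hd : d = d' := by
    have := congrArg (fun v => ∑ i, v i) h
    simpa [sum_coords hm] using this
  subst hd
  have hc : c = c' := by
    have := congrFun h (Fin.last (m + 1))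
    simpa [coords, Pi.single_apply, (Fin.castSucc_lt_last (Fin.last m)).ne'] using this
  subst hc
  have hx : lift x = lift x' := add_right_cancel (add_right_cancel h)
  have := congrArg proj hx
  rw [proj_lift, proj_lift] at this
  rw [this]

theorem sum_sgn {j : ℕ} (hj : m + 1 + 1 = 4 * j) :
    2 * ∑ x : Fin m → 𝔽, sgn (qfun x) = (-4) ^ j := by
  have hm : Even m := ⟨2 * j - 1, by omega⟩
  let I : GaussianInt := ⟨0, 1⟩
  have h1 : ∑ v : Fin (m + 1 + 1) → 𝔽, I ^ wt v = (-4) ^ j := by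
    have : ∀ v : Fin (m + 1 + 1) → 𝔽, I ^ wt v = ∏ i, I ^ (v i).val :=
      fun v => (Finset.prod_pow_eq_pow_sum _ _ _).symm
    simp only [this]
    rw [← Fintype.prod_sum fun _ (a : 𝔽) => I ^ a.val, Finset.prod_const, Finset.card_univ,
      Fintype.card_fin, hj, pow_mul]
    congr 1
  rw [← Fintype.sum_bijective coords (coords_bijective hm) (fun p => I ^ wt (coords p))
    (fun v => I ^ wt v) fun _ => rfl, Fintype.sum_prod_type] at h1
  have h2 := congrArg Zsqrtd.re h1
  have e : ∀ (x : Fin m → 𝔽), (∑ p : 𝔽 × 𝔽, I ^ wt (coords (x, p))).re = 2 * sgn (qfun x) := by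
    intro x
    have ev : ∀ c : 𝔽, (I ^ wt (coords (x, c, 0))).re = sgn (qfun x) := fun c => by
      have hc : coords (x, c, 0) = lift x + fun _ => c := by simp [coords]
      have hq : half (coords (x, c, 0)) = qfun x := by
        rw [hc, half_add_const ⟨j, by simpa using hj⟩ (sum_lift x)]; rfl
      obtain ⟨a, ha⟩ := wt_even (v := coords (x, c, 0)) (sum_coords hm _)
      rw [half, ha, Nat.mul_div_cancel_left _ two_pos] at hq
      rw [ha, i_pow, hq]
      rfl
    have od : ∀ c : 𝔽, (I ^ wt (coords (x, c, 1))).re = 0 := fun c => by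
      obtain ⟨a, ha⟩ := wt_odd (v := coords (x, c, 1)) (sum_coords hm _)
      rw [ha, pow_succ, i_pow, Zsqrtd.re_mul]
      simp [I]
    have univ2 : ∀ f : 𝔽 → GaussianInt, ∑ a, f a = f 0 + f 1 := fun f => Fin.sum_univ_two f
    rw [Fintype.sum_prod_type, univ2, univ2, univ2, Zsqrtd.re_add, Zsqrtd.re_add, Zsqrtd.re_add,
      ev, ev, od, od]
    ring
  have re_sum : ∀ (f : (Fin m → 𝔽) → GaussianInt),
      (∑ x, f x).re = ∑ x, (f x).re := fun f =>
    map_sum (AddMonoidHom.mk' (fun z : GaussianInt => z.re) fun a b => Zsqrtd.re_add a b) f _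
  rw [re_sum, Finset.sum_congr rfl fun x _ => e x, ← Finset.mul_sum] at h2
  rw [h2, show ((-4 : GaussianInt)) = ((-4 : ℤ) : GaussianInt) from rfl, ← Int.cast_pow,
    Zsqrtd.re_intCast]

theorem zeros_form {j : ℕ} (hj : m + 1 + 1 = 4 * j) :
    4 * (zeros ⇑(form m) : ℤ) = 2 * 2 ^ m + (-4) ^ j := by
  have h : ∑ x : Fin m → 𝔽, sgn (qfun x) = 2 * (zeros ⇑(form m) : ℤ) - 2 ^ m := by
    have e : ∀ x : Fin m → 𝔽, sgn (qfun x) = 2 * (if qfun x = 0 then (1 : ℤ) else 0) - 1 :=
      fun x => by unfold sgn; split_ifs <;> norm_num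
    simp only [e, Finset.sum_sub_distrib, ← Finset.mul_sum, Finset.sum_boole]
    simp [zeros, form_apply, Nat.card_eq_fintype_card, Fintype.card_subtype]
  have := sum_sgn hj
  rw [h] at this
  linarith

/-! ### The embedding -/

theorem act_faithful (hm : Even m) (h6 : 6 ≤ m) (σ : Equiv.Perm (Fin (m + 1 + 1)))
    (hσ : ∀ x, act σ x = x) : σ = 1 := by
  refine Equiv.ext fun i => ?_
  rw [Equiv.Perm.one_apply]
  by_contra hne
  have cards : ∀ s : Finset (Fin (m + 1 + 1)), s.card ≤ 4 → ∃ l, l ∉ s := fun s hs => by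
    by_contra h
    push Not at h
    have := Finset.card_le_card (show Finset.univ ⊆ s from fun l _ => h l)
    simp at this
    omega
  obtain ⟨j, hj⟩ := cards {i, σ i} (le_trans Finset.card_le_two (by norm_num))
  simp only [Finset.mem_insert, Finset.mem_singleton, not_or] at hj
  obtain ⟨l, hl⟩ := cards {i, j, σ i, σ j} (le_trans Finset.card_le_four le_rfl)
  simp only [Finset.mem_insert, Finset.mem_singleton, not_or] at hl
  let v : Fin (m + 1 + 1) → 𝔽 := Pi.single i 1 + Pi.single j 1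
  have hv : ∑ t, v t = 0 := by
    simp [v, Finset.sum_add_distrib, add_self]
  have h1 := congrArg lift (hσ (proj v))
  rw [lift_act hm, lift_proj hm hv] at h1
  have hl' : σ.symm l ≠ i ∧ σ.symm l ≠ j :=
    ⟨fun h => hl.2.2.1 (by rw [← h, Equiv.apply_symm_apply]),
      fun h => hl.2.2.2 (by rw [← h, Equiv.apply_symm_apply])⟩
  have hA := congrFun h1 l
  have hB := congrFun h1 (σ i)
  simp only [Pi.add_apply, permMap, LinearMap.funLeft_apply, v, Equiv.symm_apply_apply,
    Pi.single_apply, hl.1, hl.2.1, hl'.1, hl'.2, Ne.symm hj.1, Ne.symm hj.2, hne, if_false,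
    if_true] at hA hB
  revert hA hB
  generalize (if σ.symm (Fin.last (m + 1)) = i then (1 : 𝔽) else 0) = a
  generalize (if σ.symm (Fin.last (m + 1)) = j then (1 : 𝔽) else 0) = b
  generalize (if Fin.last (m + 1) = i then (1 : 𝔽) else 0) = c
  generalize (if Fin.last (m + 1) = j then (1 : 𝔽) else 0) = d
  revert a b c d
  decide

theorem exists_embedding {ι : Type} [Fintype ι] [DecidableEq ι] (hm : 4 ∣ m + 1 + 1) (h6 : 6 ≤ m)
    (R : QuadraticForm 𝔽 (ι → 𝔽)) {d : ℕ} (hd : m = 2 * d) (hι : Fintype.card ι = 2 * d)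
    (hR : (QuadraticMap.polarBilin R).Nondegenerate) (hz : zeros ⇑(form m) = zeros ⇑R)
    {n : ℕ} (hn : n = m + 1 + 1) :
    ∃ φ : Equiv.Perm (Fin n) →* ↥(Cfsg.isometryGroup 𝔽 ⇑R), Function.Injective φ := by
  subst hn
  have hm' : Even m := ⟨d, by omega⟩
  obtain ⟨e, he⟩ := exists_isometry_of_zeros (m := d) (form m) R (by simpa using hd) hι
    (form_nondeg hm') hR hz
  let f : Equiv.Perm (Fin (m + 1 + 1)) →* Module.End 𝔽 (ι → 𝔽) :=
    (e.conjRingEquiv.toRingHom.toMonoidHom).comp (actHom hm')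
  have hf : ∀ σ w, f σ w = e (act σ (e.symm w)) := fun σ w => rfl
  let g : Equiv.Perm (Fin (m + 1 + 1)) →* Matrix.GeneralLinearGroup ι 𝔽 :=
    (Matrix.GeneralLinearGroup.toLin (n := ι) (R := 𝔽)).symm.toMonoidHom.comp f.toHomUnits
  have hg : ∀ σ w, ((g σ : Matrix.GeneralLinearGroup ι 𝔽) : Matrix ι ι 𝔽).mulVec w = f σ w :=
    fun σ w => by
      have h : Matrix.GeneralLinearGroup.toLin (g σ) = f.toHomUnits σ :=
        MulEquiv.apply_symm_apply _ _
      have h' := congrArg (fun u : LinearMap.GeneralLinearGroup 𝔽 (ι → 𝔽) =>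
        (u : Module.End 𝔽 (ι → 𝔽)) w) h
      simpa using h'
  refine ⟨g.codRestrict _ fun σ => fun u _ => ?_, ?_⟩
  · show R (((g σ : Matrix.GeneralLinearGroup ι 𝔽) : Matrix ι ι 𝔽).mulVec u) = R u
    rw [hg, hf, he, form_apply, qfun_act hm, ← form_apply, ← he, e.apply_symm_apply]
  · rw [injective_iff_map_eq_one]
    intro σ hσ
    refine act_faithful hm' h6 σ fun x => e.injective ?_
    have h := hg σ (e x)
    have hσ' : g σ = 1 := congrArg Subtype.val hσ
    rw [hσ', hf, e.symm_apply_apply] at h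
    simpa using h.symm

end Cfsg.Agent.Classical.EvenPerm
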