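import Mathlib
import Cfsg.Agent.S2587
import Cfsg.Agent.S2588
import Cfsg.Agent.Lib.Classical.JordanClasses
import Cfsg.Agent.Lib.Classical.JordanFormsExist

/-!
# Jordan types in the unitary groups
-/

set_option autoImplicit false
set_option linter.unusedSectionVars false

namespace Cfsg.Agent.Classical.JordanUnitary

open Module Matrix
open Cfsg.Agent.Classical.JordanChains (Idx)

variable {F : Type*} [Field F] {n t : ℕ}

/-- chains of the reindexed Jordan matrix -/
theorem chains_reindex {d : Fin t → ℕ} (hd : ∀ k, 1 ≤ d k) (e : Idx d ≃ Fin n) :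
    ∃ v, JordanChains.Chains
      (Matrix.toLin' (Matrix.reindex e e (Cfsg.jordanTypeMatrix d F) - 1)) d v := by
  classical
  set J := Cfsg.jordanTypeMatrix d F with hJ
  let L : (Idx d → F) ≃ₗ[F] (Fin n → F) := LinearEquiv.funCongrLeft F F e.symm
  have key : ∀ x, Matrix.toLin' (Matrix.reindex e e J - 1) (L x) = L (Matrix.toLin' (J - 1) x) := by
    intro x
    rw [Matrix.toLin'_apply, Matrix.toLin'_apply]
    simp only [Matrix.sub_mulVec, Matrix.one_mulVec, map_sub,
      Matrix.reindex_apply, Matrix.submatrix_mulVec_equiv]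
    congr 1
    funext i
    simp [L, Function.comp_def, LinearMap.funLeft]
  refine ⟨_, JordanChains.chains_of_shift hd _ ((Pi.basisFun F (Idx d)).map L) fun k j hj => ?_⟩
  rw [Basis.map_apply, key, Cfsg.Agent.S2581.shift d k j hj]
  split_ifs with h
  · rw [Basis.map_apply]
  · rw [map_zero]

/-- the Jordan matrix as a unipotent element -/
theorem exists_jordanGL {d : Fin t → ℕ} (hd : ∀ k, 1 ≤ d k) (e : Idx d ≃ Fin n) :
    ∃ (g : GL (Fin n) F) (hg : JordanChains.Unip g),
      (g : Matrix (Fin n) (Fin n) F) = Matrix.reindex e e (Cfsg.jordanTypeMatrix d F) ∧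
      (JordanChains.partition g hg).parts = JordanChains.parts d := by
  obtain ⟨v, hv⟩ := chains_reindex (F := F) hd e
  have hnil : IsNilpotent (Matrix.reindex e e (Cfsg.jordanTypeMatrix d F) - 1) := by
    refine ⟨n, Matrix.toLin'.injective ?_⟩
    rw [Matrix.toLin'_pow, map_zero, hv.pow_eq_zero_iff]
    intro k
    calc d k ≤ ∑ k, d k := Finset.single_le_sum (fun _ _ => Nat.zero_le _) (Finset.mem_univ k)
      _ = n := by
        have := Fintype.card_congr e
        rw [Fintype.card_sigma] at this
        simpa using this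
  obtain ⟨g, hg⟩ : IsUnit (Matrix.reindex e e (Cfsg.jordanTypeMatrix d F)) := by
    have := hnil.isUnit_one_add
    rwa [add_sub_cancel] at this
  have hnilg : JordanChains.nil g =
      Matrix.toLin' (Matrix.reindex e e (Cfsg.jordanTypeMatrix d F) - 1) := by
    rw [JordanChains.nil, hg]
  have hu : JordanChains.Unip g := by
    show IsNilpotent (JordanChains.nil g)
    rw [hnilg]
    exact hnil.map (Matrix.toLinAlgEquiv' (R := F) (n := Fin n))
  exact ⟨g, hu, hg, JordanChains.partition_eq hu (hnilg ▸ hv)⟩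

/-- a unipotent matrix is similar to its Jordan matrix exactly when the partitions agree -/
theorem parts_of_isConj {d : Fin t → ℕ} (hd : ∀ k, 1 ≤ d k) (e : Idx d ≃ Fin n) (u : GL (Fin n) F)
    (hu : IsConj (Matrix.reindex e e (Cfsg.jordanTypeMatrix d F)) (u : Matrix (Fin n) (Fin n) F)) :
    ∃ v, JordanChains.Chains (JordanChains.nil u) d v := by
  obtain ⟨c, hc⟩ := hu
  obtain ⟨v, hv⟩ := chains_reindex (F := F) hd e
  refine ⟨_, hv.map (JordanChains.glEquiv c) fun x => ?_⟩
  show (c : Matrix (Fin n) (Fin n) F) *ᵥ (Matrix.toLin' _ x) =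
    Matrix.toLin' _ ((c : Matrix (Fin n) (Fin n) F) *ᵥ x)
  simp only [Matrix.toLin'_apply, Matrix.mulVec_mulVec]
  congr 1
  rw [mul_sub, sub_mul, mul_one, one_mul, hc.eq]

variable {K : Type*} [Field K] [Fintype K] {q : ℕ}

/-- every unipotent Jordan type occurs in the unitary group -/
theorem exists_unip (hK : Fintype.card K = q ^ 2) (μ : Nat.Partition n) :
    ∃ (g : ↥(Cfsg.GU n K q)) (hg : JordanChains.Unip (g : GL (Fin n) K)),
      JordanChains.partition (g : GL (Fin n) K) hg = μ := by
  classical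
  let L := μ.parts.toList
  let d : Fin L.length → ℕ := fun k => L.get k
  have hd : ∀ k, 1 ≤ d k := fun k => μ.parts_pos (Multiset.mem_toList.1 (List.get_mem L k))
  have hparts : JordanChains.parts d = μ.parts := by
    rw [JordanChains.parts, Fin.univ_val_map, List.ofFn_get, Multiset.coe_toList]
  have hcard : Fintype.card (Idx d) = n := by
    rw [Fintype.card_sigma]
    simp only [Fintype.card_fin]
    rw [← μ.parts_sum, ← hparts]
    rfl
  let e : Idx d ≃ Fin n := Fintype.equivFinOfCardEq hcard
  obtain ⟨A, hA, hAe, hAp⟩ := exists_jordanGL (F := K) hd e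
  set J := Cfsg.jordanTypeMatrix d K with hJ
  have hq : q ≠ 0 := by rintro rfl; simp at hK
  have h01 : ((A : Matrix (Fin n) (Fin n) K).map fun x : K => x ^ q) = A := by
    ext i j
    rw [Matrix.map_apply, hAe, Matrix.reindex_apply, Matrix.submatrix_apply, hJ,
      Cfsg.jordanTypeMatrix]
    generalize e.symm i = a
    generalize e.symm j = b
    obtain ⟨k, a⟩ := a
    obtain ⟨l, b⟩ := b
    by_cases h : k = l
    · subst h
      rw [Matrix.blockDiagonal'_apply_eq, Cfsg.jordanBlock, Matrix.of_apply]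
      split_ifs <;> simp [zero_pow hq]
    · rw [Matrix.blockDiagonal'_apply_ne _ _ _ h, zero_pow hq]
  choose P hPdet hPinv using fun i : ℕ => JordanFormsExist.exists_pairBlock (F := K) i
  set X := Matrix.reindex e e (Matrix.blockDiagonal' fun k => P (d k)) with hX
  have hXu : IsUnit X := by
    rw [hX, Matrix.reindex_apply, Matrix.isUnit_submatrix_equiv]
    refine IsUnit.of_mul_eq_one (Matrix.blockDiagonal' fun k => (P (d k))⁻¹) ?_
    rw [← Matrix.blockDiagonal'_mul, ← Matrix.blockDiagonal'_one]
    congr 1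
    funext k
    exact Matrix.mul_nonsing_inv _ (isUnit_iff_ne_zero.2 (hPdet _))
  have hXA : (A : Matrix (Fin n) (Fin n) K)ᵀ * X * A = X := by
    rw [hAe, hX, Matrix.reindex_apply, Matrix.reindex_apply, Matrix.transpose_submatrix,
      Matrix.submatrix_mul_equiv, Matrix.submatrix_mul_equiv, hJ, Cfsg.jordanTypeMatrix,
      Matrix.blockDiagonal'_transpose, ← Matrix.blockDiagonal'_mul, ← Matrix.blockDiagonal'_mul]
    simp only [hPinv]
  obtain ⟨B, hB⟩ := (Cfsg.Agent.S2588.result hK A).2 (by
    rw [h01]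
    refine ⟨hXu.unit, ?_⟩
    show X * (A : Matrix (Fin n) (Fin n) K) = ((A : Matrix (Fin n) (Fin n) K)ᵀ)⁻¹ * X
    conv_rhs => rw [← hXA]
    rw [← mul_assoc, ← mul_assoc, Matrix.nonsing_inv_mul _ (by
      rw [Matrix.det_transpose]; exact isUnit_iff_ne_zero.2 A.det_ne_zero), one_mul])
  have hBu : JordanChains.Unip (B : GL (Fin n) K) := by
    obtain ⟨c, hc⟩ := isConj_iff.1 hB
    obtain ⟨s, d', v, hv⟩ := JordanChains.exists_chains (JordanChains.nil A) hA
    obtain ⟨k, hk⟩ := hA
    refine ⟨k, ?_⟩
    rw [← hc]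
    refine LinearMap.ext fun x => ?_
    obtain ⟨y, rfl⟩ := (JordanChains.glEquiv c).surjective x
    have hpow : ∀ j : ℕ, (JordanChains.nil (c * A * c⁻¹) ^ j) (JordanChains.glEquiv c y) =
        JordanChains.glEquiv c ((JordanChains.nil A ^ j) y) := fun j => by
      induction j with
      | zero => simp
      | succ j ih =>
        rw [pow_succ', Module.End.mul_apply, ih, pow_succ', Module.End.mul_apply]
        exact JordanChains.nil_conj A c _
    rw [hpow, hk, LinearMap.zero_apply, map_zero, LinearMap.zero_apply]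
  refine ⟨B, hBu, ?_⟩
  rw [← (JordanChains.isConj_iff_partition hA hBu).1 hB]
  exact Nat.Partition.ext (hAp.trans hparts)

end Cfsg.Agent.Classical.JordanUnitary
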