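import Mathlib
import Cfsg.Agent.Lib.Classical.JordanFormsExist
import Cfsg.Agent.Lib.Classical.JordanFormsType
import Cfsg.Agent.Lib.Forms.Bases

/-!
# Unipotent isometries of alternating forms in odd characteristic: Jordan type and signs

Each even chain length carries a non-degenerate symmetric form; the square class of its determinant,
together with the Jordan type, determines the class.
-/

set_option autoImplicit false
set_option linter.unusedSectionVars false

namespace Cfsg.Agent.Classical.JordanSpSigns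

open Module Matrix
open Cfsg.Agent.Classical.JordanChains
open Cfsg.Agent.Classical.JordanForms

variable {F : Type*} [Field F]

/-! ### Congruence of matrices -/

section congruence

variable {κ : Type*} [Fintype κ] [DecidableEq κ]

theorem of_rows_apply (S : Matrix κ κ F) (w : κ → κ → F) (i j : κ) :
    (Matrix.of w * S * (Matrix.of w)ᵀ) i j = Matrix.toBilin' S (w i) (w j) := by
  rw [Matrix.toBilin'_apply', Matrix.mul_apply, dotProduct]
  simp only [Matrix.mul_apply, Matrix.of_apply, Matrix.transpose_apply, Matrix.mulVec, dotProduct,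
    Finset.sum_mul, Finset.mul_sum]
  rw [Finset.sum_comm]
  exact Finset.sum_congr rfl fun a _ => Finset.sum_congr rfl fun b _ => by ring

theorem det_congr_eq (L S : Matrix κ κ F) : (L * S * Lᵀ).det = L.det * L.det * S.det := by
  rw [Matrix.det_mul, Matrix.det_mul, Matrix.det_transpose]; ring

theorem isSquare_mul_sq_iff {a x : F} (ha : a ≠ 0) : IsSquare (a * a * x) ↔ IsSquare x := by
  constructor
  · rintro ⟨s, hs⟩
    exact ⟨s / a, by field_simp; linear_combination hs⟩
  · rintro ⟨s, hs⟩
    exact ⟨a * s, by rw [hs]; ring⟩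

theorem cancel_congr {L L' S S' : Matrix κ κ F} (hL : L.det ≠ 0)
    (h : L * S * Lᵀ = L' * S' * L'ᵀ) : (L⁻¹ * L') * S' * (L⁻¹ * L')ᵀ = S := by
  have hu := isUnit_iff_ne_zero.2 hL
  calc (L⁻¹ * L') * S' * (L⁻¹ * L')ᵀ = L⁻¹ * (L' * S' * L'ᵀ) * (L⁻¹)ᵀ := by
        simp only [Matrix.transpose_mul, mul_assoc]
    _ = (L⁻¹ * L) * S * (L⁻¹ * L)ᵀ := by rw [← h]; simp only [Matrix.transpose_mul, mul_assoc]
    _ = S := by rw [Matrix.nonsing_inv_mul _ hu, Matrix.transpose_one, one_mul, mul_one]

theorem exists_congr_symm [Fintype F] (h2 : (2 : F) ≠ 0) {S S' : Matrix κ κ F} (hS : Sᵀ = S) (hS' : S'ᵀ = S')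
    (hd : S.det ≠ 0) (hd' : S'.det ≠ 0) (h : IsSquare S.det ↔ IsSquare S'.det) :
    ∃ L : Matrix κ κ F, L.det ≠ 0 ∧ L * S' * Lᵀ = S := by
  classical
  rcases Nat.eq_zero_or_pos (Fintype.card κ) with hc | hc
  · have := Fintype.card_eq_zero_iff.1 hc
    exact ⟨1, by simp, Matrix.ext fun i => isEmptyElim i⟩
  obtain ⟨n, hn⟩ : ∃ n, Fintype.card κ = n + 1 := ⟨_, (Nat.sub_add_cancel hc).symm⟩
  obtain ⟨α, hα⟩ := FiniteField.exists_nonsquare (F := F) fun hr => h2 <| by
    have := ringChar.Nat.cast_ringChar (R := F)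
    rwa [hr, Nat.cast_ofNat] at this
  let e := Fintype.equivFinOfCardEq hn
  let D : F → Matrix κ κ F := fun c => Matrix.diagonal fun k => if e k = Fin.last n then c else 1
  have hnf : ∀ S : Matrix κ κ F, Sᵀ = S → S.det ≠ 0 → ∃ L : Matrix κ κ F, L.det ≠ 0 ∧
      L * S * Lᵀ = D (if IsSquare S.det then 1 else α) := by
    intro S hS hd
    let B : LinearMap.BilinForm F (κ → F) := Matrix.toBilin' S
    have hsym : B.IsSymm := ⟨fun x y => by
      show Matrix.toBilin' S x y = Matrix.toBilin' S y x
      rw [Matrix.toBilin'_apply', Matrix.toBilin'_apply', dotProduct_mulVec, ← Matrix.mulVec_transpose,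
        hS, dotProduct_comm]⟩
    obtain ⟨v, -, ho, h1, hl⟩ := Cfsg.Agent.Forms.Bases.exists_symm_normal h2 B hsym α hα ⊤
      (Cfsg.Agent.Forms.Bases.nondegOn_top
        (LinearMap.BilinForm.nondegenerate_toBilin'_iff_det_ne_zero.2 hd).1) (n := n)
      (by rw [finrank_top, Module.finrank_pi, hn])
    set L := Matrix.of fun k => v (e k) with hL
    obtain ⟨c, hcv, hc⟩ : ∃ c, B (v (Fin.last n)) (v (Fin.last n)) = c ∧ (c = 1 ∨ c = α) :=
      ⟨_, rfl, hl⟩
    have hD : L * S * Lᵀ = D c := by
      ext i j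
      rw [hL, of_rows_apply]
      by_cases hij : i = j
      · subst hij
        simp only [D, Matrix.diagonal_apply_eq]
        split_ifs with hi
        · rw [hi]; exact hcv
        · exact h1 _ hi
      · simp only [D, Matrix.diagonal_apply_ne _ hij]
        exact ho _ _ fun he => hij (e.injective he)
    have hDdet : (D c).det = c := by
      rw [Matrix.det_diagonal, Finset.prod_eq_single (e.symm (Fin.last n))]
      · simp
      · intro k _ hk
        rw [if_neg fun he => hk (by rw [← he, e.symm_apply_apply])]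
      · simp
    have hc0 : c ≠ 0 := by
      rcases hc with hc | hc
      · rw [hc]; exact one_ne_zero
      · rw [hc]; exact fun h0 => hα (h0 ▸ IsSquare.zero)
    have hdet : L.det * L.det * S.det = c := by rw [← det_congr_eq, hD, hDdet]
    have hL0 : L.det ≠ 0 := fun h0 => hc0 (by rw [← hdet, h0]; ring)
    refine ⟨L, hL0, ?_⟩
    rw [hD]
    congr 1
    have hsq : IsSquare c ↔ IsSquare S.det := by rw [← hdet, isSquare_mul_sq_iff hL0]
    rcases hc with hc | hc <;> subst hc
    · rw [if_pos (hsq.1 IsSquare.one)]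
    · rw [if_neg fun hh => hα (hsq.2 hh)]
  obtain ⟨L, hL, hLS⟩ := hnf S hS hd
  obtain ⟨L', hL', hLS'⟩ := hnf S' hS' hd'
  rw [if_congr h rfl rfl, ← hLS'] at hLS
  exact ⟨L⁻¹ * L', by
    rw [Matrix.det_mul]
    exact mul_ne_zero ((Matrix.isUnit_nonsing_inv_det _ (isUnit_iff_ne_zero.2 hL)).ne_zero) hL',
    cancel_congr hL hLS⟩

theorem exists_congr_skew [Fintype F] (h2 : (2 : F) ≠ 0) {S S' : Matrix κ κ F} (hS : Sᵀ = -S) (hS' : S'ᵀ = -S')
    (hd : S.det ≠ 0) (hd' : S'.det ≠ 0) : ∃ L : Matrix κ κ F, L.det ≠ 0 ∧ L * S' * Lᵀ = S := by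
  classical
  have halt : ∀ S : Matrix κ κ F, Sᵀ = -S → (Matrix.toBilin' S).IsAlt := fun S hS x => by
    have h : Matrix.toBilin' S x x = -Matrix.toBilin' S x x := by
      rw [Matrix.toBilin'_apply']
      conv_lhs => rw [dotProduct_mulVec, ← Matrix.mulVec_transpose, hS, Matrix.neg_mulVec,
        neg_dotProduct, dotProduct_comm]
    exact (mul_eq_zero.1 (show (2 : F) * Matrix.toBilin' S x x = 0 by linear_combination h)).resolve_left h2
  obtain ⟨m, hm⟩ := Cfsg.Agent.Forms.Bases.even_finrank_of_alt _ (halt S hS)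
    (LinearMap.BilinForm.nondegenerate_toBilin'_iff_det_ne_zero.2 hd)
  rw [Module.finrank_pi] at hm
  let e : κ ≃ Fin m ⊕ Fin m := Fintype.equivOfCardEq (by rw [hm, Fintype.card_sum, Fintype.card_fin]; omega)
  let K : Matrix κ κ F := (-(Matrix.J (Fin m) F)).submatrix e e
  have hnf : ∀ S : Matrix κ κ F, Sᵀ = -S → S.det ≠ 0 → ∃ L : Matrix κ κ F,
      L.det ≠ 0 ∧ L * S * Lᵀ = K := by
    intro S hS hd
    obtain ⟨b, hb1, hb2, hb3⟩ := Cfsg.Agent.Forms.Bases.exists_sympBasis _ (halt S hS)
      (LinearMap.BilinForm.nondegenerate_toBilin'_iff_det_ne_zero.2 hd) (m := m)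
      (by rw [Module.finrank_pi]; omega)
    refine ⟨Matrix.of fun k => b (e k), fun h0 => ?_, Matrix.ext fun i j => ?_⟩
    · obtain ⟨c, hc, hc0⟩ := Matrix.exists_vecMul_eq_zero_iff.2 h0
      refine hc (funext fun k => ?_)
      have hli := b.linearIndependent.comp e e.injective
      refine Fintype.linearIndependent_iff.1 hli c ?_ k
      funext x
      have := congrFun hc0 x
      simpa [Matrix.vecMul, dotProduct] using this
    · rw [of_rows_apply]
      simp only [K, Matrix.submatrix_apply]
      rcases e i with a | a <;> rcases e j with c | c <;>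
        simp [hb1, hb2, hb3, Matrix.J, Matrix.one_apply]
      rw [← LinearMap.BilinForm.IsAlt.neg_eq (halt S hS), hb1]
      simp only [eq_comm]
  obtain ⟨L, hL, hLS⟩ := hnf S hS hd
  obtain ⟨L', hL', hLS'⟩ := hnf S' hS' hd'
  exact ⟨L⁻¹ * L', by
    rw [Matrix.det_mul]
    exact mul_ne_zero ((Matrix.isUnit_nonsing_inv_det _ (isUnit_iff_ne_zero.2 hL)).ne_zero) hL',
    cancel_congr hL (hLS.trans hLS'.symm)⟩

end congruence

/-! ### Pairings of chains -/

section pairing

variable {V : Type*} [AddCommGroup V] [Module F V] [FiniteDimensional F V]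
variable {B : LinearMap.BilinForm F V} {N : V →ₗ[F] V} {t : ℕ} {d : Fin t → ℕ} {v : Fin t → V}

/-- the generator index -/
def gen (h : Chains N d v) (k : Fin t) : Idx d := ⟨k, ⟨0, h.pos k⟩⟩

/-- pairing of a bottom vector with a vector killed by the same power -/
theorem pair_bottom (h : Chains N d v) (hB : Inv (σ := RingHom.id F) B N) {i : ℕ} {k : Fin t}
    (hk : d k = i) {y : V} (hy : (N ^ i) y = 0) :
    B ((N ^ (i - 1)) (v k)) y = ∑ b : {b : Fin t // d b = i},
      topMat (σ := RingHom.id F) B N d v k b.1 * h.basis.repr y (gen h b.1) := by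
  classical
  subst hk
  conv_lhs => rw [← h.basis.sum_repr y, map_sum, Fintype.sum_sigma]
  rw [← Finset.sum_subtype (Finset.univ.filter fun b => d b = d k) (by simp)
    (fun b => topMat (σ := RingHom.id F) B N d v k b * h.basis.repr y (gen h b))]
  rw [Finset.sum_filter]
  refine Finset.sum_congr rfl fun b _ => ?_
  rw [Finset.sum_eq_single ⟨0, h.pos b⟩]
  · rw [map_smul, smul_eq_mul, h.basis_apply, pow_zero, Module.End.one_apply, mul_comm]
    split_ifs with hb
    · rfl
    · rcases Nat.lt_or_gt_of_ne hb with hlt | hgt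
      · have := topMat_triangular (σ := RingHom.id F) h hB (i := k) (j := b) hlt
        rw [topMat, Matrix.of_apply] at this
        rw [this, zero_mul]
      · rw [h.repr_eq_zero_of_pow hy _ (by simp only [gen]; omega), mul_zero]
  · intro j _ hj
    obtain ⟨j', hj'⟩ : ∃ j', (j : ℕ) = j' + 1 :=
      ⟨(j : ℕ) - 1, by have : (j : ℕ) ≠ 0 := fun e => hj (Fin.ext e); omega⟩
    rw [map_smul, h.basis_apply, hj', pow_succ', Module.End.mul_apply,
      hB.zero_right (bottom_kill h k), smul_zero]
  · simp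

/-- the form of a chain length -/
theorem pair_eq (h : Chains N d v) (hB : Inv (σ := RingHom.id F) B N) {i : ℕ} (hi : 0 < i) {x y : V}
    (hx : (N ^ i) x = 0) (hy : (N ^ i) y = 0) :
    B ((N ^ (i - 1)) x) y = ∑ a : {a : Fin t // d a = i}, ∑ b : {b : Fin t // d b = i},
      h.basis.repr x (gen h a.1) * topMat (σ := RingHom.id F) B N d v a.1 b.1 *
        h.basis.repr y (gen h b.1) := by
  classical
  conv_lhs => rw [← h.basis.sum_repr x, map_sum, map_sum, LinearMap.sum_apply, Fintype.sum_sigma]
  rw [← Finset.sum_subtype (Finset.univ.filter fun a => d a = i) (by simp)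
    (fun a => ∑ b : {b : Fin t // d b = i}, h.basis.repr x (gen h a) *
      topMat (σ := RingHom.id F) B N d v a b.1 * h.basis.repr y (gen h b.1))]
  rw [Finset.sum_filter]
  refine Finset.sum_congr rfl fun a _ => ?_
  split_ifs with ha
  · rw [Finset.sum_eq_single ⟨0, h.pos a⟩]
    · rw [map_smul, map_smul, LinearMap.smul_apply, smul_eq_mul, h.basis_apply, pow_zero,
        Module.End.one_apply, pair_bottom h hB ha hy, Finset.mul_sum]
      exact Finset.sum_congr rfl fun b _ => by simp only [gen]; ring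
    · intro j _ hj
      have : (j : ℕ) ≠ 0 := fun e => hj (Fin.ext e)
      rw [map_smul, h.pow_basis, dif_neg (by simp only; omega), smul_zero, map_zero,
        LinearMap.zero_apply]
    · simp
  · refine Finset.sum_eq_zero fun j _ => ?_
    rw [map_smul, map_smul, LinearMap.smul_apply, h.pow_basis]
    by_cases hj : (j : ℕ) + i < d a
    · rw [h.repr_eq_zero_of_pow hx _ hj, zero_smul]
    · split_ifs with hj'
      · have hlt : i < d a := by simp only at hj'; omega
        rw [h.basis_apply]
        have := hB.vanish (d a - 1) 0 (v a) y (pow_eq_zero_of_le hy (by omega))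
        rw [pow_zero, Module.End.one_apply] at this
        simp only at hj' ⊢
        rw [show (j : ℕ) + (i - 1) = d a - 1 by omega, this, smul_zero]
      · rw [map_zero, LinearMap.zero_apply, smul_zero]

/-- the matrix of the form of a chain length -/
def block (B : LinearMap.BilinForm F V) (N : V →ₗ[F] V) (d : Fin t → ℕ) (v : Fin t → V) (i : ℕ) :
    Matrix {k : Fin t // d k = i} {k : Fin t // d k = i} F :=
  (topMat (σ := RingHom.id F) B N d v).toSquareBlock d i

/-- the sign of a chain length -/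
def Sq (B : LinearMap.BilinForm F V) (N : V →ₗ[F] V) (i a : ℕ) : Prop :=
  ∃ w : Fin a → V, (∀ k, (N ^ i) (w k) = 0) ∧
    (Matrix.of fun k l => B ((N ^ (i - 1)) (w k)) (w l)).det ≠ 0 ∧
    IsSquare (Matrix.of fun k l => B ((N ^ (i - 1)) (w k)) (w l)).det

theorem sq_iff (h : Chains N d v) (hB : Inv (σ := RingHom.id F) B N)
    (hnd : ∀ x, (∀ y, B x y = 0) → x = 0) {i : ℕ} (hi : 0 < i) :
    Sq B N i (Fintype.card {k : Fin t // d k = i}) ↔ IsSquare (block B N d v i).det := by
  classical
  set e := Fintype.equivFin {k : Fin t // d k = i} with he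
  have hkill : ∀ k : {k : Fin t // d k = i}, (N ^ i) (v k.1) = 0 := fun k => by
    have := h.kill k.1
    rwa [k.2] at this
  have hmat : ∀ w : Fin (Fintype.card {k : Fin t // d k = i}) → V, (∀ k, (N ^ i) (w k) = 0) →
      (Matrix.of fun k l => B ((N ^ (i - 1)) (w k)) (w l)).det =
        (Matrix.of fun (k a : {k : Fin t // d k = i}) => h.basis.repr (w (e k)) (gen h a.1)).det *
        (Matrix.of fun (k a : {k : Fin t // d k = i}) => h.basis.repr (w (e k)) (gen h a.1)).det *
          (block B N d v i).det := by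
    intro w hw
    rw [← det_congr_eq, ← Matrix.det_submatrix_equiv_self e]
    congr 1
    ext k l
    rw [Matrix.submatrix_apply, Matrix.of_apply, pair_eq h hB hi (hw _) (hw _), Matrix.mul_apply]
    simp only [Matrix.mul_apply, Matrix.of_apply, Matrix.transpose_apply, Finset.sum_mul]
    rw [Finset.sum_comm]
    rfl
  have hblock : (block B N d v i).det ≠ 0 := det_block_ne_zero h hB hnd i
  constructor
  · rintro ⟨w, hw, hne, hsq⟩
    rw [hmat w hw] at hne hsq
    exact (isSquare_mul_sq_iff (fun h0 => hne (by rw [h0]; ring))).1 hsq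
  · intro hsq
    have hw : ∀ k, (N ^ i) (v (e.symm k).1) = 0 := fun k => hkill _
    have hone : (Matrix.of fun (k a : {k : Fin t // d k = i}) =>
        h.basis.repr (v (e.symm (e k)).1) (gen h a.1)) = 1 := by
      ext k a
      rw [Matrix.of_apply, e.symm_apply_apply,
        show v k.1 = h.basis (gen h k.1) by simp [gen, h.basis_apply], Basis.repr_self,
        Finsupp.single_apply, Matrix.one_apply]
      refine if_congr ⟨fun e' => Subtype.ext (congrArg Sigma.fst e'), fun e' => by rw [e']⟩ rfl rfl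
    refine ⟨fun k => v (e.symm k).1, hw, ?_, ?_⟩ <;> rw [hmat _ hw, hone, Matrix.det_one, one_mul, one_mul]
    · exact hblock
    · exact hsq

theorem block_transpose (h : Chains N d v) (hB : Inv (σ := RingHom.id F) B N) (halt : B.IsAlt) (i : ℕ) :
    (block B N d v i)ᵀ = (-((-1 : F) ^ (i - 1))) • block B N d v i := by
  ext ⟨k, hk⟩ ⟨l, hl⟩
  simp only [block, Matrix.toSquareBlock_def, Matrix.transpose_apply, Matrix.smul_apply,
    Matrix.of_apply, smul_eq_mul]
  rw [topMat_swap h hB (hl.trans hk.symm), topMat, Matrix.of_apply,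
    ← LinearMap.BilinForm.IsAlt.neg_eq halt, hk]
  ring

theorem chains_reindex (h : Chains N d v) {t' : ℕ} {d' : Fin t' → ℕ} (σ : Fin t' ≃ Fin t)
    (hσ : ∀ k, d (σ k) = d' k) : Chains N d' (v ∘ σ) := by
  let φ : Idx d' ≃ Idx d := Equiv.sigmaCongr σ fun k => finCongr (hσ k).symm
  have hf : (fun i : Idx d' => (N ^ (i.2 : ℕ)) ((v ∘ σ) i.1)) =
      (fun i : Idx d => (N ^ (i.2 : ℕ)) (v i.1)) ∘ φ := funext fun i => rfl
  refine ⟨fun k => hσ k ▸ h.pos (σ k), fun _ => trivial, fun k => ?_, ?_, ?_⟩
  · have := h.kill (σ k)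
    rwa [hσ] at this
  · rw [hf]; exact h.li.comp φ φ.injective
  · rw [hf, φ.surjective.range_comp]; exact h.span

end pairing

/-! ### Conjugation -/

section conjugation

variable [Fintype F] {p : ℕ} [Fact p.Prime] [CharP F p]
variable {ι : Type*} [Fintype ι] [DecidableEq ι] {G U U' : Matrix ι ι F}
variable {t : ℕ} {d : Fin t → ℕ} {v v' : Fin t → ι → F}

theorem halfPow (G H : Matrix ι ι F) (hG : Hᵀ * G = G * H) (k : ℕ) : (H ^ k)ᵀ * G = G * H ^ k := by
  induction k with
  | zero => simp
  | succ k ih => rw [pow_succ, Matrix.transpose_mul, mul_assoc, ih, ← mul_assoc, hG, mul_assoc, ← pow_succ', pow_succ]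

/-- equal diagonal blocks give an isometric conjugation -/
theorem exists_conj_of_blocks (hp : p ≠ 2) (hG : G.det ≠ 0) (hskew : Gᵀ = -G)
    (hU : Uᵀ * G * U = G) (hU' : U'ᵀ * G * U' = G)
    (h : Chains (Matrix.toLin' (U - 1)) d v) (h' : Chains (Matrix.toLin' (U' - 1)) d v')
    (hblk : ∀ k l, d k = d l →
      topMat (σ := RingHom.id F) (Matrix.toBilin' G) (Matrix.toLin' (U - 1)) d v k l =
      topMat (σ := RingHom.id F) (Matrix.toBilin' G) (Matrix.toLin' (U' - 1)) d v' k l) :
    ∃ M : Matrix ι ι F, Mᵀ * G * M = G ∧ M * U = U' * M := by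
  classical
  set N := Matrix.toLin' (U - 1) with hN
  set N' := Matrix.toLin' (U' - 1) with hN'
  let e : (ι → F) ≃ₗ[F] (ι → F) := h.basis.equiv h'.basis (Equiv.refl _)
  have he : ∀ x, e (N x) = N' (e x) := by
    have key : e.toLinearMap ∘ₗ N = N' ∘ₗ e.toLinearMap := by
      refine h.basis.ext fun i => ?_
      have h1 := h.pow_basis 1 i
      have h1' := h'.pow_basis 1 i
      rw [pow_one] at h1 h1'
      rw [LinearMap.comp_apply, LinearMap.comp_apply, LinearEquiv.coe_coe, h1, Basis.equiv_apply,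
        Equiv.refl_apply, h1']
      split_ifs with hj
      · rw [Basis.equiv_apply]; rfl
      · rw [map_zero]
    exact fun x => LinearMap.congr_fun key x
  have hev : ∀ k, e (v k) = v' k := fun k => by
    rw [show v k = h.basis (gen h k) by simp [gen, h.basis_apply], Basis.equiv_apply]
    simp [gen, h'.basis_apply]
  have hpow : ∀ (j : ℕ) x, e ((N ^ j) x) = (N' ^ j) (e x) := fun j => by
    induction j with
    | zero => simp
    | succ j ih =>
      intro x
      rw [pow_succ', pow_succ', Module.End.mul_apply, Module.End.mul_apply, he, ih]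
  set E := LinearMap.toMatrix' e.toLinearMap with hE
  have hEv : ∀ x, E *ᵥ x = e x := fun x => by
    rw [← Matrix.toLin'_apply, hE, Matrix.toLin'_toMatrix']; rfl
  have hEU : E * U = U' * E := Matrix.ext_iff_mulVec.2 fun x => by
    have := he x
    rw [hN, hN', Matrix.toLin'_apply, Matrix.toLin'_apply, Matrix.sub_mulVec, Matrix.sub_mulVec,
      Matrix.one_mulVec, Matrix.one_mulVec, map_sub, sub_left_inj] at this
    rw [← Matrix.mulVec_mulVec, ← Matrix.mulVec_mulVec, hEv, hEv]
    exact this
  -- the pulled back form and its quotient by the form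
  set G₂ := Eᵀ * G * E with hG₂
  set H := G⁻¹ * G₂ with hH
  have hGu := isUnit_iff_ne_zero.2 hG
  have hGH : G * H = G₂ := by rw [hH, ← mul_assoc, Matrix.mul_nonsing_inv _ hGu, one_mul]
  have hG₂U : Uᵀ * G₂ * U = G₂ := by
    calc Uᵀ * G₂ * U = (E * U)ᵀ * G * (E * U) := by rw [hG₂]; simp only [Matrix.transpose_mul, mul_assoc]
      _ = Eᵀ * (U'ᵀ * G * U') * E := by rw [hEU]; simp only [Matrix.transpose_mul, mul_assoc]
      _ = _ := by rw [hU']
  have hUd : IsUnit (Uᵀ).det := by
    rw [Matrix.det_transpose]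
    exact isUnit_iff_ne_zero.2 (JordanFormsType.det_ne_zero_of_inv hG hU)
  have hHU : H * U = U * H := by
    have h1 : Uᵀ * (G * (H * U)) = Uᵀ * (G * (U * H)) :=
      calc Uᵀ * (G * (H * U)) = Uᵀ * (G * H) * U := by simp only [mul_assoc]
        _ = G * H := by rw [hGH, hG₂U]
        _ = (Uᵀ * G * U) * H := by rw [hU]
        _ = _ := by simp only [mul_assoc]
    exact ((Matrix.isUnit_iff_isUnit_det _).2 hGu).mul_left_cancel
      (((Matrix.isUnit_iff_isUnit_det _).2 hUd).mul_left_cancel h1)
  set Z := H - 1 with hZ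
  have hZN : ∀ x, Matrix.toLin' Z (N x) = N (Matrix.toLin' Z x) := by
    intro x
    rw [hN, Matrix.toLin'_apply, Matrix.toLin'_apply, Matrix.toLin'_apply, Matrix.toLin'_apply,
      Matrix.mulVec_mulVec, Matrix.mulVec_mulVec, hZ]
    congr 1
    rw [mul_sub, mul_sub, sub_mul, sub_mul, sub_mul, sub_mul, hHU]
    noncomm_ring
  have hinv := JordanFormsExist.inv_toBilin _ _ hU
  have hnd := (LinearMap.BilinForm.nondegenerate_toBilin'_iff_det_ne_zero.2 hG).1
  -- the diagonal coefficients of `Z` vanish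
  have hdiag : ∀ l m, d m = d l → h.basis.repr (Z *ᵥ v l) (gen h m) = 0 := by
    intro l m hml
    have hy : (N ^ d l) (Z *ᵥ v l) = 0 := by
      rw [← Matrix.toLin'_apply, ← comm_pow hZN, h.kill, map_zero]
    have h0 : (block (Matrix.toBilin' G) N d v (d l)) *ᵥ
        (fun b => h.basis.repr (Z *ᵥ v l) (gen h b.1)) = 0 := by
      funext ⟨k, hk⟩
      rw [Matrix.mulVec, dotProduct, Pi.zero_apply]
      simp only [block, Matrix.toSquareBlock_def, Matrix.of_apply]
      rw [← pair_bottom h hinv hk hy]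
      have h1 : ∀ x y, Matrix.toBilin' G x (Z *ᵥ y) =
          Matrix.toBilin' G₂ x y - Matrix.toBilin' G x y := fun x y => by
        rw [Matrix.toBilin'_apply', Matrix.toBilin'_apply', Matrix.toBilin'_apply',
          Matrix.mulVec_mulVec, hZ, mul_sub, hGH, mul_one, Matrix.sub_mulVec, dotProduct_sub]
      rw [h1, sub_eq_zero, hG₂, JordanFormsType.toBilin_congr, hEv, hEv, hpow, hev, hev]
      have := hblk k l hk
      simp only [topMat, Matrix.of_apply] at this
      rw [hk] at this
      exact this.symm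
    have hdet := det_block_ne_zero h hinv hnd (d l)
    by_contra hne
    refine hdet (Matrix.exists_mulVec_eq_zero_iff.1 ⟨_, fun e => hne ?_, h0⟩)
    exact congrFun e ⟨m, hml⟩
  -- `Z` lowers the grading
  set D := Finset.univ.sup d with hD
  have hle : ∀ k, d k ≤ D := fun k => Finset.le_sup (f := d) (Finset.mem_univ k)
  let φ : Idx d → ℕ := fun a => (D + 1) * (d a.1 - (a.2 : ℕ)) + (D - d a.1)
  let W : ℕ → Submodule F (ι → F) := fun n => Submodule.span F (h.basis '' {a | φ a < n})
  have hlow : ∀ a : Idx d, Matrix.toLin' Z (h.basis a) ∈ W (φ a) := by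
    rintro ⟨l, ⟨j', hj'⟩⟩
    rw [h.basis_apply, comm_pow hZN, Matrix.toLin'_apply, ← h.basis.sum_repr (Z *ᵥ v l), map_sum]
    refine Submodule.sum_mem _ fun ⟨m, ⟨j, hj⟩⟩ _ => ?_
    rw [map_smul, h.pow_basis]
    by_cases hc : h.basis.repr (Z *ᵥ v l) ⟨m, ⟨j, hj⟩⟩ = 0
    · rw [hc, zero_smul]; exact zero_mem _
    refine Submodule.smul_mem _ _ ?_
    split_ifs with hjj
    · refine Submodule.subset_span ⟨_, ?_, rfl⟩
      simp only at hjj
      show (D + 1) * (d m - (j + j')) + (D - d m) < (D + 1) * (d l - j') + (D - d l)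
      have hadm : d m ≤ j + d l := by
        by_contra hh
        refine hc (h.repr_eq_zero_of_pow (e := d l) ?_ ⟨m, ⟨j, hj⟩⟩ (by simp only; omega))
        rw [← Matrix.toLin'_apply, ← comm_pow hZN, h.kill, map_zero]
      have hm := hle m
      have hl := hle l
      rcases Nat.lt_or_ge (d m - (j + j')) (d l - j') with hlt | hge
      · have : (D + 1) * (d m - (j + j') + 1) ≤ (D + 1) * (d l - j') := Nat.mul_le_mul_left _ hlt
        rw [Nat.mul_succ] at this
        omega
      · have heq : d m - (j + j') = d l - j' := by omega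
        have hne : d m ≠ d l := fun e => by
          have hj0 : j = 0 := by omega
          subst hj0
          exact hc (hdiag l m e)
        rw [heq]
        omega
    · exact zero_mem _
  have hkillW : ∀ n, ∀ x ∈ W n, (Matrix.toLin' Z ^ n) x = 0 := by
    intro n
    induction n with
    | zero =>
      intro x hx
      have : x ∈ (⊥ : Submodule F (ι → F)) := by simpa [W] using hx
      simpa using this
    | succ n ih =>
      intro x hx
      rw [pow_succ, Module.End.mul_apply]
      refine ih _ ?_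
      induction hx using Submodule.span_induction with
      | mem y hy =>
        obtain ⟨a, ha, rfl⟩ := hy
        exact Submodule.span_mono (Set.image_mono fun b (hb : φ b < φ a) =>
          show φ b < n by have : φ a < n + 1 := ha; omega) (hlow a)
      | zero => rw [map_zero]; exact zero_mem _
      | add a b _ _ ha hb => rw [map_add]; exact add_mem ha hb
      | smul c a _ ha => rw [map_smul]; exact Submodule.smul_mem _ c ha
  set M₀ := (D + 1) * (D + 1) + D + 1 with hM₀
  have hZ0 : Z ^ M₀ = 0 := Matrix.toLin'.injective <| by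
    rw [Matrix.toLin'_pow, map_zero]
    refine h.basis.ext fun a => ?_
    refine (hkillW M₀ _ (Submodule.subset_span ⟨a, ?_, rfl⟩)).trans (LinearMap.zero_apply _).symm
    show (D + 1) * (d a.1 - (a.2 : ℕ)) + (D - d a.1) < M₀
    have : (D + 1) * (d a.1 - (a.2 : ℕ)) ≤ (D + 1) * (D + 1) :=
      Nat.mul_le_mul_left _ (by have := hle a.1; omega)
    omega
  obtain ⟨k, hk⟩ : ∃ k, M₀ ≤ p ^ k := ⟨M₀, (Nat.lt_pow_self (Fact.out : p.Prime).one_lt).le⟩
  have hHo : H ^ p ^ k = 1 := by
    have hpoly : (Polynomial.X + 1 : Polynomial F) ^ p ^ k = Polynomial.X ^ p ^ k + 1 := by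
      rw [add_pow_char_pow, one_pow]
    have := congrArg (Polynomial.aeval Z) hpoly
    simp only [map_pow, map_add, Polynomial.aeval_X, map_one] at this
    rwa [_root_.pow_eq_zero_of_le hk hZ0, zero_add, hZ, sub_add_cancel] at this
  obtain ⟨c, hc⟩ : Odd (p ^ k) := ((Fact.out : p.Prime).odd_of_ne_two hp).pow
  set Y := H ^ (c + 1) with hY
  have hYY : Y * Y = H := by
    rw [hY, ← pow_add, show c + 1 + (c + 1) = p ^ k + 1 by omega, pow_succ, hHo, one_mul]
  have hadj : Hᵀ * G = G * H := by
    have h1 : G₂ᵀ = -G₂ := by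
      rw [hG₂, Matrix.transpose_mul, Matrix.transpose_mul, Matrix.transpose_transpose, hskew,
        Matrix.neg_mul, Matrix.mul_neg, ← mul_assoc]
    rw [← hGH, Matrix.transpose_mul, hskew, Matrix.mul_neg, neg_inj] at h1
    rw [hGH] at h1 ⊢
    exact h1
  have hYG : Yᵀ * G * Y = G₂ := by
    rw [hY, halfPow G H hadj, mul_assoc, ← hY, hYY, hGH]
  have hG₂d : G₂.det ≠ 0 := by
    rw [hG₂, Matrix.det_mul, Matrix.det_mul, Matrix.det_transpose]
    have : E.det ≠ 0 := by
      rw [hE, LinearMap.det_toMatrix']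
      exact (LinearEquiv.isUnit_det' e).ne_zero
    exact mul_ne_zero (mul_ne_zero this hG) this
  have hYd : IsUnit Y.det := isUnit_iff_ne_zero.2 fun h0 => hG₂d (by
    rw [← hYG, Matrix.det_mul, h0, mul_zero])
  have hYU : Y * U = U * Y := by rw [hY]; exact (Commute.pow_left (show Commute H U from hHU) _).eq
  refine ⟨E * Y⁻¹, ?_, ?_⟩
  · calc (E * Y⁻¹)ᵀ * G * (E * Y⁻¹) = (Y⁻¹)ᵀ * (Yᵀ * G * Y) * Y⁻¹ := by
          rw [hYG, hG₂]; simp only [Matrix.transpose_mul, mul_assoc]
      _ = (Y * Y⁻¹)ᵀ * G * (Y * Y⁻¹) := by simp only [Matrix.transpose_mul, mul_assoc]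
      _ = G := by rw [Matrix.mul_nonsing_inv _ hYd, Matrix.transpose_one, one_mul, mul_one]
  · have h1 : Y⁻¹ * U = U * Y⁻¹ := by
      calc Y⁻¹ * U = Y⁻¹ * (U * Y) * Y⁻¹ := by
            rw [mul_assoc, mul_assoc U, Matrix.mul_nonsing_inv _ hYd, mul_one]
        _ = U * Y⁻¹ := by rw [← hYU, ← mul_assoc, Matrix.nonsing_inv_mul _ hYd, one_mul]
    rw [mul_assoc, h1, ← mul_assoc, hEU, mul_assoc]

/-- same type and signs give an isometric conjugation -/
theorem exists_conj_of_signs (hp : p ≠ 2) (hG : G.det ≠ 0) (hskew : Gᵀ = -G)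
    (hU : Uᵀ * G * U = G) (hU' : U'ᵀ * G * U' = G)
    (h : Chains (Matrix.toLin' (U - 1)) d v) (h' : Chains (Matrix.toLin' (U' - 1)) d v')
    (hsq : ∀ i, Even i → (∃ k, d k = i) →
      (IsSquare (block (Matrix.toBilin' G) (Matrix.toLin' (U - 1)) d v i).det ↔
        IsSquare (block (Matrix.toBilin' G) (Matrix.toLin' (U' - 1)) d v' i).det)) :
    ∃ M : Matrix ι ι F, Mᵀ * G * M = G ∧ M * U = U' * M := by
  classical
  have h2 : (2 : F) ≠ 0 := Ring.two_ne_zero fun hr => hp ((ringChar.eq F p).symm.trans hr)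
  have hinv := JordanFormsExist.inv_toBilin _ _ hU
  have hinv' := JordanFormsExist.inv_toBilin _ _ hU'
  have hnd := (LinearMap.BilinForm.nondegenerate_toBilin'_iff_det_ne_zero.2 hG).1
  have halt : (Matrix.toBilin' G).IsAlt := fun x => by
    have hh : Matrix.toBilin' G x x = -Matrix.toBilin' G x x := by
      rw [Matrix.toBilin'_apply']
      conv_lhs => rw [dotProduct_mulVec, ← Matrix.mulVec_transpose, hskew, Matrix.neg_mulVec,
        neg_dotProduct, dotProduct_comm]
    exact (mul_eq_zero.1 (show (2 : F) * Matrix.toBilin' G x x = 0 by linear_combination hh)).resolve_left h2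
  set S := block (Matrix.toBilin' G) (Matrix.toLin' (U - 1)) d v with hS
  set S' := block (Matrix.toBilin' G) (Matrix.toLin' (U' - 1)) d v' with hS'
  have hsd : ∀ i, (S i).det ≠ 0 := fun i => det_block_ne_zero h hinv hnd i
  have hsd' : ∀ i, (S' i).det ≠ 0 := fun i => det_block_ne_zero h' hinv' hnd i
  have hL : ∀ i, ∃ L : Matrix {k : Fin t // d k = i} {k : Fin t // d k = i} F,
      L.det ≠ 0 ∧ L * S' i * Lᵀ = S i := by
    intro i
    by_cases hne : ∃ k, d k = i
    swap
    · have : IsEmpty {k : Fin t // d k = i} := ⟨fun k => hne ⟨k.1, k.2⟩⟩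
      exact ⟨1, by simp, Matrix.ext fun a => isEmptyElim a⟩
    have hpos : 0 < i := by obtain ⟨k, hk⟩ := hne; have := h.pos k; omega
    rcases Nat.even_or_odd i with he | ho
    · have hs : -((-1 : F) ^ (i - 1)) = 1 := by
        rw [(Nat.Even.sub_odd hpos he odd_one).neg_one_pow, neg_neg]
      refine exists_congr_symm h2 ?_ ?_ (hsd i) (hsd' i) (hsq i he hne)
      · rw [hS, block_transpose h hinv halt, hs, one_smul]
      · rw [hS', block_transpose h' hinv' halt, hs, one_smul]
    · have hs : -((-1 : F) ^ (i - 1)) = -1 := by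
        rw [(Nat.Odd.sub_odd ho odd_one).neg_one_pow]
      refine exists_congr_skew h2 ?_ ?_ (hsd i) (hsd' i)
      · rw [hS, block_transpose h hinv halt, hs, neg_one_smul]
      · rw [hS', block_transpose h' hinv' halt, hs, neg_one_smul]
  choose L hLd hLS using hL
  let Lm : Matrix (Fin t) (Fin t) F := Matrix.of fun k l =>
    if hkl : d l = d k then L (d k) ⟨k, rfl⟩ ⟨l, hkl⟩ else 0
  have hLm : ∀ (i : ℕ) (k l : {k : Fin t // d k = i}), Lm k.1 l.1 = L i k l := by
    rintro i ⟨k, rfl⟩ ⟨l, hl⟩
    simp only [Lm, Matrix.of_apply, dif_pos hl]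
  let c : Coord d → F := fun x => if (x.1.2.2 : ℕ) = 0 then Lm x.1.1 x.1.2.1 else 0
  have hlead : leadMat h'.pos c = Lm := by
    ext k l
    rw [leadMat, Matrix.of_apply]
    by_cases hkl : d k ≤ d l
    · rw [dif_pos hkl]
      simp only [c]
      split_ifs with h0
      · rfl
      · simp only [Lm, Matrix.of_apply]
        rw [dif_neg (by omega)]
    · rw [dif_neg hkl]
      simp only [Lm, Matrix.of_apply]
      rw [dif_neg (by omega)]
  have hinj : Function.Injective (extend h' c) := by
    rw [injective_iff_det, hlead]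
    have htri : Lm.BlockTriangular d := fun k l hkl => by
      simp only [Lm, Matrix.of_apply]
      rw [dif_neg (ne_of_lt hkl)]
    rw [htri.det, Finset.prod_ne_zero_iff]
    intro i _
    rw [show Lm.toSquareBlock d i = L i from Matrix.ext fun k l => hLm i k l]
    exact hLd i
  let g : (ι → F) ≃ₗ[F] (ι → F) := LinearEquiv.ofBijective (extend h' c)
    ⟨hinj, LinearMap.injective_iff_surjective.1 hinj⟩
  have hgv : ∀ k, g (v' k) = ∑ l, Lm k l • v' l := by
    intro k
    show extend h' c (v' k) = _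
    rw [show v' k = h'.basis (gen h' k) by rw [gen, h'.basis_apply, pow_zero, Module.End.one_apply], extend, Basis.constr_basis]
    simp only [gen, pow_zero, Module.End.one_apply, image]
    rw [Fintype.sum_sigma]
    refine Finset.sum_congr rfl fun l _ => ?_
    rw [Finset.sum_eq_single ⟨0, h'.pos l⟩]
    · congr 1
      · rw [full]
        split_ifs with hh
        · simp [c]
        · simp only [Lm, Matrix.of_apply] at hh ⊢
          rw [dif_neg (by omega)]
      · rw [h'.basis_apply, pow_zero, Module.End.one_apply]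
    · intro j _ hj
      have : (j : ℕ) ≠ 0 := fun e => hj (Fin.ext e)
      rw [full]
      split_ifs with hh
      · simp [c, this]
      · rw [zero_smul]
    · simp
  have h'' := h'.map g (extend_comm h' c)
  refine exists_conj_of_blocks hp hG hskew hU hU' h h'' fun k l hkl => ?_
  have e := congrFun (congrFun (hLS (d k)) ⟨k, rfl⟩) ⟨l, hkl.symm⟩
  have e' : S (d k) ⟨k, rfl⟩ ⟨l, hkl.symm⟩ =
      topMat (σ := RingHom.id F) (Matrix.toBilin' G) (Matrix.toLin' (U - 1)) d v k l := rfl
  rw [← e', ← e]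
  simp only [topMat, Matrix.of_apply, hgv, map_sum, map_smul, LinearMap.sum_apply,
    LinearMap.smul_apply, smul_eq_mul, Matrix.mul_apply, Matrix.transpose_apply, hS', block,
    Matrix.toSquareBlock_def, ← hLm, Finset.sum_mul, Finset.mul_sum]
  rw [← Finset.sum_subtype (Finset.univ.filter fun b => d b = d k) (by simp)
    (fun b => ∑ a : {a : Fin t // d a = d k}, Lm k a.1 *
      Matrix.toBilin' G (((Matrix.toLin' (U' - 1)) ^ (d a.1 - 1)) (v' a.1)) (v' b) * Lm l b)]
  rw [Finset.sum_filter]
  refine Finset.sum_congr rfl fun b _ => ?_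
  split_ifs with hb
  · rw [← Finset.sum_subtype (Finset.univ.filter fun a => d a = d k) (by simp)
      (fun a => Lm k a * Matrix.toBilin' G (((Matrix.toLin' (U' - 1)) ^ (d a - 1)) (v' a)) (v' b) * Lm l b),
      Finset.sum_filter]
    refine Finset.sum_congr rfl fun a _ => ?_
    split_ifs with ha
    · rw [ha]; ring
    · rw [show Lm k a = 0 from dif_neg ha]; ring
  · rw [show Lm l b = 0 from dif_neg (fun e => hb (e.trans hkl.symm))]
    simp

end conjugation

end Cfsg.Agent.Classical.JordanSpSigns
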