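import Mathlib
import Cfsg.Agent.Lib.Classical.JordanSpSigns
import Cfsg.Agent.Lib.Forms.SympStd

/-!
# The classes of elements killed by `p` in the symplectic groups of odd characteristic `p`
-/

set_option autoImplicit false
set_option linter.unusedSectionVars false

namespace Cfsg.Agent.Classical.JordanSpClasses

open Module Matrix
open Cfsg.Agent.Classical.JordanChains
open Cfsg.Agent.Classical.JordanForms
open Cfsg.Agent.Classical.JordanSpSigns

variable {F : Type*} [Field F]

section transport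

variable {V V' : Type*} [AddCommGroup V] [Module F V] [FiniteDimensional F V]
variable [AddCommGroup V'] [Module F V'] [FiniteDimensional F V']
variable {B : LinearMap.BilinForm F V} {B' : LinearMap.BilinForm F V'} {N : V →ₗ[F] V}
variable {N' : V' →ₗ[F] V'} {t : ℕ} {d : Fin t → ℕ} {v : Fin t → V}

theorem pow_transport (T : V ≃ₗ[F] V') (hT : ∀ x, T (N x) = N' (T x)) (j : ℕ) (x : V) :
    T ((N ^ j) x) = (N' ^ j) (T x) := by
  induction j generalizing x with
  | zero => simp
  | succ j ih => rw [pow_succ, pow_succ, Module.End.mul_apply, Module.End.mul_apply, ih, hT]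

theorem chains_transport (h : Chains N d v) (T : V ≃ₗ[F] V') (hT : ∀ x, T (N x) = N' (T x)) :
    Chains N' d fun k => T (v k) := by
  refine ⟨h.pos, fun _ => trivial, fun k => by rw [← pow_transport T hT, h.kill, map_zero], ?_, ?_⟩
  · simp only [← pow_transport T hT]
    exact h.li.map' T.toLinearMap T.ker
  · simp only [← pow_transport T hT]
    rw [show (fun i : Idx d => T ((N ^ (i.2 : ℕ)) (v i.1))) = T ∘ fun i : Idx d => (N ^ (i.2 : ℕ)) (v i.1)
      from rfl, Set.range_comp, ← LinearEquiv.coe_coe, Submodule.span_image,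
      top_le_iff.1 h.span, Submodule.map_top, LinearEquiv.range]

theorem topMat_transport (T : V ≃ₗ[F] V') (hT : ∀ x, T (N x) = N' (T x))
    (hB : ∀ x y, B' (T x) (T y) = B x y) :
    topMat (σ := RingHom.id F) B' N' d (fun k => T (v k)) = topMat (σ := RingHom.id F) B N d v := by
  ext k l
  simp only [topMat, Matrix.of_apply, ← pow_transport T hT, hB]

theorem sq_transport (T : V ≃ₗ[F] V') (hT : ∀ x, T (N x) = N' (T x))
    (hB : ∀ x y, B' (T x) (T y) = B x y) {i a : ℕ} (h : Sq B N i a) : Sq B' N' i a := by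
  obtain ⟨w, hw, hne, hsq⟩ := h
  refine ⟨fun k => T (w k), fun k => by rw [← pow_transport T hT, hw, map_zero], ?_, ?_⟩ <;>
    simp only [← pow_transport T hT, hB]
  · exact hne
  · exact hsq

end transport

variable [Fintype F]

theorem isSquare_mul_nonsquare_iff {α x : F} (hα : ¬ IsSquare α) (hx : x ≠ 0) :
    IsSquare (α * x) ↔ ¬ IsSquare x := by
  refine ⟨fun h hsq => hα ?_, fun h => Cfsg.Agent.Forms.Bases.isSquare_mul_of_not hα h⟩
  obtain ⟨s, hs⟩ := hsq
  obtain ⟨u, hu⟩ := h
  have hs0 : s ≠ 0 := fun e => hx (by rw [hs, e, mul_zero])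
  exact ⟨u / s, by field_simp; linear_combination hu - α * hs⟩

set_option maxHeartbeats 1600000 in
/-- an invariant alternating form of a Jordan type with prescribed signs -/
theorem exists_form_signs (h2 : (2 : F) ≠ 0) {t : ℕ} (d : Fin t → ℕ) (hd : ∀ k, 1 ≤ d k)
    (hodd : ∀ k, Odd (d k) → Even (Finset.univ.filter fun l => d l = d k).card) (σ : ℕ → Bool) :
    ∃ G : Matrix (Idx d) (Idx d) F, G.det ≠ 0 ∧ Gᵀ = -G ∧
      (Cfsg.jordanTypeMatrix d F)ᵀ * G * Cfsg.jordanTypeMatrix d F = G ∧
      ∃ v, Chains (Matrix.toLin' (Cfsg.jordanTypeMatrix d F - 1)) d v ∧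
        ∀ i, Even i → (∃ k, d k = i) →
          (IsSquare (block (Matrix.toBilin' G) (Matrix.toLin' (Cfsg.jordanTypeMatrix d F - 1)) d v i).det
            ↔ σ i = true) := by
  classical
  obtain ⟨α, hα⟩ := FiniteField.exists_nonsquare (F := F) fun hr => h2 <| by
    have := ringChar.Nat.cast_ringChar (R := F)
    rwa [hr, Nat.cast_ofNat] at this
  obtain ⟨π₀, hπ₀, hπ₀d, hπ₀fix⟩ := JordanFormsExist.exists_involution d
  have hinvol : Function.Involutive fun k => if Even (d k) then k else π₀ k := fun k => by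
    by_cases he : Even (d k)
    · simp [he]
    · simp [he, hπ₀d, hπ₀]
  let π : Fin t ≃ Fin t := hinvol.toPerm
  have hπap : ∀ k, π k = if Even (d k) then k else π₀ k := fun k => rfl
  have hπd : ∀ k, d (π k) = d k := fun k => by
    rw [hπap]; split_ifs
    · rfl
    · exact hπ₀d k
  obtain ⟨K, hKdet, hKinv, hKsupp⟩ := JordanFormsExist.exists_formPi d (-1 : F) (by norm_num) Even π
    hinvol hπd (fun i hi => JordanFormsExist.exists_altBlock i hi) (fun k hk => by
      by_contra he
      rw [hπap, if_neg he] at hk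
      exact hπ₀fix k hk (hodd k (Nat.not_even_iff_odd.1 he)))
  set G := K + (-1 : F) • Kᵀ with hG
  have hGskew : Gᵀ = -G := by
    rw [hG, Matrix.transpose_add, Matrix.transpose_smul, Matrix.transpose_transpose]
    simp only [neg_smul, one_smul]
    abel
  set J := Cfsg.jordanTypeMatrix d F with hJ
  set N := Matrix.toLin' (J - 1) with hN
  set v := fun k => Pi.basisFun F (Idx d) ⟨k, ⟨0, hd k⟩⟩ with hv
  have hch : Chains N d v := JordanFormsExist.jordan_shift hd
  have hnd := (LinearMap.BilinForm.nondegenerate_toBilin'_iff_det_ne_zero.2 hKdet).1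
  have hinv := JordanFormsExist.inv_toBilin _ _ hKinv
  let val : ℕ → F := fun i =>
    if (IsSquare (block (Matrix.toBilin' G) N d v i).det ↔ σ i = true) then 1 else α
  let c : Fin t → F := fun k => if Even (d k) ∧ ∀ l, d l = d k → k ≤ l then val (d k) else 1
  have hval : ∀ i, val i ≠ 0 := fun i => by
    simp only [val]; split_ifs
    · exact one_ne_zero
    · exact fun h0 => hα (h0 ▸ IsSquare.zero)
  have hc0 : ∀ k, c k ≠ 0 := fun k => by
    simp only [c]; split_ifs
    · exact hval _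
    · exact one_ne_zero
  have hcπ : ∀ k, c (π k) = c k := fun k => by
    by_cases he : Even (d k)
    · rw [hπap, if_pos he]
    · have he' : ¬ Even (d (π k)) := by rwa [hπd]
      simp only [c, he, he', false_and, if_false]
  set D : Matrix (Idx d) (Idx d) F := Matrix.diagonal fun a => c a.1 with hD
  have hDJ : D * J = J * D := by
    ext ⟨k, a⟩ ⟨l, b⟩
    rw [hD, Matrix.diagonal_mul, Matrix.mul_diagonal]
    by_cases hkl : k = l
    · subst hkl; ring
    · rw [hJ, Cfsg.jordanTypeMatrix, Matrix.blockDiagonal'_apply_ne _ _ _ hkl]; ring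
  have hDJt : D * Jᵀ = Jᵀ * D := by
    have := congrArg Matrix.transpose hDJ
    rw [Matrix.transpose_mul, Matrix.transpose_mul, hD, Matrix.diagonal_transpose] at this
    rw [hD]
    exact this.symm
  have hDN : ∀ x, Matrix.toLin' D (N x) = N (Matrix.toLin' D x) := fun x => by
    rw [hN, Matrix.toLin'_apply, Matrix.toLin'_apply, Matrix.toLin'_apply, Matrix.toLin'_apply,
      Matrix.mulVec_mulVec, Matrix.mulVec_mulVec, mul_sub, sub_mul, hDJ, mul_one, one_mul]
  have hDv : ∀ k, Matrix.toLin' D (v k) = c k • v k := fun k => by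
    simp only [hv, Matrix.toLin'_apply, Pi.basisFun_apply, hD]
    ext a
    rw [Matrix.mulVec_diagonal, Pi.smul_apply, smul_eq_mul]
    by_cases ha : a = ⟨k, ⟨0, hd k⟩⟩
    · subst ha; rfl
    · simp [Pi.single_eq_of_ne ha]
  have hdet : (D * G).det ≠ 0 := by
    rw [Matrix.det_mul, hD, Matrix.det_diagonal]
    exact mul_ne_zero (Finset.prod_ne_zero_iff.2 fun a _ => hc0 _) hKdet
  refine ⟨D * G, hdet, ?_, ?_, v, hch, fun i hi hne => ?_⟩
  · ext a b
    rw [Matrix.transpose_apply, Matrix.neg_apply, hD, Matrix.diagonal_mul, Matrix.diagonal_mul]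
    have hab : G b a = -G a b := congrFun (congrFun hGskew a) b
    by_cases h0 : G a b = 0
    · rw [hab, h0]; simp
    · rw [hKsupp a b h0, hcπ, hab]; ring
  · rw [← mul_assoc, ← hDJt, mul_assoc, mul_assoc, ← mul_assoc Jᵀ, hKinv]
  · have htop : ∀ k l, topMat (σ := RingHom.id F) (Matrix.toBilin' (D * G)) N d v k l =
        c k * topMat (σ := RingHom.id F) (Matrix.toBilin' G) N d v k l := by
      intro k l
      simp only [topMat, Matrix.of_apply]
      have hx : D *ᵥ ((N ^ (d k - 1)) (v k)) = c k • (N ^ (d k - 1)) (v k) := by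
        rw [← Matrix.toLin'_apply, comm_pow hDN, hDv, map_smul]
      rw [Matrix.toBilin'_apply', Matrix.toBilin'_apply', ← Matrix.mulVec_mulVec, dotProduct_mulVec,
        ← Matrix.mulVec_transpose D, hD, Matrix.diagonal_transpose, ← hD, hx, smul_dotProduct,
        smul_eq_mul]
    obtain ⟨k₀, hk₀, hmin⟩ : ∃ k₀, d k₀ = i ∧ ∀ l, d l = i → k₀ ≤ l := by
      obtain ⟨k, hk⟩ := hne
      have hs : (Finset.univ.filter fun l => d l = i).Nonempty := ⟨k, by simp [hk]⟩
      refine ⟨_, (Finset.mem_filter.1 (Finset.min'_mem _ hs)).2, fun l hl => Finset.min'_le _ l ?_⟩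
      simp [hl]
    have hblock : (block (Matrix.toBilin' (D * G)) N d v i).det =
        val i * (block (Matrix.toBilin' G) N d v i).det := by
      rw [show block (Matrix.toBilin' (D * G)) N d v i =
        Matrix.diagonal (fun k : {k : Fin t // d k = i} => c k.1) * block (Matrix.toBilin' G) N d v i from
          Matrix.ext fun k l => by
            rw [Matrix.diagonal_mul]
            exact htop k.1 l.1, Matrix.det_mul, Matrix.det_diagonal]
      congr 1
      rw [Finset.prod_eq_single (⟨k₀, hk₀⟩ : {k : Fin t // d k = i})]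
      · simp only [c]
        rw [if_pos ⟨hk₀ ▸ hi, fun l hl => hmin l (hl.trans hk₀)⟩, hk₀]
      · rintro ⟨k, hk⟩ _ hkne
        simp only [c]
        rw [if_neg]
        rintro ⟨-, hmk⟩
        exact hkne (Subtype.ext (le_antisymm (hmk k₀ (hk₀.trans hk.symm)) (hmin k hk)))
      · simp
    have hne0 : (block (Matrix.toBilin' G) N d v i).det ≠ 0 := det_block_ne_zero hch hinv hnd i
    rw [hblock]
    simp only [val]
    split_ifs with hh
    · rw [one_mul]; exact hh
    · rw [isSquare_mul_nonsquare_iff hα hne0]; tauto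

/-! ### The symplectic group -/

variable {m : ℕ}

/-- the nilpotent part -/
noncomputable def nilPart (g : Matrix.symplecticGroup (Fin m) F) :
    Module.End F (Fin m ⊕ Fin m → F) :=
  Matrix.toLin' ((g : Matrix (Fin m ⊕ Fin m) (Fin m ⊕ Fin m) F) - 1)

/-- partition and signs of an element -/
def Spec (μ : Nat.Partition (2 * m)) (σ : ℕ → Bool) (g : Matrix.symplecticGroup (Fin m) F) : Prop :=
  (∃ (t : ℕ) (d : Fin t → ℕ) (v : Fin t → Fin m ⊕ Fin m → F),
    Chains (nilPart g) d v ∧ parts d = μ.parts) ∧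
  ∀ i ∈ μ.parts, Even i →
    (Sq (Matrix.toBilin' (Matrix.J (Fin m) F)) (nilPart g) i (μ.parts.count i) ↔ σ i = true)

theorem inv_nilPart (g : Matrix.symplecticGroup (Fin m) F) :
    Inv (σ := RingHom.id F) (Matrix.toBilin' (Matrix.J (Fin m) F)) (nilPart g) :=
  JordanFormsExist.inv_toBilin _ _ (SymplecticGroup.mem_iff'.1 g.2)

theorem card_block {t : ℕ} (d : Fin t → ℕ) (i : ℕ) :
    Fintype.card {k : Fin t // d k = i} = (parts d).count i := by
  rw [count_parts, Fintype.card_subtype]

theorem exists_spec (h2 : (2 : F) ≠ 0) (μ : Nat.Partition (2 * m))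
    (hodd : ∀ j, Odd j → Even (μ.parts.count j)) (σ : ℕ → Bool) :
    ∃ g : Matrix.symplecticGroup (Fin m) F, Spec μ σ g := by
  classical
  let L := μ.parts.toList
  let d : Fin L.length → ℕ := fun k => L.get k
  have hd : ∀ k, 1 ≤ d k := fun k => μ.parts_pos (Multiset.mem_toList.1 (List.get_mem L k))
  have hparts : parts d = μ.parts := by
    rw [parts, Fin.univ_val_map, List.ofFn_get, Multiset.coe_toList]
  obtain ⟨G, hG, hskew, hinvJ, v, hch, hsgn⟩ := exists_form_signs h2 d hd
    (fun k hk => by rw [← count_parts, hparts]; exact hodd _ hk) σ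
  have hcard : Fintype.card (Idx d) = Fintype.card (Fin m ⊕ Fin m) := by
    rw [Fintype.card_sigma, Fintype.card_sum, Fintype.card_fin]
    simp only [Fintype.card_fin]
    rw [← two_mul, ← μ.parts_sum, ← hparts]
    rfl
  let e : Idx d ≃ (Fin m ⊕ Fin m) := Fintype.equivOfCardEq hcard
  set J0 := Matrix.reindex e e (Cfsg.jordanTypeMatrix d F) with hJ0
  set G₁ := G.submatrix e.symm e.symm with hG₁
  have hG₁det : G₁.det ≠ 0 := by rw [hG₁, Matrix.det_submatrix_equiv_self]; exact hG
  have hG₁inv : J0ᵀ * G₁ * J0 = G₁ := by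
    rw [hJ0, hG₁, Matrix.reindex_apply, Matrix.transpose_submatrix, Matrix.submatrix_mul_equiv,
      Matrix.submatrix_mul_equiv, hinvJ]
  have hskew₁ : G₁ᵀ = -G₁ := by
    rw [hG₁, Matrix.transpose_submatrix, hskew]
    rfl
  have halt : (Matrix.toBilin' G₁).IsAlt := fun x => by
    have hh : Matrix.toBilin' G₁ x x = -Matrix.toBilin' G₁ x x := by
      rw [Matrix.toBilin'_apply']
      conv_lhs => rw [dotProduct_mulVec, ← Matrix.mulVec_transpose, hskew₁, Matrix.neg_mulVec,
        neg_dotProduct, dotProduct_comm]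
    exact (mul_eq_zero.1 (show (2 : F) * Matrix.toBilin' G₁ x x = 0 by linear_combination hh)).resolve_left h2
  obtain ⟨b, hb1, hb2, hb3⟩ := Cfsg.Agent.Forms.Bases.exists_sympBasis (Matrix.toBilin' G₁) halt
    (LinearMap.BilinForm.nondegenerate_toBilin'_iff_det_ne_zero.2 hG₁det) (m := m)
    (by rw [Module.finrank_pi, Fintype.card_sum, Fintype.card_fin]; omega)
  let P : Matrix (Fin m ⊕ Fin m) (Fin m ⊕ Fin m) F := Matrix.of fun x a => b a.swap x
  have hP : ∀ a, P *ᵥ Pi.single a 1 = b a.swap := fun a => by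
    rw [Matrix.mulVec_single_one]; rfl
  have hPG : Pᵀ * G₁ * P = Matrix.J (Fin m) F := by
    ext a c
    rw [← Matrix.toBilin'_single (Pᵀ * G₁ * P) a c, JordanFormsType.toBilin_congr, hP, hP]
    rcases a with i | i <;> rcases c with j | j <;>
      simp only [Sum.swap_inl, Sum.swap_inr, hb1, hb2, hb3, Matrix.J, Matrix.fromBlocks_apply₁₁,
        Matrix.fromBlocks_apply₁₂, Matrix.fromBlocks_apply₂₁, Matrix.fromBlocks_apply₂₂,
        Matrix.zero_apply, Matrix.neg_apply, Matrix.one_apply]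
    rw [← LinearMap.BilinForm.IsAlt.neg_eq halt, hb1]
    simp only [eq_comm]
  have hPdet : IsUnit P.det := isUnit_iff_ne_zero.2 fun h0 =>
    (Matrix.isUnit_det_J (Fin m) F).ne_zero (by rw [← hPG, Matrix.det_mul, h0, mul_zero])
  have hPA : P * (P⁻¹ * J0 * P) = J0 * P := by
    rw [← mul_assoc, ← mul_assoc, Matrix.mul_nonsing_inv _ hPdet, one_mul]
  have hmem : P⁻¹ * J0 * P ∈ Matrix.symplecticGroup (Fin m) F := by
    rw [SymplecticGroup.mem_iff']
    conv_lhs => rw [← hPG]
    calc (P⁻¹ * J0 * P)ᵀ * (Pᵀ * G₁ * P) * (P⁻¹ * J0 * P)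
        = (P * (P⁻¹ * J0 * P))ᵀ * G₁ * (P * (P⁻¹ * J0 * P)) := by
          simp only [Matrix.transpose_mul, mul_assoc]
      _ = Pᵀ * (J0ᵀ * G₁ * J0) * P := by rw [hPA]; simp only [Matrix.transpose_mul, mul_assoc]
      _ = _ := by rw [hG₁inv, hPG]
  let T : (Idx d → F) ≃ₗ[F] (Fin m ⊕ Fin m → F) :=
    (LinearEquiv.funCongrLeft F F e.symm).trans
      (show (Fin m ⊕ Fin m → F) ≃ₗ[F] (Fin m ⊕ Fin m → F) from LinearEquiv.ofLinearMap (Matrix.toLin' P⁻¹) (Matrix.toLin' P)
        (by rw [← Matrix.toLin'_mul, Matrix.nonsing_inv_mul _ hPdet, Matrix.toLin'_one])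
        (by rw [← Matrix.toLin'_mul, Matrix.mul_nonsing_inv _ hPdet, Matrix.toLin'_one]))
  have hTap : ∀ x, T x = P⁻¹ *ᵥ (x ∘ e.symm) := fun x => rfl
  set g : Matrix.symplecticGroup (Fin m) F := ⟨P⁻¹ * J0 * P, hmem⟩ with hg
  have hT : ∀ x, T (Matrix.toLin' (Cfsg.jordanTypeMatrix d F - 1) x) = nilPart g (T x) := fun x => by
    rw [nilPart, hTap, hTap, Matrix.toLin'_apply, Matrix.toLin'_apply, hg]
    simp only [Matrix.sub_mulVec, Matrix.one_mulVec]
    rw [show (Cfsg.jordanTypeMatrix d F *ᵥ x - x) ∘ e.symm =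
      J0 *ᵥ (x ∘ e.symm) - x ∘ e.symm by
        rw [hJ0, Matrix.reindex_apply, Matrix.submatrix_mulVec_equiv]
        funext y; simp [Function.comp_def], Matrix.mulVec_sub, Matrix.mulVec_mulVec,
      Matrix.mulVec_mulVec, mul_assoc (P⁻¹ * J0), Matrix.mul_nonsing_inv _ hPdet, mul_one]
  have hBT : ∀ x y, Matrix.toBilin' (Matrix.J (Fin m) F) (T x) (T y) = Matrix.toBilin' G x y := fun x y => by
    rw [← hPG, JordanFormsType.toBilin_congr, hTap, hTap, Matrix.mulVec_mulVec, Matrix.mulVec_mulVec,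
      Matrix.mul_nonsing_inv _ hPdet, Matrix.one_mulVec, Matrix.one_mulVec, hG₁,
      JordanFormsType.toBilin_reindex]
    simp [Function.comp_def]
  have hch' := chains_transport hch T hT
  refine ⟨g, ⟨_, d, _, hch', hparts⟩, fun i hi hev => ?_⟩
  have hne : ∃ k, d k = i := by
    rw [← hparts] at hi
    obtain ⟨k, -, hk⟩ := Multiset.mem_map.1 hi
    exact ⟨k, hk⟩
  have hi0 : 0 < i := μ.parts_pos hi
  rw [← hparts, ← card_block, sq_iff hch' (inv_nilPart g)
    (LinearMap.BilinForm.nondegenerate_toBilin'_iff_det_ne_zero.2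
      (Matrix.isUnit_det_J (Fin m) F).ne_zero).1 hi0, ← hsgn i hev hne]
  rw [show block (Matrix.toBilin' (Matrix.J (Fin m) F)) (nilPart g) d (fun k => T (v k)) i =
    block (Matrix.toBilin' G) (Matrix.toLin' (Cfsg.jordanTypeMatrix d F - 1)) d v i from
      Matrix.ext fun k l => congrFun (congrFun (topMat_transport T hT hBT) k.1) l.1]

open scoped _root_.Classical in
/-- the index set -/
noncomputable def Good (p m : ℕ) : Finset (Nat.Partition (2 * m)) :=
  Finset.univ.filter (fun μ : Nat.Partition (2 * m) =>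
    (∀ a ∈ μ.parts, a ≤ p) ∧ ∀ j : ℕ, Odd j → Even (μ.parts.count j))

variable {p : ℕ} [Fact p.Prime] [CharP F p]

theorem pow_eq_one_iff_nilPart (g : Matrix.symplecticGroup (Fin m) F) :
    g ^ p = 1 ↔ nilPart g ^ p = 0 := by
  have hpoly : (Polynomial.X - 1 : Polynomial F) ^ p = Polynomial.X ^ p - 1 := by
    rw [sub_pow_char, one_pow]
  have h1 := congrArg (Polynomial.aeval (g : Matrix (Fin m ⊕ Fin m) (Fin m ⊕ Fin m) F)) hpoly
  simp only [map_pow, map_sub, Polynomial.aeval_X, map_one] at h1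
  rw [nilPart, ← Matrix.toLin'_pow, LinearEquiv.map_eq_zero_iff, h1, sub_eq_zero]
  exact ⟨fun h => congrArg Subtype.val h, fun h => Subtype.ext h⟩

theorem natCard_pow_classes (hp : p ≠ 2) :
    Nat.card {C : ConjClasses ↥(Matrix.symplecticGroup (Fin m) F) //
        ∃ g : Matrix.symplecticGroup (Fin m) F, g ^ p = 1 ∧ ConjClasses.mk g = C} =
      ∑ μ ∈ Good p m, 2 ^ ((μ.parts.toFinset.filter (fun j : ℕ => Even j)).card) := by
  classical
  have h2 : (2 : F) ≠ 0 := Ring.two_ne_zero fun hr => hp ((ringChar.eq F p).symm.trans hr)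
  let S : Nat.Partition (2 * m) → Finset ℕ := fun μ => μ.parts.toFinset.filter (fun j : ℕ => Even j)
  let X := (μ : Good p m) × (S μ.1 → Bool)
  let ext : X → ℕ → Bool := fun x i => if h : i ∈ S x.1.1 then x.2 ⟨i, h⟩ else false
  choose g hg using fun x : X =>
    exists_spec (F := F) h2 x.1.1 (Finset.mem_filter.1 x.1.2).2.2 (ext x)
  have hpow : ∀ x, g x ^ p = 1 := fun x => by
    obtain ⟨t, d, v, hch, hparts⟩ := (hg x).1
    rw [pow_eq_one_iff_nilPart, hch.pow_eq_zero_iff]
    intro k
    exact (Finset.mem_filter.1 x.1.2).2.1 _ (hparts ▸ Multiset.mem_map_of_mem d (Finset.mem_univ k))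
  have hJdet := (Matrix.isUnit_det_J (Fin m) F).ne_zero
  have hnd := (LinearMap.BilinForm.nondegenerate_toBilin'_iff_det_ne_zero.2 hJdet).1
  have hcard : Nat.card X = ∑ μ ∈ Good p m, 2 ^ (S μ).card := by
    rw [Nat.card_sigma, ← Finset.sum_coe_sort (Good p m) (fun μ => 2 ^ (S μ).card)]
    refine Finset.sum_congr rfl fun μ _ => ?_
    rw [Nat.card_fun, Nat.card_eq_fintype_card, Nat.card_eq_fintype_card, Fintype.card_bool,
      Fintype.card_coe]
  rw [← hcard]
  refine (Nat.card_eq_of_bijective (fun x : X => (⟨ConjClasses.mk (g x), g x, hpow x, rfl⟩ :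
    {C : ConjClasses ↥(Matrix.symplecticGroup (Fin m) F) //
      ∃ g : Matrix.symplecticGroup (Fin m) F, g ^ p = 1 ∧ ConjClasses.mk g = C})) ⟨?_, ?_⟩).symm
  · intro x y h
    obtain ⟨c, hc⟩ := isConj_iff.1 (ConjClasses.mk_eq_mk_iff_isConj.1 (congrArg Subtype.val h))
    have hcm : (c : Matrix (Fin m ⊕ Fin m) (Fin m ⊕ Fin m) F) * g x =
        g y * (c : Matrix (Fin m ⊕ Fin m) (Fin m ⊕ Fin m) F) :=
      congrArg Subtype.val (mul_inv_eq_iff_eq_mul.1 hc)
    let T : (Fin m ⊕ Fin m → F) ≃ₗ[F] (Fin m ⊕ Fin m → F) :=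
      LinearEquiv.ofLinearMap (Matrix.toLin' (c : Matrix (Fin m ⊕ Fin m) (Fin m ⊕ Fin m) F))
        (Matrix.toLin' ((c⁻¹ : Matrix.symplecticGroup (Fin m) F) : Matrix (Fin m ⊕ Fin m) (Fin m ⊕ Fin m) F))
        (by rw [← Matrix.toLin'_mul, ← Submonoid.coe_mul, mul_inv_cancel]; exact Matrix.toLin'_one)
        (by rw [← Matrix.toLin'_mul, ← Submonoid.coe_mul, inv_mul_cancel]; exact Matrix.toLin'_one)
    have hTap : ∀ v, T v = (c : Matrix (Fin m ⊕ Fin m) (Fin m ⊕ Fin m) F) *ᵥ v := fun v => rfl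
    have hT : ∀ v, T (nilPart (g x) v) = nilPart (g y) (T v) := fun v => by
      rw [nilPart, nilPart, hTap, hTap, Matrix.toLin'_apply, Matrix.toLin'_apply, Matrix.mulVec_mulVec,
        Matrix.mulVec_mulVec, mul_sub, sub_mul, mul_one, one_mul, hcm]
    have hB : ∀ u v, Matrix.toBilin' (Matrix.J (Fin m) F) (T u) (T v) =
        Matrix.toBilin' (Matrix.J (Fin m) F) u v := fun u v => by
      rw [hTap, hTap, ← JordanFormsType.toBilin_congr, SymplecticGroup.mem_iff'.1 c.2]
    have hT' : ∀ v, T.symm (nilPart (g y) v) = nilPart (g x) (T.symm v) := fun v => by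
      apply T.injective
      rw [T.apply_symm_apply, hT, T.apply_symm_apply]
    have hB' : ∀ u v, Matrix.toBilin' (Matrix.J (Fin m) F) (T.symm u) (T.symm v) =
        Matrix.toBilin' (Matrix.J (Fin m) F) u v := fun u v => by
      rw [← hB, T.apply_symm_apply, T.apply_symm_apply]
    obtain ⟨⟨t, d, v, hv, hdp⟩, hsx⟩ := hg x
    obtain ⟨⟨t', d', v', hv', hdp'⟩, hsy⟩ := hg y
    have hμ : x.1 = y.1 := Subtype.ext (Nat.Partition.ext
      (hdp.symm.trans (((chains_transport hv T hT).parts_eq hv').trans hdp')))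
    obtain ⟨μ, f⟩ := x
    obtain ⟨μ', f'⟩ := y
    simp only at hμ
    subst hμ
    refine Sigma.ext rfl (heq_of_eq (funext fun i => ?_))
    have hi := Finset.mem_filter.1 i.2
    have h1 := hsx i (Multiset.mem_toFinset.1 hi.1) hi.2
    have h2' := hsy i (Multiset.mem_toFinset.1 hi.1) hi.2
    simp only [ext, dif_pos i.2, Subtype.coe_eta] at h1 h2'
    exact Bool.eq_iff_iff.2 (h1.symm.trans (Iff.trans
      ⟨sq_transport T hT hB, sq_transport T.symm hT' hB'⟩ h2'))
  · rintro ⟨_, z, hz, rfl⟩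
    have hnil : IsNilpotent (nilPart z) := ⟨p, (pow_eq_one_iff_nilPart z).1 hz⟩
    obtain ⟨t, d, v, hv⟩ := exists_chains (nilPart z) hnil
    let μ : Nat.Partition (2 * m) :=
      { parts := parts d
        parts_pos := by
          intro a ha
          obtain ⟨k, -, rfl⟩ := Multiset.mem_map.1 ha
          exact hv.pos k
        parts_sum := by
          have := hv.finrank_eq
          rw [Module.finrank_pi, Fintype.card_sum, Fintype.card_fin, ← two_mul] at this
          exact this.symm }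
    have hμ : μ ∈ Good p m := by
      refine Finset.mem_filter.2 ⟨Finset.mem_univ _, fun a ha => ?_, fun j hj => ?_⟩
      · change a ∈ parts d at ha
        obtain ⟨k, -, rfl⟩ := Multiset.mem_map.1 ha
        exact (hv.pow_eq_zero_iff p).1 ((pow_eq_one_iff_nilPart z).1 hz) k
      · show Even ((parts d).count j)
        rw [count_parts]
        refine even_count_of_alt hv (inv_nilPart z) hnd (fun u => ?_) hj
        have hh : Matrix.toBilin' (Matrix.J (Fin m) F) u u = -Matrix.toBilin' (Matrix.J (Fin m) F) u u := by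
          rw [Matrix.toBilin'_apply']
          conv_lhs => rw [dotProduct_mulVec, ← Matrix.mulVec_transpose, Matrix.J_transpose,
            Matrix.neg_mulVec, neg_dotProduct, dotProduct_comm]
        exact (mul_eq_zero.1 (show (2 : F) * Matrix.toBilin' (Matrix.J (Fin m) F) u u = 0 by
          linear_combination hh)).resolve_left h2
    let x : X := ⟨⟨μ, hμ⟩, fun i =>
      decide (Sq (Matrix.toBilin' (Matrix.J (Fin m) F)) (nilPart z) (i : ℕ) (μ.parts.count (i : ℕ)))⟩
    refine ⟨x, Subtype.ext (ConjClasses.mk_eq_mk_iff_isConj.2 ?_)⟩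
    obtain ⟨⟨t', d', v', hv', hdp'⟩, hsx⟩ := hg x
    have hfib : ∀ a, Nat.card {k // d k = a} = Nat.card {k // d' k = a} := fun a => by
      rw [Nat.card_eq_fintype_card, Nat.card_eq_fintype_card, card_block, card_block, hdp']
    let σ : Fin t ≃ Fin t' := Equiv.ofFiberEquiv (f := d) (g := d') fun a =>
      (Finite.card_eq.1 (hfib a)).some
    have hσ : ∀ k, d' (σ k) = d k := fun k => Equiv.ofFiberEquiv_map _ k
    have hv'' := chains_reindex hv' σ hσ
    have hskew : (Matrix.J (Fin m) F)ᵀ = -Matrix.J (Fin m) F := Matrix.J_transpose _ _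
    obtain ⟨M, hM, hMU⟩ := exists_conj_of_signs (p := p) hp hJdet hskew
      (SymplecticGroup.mem_iff'.1 (g x).2) (SymplecticGroup.mem_iff'.1 z.2) hv'' hv (fun i hi hne => by
        obtain ⟨k, hk⟩ := hne
        have hmem : i ∈ μ.parts := by
          show i ∈ parts d
          rw [← hk]
          exact Multiset.mem_map_of_mem d (Finset.mem_univ k)
        have hiS : i ∈ S μ := Finset.mem_filter.2 ⟨Multiset.mem_toFinset.2 hmem, hi⟩
        have hi0 : 0 < i := μ.parts_pos hmem
        have h1 := hsx i hmem hi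
        simp only [ext, x, dif_pos hiS, decide_eq_true_iff] at h1
        have e : μ.parts.count i = Fintype.card {k : Fin t // d k = i} := (card_block d i).symm
        rw [e] at h1
        refine ((sq_iff hv'' (inv_nilPart (g x)) hnd hi0).symm.trans h1).trans ?_
        exact sq_iff hv (inv_nilPart z) hnd hi0)
    refine isConj_iff.2 ⟨⟨M, SymplecticGroup.mem_iff'.2 hM⟩, mul_inv_eq_iff_eq_mul.2 (Subtype.ext ?_)⟩
    exact hMU

end Cfsg.Agent.Classical.JordanSpClasses
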