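import Mathlib
import Cfsg.Agent.Lib.Classical.UnitaryConj
import Cfsg.Agent.Lib.Classical.UnitaryFrames
import Cfsg.Agent.Lib.Classical.JordanCentralizer
import Cfsg.Agent.Lib.Classical.JordanForms

/-!
# Centralizers of unipotent elements of the unitary groups

The invertible commutant of `u` maps onto its hermitian invertible elements by `M ↦ M* M`, the
fibres being the cosets of the centralizer of `u` in the unitary group. The hermitian elements are
counted through the map to the diagonal blocks, whose kernel is stable under the adjoint.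
-/

set_option autoImplicit false
set_option linter.unusedSectionVars false

namespace Cfsg.Agent.Classical.JordanUnitaryCentralizer

open Module Matrix
open Cfsg.Agent.Forms
open Cfsg.Agent.Classical.JordanChains

variable {K : Type*} [Field K] [Fintype K] {q n : ℕ} (hK : Fintype.card K = q ^ 2)

/-- the conjugate transpose -/
def cj {ι κ : Type*} (X : Matrix ι κ K) : Matrix κ ι K := (X.map (HermStd.qHom hK))ᵀ

theorem cj_mul {ι : Type*} [Fintype ι] (X Y : Matrix ι ι K) :
    cj hK (X * Y) = cj hK Y * cj hK X := by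
  rw [cj, cj, cj, Matrix.map_mul, Matrix.transpose_mul]

theorem cj_cj {ι κ : Type*} (X : Matrix ι κ K) : cj hK (cj hK X) = X := by
  ext i j
  simp only [cj, Matrix.transpose_apply, Matrix.map_apply, HermStd.qHom_qHom]

theorem det_cj {ι : Type*} [Fintype ι] [DecidableEq ι] (X : Matrix ι ι K) :
    (cj hK X).det = HermStd.qHom hK X.det := by
  rw [cj, Matrix.det_transpose, RingHom.map_det]
  rfl

/-- number of invertible hermitian matrices -/
noncomputable def numHerm (m : ℕ) : ℕ :=
  Nat.card {X : Matrix (Fin m) (Fin m) K // cj hK X = X ∧ X.det ≠ 0}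

/-- **Orbit count.** -/
theorem centralizer_mul (u : ↥(Cfsg.GU n K q)) :
    Nat.card ↥(Subgroup.centralizer ({u} : Set ↥(Cfsg.GU n K q))) *
      Nat.card {H : Matrix (Fin n) (Fin n) K //
        (H * ((u : GL (Fin n) K) : Matrix (Fin n) (Fin n) K) =
          ((u : GL (Fin n) K) : Matrix (Fin n) (Fin n) K) * H) ∧ cj hK H = H ∧ H.det ≠ 0} =
      Nat.card {M : Matrix (Fin n) (Fin n) K //
        (M * ((u : GL (Fin n) K) : Matrix (Fin n) (Fin n) K) =
          ((u : GL (Fin n) K) : Matrix (Fin n) (Fin n) K) * M) ∧ M.det ≠ 0} := by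
  classical
  set U : Matrix (Fin n) (Fin n) K := ((u : GL (Fin n) K) : Matrix (Fin n) (Fin n) K) with hU
  set adj := UnitaryConj.adj (n := n) hK with hadj
  have hcj : ∀ X : Matrix (Fin n) (Fin n) K, cj hK X = adj X := fun X => rfl
  have hu := (UnitaryConj.mem_GU_iff hK (u : GL (Fin n) K)).1 u.2
  rw [← hU, ← hadj] at hu
  have hadjcomm : ∀ M, M * U = U * M → adj M * U = U * adj M := by
    intro M hM
    have h1 : adj U * adj M = adj M * adj U := by
      rw [hadj, ← UnitaryConj.adj_mul, ← UnitaryConj.adj_mul, hM]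
    calc adj M * U = U * adj U * adj M * U := by rw [mul_eq_one_comm.1 hu, one_mul]
      _ = U * (adj M * adj U) * U := by rw [mul_assoc U, h1]
      _ = U * adj M := by rw [mul_assoc, mul_assoc, hu, mul_one]
  have hroot : ∀ H : {H : Matrix (Fin n) (Fin n) K //
      (H * U = U * H) ∧ cj hK H = H ∧ H.det ≠ 0}, ∃ Y : (Matrix (Fin n) (Fin n) K)ˣ,
      (Y : Matrix (Fin n) (Fin n) K) * U = U * Y ∧ adj (Y : Matrix (Fin n) (Fin n) K) * Y = H.1 := by
    intro H
    obtain ⟨Y, hY, hYH⟩ := UnitaryConj.exists_root hK H.1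
      ((Matrix.isUnit_iff_isUnit_det _).2 (isUnit_iff_ne_zero.2 H.2.2.2)) H.2.2.1
    exact ⟨Y, (hY U (show U * H.1 = H.1 * U from H.2.1.symm)).eq.symm, hYH⟩
  choose Y hYc hYH using hroot
  let Hof : {M : Matrix (Fin n) (Fin n) K // (M * U = U * M) ∧ M.det ≠ 0} →
      {H : Matrix (Fin n) (Fin n) K // (H * U = U * H) ∧ cj hK H = H ∧ H.det ≠ 0} := fun M =>
    ⟨adj M.1 * M.1, by
      rw [mul_assoc, M.2.1, ← mul_assoc, hadjcomm _ M.2.1, mul_assoc],
      by rw [hcj, hadj, UnitaryConj.adj_mul, UnitaryConj.adj_adj],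
      by
        rw [Matrix.det_mul, ← hcj, det_cj]
        exact mul_ne_zero ((map_ne_zero_iff _ (RingHom.injective _)).2 M.2.2) M.2.2⟩
  have hfib : ∀ H, Nat.card {M // Hof M = H} =
      Nat.card ↥(Subgroup.centralizer ({u} : Set ↥(Cfsg.GU n K q))) := by
    intro H
    have hYdet : (Y H : Matrix (Fin n) (Fin n) K).det ≠ 0 :=
      ((Matrix.isUnit_iff_isUnit_det _).1 (Y H).isUnit).ne_zero
    refine (Nat.card_eq_of_bijective (fun c : ↥(Subgroup.centralizer ({u} : Set ↥(Cfsg.GU n K q))) =>
      (⟨⟨(((c : ↥(Cfsg.GU n K q)) : GL (Fin n) K) :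
      Matrix (Fin n) (Fin n) K) * Y H, ?_, ?_⟩, ?_⟩ : {M // Hof M = H})) ⟨?_, ?_⟩).symm
    · have hc : (((c : ↥(Cfsg.GU n K q)) : GL (Fin n) K) : Matrix (Fin n) (Fin n) K) * U =
          U * (((c : ↥(Cfsg.GU n K q)) : GL (Fin n) K) : Matrix (Fin n) (Fin n) K) :=
        congrArg (fun x : ↥(Cfsg.GU n K q) => ((x : GL (Fin n) K) : Matrix (Fin n) (Fin n) K))
          (Subgroup.mem_centralizer_singleton_iff.1 c.2)
      rw [mul_assoc, hYc, ← mul_assoc, hc, mul_assoc]
    · rw [Matrix.det_mul]
      exact mul_ne_zero (((c : ↥(Cfsg.GU n K q)) : GL (Fin n) K).det_ne_zero) hYdet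
    · refine Subtype.ext ?_
      show adj ((((c : ↥(Cfsg.GU n K q)) : GL (Fin n) K) : Matrix (Fin n) (Fin n) K) * Y H) *
        ((((c : ↥(Cfsg.GU n K q)) : GL (Fin n) K) : Matrix (Fin n) (Fin n) K) * Y H) = H.1
      rw [hadj, UnitaryConj.adj_mul, mul_assoc, ← mul_assoc (UnitaryConj.adj hK
        (((c : ↥(Cfsg.GU n K q)) : GL (Fin n) K) : Matrix (Fin n) (Fin n) K)),
        (UnitaryConj.mem_GU_iff hK _).1 (c : ↥(Cfsg.GU n K q)).2, one_mul]
      exact hYH H
    · intro c c' e
      have e1 := congrArg (fun M => M.1.1) e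
      exact Subtype.ext (Subtype.ext (Units.ext ((Y H).isUnit.mul_right_cancel e1)))
    · rintro ⟨⟨M, hMU, hMd⟩, hMH⟩
      have hMH' : adj M * M = H.1 := congrArg Subtype.val hMH
      set Mu : GL (Fin n) K := Matrix.GeneralLinearGroup.mkOfDetNeZero M hMd with hMu
      let Yu : GL (Fin n) K := Y H
      have hMv : (Mu : Matrix (Fin n) (Fin n) K) = M := rfl
      have hmem : Mu * Yu⁻¹ ∈ Cfsg.GU n K q := by
        rw [UnitaryConj.mem_GU_iff hK, Units.val_mul, UnitaryConj.adj_mul, hMv, ← hadj, mul_assoc,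
          ← mul_assoc _ M, hMH', ← hYH H, mul_assoc, Units.mul_inv, mul_one, hadj,
          ← UnitaryConj.adj_mul, Units.mul_inv, UnitaryConj.adj_one]
      have hY : Commute Yu (u : GL (Fin n) K) := Units.ext (hYc H)
      have hM : Commute Mu (u : GL (Fin n) K) := Units.ext hMU
      refine ⟨⟨⟨Mu * Yu⁻¹, hmem⟩, Subgroup.mem_centralizer_singleton_iff.2
        (Subtype.ext (hM.mul_left hY.inv_left).eq)⟩, Subtype.ext (Subtype.ext ?_)⟩
      show ((Mu * Yu⁻¹ : GL (Fin n) K) : Matrix (Fin n) (Fin n) K) * (Yu : GL (Fin n) K) = M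
      rw [← Units.val_mul, inv_mul_cancel_right, hMv]
  rw [mul_comm, ← Nat.card_congr (Equiv.sigmaFiberEquiv Hof), Nat.card_sigma,
    Finset.sum_congr rfl fun H _ => hfib H, Finset.sum_const, Finset.card_univ, smul_eq_mul,
    Nat.card_eq_fintype_card]

/-- the order of the unitary group against the hermitian matrices -/
theorem natCard_GU_mul (m : ℕ) :
    Nat.card ↥(Cfsg.GU m K q) * numHerm hK m =
      ∏ i : Fin m, (Fintype.card K ^ m - Fintype.card K ^ (i : ℕ)) := by
  have h := centralizer_mul hK (1 : ↥(Cfsg.GU m K q))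
  simp only [OneMemClass.coe_one, Units.val_one, mul_one, one_mul, true_and] at h
  rw [natCard_det_ne_zero, Fintype.card_fin] at h
  rw [← h, numHerm]
  congr 1
  rw [Subgroup.centralizer_eq_top_iff_subset.2 (by simp [Subgroup.mem_center_iff]),
    Subgroup.card_top]

theorem numHerm_pos (m : ℕ) : 0 < numHerm hK m := by
  have : Nonempty {X : Matrix (Fin m) (Fin m) K // cj hK X = X ∧ X.det ≠ 0} :=
    ⟨⟨1, by rw [cj, Matrix.map_one _ (map_zero _) (map_one _), Matrix.transpose_one], by simp⟩⟩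
  exact Nat.card_pos

/-- twisted hermitian matrices are as many as hermitian ones -/
theorem natCard_twisted {ι : Type*} [Fintype ι] [DecidableEq ι] (S : Matrix ι ι K) (hS : S.det ≠ 0)
    (c : K) (hc : c ≠ 0) (hSs : cj hK S = (c / c ^ q) • S) :
    Nat.card {L : Matrix ι ι K // cj hK (S⁻¹ * L * S) = L ∧ L.det ≠ 0} =
      numHerm hK (Fintype.card ι) := by
  classical
  set e := Fintype.equivFin ι
  have hSu : IsUnit S.det := isUnit_iff_ne_zero.2 hS
  have hcq : c ^ q ≠ 0 := pow_ne_zero _ hc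
  have hsmul : ∀ (a : K) (X : Matrix ι ι K), cj hK (a • X) = a ^ q • cj hK X := fun a X => by
    ext i j
    simp only [cj, Matrix.transpose_apply, Matrix.map_apply, Matrix.smul_apply, smul_eq_mul,
      map_mul, HermStd.qHom_apply]
  have hre : ∀ X : Matrix ι ι K, cj hK (Matrix.reindex e e X) = Matrix.reindex e e (cj hK X) :=
    fun X => rfl
  -- `L ↦ c • L S`
  let φ : Matrix ι ι K ≃ Matrix (Fin (Fintype.card ι)) (Fin (Fintype.card ι)) K :=
    { toFun := fun L => Matrix.reindex e e (c • (L * S))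
      invFun := fun X => (c⁻¹ • (Matrix.reindex e e).symm X) * S⁻¹
      left_inv := fun L => by
        show (c⁻¹ • (Matrix.reindex e e).symm (Matrix.reindex e e (c • (L * S)))) * S⁻¹ = L
        rw [Equiv.symm_apply_apply, inv_smul_smul₀ hc, mul_assoc, Matrix.mul_nonsing_inv _ hSu, mul_one]
      right_inv := fun X => by
        show Matrix.reindex e e (c • ((c⁻¹ • (Matrix.reindex e e).symm X) * S⁻¹ * S)) = X
        rw [mul_assoc, Matrix.nonsing_inv_mul _ hSu, mul_one, smul_inv_smul₀ hc,
          Equiv.apply_symm_apply] }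
  refine Nat.card_congr (Equiv.subtypeEquiv φ fun L => ?_)
  show _ ↔ cj hK (Matrix.reindex e e (c • (L * S))) = Matrix.reindex e e (c • (L * S)) ∧ _
  rw [hre, (Matrix.reindex e e).injective.eq_iff]
  have hone : cj hK (1 : Matrix ι ι K) = 1 := by
    rw [cj, Matrix.map_one _ (map_zero _) (map_one _), Matrix.transpose_one]
  have h1 : cj hK S⁻¹ * cj hK S = 1 := by rw [← cj_mul, Matrix.mul_nonsing_inv _ hSu, hone]
  have h2 : cj hK S * cj hK S⁻¹ = 1 := by rw [← cj_mul, Matrix.nonsing_inv_mul _ hSu, hone]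
  have hleft : cj hK (S⁻¹ * L * S) = cj hK S * (cj hK L * cj hK S⁻¹) := by rw [cj_mul, cj_mul]
  have hright : cj hK (c • (L * S)) = c • (S * cj hK L) := by
    rw [hsmul, cj_mul, hSs, smul_mul_assoc, smul_smul, mul_div_cancel₀ _ hcq]
  refine and_congr ?_ ?_
  · rw [hleft, hright, (smul_right_injective (Matrix ι ι K) hc).eq_iff]
    constructor
    · intro h
      conv_rhs => rw [← h]
      rw [hSs, mul_smul_comm] at h1
      rw [hSs]
      calc S * cj hK L = S * cj hK L * ((c / c ^ q) • (cj hK S⁻¹ * S)) := by rw [h1, mul_one]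
        _ = _ := by simp only [mul_assoc, mul_smul_comm, smul_mul_assoc]
    · intro h
      calc cj hK S * (cj hK L * cj hK S⁻¹) = (c / c ^ q) • (S * cj hK L) * cj hK S⁻¹ := by
            rw [hSs]; simp only [mul_assoc, smul_mul_assoc]
        _ = L * (cj hK S * cj hK S⁻¹) := by
            rw [h, hSs]; simp only [mul_assoc, mul_smul_comm, smul_mul_assoc]
        _ = L := by rw [h2, mul_one]
  · show _ ↔ (Matrix.reindex e e (c • (L * S))).det ≠ 0
    rw [Matrix.det_reindex_self, Matrix.det_smul, Matrix.det_mul]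
    simp [hc, hS]

variable {t : ℕ} {d : Fin t → ℕ} {v : Fin t → Fin n → K}

/-- the size of a chain, bounded -/
def sz (d : Fin t → ℕ) (k : Fin t) : Fin (Finset.univ.sup d + 1) :=
  ⟨d k, Nat.lt_succ_of_le (Finset.le_sup (f := d) (Finset.mem_univ k))⟩

/-- the diagonal blocks -/
abbrev Blk (K : Type*) (d : Fin t → ℕ) : Type _ :=
  (a : Fin (Finset.univ.sup d + 1)) → Matrix {k : Fin t // sz d k = a} {k : Fin t // sz d k = a} K

theorem card_fibre (d : Fin t → ℕ) (a : Fin (Finset.univ.sup d + 1)) :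
    Fintype.card {k : Fin t // sz d k = a} = (Finset.univ.filter fun k => d k = (a : ℕ)).card := by
  rw [Fintype.card_subtype]
  congr 1
  ext k
  simp [sz, Fin.ext_iff]

theorem natCard_preimage {A P : Type*} [AddGroup A] [AddGroup P] (f : A →+ P)
    (hf : Function.Surjective f) (S : P → Prop) :
    Nat.card {a // S (f a)} = Nat.card f.ker * Nat.card {p // S p} := by
  choose s hs using hf
  rw [← Nat.card_prod]
  exact Nat.card_congr
    { toFun := fun a => (⟨a.1 - s (f a.1), by rw [AddMonoidHom.mem_ker, map_sub, hs, sub_self]⟩,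
        ⟨f a.1, a.2⟩)
      invFun := fun x => ⟨x.1.1 + s x.2.1, by
        rw [map_add, AddMonoidHom.mem_ker.1 x.1.2, zero_add, hs]; exact x.2.2⟩
      left_inv := fun a => Subtype.ext (sub_add_cancel _ _)
      right_inv := fun x => by
        have : f (x.1.1 + s x.2.1) = x.2.1 := by
          rw [map_add, AddMonoidHom.mem_ker.1 x.1.2, zero_add, hs]
        refine Prod.ext (Subtype.ext ?_) (Subtype.ext this)
        show x.1.1 + s x.2.1 - s (f (x.1.1 + s x.2.1)) = x.1.1
        rw [this, add_sub_cancel_right] }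

include hK in
theorem exists_moved : ∃ x : K, x ^ q ≠ x := by
  by_contra h
  push Not at h
  exact HermStd.qHom_ne_id hK (RingHom.ext h)

include hK in
theorem exists_trace_one : ∃ c : K, c + c ^ q = 1 := by
  obtain ⟨x, hx⟩ : ∃ x : K, x + x ^ q ≠ 0 := by
    by_contra h
    push Not at h
    obtain ⟨x, hx⟩ := exists_moved hK
    have h1 := h 1
    rw [one_pow, ← two_mul, mul_one] at h1
    exact hx (by linear_combination h x - x * h1)
  refine ⟨x / (x + x ^ q), ?_⟩
  rw [div_pow, show (x + x ^ q) ^ q = x + x ^ q by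
    rw [← HermStd.qHom_apply hK, map_add, HermStd.qHom_apply, HermStd.qHom_apply,
      HermStd.pow_q_q hK, add_comm],
    ← add_div, div_self hx]

include hK in
theorem exists_sign (i : ℕ) : ∃ c : K, c ≠ 0 ∧ c / c ^ q = (-1) ^ i := by
  rcases neg_one_pow_eq_or K i with h | h
  · exact ⟨1, one_ne_zero, by rw [h]; simp⟩
  · obtain ⟨x, hx⟩ := exists_moved hK
    refine ⟨x - x ^ q, sub_ne_zero.2 fun e => hx e.symm, ?_⟩
    rw [h, show (x - x ^ q) ^ q = -(x - x ^ q) by
      rw [← HermStd.qHom_apply hK, map_sub, HermStd.qHom_apply, HermStd.qHom_apply,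
        HermStd.pow_q_q hK]; ring,
      div_neg, div_self (sub_ne_zero.2 fun e => hx e.symm)]

include hK in
/-- **The centralizer of a unipotent element.** -/
theorem natCard_centralizer (u : ↥(Cfsg.GU n K q))
    (h : Chains (nil (u : GL (Fin n) K)) d v) :
    Nat.card ↥(Subgroup.centralizer ({u} : Set ↥(Cfsg.GU n K q))) =
      q ^ ((∑ k, ∑ l, min (d l) (d k)) -
          ∑ i ∈ Finset.range (Finset.univ.sup d + 1),
            (Finset.univ.filter fun k => d k = i).card ^ 2) *
        ∏ i ∈ Finset.range (Finset.univ.sup d + 1),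
          Nat.card ↥(Cfsg.GU (Finset.univ.filter fun k => d k = i).card K q) := by
  classical
  set U : Matrix (Fin n) (Fin n) K := ((u : GL (Fin n) K) : Matrix (Fin n) (Fin n) K) with hU
  set γ := (∑ k, ∑ l, min (d l) (d k)) - ∑ i ∈ Finset.range (Finset.univ.sup d + 1),
    (Finset.univ.filter fun k => d k = i).card ^ 2 with hγ
  obtain ⟨N, hN⟩ : ∃ N, N = nil (u : GL (Fin n) K) := ⟨_, rfl⟩
  rw [← hN] at h
  have hNM : N = Matrix.toLin' (U - 1) := hN
  have hcomm : ∀ M : Matrix (Fin n) (Fin n) K, M * U = U * M ↔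
      ∀ x, Matrix.toLin' M (N x) = N (Matrix.toLin' M x) := by
    intro M
    simp only [hNM, Matrix.toLin'_apply, Matrix.mulVec_mulVec, ← Matrix.ext_iff_mulVec, mul_sub,
      sub_mul, mul_one, one_mul, sub_left_inj]
  -- the commutant
  let A : AddSubgroup (Matrix (Fin n) (Fin n) K) :=
    { carrier := {M | M * U = U * M}
      add_mem' := fun {a b} (ha : a * U = U * a) (hb : b * U = U * b) => by
        show (a + b) * U = U * (a + b)
        rw [add_mul, mul_add, ha, hb]
      zero_mem' := by simp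
      neg_mem' := fun {a} (ha : a * U = U * a) => by
        show -a * U = U * -a
        rw [neg_mul, mul_neg, ha] }
  have hu := (UnitaryConj.mem_GU_iff hK (u : GL (Fin n) K)).1 u.2
  rw [← hU] at hu
  have hadjA : ∀ M, M * U = U * M → cj hK M * U = U * cj hK M := by
    intro M hM
    have h1 : cj hK U * cj hK M = cj hK M * cj hK U := by rw [← cj_mul, ← cj_mul, hM]
    have hu' : cj hK U * U = 1 := hu
    calc cj hK M * U = U * cj hK U * cj hK M * U := by rw [mul_eq_one_comm.1 hu', one_mul]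
      _ = U * (cj hK M * cj hK U) * U := by rw [mul_assoc U, h1]
      _ = U * cj hK M := by rw [mul_assoc, mul_assoc, hu', mul_one]
  have hsmulA : ∀ (a : K) M, M * U = U * M → (a • M) * U = U * (a • M) := fun a M hM => by
    rw [smul_mul_assoc, mul_smul_comm, hM]
  -- the blocks
  let ψ : Matrix (Fin n) (Fin n) K →ₗ[K] Blk K d :=
    { toFun := fun M a => Matrix.of fun k l => h.basis.repr (M *ᵥ v k.1) ⟨l.1, ⟨0, h.pos _⟩⟩
      map_add' := fun M M' => by
        funext a; ext k l
        simp [Matrix.add_mulVec]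
      map_smul' := fun c M => by
        funext a; ext k l
        simp [Matrix.smul_mulVec] }
  let ψA : A →+ Blk K d := ψ.toAddMonoidHom.comp A.subtype
  let coords : ∀ M, M * U = U * M → Coord d → K := fun M hM =>
    commutantEquiv h ⟨Matrix.toLin' M, (hcomm M).1 hM⟩
  have hext : ∀ M (hM : M * U = U * M), extend h (coords M hM) = Matrix.toLin' M := fun M hM =>
    congrArg Subtype.val ((commutantEquiv h).symm_apply_apply ⟨Matrix.toLin' M, (hcomm M).1 hM⟩)
  have hcoord : ∀ M (hM : M * U = U * M) (p : Coord d),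
      coords M hM p = h.basis.repr (M *ᵥ v p.1.1) p.1.2 := fun M hM p => rfl
  have hblock : ∀ M (hM : M * U = U * M) a,
      (leadMat h.pos (coords M hM)).toSquareBlock (sz d) a = ψ M a := by
    intro M hM a
    ext ⟨k, hk⟩ ⟨l, hl⟩
    have hkl : d k = d l := congrArg Fin.val (hk.trans hl.symm)
    rw [Matrix.toSquareBlock_def, Matrix.of_apply, leadMat, Matrix.of_apply, dif_pos hkl.le, hcoord M hM]
    show h.basis.repr (M *ᵥ v k) ⟨l, _⟩ = h.basis.repr (M *ᵥ v k) ⟨l, ⟨0, h.pos _⟩⟩
    have e : ∀ (j : ℕ) (hj : j < d l), j = 0 → (⟨l, ⟨j, hj⟩⟩ : Idx d) = ⟨l, ⟨0, h.pos l⟩⟩ := by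
      rintro _ _ rfl; rfl
    rw [e _ _ (show d l - d k = 0 by omega)]
  have hunit : ∀ M, M * U = U * M → (M.det ≠ 0 ↔ ∀ a, (ψ M a).det ≠ 0) := by
    intro M hM
    have htri : (leadMat h.pos (coords M hM)).BlockTriangular (sz d) := fun i j hij => by
      rw [leadMat, Matrix.of_apply, dif_neg]
      exact not_le.2 hij
    have hinj : Function.Injective (Matrix.toLin' M) ↔ M.det ≠ 0 := by
      rw [← isUnit_iff_ne_zero, ← Matrix.isUnit_iff_isUnit_det, ← Matrix.mulVec_injective_iff_isUnit]
      rfl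
    rw [← hinj, ← hext M hM, injective_iff_det h, htri.det_fintype, Finset.prod_ne_zero_iff]
    simp only [Finset.mem_univ, forall_const, hblock]
  have hsurj : Function.Surjective ψA := by
    intro P
    let c : Coord d → K := fun p =>
      if hp : d p.1.1 = d p.1.2.1 then P (sz d p.1.1) ⟨p.1.1, rfl⟩ ⟨p.1.2.1, Fin.ext hp.symm⟩ else 0
    have hc : LinearMap.toMatrix' (extend h c) * U = U * LinearMap.toMatrix' (extend h c) :=
      (hcomm _).2 fun x => by simp only [Matrix.toLin'_toMatrix']; exact extend_comm h c x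
    refine ⟨⟨LinearMap.toMatrix' (extend h c), hc⟩, funext fun a => ?_⟩
    ext ⟨k, hk⟩ ⟨l, hl⟩
    have hkl : d k = d l := congrArg Fin.val (hk.trans hl.symm)
    have e : coords _ hc = c := by
      show commutantEquiv h _ = c
      exact (commutantEquiv h).apply_eq_iff_eq_symm_apply.2 (Subtype.ext (Matrix.toLin'_toMatrix' _))
    show h.basis.repr (LinearMap.toMatrix' (extend h c) *ᵥ v k) ⟨l, ⟨0, h.pos _⟩⟩ = P a ⟨k, hk⟩ ⟨l, hl⟩
    rw [← hcoord _ hc ⟨(k, ⟨l, ⟨0, h.pos _⟩⟩), by simp only; omega⟩, e]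
    simp only [c, dif_pos hkl]
    subst hk
    rfl
  -- the kernel
  have hunits : Nat.card {M : Matrix (Fin n) (Fin n) K // M * U = U * M ∧ M.det ≠ 0} =
      Nat.card ψA.ker * Nat.card {P : Blk K d // ∀ a, (P a).det ≠ 0} := by
    rw [← natCard_preimage ψA hsurj fun P => ∀ a, (P a).det ≠ 0]
    exact Nat.card_congr
      { toFun := fun M => ⟨⟨M.1, M.2.1⟩, (hunit _ M.2.1).1 M.2.2⟩
        invFun := fun M => ⟨M.1.1, M.1.2, (hunit _ M.1.2).2 M.2⟩
        left_inv := fun M => rfl
        right_inv := fun M => rfl }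
  have hblk : Nat.card {P : Blk K d // ∀ a, (P a).det ≠ 0} =
      ∏ i ∈ Finset.range (Finset.univ.sup d + 1),
        ∏ j : Fin ((Finset.univ.filter fun k => d k = i).card),
          (Fintype.card K ^ (Finset.univ.filter fun k => d k = i).card - Fintype.card K ^ (j : ℕ)) := by
    rw [Nat.card_congr (Equiv.subtypePiEquivPi (p := fun a (X : Matrix {k : Fin t // sz d k = a}
      {k : Fin t // sz d k = a} K) => X.det ≠ 0)), Nat.card_pi,
      ← Fin.prod_univ_eq_prod_range (fun i => ∏ j : Fin ((Finset.univ.filter fun k => d k = i).card),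
        (Fintype.card K ^ (Finset.univ.filter fun k => d k = i).card - Fintype.card K ^ (j : ℕ)))]
    refine Finset.prod_congr rfl fun a _ => ?_
    rw [natCard_det_ne_zero, card_fibre]
  have hker : Nat.card ψA.ker = Fintype.card K ^ γ := by
    have h1 : Nat.card {M : Matrix (Fin n) (Fin n) K // M * U = U * M ∧ M.det ≠ 0} =
        Nat.card {g : (Fin n → K) →ₗ[K] (Fin n → K) //
          (∀ x, g (N x) = N (g x)) ∧ Function.Injective g} :=
      Nat.card_congr (Equiv.subtypeEquiv Matrix.toLin'.toEquiv fun M => by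
        refine and_congr (hcomm M) ?_
        rw [← isUnit_iff_ne_zero, ← Matrix.isUnit_iff_isUnit_det, ← Matrix.mulVec_injective_iff_isUnit]
        rfl)
    rw [hunits, natCard_commutant_units h, ← hblk] at h1
    refine Nat.eq_of_mul_eq_mul_right ?_ h1
    have : Nonempty {P : Blk K d // ∀ a, (P a).det ≠ 0} := ⟨⟨fun _ => 1, fun a => by simp⟩⟩
    exact Nat.card_pos
  -- the adjoint
  let B : (Fin n → K) →ₗ[K] (Fin n → K) →ₛₗ[HermStd.qHom hK] K := (HermStd.hermB hK n).flip
  have hB : ∀ x y, B x y = x ⬝ᵥ (HermStd.qHom hK ∘ y) := fun x y => rfl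
  have hBinv : JordanForms.Inv B N := by
    intro x y
    rw [hNM]
    simp only [Matrix.toLin'_apply, Matrix.sub_mulVec, Matrix.one_mulVec, add_sub_cancel]
    exact (HermStd.mem_GU_iff (g := (u : GL (Fin n) K))).1 u.2 x y
  have hBnd : ∀ x, (∀ y, B x y = 0) → x = 0 := (HermStd.hermB_nondegenerate hK).2
  have hBsymm : ∀ x y, B y x = HermStd.qHom hK (B x y) := fun x y => by
    simp only [hB, dotProduct, Function.comp_apply, map_sum, map_mul, HermStd.qHom_qHom]
    exact Finset.sum_congr rfl fun i _ => mul_comm _ _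
  have hBadj : ∀ (M : Matrix (Fin n) (Fin n) K) x y, B (M *ᵥ x) y = B x (cj hK M *ᵥ y) := fun M x y => by
    rw [hB, hB, show HermStd.qHom hK ∘ (cj hK M *ᵥ y) =
      (cj hK M).map (HermStd.qHom hK) *ᵥ (HermStd.qHom hK ∘ y) from
        funext fun i => RingHom.map_mulVec _ _ _ i]
    have e : (cj hK M).map (HermStd.qHom hK) = Mᵀ := by
      ext i j
      simp only [cj, Matrix.map_apply, Matrix.transpose_apply, HermStd.qHom_qHom]
    rw [e, dotProduct_mulVec, Matrix.vecMul_transpose]
  obtain ⟨T, hT⟩ : ∃ T, T = JordanForms.topMat B N d v := ⟨_, rfl⟩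
  let S : (a : Fin (Finset.univ.sup d + 1)) →
      Matrix {k : Fin t // sz d k = a} {k : Fin t // sz d k = a} K := fun a =>
    Matrix.of fun k l => T k.1 l.1
  have hSdet : ∀ a, (S a).det ≠ 0 := fun a => by
    have h0 := JordanForms.det_block_ne_zero h hBinv hBnd (a : ℕ)
    rw [← hT] at h0
    rw [← Matrix.det_reindex_self (Equiv.subtypeEquivRight (p := fun k => sz d k = a)
      (q := fun k => d k = (a : ℕ)) fun k => by simp [sz, Fin.ext_iff])]
    exact h0
  have hSsymm : ∀ a, cj hK (S a) = ((-1 : K) ^ ((a : ℕ) - 1)) • S a := fun a => by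
    ext ⟨l, hl⟩ ⟨k, hk⟩
    have hlk : d l = d k := congrArg Fin.val (hl.trans hk.symm)
    have hka : d k = (a : ℕ) := congrArg Fin.val hk
    simp only [cj, S, hT, Matrix.transpose_apply, Matrix.map_apply, Matrix.of_apply,
      Matrix.smul_apply, smul_eq_mul]
    rw [JordanForms.topMat_swap h hBinv hlk, JordanForms.topMat, Matrix.of_apply, ← hBsymm, hka,
      ← mul_assoc, ← pow_add, ← two_mul, pow_mul, neg_one_sq, one_pow, one_mul]
  have hlead : ∀ M, M * U = U * M → ∀ a, ψ M a * S a = S a * cj hK (ψ (cj hK M) a) := by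
    intro M hM a
    ext ⟨k, hk⟩ ⟨l, hl⟩
    have hka : d k = (a : ℕ) := congrArg Fin.val hk
    have hla : d l = (a : ℕ) := congrArg Fin.val hl
    have hzero : ∀ m, d m < d l → B ((N ^ (d k - 1)) (v k)) (v m) = 0 := fun m hm => by
      have := JordanForms.topMat_triangular h hBinv (i := k) (j := m)
        (show d m < d k by omega)
      exact this
    have hM' := hadjA M hM
    -- pairing of the bottom vectors
    have e1 : B (M *ᵥ (N ^ (d k - 1)) (v k)) (v l) =
        ∑ m : {m : Fin t // sz d m = a}, ψ M a ⟨k, hk⟩ m * T m.1 l := by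
      rw [← Matrix.toLin'_apply M, ← hext M hM, extend_bottom, map_sum, LinearMap.sum_apply]
      simp only [map_smul, LinearMap.smul_apply, smul_eq_mul, ← hblock M hM,
        Matrix.toSquareBlock_def, Matrix.of_apply, hT, JordanForms.topMat]
      rw [← Finset.sum_subtype (Finset.univ.filter fun m => sz d m = a) (by simp)
        (fun m => leadMat h.pos (coords M hM) k m * B ((N ^ (d m - 1)) (v m)) (v l))]
      refine (Finset.sum_filter_of_ne fun m _ hne => ?_).symm
      have h1 : d k ≤ d m := by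
        by_contra hh
        exact hne (by rw [leadMat, Matrix.of_apply, dif_neg hh, zero_mul])
      have h2 : d m ≤ d l := by
        by_contra hh
        exact hne (mul_eq_zero_of_right _ (JordanForms.topMat_triangular h hBinv (i := m) (j := l)
          (show d l < d m by omega)))
      exact Fin.ext (by simp only [sz]; omega)
    have e2 : B ((N ^ (d k - 1)) (v k)) (cj hK M *ᵥ v l) =
        ∑ m : {m : Fin t // sz d m = a}, T k m.1 * HermStd.qHom hK (ψ (cj hK M) a ⟨l, hl⟩ m) := by
      conv_lhs => rw [← h.basis.sum_repr (cj hK M *ᵥ v l), Fintype.sum_sigma]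
      rw [map_sum]
      simp only [hT, JordanForms.topMat, Matrix.of_apply]
      have hinner : ∀ m : Fin t, B ((N ^ (d k - 1)) (v k))
          (∑ j : Fin (d m), h.basis.repr (cj hK M *ᵥ v l) ⟨m, j⟩ • h.basis ⟨m, j⟩) =
          B ((N ^ (d k - 1)) (v k)) (v m) *
            HermStd.qHom hK (h.basis.repr (cj hK M *ᵥ v l) ⟨m, ⟨0, h.pos m⟩⟩) := by
        intro m
        rw [map_sum, Finset.sum_eq_single ⟨0, h.pos m⟩]
        · rw [LinearMap.map_smulₛₗ, smul_eq_mul, mul_comm, h.basis_apply]
          simp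
        · intro j _ hj
          obtain ⟨j', hj'⟩ : ∃ j', (j : ℕ) = j' + 1 :=
            ⟨(j : ℕ) - 1, by have : (j : ℕ) ≠ 0 := fun e => hj (Fin.ext e); omega⟩
          rw [LinearMap.map_smulₛₗ, h.basis_apply, hj', pow_succ', Module.End.mul_apply,
            hBinv.zero_right (JordanForms.bottom_kill h k), smul_zero]
        · simp
      simp only [hinner]
      show _ = ∑ m : {m : Fin t // sz d m = a}, B ((N ^ (d k - 1)) (v k)) (v m.1) *
        HermStd.qHom hK (h.basis.repr (cj hK M *ᵥ v l) ⟨m.1, ⟨0, h.pos _⟩⟩)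
      rw [← Finset.sum_subtype (Finset.univ.filter fun m => sz d m = a) (by simp)
        (fun m => B ((N ^ (d k - 1)) (v k)) (v m) *
          HermStd.qHom hK (h.basis.repr (cj hK M *ᵥ v l) ⟨m, ⟨0, h.pos m⟩⟩))]
      refine (Finset.sum_filter_of_ne fun m _ hne => ?_).symm
      have h1 : d k ≤ d m := by
        by_contra hh
        exact hne (mul_eq_zero_of_left (hzero m (by omega)) _)
      have h2 : d m ≤ d l := by
        by_contra hh
        refine hne (mul_eq_zero_of_right _ ?_)
        rw [h.repr_eq_zero_of_pow (e := d l) (x := cj hK M *ᵥ v l) ?_ ⟨m, ⟨0, h.pos m⟩⟩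
          (by simp only; omega), map_zero]
        rw [← Matrix.toLin'_apply, ← comm_pow (fun x => (hcomm _).1 hM' x), h.kill, map_zero]
      exact Fin.ext (by simp only [sz]; omega)
    rw [Matrix.mul_apply, Matrix.mul_apply]
    simp only [S, Matrix.of_apply, cj, Matrix.transpose_apply, Matrix.map_apply]
    exact e1.symm.trans ((hBadj _ _ _).trans e2)
  let τ : Blk K d → Blk K d := fun P a => cj hK ((S a)⁻¹ * P a * S a)
  have hψτ : ∀ M, M * U = U * M → ψ (cj hK M) = τ (ψ M) := by
    intro M hM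
    funext a
    show _ = cj hK ((S a)⁻¹ * ψ M a * S a)
    rw [mul_assoc, hlead M hM a, ← mul_assoc, Matrix.nonsing_inv_mul _ (isUnit_iff_ne_zero.2 (hSdet a)),
      one_mul, cj_cj]
  -- fixed points
  let Fx : AddSubgroup A :=
    { carrier := {M | cj hK (M : Matrix (Fin n) (Fin n) K) = M}
      add_mem' := fun {a b} (ha : cj hK (a : Matrix (Fin n) (Fin n) K) = a)
          (hb : cj hK (b : Matrix (Fin n) (Fin n) K) = b) => by
        show cj hK ((a : Matrix (Fin n) (Fin n) K) + (b : Matrix (Fin n) (Fin n) K)) = _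
        rw [cj, Matrix.map_add _ (map_add _), Matrix.transpose_add]
        exact congrArg₂ (· + ·) ha hb
      zero_mem' := by
        show cj hK (0 : Matrix (Fin n) (Fin n) K) = 0
        rw [cj, Matrix.map_zero _ (map_zero _), Matrix.transpose_zero]
      neg_mem' := fun {a} (ha : cj hK (a : Matrix (Fin n) (Fin n) K) = a) => by
        show cj hK (-(a : Matrix (Fin n) (Fin n) K)) = -(a : Matrix (Fin n) (Fin n) K)
        conv_rhs => rw [← ha]
        ext i j
        simp only [cj, Matrix.transpose_apply, Matrix.map_apply, Matrix.neg_apply, map_neg] }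
  have hcjadd : ∀ X Y : Matrix (Fin n) (Fin n) K, cj hK (X + Y) = cj hK X + cj hK Y := fun X Y => by
    rw [cj, cj, cj, Matrix.map_add _ (map_add _), Matrix.transpose_add]
  have hcjsmul : ∀ (a : K) (X : Matrix (Fin n) (Fin n) K), cj hK (a • X) = a ^ q • cj hK X := fun a X => by
    ext i j
    simp only [cj, Matrix.transpose_apply, Matrix.map_apply, Matrix.smul_apply, smul_eq_mul,
      map_mul, HermStd.qHom_apply]
  obtain ⟨c₁, hc₁⟩ := exists_trace_one hK
  let Pfix : AddSubgroup (Blk K d) :=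
    { carrier := {P | τ P = P}
      add_mem' := fun {a b} (ha : τ a = a) (hb : τ b = b) => by
        funext i
        show cj hK ((S i)⁻¹ * (a i + b i) * S i) = a i + b i
        rw [mul_add, add_mul, cj, Matrix.map_add _ (map_add _), Matrix.transpose_add]
        exact congrArg₂ (· + ·) (congrFun ha i) (congrFun hb i)
      zero_mem' := by
        funext i
        show cj hK ((S i)⁻¹ * 0 * S i) = 0
        rw [mul_zero, zero_mul, cj, Matrix.map_zero _ (map_zero _), Matrix.transpose_zero]
      neg_mem' := fun {a} (ha : τ a = a) => by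
        funext i
        show cj hK ((S i)⁻¹ * -(a i) * S i) = -(a i)
        conv_rhs => rw [← congrFun ha i]
        ext x y
        simp only [τ, cj, Matrix.transpose_apply, Matrix.map_apply, Matrix.neg_apply, mul_neg,
          neg_mul, map_neg] }
  let ψfix : Fx →+ Pfix := AddMonoidHom.codRestrict (ψA.comp Fx.subtype) Pfix fun M => by
    show τ (ψ ((M : A) : Matrix (Fin n) (Fin n) K)) = ψ ((M : A) : Matrix (Fin n) (Fin n) K)
    rw [← hψτ _ (M : A).2, show cj hK ((M : A) : Matrix (Fin n) (Fin n) K) =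
      ((M : A) : Matrix (Fin n) (Fin n) K) from M.2]
  have hfixsurj : Function.Surjective ψfix := by
    rintro ⟨P, hP⟩
    obtain ⟨⟨M, hM⟩, hMP⟩ := hsurj P
    have hMP' : ψ M = P := hMP
    set M' := c₁ • M + cj hK (c₁ • M) with hM'
    have hM'A : M' * U = U * M' := by
      rw [hM', add_mul, mul_add, hsmulA _ _ hM, hadjA _ (hsmulA _ _ hM)]
    have hfix : cj hK M' = M' := by
      rw [hM', hcjadd, cj_cj, add_comm]
    refine ⟨⟨⟨M', hM'A⟩, hfix⟩, Subtype.ext ?_⟩
    show ψ M' = P
    rw [hM', hcjsmul, map_add, map_smul, map_smul, hψτ M hM, hMP', show τ P = P from hP, ← add_smul,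
      hc₁, one_smul]
  have hkersq : Nat.card ψA.ker = Nat.card ψfix.ker * Nat.card ψfix.ker := by
    obtain ⟨c, hc⟩ := exists_moved hK
    have hcne : c - c ^ q ≠ 0 := sub_ne_zero.2 fun e => hc e.symm
    rw [← Nat.card_prod]
    refine (Nat.card_eq_of_bijective (fun x : ψfix.ker × ψfix.ker =>
      (⟨⟨(((x.1 : Fx) : A) : Matrix (Fin n) (Fin n) K) + c • (((x.2 : Fx) : A) : Matrix (Fin n) (Fin n) K),
        ?_⟩, ?_⟩ : ψA.ker)) ⟨?_, ?_⟩).symm
    · show _ * U = U * _
      rw [add_mul, mul_add, ((x.1 : Fx) : A).2, hsmulA _ _ ((x.2 : Fx) : A).2]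
    · show ψ ((((x.1 : Fx) : A) : Matrix (Fin n) (Fin n) K) +
        c • (((x.2 : Fx) : A) : Matrix (Fin n) (Fin n) K)) = 0
      have h1 : ψ (((x.1 : Fx) : A) : Matrix (Fin n) (Fin n) K) = 0 := congrArg Subtype.val x.1.2
      have h2 : ψ (((x.2 : Fx) : A) : Matrix (Fin n) (Fin n) K) = 0 := congrArg Subtype.val x.2.2
      rw [map_add, map_smul, h1, h2, smul_zero, add_zero]
    · rintro ⟨a, b⟩ ⟨a', b'⟩ e
      have e1 : (((a : Fx) : A) : Matrix (Fin n) (Fin n) K) + c • (((b : Fx) : A) : Matrix (Fin n) (Fin n) K) =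
          (((a' : Fx) : A) : Matrix (Fin n) (Fin n) K) + c • (((b' : Fx) : A) : Matrix (Fin n) (Fin n) K) :=
        congrArg (fun M : ψA.ker => ((M : A) : Matrix (Fin n) (Fin n) K)) e
      have e2 := congrArg (cj hK) e1
      simp only [hcjadd, hcjsmul] at e2
      rw [show cj hK (((a : Fx) : A) : Matrix (Fin n) (Fin n) K) = _ from (a : Fx).2,
        show cj hK (((b : Fx) : A) : Matrix (Fin n) (Fin n) K) = _ from (b : Fx).2,
        show cj hK (((a' : Fx) : A) : Matrix (Fin n) (Fin n) K) = _ from (a' : Fx).2,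
        show cj hK (((b' : Fx) : A) : Matrix (Fin n) (Fin n) K) = _ from (b' : Fx).2] at e2
      have eb : (((b : Fx) : A) : Matrix (Fin n) (Fin n) K) = (((b' : Fx) : A) : Matrix (Fin n) (Fin n) K) := by
        refine smul_right_injective _ hcne ?_
        show (c - c ^ q) • _ = (c - c ^ q) • _
        rw [sub_smul, sub_smul]
        linear_combination (norm := abel) e1 - e2
      rw [eb, add_left_inj] at e1
      exact Prod.ext (Subtype.ext (Subtype.ext (Subtype.ext e1)))
        (Subtype.ext (Subtype.ext (Subtype.ext eb)))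
    · rintro ⟨⟨M, hM⟩, hMk⟩
      have hMk' : ψ M = 0 := hMk
      set b := (c - c ^ q)⁻¹ • (M - cj hK M) with hb
      set a := M - c • b with ha
      have hbA : b * U = U * b := hsmulA _ _ (by rw [sub_mul, mul_sub, hM, hadjA M hM])
      have haA : a * U = U * a := by rw [ha, sub_mul, mul_sub, hM, hsmulA _ _ hbA]
      have hcjsub : ∀ X Y : Matrix (Fin n) (Fin n) K, cj hK (X - Y) = cj hK X - cj hK Y := fun X Y => by
        rw [eq_sub_iff_add_eq, ← hcjadd, sub_add_cancel]
      have hbfix : cj hK b = b := by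
        rw [hb, hcjsmul, hcjsub, cj_cj, inv_pow, show (c - c ^ q) ^ q = -(c - c ^ q) by
          rw [← HermStd.qHom_apply hK, map_sub, HermStd.qHom_apply, HermStd.qHom_apply,
            HermStd.pow_q_q hK]; ring, inv_neg, neg_smul, ← smul_neg, neg_sub]
      have hafix : cj hK a = a := by
        have e : M - cj hK M = (c - c ^ q) • b := by
          rw [hb, smul_smul, mul_inv_cancel₀ hcne, one_smul]
        rw [ha, hcjsub, hcjsmul, hbfix]
        rw [sub_smul] at e
        linear_combination (norm := abel) -e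
      have hτ0 : ψ (cj hK M) = 0 := by
        rw [hψτ M hM, hMk']
        exact Pfix.zero_mem
      have hb0 : ψ b = 0 := by rw [hb, map_smul, map_sub, hMk', hτ0, sub_zero, smul_zero]
      have ha0 : ψ a = 0 := by rw [ha, map_sub, map_smul, hMk', hb0, smul_zero, sub_zero]
      exact ⟨(⟨⟨⟨a, haA⟩, hafix⟩, Subtype.ext ha0⟩, ⟨⟨⟨b, hbA⟩, hbfix⟩, Subtype.ext hb0⟩),
        Subtype.ext (Subtype.ext (sub_add_cancel M (c • b)))⟩
  have hherm : Nat.card {H : Matrix (Fin n) (Fin n) K //
      (H * U = U * H) ∧ cj hK H = H ∧ H.det ≠ 0} =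
      q ^ γ * ∏ i ∈ Finset.range (Finset.univ.sup d + 1),
        numHerm hK (Finset.univ.filter fun k => d k = i).card := by
    have hk : Nat.card ψfix.ker = q ^ γ := by
      rw [hker, hK, ← pow_mul, mul_comm, pow_mul, sq] at hkersq
      exact (Nat.mul_self_inj.1 hkersq).symm
    rw [← hk, ← Fin.prod_univ_eq_prod_range
      (fun i => numHerm hK (Finset.univ.filter fun k => d k = i).card)]
    have e : ∏ a : Fin (Finset.univ.sup d + 1),
        numHerm hK (Finset.univ.filter fun k => d k = (a : ℕ)).card =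
        Nat.card {P : Pfix // ∀ a, (P.1 a).det ≠ 0} := by
      rw [show (∏ a : Fin (Finset.univ.sup d + 1),
          numHerm hK (Finset.univ.filter fun k => d k = (a : ℕ)).card) =
          ∏ a, Nat.card {L // cj hK ((S a)⁻¹ * L * S a) = L ∧ L.det ≠ 0} from
        Finset.prod_congr rfl fun a _ => ?_, ← Nat.card_pi]
      · exact Nat.card_congr
          { toFun := fun L => ⟨⟨fun a => (L a).1, funext fun a => (L a).2.1⟩, fun a => (L a).2.2⟩
            invFun := fun P a => ⟨P.1.1 a, congrFun P.1.2 a, P.2 a⟩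
            left_inv := fun L => rfl
            right_inv := fun P => rfl }
      · obtain ⟨c, hc, hcs⟩ := exists_sign hK ((a : ℕ) - 1)
        rw [natCard_twisted hK (S a) (hSdet a) c hc (by rw [hcs]; exact hSsymm a), card_fibre]
    rw [e, ← natCard_preimage ψfix hfixsurj fun P => ∀ a, (P.1 a).det ≠ 0]
    exact Nat.card_congr
      { toFun := fun M => ⟨⟨⟨M.1, M.2.1⟩, M.2.2.1⟩, (hunit _ M.2.1).1 M.2.2.2⟩
        invFun := fun M => ⟨M.1.1.1, M.1.1.2, M.1.2, (hunit _ M.1.1.2).2 M.2⟩
        left_inv := fun M => rfl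
        right_inv := fun M => rfl }
  have hmain := centralizer_mul hK u
  rw [← hU, hherm, hunits, hblk, hker] at hmain
  simp only [← natCard_GU_mul hK, Finset.prod_mul_distrib] at hmain
  rw [hK, ← pow_mul, mul_comm 2 γ, pow_mul] at hmain
  have hpos : 0 < q ^ γ * ∏ i ∈ Finset.range (Finset.univ.sup d + 1),
      numHerm hK (Finset.univ.filter fun k => d k = i).card :=
    Nat.mul_pos (pow_pos (by have := HermStd.one_lt_q hK; omega) _)
      (Finset.prod_pos fun i _ => numHerm_pos hK _)
  refine Nat.eq_of_mul_eq_mul_right hpos ?_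
  rw [hmain]
  ring

end Cfsg.Agent.Classical.JordanUnitaryCentralizer
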