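import Mathlib

/-!
# Fixed bases of Frobenius-semilinear bijections (Lang's theorem for `GL_n`)
-/

set_option autoImplicit false

namespace Cfsg.Agent.Classical.LangGL

open Polynomial

variable {K V : Type*} [Field K] [IsAlgClosed K] [AddCommGroup V] [Module K V]

/-- The recursion polynomials. -/
noncomputable def chain (q : ℕ) (a : ℕ → K) : ℕ → K[X]
  | 0 => C (a 0) * X ^ q
  | i + 1 => chain q a i ^ q + C (a (i + 1)) * X ^ q

theorem dvd_chain {q : ℕ} (hq : q ≠ 0) (a : ℕ → K) : ∀ i, X ^ q ∣ chain q a i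
  | 0 => dvd_mul_left _ _
  | i + 1 => dvd_add (dvd_pow (dvd_chain hq a i) hq) (dvd_mul_left _ _)

theorem natDegree_chain {q : ℕ} (hq : 2 ≤ q) (a : ℕ → K) (ha : a 0 ≠ 0) :
    ∀ i, (chain q a i).natDegree = q ^ (i + 1)
  | 0 => by rw [chain, natDegree_C_mul_X_pow q _ ha, zero_add, pow_one]
  | i + 1 => by
    have h := natDegree_chain hq a ha i
    have h1 : ((chain q a i) ^ q).natDegree = q ^ (i + 1 + 1) := by
      rw [natDegree_pow, h, ← pow_succ']
    rw [chain, natDegree_add_eq_left_of_natDegree_lt, h1]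
    rw [h1]
    exact lt_of_le_of_lt (natDegree_C_mul_X_pow_le _ _)
      (lt_self_pow₀ (by omega) (by omega))

theorem exists_root_chain {q : ℕ} (hq : 2 ≤ q) (a : ℕ → K) (ha : a 0 ≠ 0) (k : ℕ) :
    ∃ y : K, y ≠ 0 ∧ (chain q a k).eval y = y := by
  obtain ⟨R, hR⟩ := dvd_chain (by omega : q ≠ 0) a k
  have hd := natDegree_chain hq a ha k
  have hR0 : R ≠ 0 := fun h => by
    rw [hR, h, mul_zero, natDegree_zero] at hd
    exact absurd hd.symm (pow_ne_zero _ (by omega))
  rw [hR, natDegree_mul (pow_ne_zero _ X_ne_zero) hR0, natDegree_X_pow] at hd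
  have hd2 : (X ^ (q - 1) * R).natDegree = q - 1 + R.natDegree := by
    rw [natDegree_mul (pow_ne_zero _ X_ne_zero) hR0, natDegree_X_pow]
  have hG : (X ^ (q - 1) * R - 1).natDegree ≠ 0 := by
    rw [natDegree_sub_eq_left_of_natDegree_lt (by rw [natDegree_one, hd2]; omega), hd2]
    omega
  obtain ⟨y, hy⟩ := IsAlgClosed.exists_root (X ^ (q - 1) * R - 1)
    (fun h => hG (natDegree_eq_of_degree_eq_some h))
  have hy' : y ^ (q - 1) * R.eval y = 1 := by
    simpa [IsRoot, sub_eq_zero] using hy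
  refine ⟨y, fun h => ?_, ?_⟩
  · rw [h, zero_pow (by omega), zero_mul] at hy'
    exact zero_ne_one hy'
  · rw [hR, eval_mul, eval_pow, eval_X, show q = q - 1 + 1 by omega, pow_succ]
    linear_combination y * hy'

theorem exists_sub_root {q : ℕ} (hq : 2 ≤ q) (c : K) : ∃ r : K, r ^ q - r = c := by
  have hlt : (X + C c : K[X]).natDegree < (X ^ q : K[X]).natDegree := by
    rw [natDegree_X_add_C, natDegree_X_pow]; omega
  have hd : (X ^ q - (X + C c) : K[X]).natDegree = q := by
    rw [natDegree_sub_eq_left_of_natDegree_lt hlt, natDegree_X_pow]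
  obtain ⟨r, hr⟩ := IsAlgClosed.exists_root (X ^ q - (X + C c) : K[X])
    (fun h => by rw [natDegree_eq_zero_iff_degree_le_zero.2 h.le] at hd; omega)
  refine ⟨r, ?_⟩
  simp [IsRoot] at hr
  linear_combination hr

variable {q : ℕ} (T : V →+ V) (hT : ∀ (c : K) (v : V), T (c • v) = c ^ q • T v)

/-- The span of the fixed vectors. -/
def fixSpan : Submodule K V := Submodule.span K {v | T v = v}

include hT

theorem exists_correct (hq : 2 ≤ q) {w : V} (hw : w ∈ fixSpan (K := K) T) :
    ∃ t ∈ fixSpan (K := K) T, T t - t = w := by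
  suffices h : ∀ c : K, ∃ t ∈ fixSpan (K := K) T, T t - t = c • w by simpa using h 1
  induction hw using Submodule.span_induction with
  | mem b hb =>
    intro c
    obtain ⟨r, hr⟩ := exists_sub_root hq c
    exact ⟨r • b, Submodule.smul_mem _ _ (Submodule.subset_span hb), by
      rw [hT, show T b = b from hb, ← sub_smul, hr]⟩
  | zero => exact fun c => ⟨0, zero_mem _, by simp⟩
  | add x y _ _ hx hy =>
    intro c
    obtain ⟨s, hs, hs'⟩ := hx c
    obtain ⟨t, ht, ht'⟩ := hy c
    exact ⟨s + t, add_mem hs ht, by rw [map_add, smul_add, ← hs', ← ht']; abel⟩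
  | smul a x _ hx =>
    intro c
    obtain ⟨t, ht, ht'⟩ := hx (c * a)
    exact ⟨t, ht, by rw [ht', mul_smul]⟩

theorem exists_preimage (hq : q ≠ 0) {w : V} (hw : w ∈ fixSpan (K := K) T) :
    ∃ t ∈ fixSpan (K := K) T, T t = w := by
  induction hw using Submodule.span_induction with
  | mem b hb => exact ⟨b, Submodule.subset_span hb, hb⟩
  | zero => exact ⟨0, zero_mem _, map_zero _⟩
  | add x y _ _ hx hy =>
    obtain ⟨s, hs, hs'⟩ := hx
    obtain ⟨t, ht, ht'⟩ := hy
    exact ⟨s + t, add_mem hs ht, by rw [map_add, hs', ht']⟩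
  | smul a x _ hx =>
    obtain ⟨t, ht, ht'⟩ := hx
    obtain ⟨r, hr⟩ := IsAlgClosed.exists_pow_nat_eq a (Nat.pos_of_ne_zero hq)
    exact ⟨r • t, Submodule.smul_mem _ _ ht, by rw [hT, hr, ht']⟩

/-- Fixed vectors of an injective semilinear map span the space. -/
theorem fixSpan_eq_top [FiniteDimensional K V] (hq : 2 ≤ q) (hinj : Function.Injective T) :
    fixSpan (K := K) T = ⊤ := by
  classical
  set W := fixSpan (K := K) T with hW
  by_contra hne
  obtain ⟨v, -, hv⟩ := SetLike.exists_of_lt (lt_top_iff_ne_top.2 hne)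
  let S : ℕ →o Submodule K V :=
    ⟨fun m => W ⊔ Submodule.span K (Set.range fun i : Fin m => T^[i] v), fun a b hab =>
      sup_le_sup_left (Submodule.span_mono (by
        rintro _ ⟨i, rfl⟩; exact ⟨⟨i, lt_of_lt_of_le i.2 hab⟩, rfl⟩)) _⟩
  have hS : ∀ {m : ℕ} {x : V}, x ∈ S m ↔
      ∃ w ∈ W, ∃ a : Fin m → K, w + ∑ i, a i • T^[i] v = x := fun {m x} => by
    show x ∈ W ⊔ _ ↔ _
    rw [Submodule.mem_sup]
    simp only [Submodule.mem_span_range_iff_exists_fun]
    exact ⟨fun ⟨w, hw, z, ⟨a, ha⟩, h⟩ => ⟨w, hw, a, ha ▸ h⟩,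
      fun ⟨w, hw, a, h⟩ => ⟨w, hw, _, ⟨a, rfl⟩, h⟩⟩
  have hex : ∃ m, T^[m] v ∈ S m := by
    obtain ⟨m, hm⟩ := monotone_stabilizes_iff_noetherian.2 (inferInstance : IsNoetherian K V) S
    exact ⟨m, hm (m + 1) (Nat.le_succ m) ▸
      Submodule.mem_sup_right (Submodule.subset_span ⟨Fin.last m, rfl⟩)⟩
  have hmin := fun m (h : m < Nat.find hex) => Nat.find_min hex h
  have hspec := Nat.find_spec hex
  generalize Nat.find hex = m at hmin hspec
  rcases m with _ | k
  · obtain ⟨w, hw, a, h⟩ := hS.1 hspec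
    simp at h
    exact hv (h ▸ hw)
  have hk : T^[k] v ∉ S k := hmin k (Nat.lt_succ_self k)
  obtain ⟨w, hw, a, ha⟩ := hS.1 hspec
  have ha0 : a 0 ≠ 0 := fun h0 => hk <| by
    obtain ⟨w', hw', hTw'⟩ := exists_preimage T hT (by omega) hw
    choose b hb using fun i : Fin k => IsAlgClosed.exists_pow_nat_eq (a i.succ)
      (show 0 < q by omega)
    refine hS.2 ⟨w', hw', b, hinj ?_⟩
    rw [map_add, hTw', map_sum, ← Function.iterate_succ_apply' T k v, ← ha, Fin.sum_univ_succ, h0,
      zero_smul, zero_add]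
    simp only [hT, hb, Fin.val_succ, Function.iterate_succ_apply']
  let a' : ℕ → K := fun i => if h : i < k + 1 then a ⟨i, h⟩ else 0
  have ha' : ∀ i : Fin (k + 1), a' i = a i := fun i => dif_pos i.2
  obtain ⟨y, hy0, hy⟩ := exists_root_chain hq a' (by rwa [show a' 0 = a 0 from ha' 0]) k
  let x : ℕ → K := fun i => (chain q a' i).eval y
  have hx0 : x 0 = a 0 * y ^ q := by
    simp only [x, chain, show a' 0 = a 0 from ha' 0, eval_mul, eval_C, eval_pow, eval_X]
  have hxs : ∀ i : Fin k, x (i + 1) = x i ^ q + a i.succ * y ^ q := fun i => by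
    simp only [x, chain, show a' ((i : ℕ) + 1) = a i.succ from ha' i.succ, eval_add, eval_mul,
      eval_C, eval_pow, eval_X]
  have hxk : x k = y := hy
  let u : V := ∑ i : Fin (k + 1), x i • T^[i] v
  have hu : u ∉ W := fun hu => hk <| by
    have hu' : u = (∑ i : Fin k, x i • T^[i] v) + y • T^[k] v := by
      simp [u, Fin.sum_univ_castSucc, hxk]
    refine hS.2 ⟨y⁻¹ • u, Submodule.smul_mem _ _ hu, fun i => -(y⁻¹ * x i), ?_⟩
    simp only [neg_smul, mul_smul, Finset.sum_neg_distrib, ← Finset.smul_sum]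
    rw [← sub_eq_add_neg, ← smul_sub, hu', add_sub_cancel_left, inv_smul_smul₀ hy0]
  have hTu : T u - u = y ^ q • w := by
    have e1 : T u = (∑ i : Fin k, x i ^ q • T^[i + 1] v) + y ^ q • T^[k + 1] v := by
      simp [u, Fin.sum_univ_castSucc, hxk, hT, Function.iterate_succ_apply']
    have e2 : u = x 0 • v + ∑ i : Fin k, x (i + 1) • T^[i + 1] v := by
      simp [u, Fin.sum_univ_succ]
    have e3 : T^[k + 1] v = w + (a 0 • v + ∑ i : Fin k, a i.succ • T^[i + 1] v) := by
      rw [← ha, Fin.sum_univ_succ]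
      rfl
    rw [e1, e2, e3]
    simp only [hxs, hx0, add_smul, Finset.sum_add_distrib, smul_add, Finset.smul_sum, smul_smul,
      mul_comm (y ^ q)]
    abel
  obtain ⟨t, ht, ht'⟩ := exists_correct T hT hq (Submodule.smul_mem _ (y ^ q) hw)
  have hfix : u - t ∈ W := Submodule.subset_span (show T (u - t) = u - t by
    rw [map_sub, sub_eq_sub_iff_sub_eq_sub, hTu, ht'])
  exact hu (by simpa using add_mem hfix ht)

/-- A fixed basis indexed as desired. -/
theorem exists_fixed_basis [FiniteDimensional K V] (hq : 2 ≤ q) (hinj : Function.Injective T)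
    {n : ℕ} (hn : Module.finrank K V = n) :
    ∃ b : Module.Basis (Fin n) K V, ∀ i, T (b i) = b i := by
  obtain ⟨s, hs, hspan, hli⟩ := exists_linearIndependent K {v : V | T v = v}
  have htop : ⊤ ≤ Submodule.span K (Set.range ((↑) : s → V)) := by
    rw [Subtype.range_coe, hspan]
    exact (fixSpan_eq_top T hT hq hinj).ge
  let b := Module.Basis.mk hli htop
  have : Fintype s := FiniteDimensional.fintypeBasisIndex b
  have hc : Fintype.card s = n := by rw [← Module.finrank_eq_card_basis b, hn]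
  refine ⟨b.reindex (Fintype.equivFinOfCardEq hc), fun i => ?_⟩
  rw [Module.Basis.reindex_apply, Module.Basis.mk_apply]
  exact hs (Subtype.prop _)

end Cfsg.Agent.Classical.LangGL
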