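import Mathlib
import Cfsg.Agent.BlockCharsA.SymSylowGens
import Cfsg.Agent.S0261

/-!
# Squares in derived subgroups of wreath products

`SqComm X` says that `X / X'` has exponent at most two.  We show that the property passes to
wreath products with a permutation group, and to the kernel of a product determinant.
-/

set_option autoImplicit false
set_option linter.unusedSectionVars false

namespace Cfsg.Agent.Classical.WreathSq

/-- the abelianisation has exponent at most two -/
def SqComm (X : Type*) [Group X] : Prop := ∀ x : X, x ^ 2 ∈ commutator X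

theorem sqComm_congr {X Y : Type*} [Group X] [Group Y] (e : X ≃* Y) (h : SqComm X) : SqComm Y := by
  intro y
  obtain ⟨x, rfl⟩ := e.surjective y
  rw [← map_pow]
  exact (Subgroup.map_commutator ⊤ ⊤ e.toMonoidHom).le.trans
    (Subgroup.commutator_mono le_top le_top) (Subgroup.mem_map_of_mem _ (h x))

section
variable {X : Type*} [Group X]

/-- the elements whose square lies in the derived group -/
def sqSet (X : Type*) [Group X] : Subgroup X :=
  ((powMonoidHom 2).comp (Abelianization.of (G := X))).ker

theorem mem_sqSet {x : X} : x ∈ sqSet X ↔ x ^ 2 ∈ commutator X := by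
  rw [sqSet, MonoidHom.mem_ker, MonoidHom.comp_apply, powMonoidHom_apply, ← map_pow]
  exact QuotientGroup.eq_one_iff _

theorem map_mem_sqSet {Y : Type*} [Group Y] (f : Y →* X) (h : SqComm Y) (y : Y) :
    f y ∈ sqSet X := by
  rw [mem_sqSet, ← map_pow]
  exact (Subgroup.map_commutator ⊤ ⊤ f).le.trans
    (Subgroup.commutator_mono le_top le_top) (Subgroup.mem_map_of_mem _ (h y))

end

theorem sqComm_quaternion (k : ℕ) (hk : 1 ≤ k) : SqComm (QuaternionGroup (2 ^ k)) := by
  have key : ∀ j : ZMod (2 * 2 ^ k),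
      QuaternionGroup.a (2 * j) ∈ commutator (QuaternionGroup (2 ^ k)) := by
    intro j
    have h := Subgroup.commutator_mem_commutator
      (Subgroup.mem_top (QuaternionGroup.xa (0 : ZMod (2 * 2 ^ k))))
      (Subgroup.mem_top (QuaternionGroup.a (-j : ZMod (2 * 2 ^ k))))
    rw [commutatorElement_def, ← commutator_def] at h
    convert h using 1
    have h2 : ((2 ^ k : ℕ) : ZMod (2 * 2 ^ k)) + ((2 ^ k : ℕ) : ZMod (2 * 2 ^ k)) = 0 := by
      rw [← Nat.cast_add, ← two_mul, ZMod.natCast_self]
    rw [show (QuaternionGroup.xa (0 : ZMod (2 * 2 ^ k)))⁻¹ =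
        QuaternionGroup.xa (((2 ^ k : ℕ) : ZMod (2 * 2 ^ k)) + 0) from rfl,
      show (QuaternionGroup.a (-j : ZMod (2 * 2 ^ k)))⁻¹ = QuaternionGroup.a (- -j) from rfl,
      QuaternionGroup.xa_mul_a, QuaternionGroup.xa_mul_xa, QuaternionGroup.a_mul_a]
    congr 1
    linear_combination -h2
  intro x
  rcases x with i | i
  · rw [sq, QuaternionGroup.a_mul_a, ← two_mul]
    exact key i
  · rw [QuaternionGroup.xa_sq]
    convert key ((2 ^ (k - 1) : ℕ) : ZMod (2 * 2 ^ k)) using 2
    obtain ⟨k, rfl⟩ := Nat.exists_eq_add_of_le hk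
    push_cast
    rw [Nat.add_sub_cancel_left]
    ring

theorem sqComm_perm_sylow {n : ℕ} (P : Sylow 2 (Equiv.Perm (Fin n))) :
    SqComm (P : Subgroup (Equiv.Perm (Fin n))) := by
  obtain ⟨P₀, T, E, hgen, hord, -, -⟩ := BlockCharsA.SymSylow.exists_gens 2 n
  have h := BlockCharsA.SymSylow.closure_top_of_gen 2 _ _ hgen hord
  exact BlockCharsA.SymSylow.pow_mem_commutator 2
    (BlockCharsA.SymSylow.closure_top_map 2 (P₀.equiv P) h)

theorem sqComm_SL2_sylow {F : Type*} [Field F] [Fintype F] (hF : Odd (Fintype.card F))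
    (P : Sylow 2 (Matrix.SpecialLinearGroup (Fin 2) F)) :
    SqComm (P : Subgroup (Matrix.SpecialLinearGroup (Fin 2) F)) := by
  obtain ⟨k, hk, ⟨e⟩⟩ := Cfsg.Agent.S0261.result hF P
  exact sqComm_congr e.symm (sqComm_quaternion k hk)

/-! ### The wreath product -/

variable {ι : Type*} [Fintype ι] [DecidableEq ι] {T : Type*} [Group T] [MulAction T ι]
  {R : Type*} [Group R]

/-- the wreath product of `R` with the permutation group `T` -/
abbrev Wr (R ι T : Type*) [Group R] [Group T] [MulAction T ι] :=
  (ι → R) ⋊[mulAutArrow (G := T) (A := ι) (M := R)] T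

theorem arrow_apply (t : T) (f : ι → R) (i : ι) :
    mulAutArrow (G := T) (A := ι) (M := R) t f i = f (t⁻¹ • i) := rfl

/-- the `i`th copy of `R` -/
def copy (i : ι) : R →* Wr R ι T :=
  SemidirectProduct.inl.comp (MonoidHom.mulSingle (fun _ : ι => R) i)

theorem inl_mem {S : Subgroup (Wr R ι T)} (f : ι → R) (h : ∀ i, copy i (f i) ∈ S) :
    SemidirectProduct.inl f ∈ S := by
  refine Subgroup.pi_mem_of_mulSingle_mem (H := S.comap SemidirectProduct.inl) f fun i => ?_
  exact h i

theorem sqComm_wr (hR : SqComm R) (hT : SqComm T) : SqComm (Wr R ι T) := by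
  intro w
  rw [← mem_sqSet, ← SemidirectProduct.inl_left_mul_inr_right w]
  exact mul_mem (inl_mem _ fun i => map_mem_sqSet _ hR _) (map_mem_sqSet _ hT _)

/-! ### The kernel of the product determinant -/

variable {A : Type*} [CommGroup A] (χ : R →* A)

/-- the product of the values of `χ` on the coordinates -/
def prodDet : Wr R ι T →* A where
  toFun w := ∏ i, χ (w.left i)
  map_one' := by simp
  map_mul' v w := by
    simp only [SemidirectProduct.mul_left, Pi.mul_apply, map_mul, Finset.prod_mul_distrib,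
      arrow_apply]
    congr 1
    exact Equiv.prod_comp (MulAction.toPerm (v.right⁻¹)) (fun i => χ (w.left i))

theorem prodDet_apply (w : Wr R ι T) : prodDet χ w = ∏ i, χ (w.left i) := rfl

theorem prodDet_inr (t : T) : prodDet (R := R) (ι := ι) χ (SemidirectProduct.inr t) = 1 := by
  simp [prodDet_apply]

theorem prodDet_copy (i : ι) (r : R) : prodDet (T := T) χ (copy i r) = χ r := by
  rw [prodDet_apply, Finset.prod_eq_single i]
  · simp [copy]
  · intro j _ hj
    simp [copy, hj]
  · simp

variable {χ}

theorem index_prodDet [Finite R] [Finite T] [Nonempty ι] (hχ : Function.Surjective χ) :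
    Nat.card (prodDet (ι := ι) (T := T) χ).ker * Nat.card A =
      Nat.card R ^ Fintype.card ι * Nat.card T := by
  have hs : Function.Surjective (prodDet (ι := ι) (T := T) χ) := fun a => by
    obtain ⟨r, rfl⟩ := hχ a
    exact ⟨copy (Classical.arbitrary ι) r, prodDet_copy χ _ r⟩
  have h := (prodDet (ι := ι) (T := T) χ).ker.card_mul_index
  rw [Subgroup.index_ker, MonoidHom.range_eq_top.2 hs, Subgroup.card_top, SemidirectProduct.card,
    Nat.card_fun, Nat.card_eq_fintype_card (α := ι)] at h
  exact h

section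
variable (c : A →* R) (hc : ∀ a, χ (c a) = a)

/-- the element `c a` in place `i` and its inverse in place `j` -/
def pair (i j : ι) : A →* (prodDet (ι := ι) (T := T) χ).ker :=
  MonoidHom.codRestrict
    (SemidirectProduct.inl.comp ((MonoidHom.compLeft c ι).comp
        (MonoidHom.mulSingle (fun _ : ι => A) i / MonoidHom.mulSingle (fun _ : ι => A) j)))
    _ (fun a => by
      show ∏ x, χ (c ((Pi.mulSingle i a : ι → A) x / (Pi.mulSingle j a : ι → A) x)) = 1
      simp [hc, Finset.prod_div_distrib])

theorem coe_pair (i j : ι) (a : A) :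
    ((pair (T := T) c hc i j a : (prodDet (ι := ι) (T := T) χ).ker) : Wr R ι T) =
      SemidirectProduct.inl fun k => c ((Pi.mulSingle i a : ι → A) k / (Pi.mulSingle j a : ι → A) k) :=
  rfl

theorem pair_mul (i j k : ι) (a : A) :
    pair (T := T) c hc i j a * pair c hc j k a = pair c hc i k a := by
  refine Subtype.ext ?_
  rw [Subgroup.coe_mul, coe_pair, coe_pair, coe_pair, ← map_mul]
  congr 1
  funext l
  rw [Pi.mul_apply, ← map_mul, div_mul_div_cancel]

/-- an element of `T`, inside the kernel -/
def top : T →* (prodDet (R := R) (ι := ι) (T := T) χ).ker :=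
  MonoidHom.codRestrict SemidirectProduct.inr _ (fun t => prodDet_inr χ t)

theorem conj_pair (t : T) (i j : ι) (a : A) :
    top t * pair c hc i j a * (top t)⁻¹ = pair c hc (t • i) (t • j) a := by
  refine Subtype.ext ?_
  rw [Subgroup.coe_mul, Subgroup.coe_mul, Subgroup.coe_inv, coe_pair, coe_pair]
  show SemidirectProduct.inr t * _ * (SemidirectProduct.inr t)⁻¹ = _
  rw [← map_inv, ← SemidirectProduct.inl_aut]
  congr 1
  funext l
  show c ((Pi.mulSingle i a : ι → A) (t⁻¹ • l) / (Pi.mulSingle j a : ι → A) (t⁻¹ • l)) = _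
  simp [Pi.mulSingle_apply, inv_smul_eq_iff]

theorem pair_sq_of_orbit (hT : SqComm T) (i : ι) (t : T) (a : A) :
    pair (T := T) c hc i (t • i) a ∈ sqSet _ := by
  let φ : T →* Abelianization (prodDet (R := R) (ι := ι) (T := T) χ).ker :=
    MonoidHom.mk' (fun t => Abelianization.of (pair c hc i (t • i) a)) fun s t => by
      rw [← pair_mul c hc i (s • i) ((s * t) • i) a, map_mul, mul_smul,
        ← conj_pair c hc s i (t • i) a, map_mul, map_mul, map_inv,
        mul_inv_cancel_comm]
  have h := Abelianization.commutator_subset_ker φ (hT t)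
  rw [MonoidHom.mem_ker, map_pow] at h
  rw [mem_sqSet, ← QuotientGroup.eq_one_iff]
  show Abelianization.of ((pair c hc i (t • i) a) ^ 2) = 1
  rw [map_pow]
  exact h

include c hc in
/-- The kernel of the product determinant, when `ker χ` has the property and either `A` has
exponent two or the action is transitive. -/
theorem sqComm_ker [Nonempty ι] (hQ : SqComm χ.ker) (hT : SqComm T)
    (hA : (∀ a : A, a ^ 2 = 1) ∨ MulAction.IsPretransitive T ι) :
    SqComm (prodDet (ι := ι) (T := T) χ).ker := by
  set X := (prodDet (ι := ι) (T := T) χ).ker with hX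
  have hpair : ∀ i j a, pair (T := T) c hc i j a ∈ sqSet X := by
    intro i j a
    rcases hA with hA | hA
    · rw [mem_sqSet, ← map_pow, hA, map_one]
      exact one_mem _
    · obtain ⟨t, rfl⟩ := hA.exists_smul_eq i j
      exact pair_sq_of_orbit c hc hT i t a
  intro w
  rw [← mem_sqSet]
  obtain ⟨j₀⟩ := (inferInstance : Nonempty ι)
  set d : ι → A := fun i => χ ((w : Wr R ι T).left i) with hd
  have hd1 : ∏ i, d i = 1 := w.2
  have hsplit : d = ∏ i, (Pi.mulSingle i (d i) / Pi.mulSingle j₀ (d i) : ι → A) := by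
    rw [Finset.prod_div_distrib, Finset.univ_prod_mulSingle]
    have : ∏ i, (Pi.mulSingle j₀ (d i) : ι → A) = 1 := by
      funext k
      rcases eq_or_ne k j₀ with rfl | hk
      · simpa [Finset.prod_apply] using hd1
      · simp [Finset.prod_apply, hk]
    rw [this, div_one]
  set u : X :=
      ⟨SemidirectProduct.inl (fun k => c (d k)), by
        rw [hX, MonoidHom.mem_ker, prodDet_apply]; simp [hc, hd1]⟩ with hu
  have hum : u ∈ sqSet X := by
    have hle : ∀ f : ι → A, ∀ hf : ∏ i, f i = 1, (⟨SemidirectProduct.inl (fun k => c (f k)), by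
        rw [hX, MonoidHom.mem_ker, prodDet_apply]; simp [hc, hf]⟩ : X) ∈ sqSet X ↔
        f ∈ ((sqSet X).map X.subtype).comap
          (SemidirectProduct.inl.comp (MonoidHom.compLeft c ι)) := by
      intro f hf
      exact (Subgroup.mem_map_iff_mem X.subtype_injective).symm
    rw [hu, hle d hd1, hsplit]
    refine Subgroup.prod_mem _ fun i _ => ?_
    exact ⟨pair c hc i j₀ (d i), hpair i j₀ (d i), rfl⟩
  let cp : ι → χ.ker →* X := fun i => MonoidHom.codRestrict ((copy i).comp χ.ker.subtype) _
    fun r => by rw [hX, MonoidHom.mem_ker, MonoidHom.comp_apply, prodDet_copy]; exact r.2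
  have hq : ∀ k, (w : Wr R ι T).left k * (c (d k))⁻¹ ∈ χ.ker := fun k => by
    rw [MonoidHom.mem_ker, map_mul, map_inv, hc, hd, mul_inv_cancel]
  have hqm : (⟨SemidirectProduct.inl (fun k => (w : Wr R ι T).left k * (c (d k))⁻¹), by
      exact Finset.prod_eq_one fun k _ => hq k⟩ : X) ∈ sqSet X := by
    rw [← Subgroup.mem_map_iff_mem X.subtype_injective]
    exact inl_mem _ fun i => ⟨cp i ⟨_, hq i⟩, map_mem_sqSet _ hQ _, rfl⟩
  have hw : w = ⟨SemidirectProduct.inl (fun k => (w : Wr R ι T).left k * (c (d k))⁻¹), by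
      exact Finset.prod_eq_one fun k _ => hq k⟩ * u * top (w : Wr R ι T).right := by
    refine Subtype.ext ?_
    rw [Subgroup.coe_mul, Subgroup.coe_mul, hu]
    show _ = SemidirectProduct.inl _ * SemidirectProduct.inl _ * SemidirectProduct.inr _
    rw [← map_mul]
    conv_lhs => rw [← SemidirectProduct.inl_left_mul_inr_right (w : Wr R ι T)]
    congr 2
    funext k
    simp
  rw [hw]
  exact mul_mem (mul_mem hqm hum) (map_mem_sqSet _ hT _)

end

end Cfsg.Agent.Classical.WreathSq
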