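import Mathlib
import Cfsg.Agent.Lib.Classical.SylowWreathSq
import Cfsg.Agent.Lib.Classical.Linear

/-!
# Monomial block embeddings, and two-parts of classical group orders
-/

set_option autoImplicit false
set_option linter.unusedSectionVars false

namespace Cfsg.Agent.Classical.WreathSq

open Matrix

theorem equiv_sylow {G X : Type*} [Group G] [Finite G] [Group X] (f : X →* G)
    (hf : Function.Injective f) (hcard : Nat.card X = 2 ^ (Nat.card G).factorization 2)
    (P : Sylow 2 G) : Nonempty (X ≃* (P : Subgroup G)) := by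
  have h : Nat.card f.range = 2 ^ (Nat.card G).factorization 2 := by
    rw [← Nat.card_congr (MonoidHom.ofInjective hf).toEquiv, hcard]
  exact ⟨(MonoidHom.ofInjective hf).trans ((Sylow.ofCard f.range h).equiv P)⟩

variable {F : Type*} [Field F] {m : ℕ}

/-- block monomial matrix -/
def blockMono (f : Fin m → Matrix (Fin 2) (Fin 2) F) (σ : Equiv.Perm (Fin m)) :
    Matrix (Fin 2 × Fin m) (Fin 2 × Fin m) F :=
  Matrix.of fun x y => if σ y.2 = x.2 then f x.2 x.1 y.1 else 0

theorem blockMono_mul (f g : Fin m → Matrix (Fin 2) (Fin 2) F) (σ τ : Equiv.Perm (Fin m)) :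
    blockMono f σ * blockMono g τ = blockMono (fun i => f i * g (σ⁻¹ i)) (σ * τ) := by
  ext ⟨a, i⟩ ⟨c, k⟩
  simp only [blockMono, Matrix.mul_apply, Matrix.of_apply, Fintype.sum_prod_type,
    Equiv.Perm.mul_apply]
  by_cases h : σ (τ k) = i
  · rw [if_pos h]
    refine Finset.sum_congr rfl fun b _ => ?_
    rw [Finset.sum_eq_single (τ k)]
    · subst h
      simp
    · intro j _ hj
      rw [if_neg (show ¬ τ k = j from fun h' => hj h'.symm), mul_zero]
    · simp
  · rw [if_neg h]
    refine Finset.sum_eq_zero fun b _ => Finset.sum_eq_zero fun j _ => ?_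
    by_cases h' : τ k = j
    · rw [if_neg (h' ▸ h), zero_mul]
    · rw [if_neg h', mul_zero]

theorem blockMono_one : blockMono (fun _ : Fin m => (1 : Matrix (Fin 2) (Fin 2) F)) 1 = 1 := by
  ext ⟨a, i⟩ ⟨c, k⟩
  simp [blockMono, Matrix.one_apply, Prod.ext_iff]
  by_cases h : a = c <;> by_cases h' : i = k <;> simp [h, h', eq_comm]

theorem det_blockMono (f : Fin m → Matrix (Fin 2) (Fin 2) F) (σ : Equiv.Perm (Fin m)) :
    (blockMono f σ).det = ∏ i, (f i).det := by
  have hf : blockMono f σ = Matrix.blockDiagonal f * blockMono (fun _ => 1) σ := by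
    rw [show Matrix.blockDiagonal f = blockMono f 1 from Matrix.ext fun x y => by
      simp [blockMono, Matrix.blockDiagonal_apply, eq_comm], blockMono_mul]
    simp
  have hσ : blockMono (fun _ => (1 : Matrix (Fin 2) (Fin 2) F)) σ =
      Equiv.Perm.permMatrix F (Equiv.prodCongrRight fun _ : Fin 2 => σ⁻¹) := by
    ext ⟨a, i⟩ ⟨c, k⟩
    simp [blockMono, Matrix.one_apply, Equiv.toPEquiv_apply, PEquiv.toMatrix_apply,
      Equiv.symm_apply_eq, Prod.ext_iff]
    by_cases h : a = c <;> by_cases h' : i = σ k <;> simp [h, h', eq_comm]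
  rw [hf, Matrix.det_mul, Matrix.det_blockDiagonal, hσ, Matrix.det_permutation,
    Equiv.Perm.sign_prodCongrRight, Finset.prod_const, Finset.card_univ, Fintype.card_fin,
    sq, Int.units_mul_self]
  simp

theorem blockMono_transpose (f : Fin m → Matrix (Fin 2) (Fin 2) F) (σ : Equiv.Perm (Fin m)) :
    (blockMono f σ)ᵀ = blockMono (fun i => (f (σ i))ᵀ) σ⁻¹ := by
  ext ⟨a, i⟩ ⟨c, k⟩
  simp only [blockMono, Matrix.transpose_apply, Matrix.of_apply]
  by_cases h : σ i = k
  · subst h
    simp
  · rw [if_neg h, if_neg]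
    exact fun h' => h (by rw [← h']; simp)

section hom
variable {R : Type*} [Group R] (ρ : R →* Matrix (Fin 2) (Fin 2) F)
  {T : Subgroup (Equiv.Perm (Fin m))}

/-- the block monomial representation of the wreath product -/
def wrMono : Wr R (Fin m) T →* Matrix (Fin 2 × Fin m) (Fin 2 × Fin m) F where
  toFun w := blockMono (fun i => ρ (w.left i)) (w.right : Equiv.Perm (Fin m))
  map_one' := by
    simp only [SemidirectProduct.one_left, SemidirectProduct.one_right, Pi.one_apply, map_one,
      OneMemClass.coe_one]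
    exact blockMono_one
  map_mul' v w := by
    rw [blockMono_mul]
    congr 1
    · funext i
      rw [SemidirectProduct.mul_left, Pi.mul_apply, map_mul, arrow_apply]
      rfl

theorem wrMono_apply (w : Wr R (Fin m) T) :
    wrMono ρ w = blockMono (fun i => ρ (w.left i)) (w.right : Equiv.Perm (Fin m)) := rfl

theorem wrMono_injective (hρ : Function.Injective ρ) : Function.Injective (wrMono (T := T) ρ) := by
  rw [injective_iff_map_eq_one]
  intro w hw
  rw [wrMono_apply, ← blockMono_one] at hw
  have hne : ∀ r, ρ r ≠ 0 := fun r h => by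
    have := congrArg (fun M => M * ρ r⁻¹) h
    simp [← map_mul] at this
  have hσ : (w.right : Equiv.Perm (Fin m)) = 1 := by
    refine Equiv.ext fun k => ?_
    by_contra hk
    refine hne (w.left ((w.right : Equiv.Perm (Fin m)) k)) (Matrix.ext fun a b => ?_)
    have := congrFun (congrFun hw (a, (w.right : Equiv.Perm (Fin m)) k)) (b, k)
    have hk' : ¬ k = (w.right : Equiv.Perm (Fin m)) k := fun h => hk h.symm
    simpa [blockMono, hk'] using this
  have hl : w.left = 1 := by
    funext i
    refine hρ ?_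
    rw [Pi.one_apply, map_one]
    refine Matrix.ext fun a b => ?_
    have := congrFun (congrFun hw (a, i)) (b, i)
    simpa [blockMono, hσ] using this
  exact SemidirectProduct.ext hl (Subtype.ext hσ)

theorem det_wrMono (w : Wr R (Fin m) T) : (wrMono ρ w).det = ∏ i, (ρ (w.left i)).det := by
  rw [wrMono_apply]
  exact det_blockMono _ _

end hom

/-! ### two-parts -/

section arith
variable {q : ℕ}

theorem fac_pow_sub_one_odd (hq : Odd q) (h1 : 1 < q) (j : ℕ) :
    (q ^ (2 * j + 1) - 1).factorization 2 = (q - 1).factorization 2 := by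
  have h := geom_sum_mul_of_one_le (by omega : 1 ≤ q) (2 * j + 1)
  have hodd : Odd (∑ i ∈ Finset.range (2 * j + 1), q ^ i) := by
    rw [Finset.odd_sum_iff_odd_card_odd, Finset.filter_true_of_mem (fun i _ => hq.pow),
      Finset.card_range]
    exact ⟨j, rfl⟩
  rw [← h, Nat.factorization_mul hodd.pos.ne' (by omega), Finsupp.add_apply,
    Nat.factorization_eq_zero_of_not_dvd (p := 2) (n := ∑ i ∈ Finset.range (2 * j + 1), q ^ i)
      (fun hd => Nat.not_even_iff_odd.2 hodd (even_iff_two_dvd.2 hd)), zero_add]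

theorem fac_pow_sub_one_even (hq : Odd q) (h1 : 1 < q) {j : ℕ} (hj : 1 ≤ j) :
    (q ^ (2 * j) - 1).factorization 2 = (q ^ 2 - 1).factorization 2 + j.factorization 2 := by
  have hnd : ¬ 2 ∣ q := fun h => Nat.not_even_iff_odd.2 hq (even_iff_two_dvd.2 h)
  have e1 := padicValNat.pow_two_sub_one h1 hnd (by omega : 2 * j ≠ 0) (even_two_mul j)
  have e2 := padicValNat.pow_two_sub_one h1 hnd two_ne_zero even_two
  rw [padicValNat.mul two_ne_zero (by omega : j ≠ 0)] at e1
  simp only [padicValNat.self (show 1 < 2 by norm_num)] at e1 e2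
  simp only [Nat.factorization_def _ Nat.prime_two]
  omega

theorem prod_GL_succ (n : ℕ) :
    ∏ i : Fin (n + 1), (q ^ (n + 1) - q ^ (i : ℕ)) =
      (q ^ (n + 1) - 1) * (q ^ n * ∏ i : Fin n, (q ^ n - q ^ (i : ℕ))) := by
  rw [Fin.prod_univ_succ, Fin.val_zero, pow_zero]
  congr 1
  calc ∏ i : Fin n, (q ^ (n + 1) - q ^ ((i.succ : Fin (n + 1)) : ℕ))
      = ∏ i : Fin n, q * (q ^ n - q ^ (i : ℕ)) := Finset.prod_congr rfl fun i _ => by
        rw [Fin.val_succ, pow_succ', pow_succ', Nat.mul_sub]
    _ = _ := by rw [Finset.prod_mul_distrib, Finset.prod_const, Finset.card_univ, Fintype.card_fin]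

theorem fac_GL (hq : Odd q) (h1 : 1 < q) (j : ℕ) :
    (∏ i : Fin (2 * j), (q ^ (2 * j) - q ^ (i : ℕ))).factorization 2 =
      j * ((q - 1).factorization 2 + (q ^ 2 - 1).factorization 2) + (j.factorial).factorization 2 ∧
    (∏ i : Fin (2 * j + 1), (q ^ (2 * j + 1) - q ^ (i : ℕ))).factorization 2 =
      j * ((q - 1).factorization 2 + (q ^ 2 - 1).factorization 2) + (j.factorial).factorization 2 +
        (q - 1).factorization 2 := by
  have hpos : ∀ n, (∏ i : Fin n, (q ^ n - q ^ (i : ℕ))) ≠ 0 := fun n =>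
    Finset.prod_ne_zero_iff.2 fun i _ => by
      have := Nat.pow_lt_pow_right h1 i.2
      omega
  have hstep : ∀ n, (∏ i : Fin (n + 1), (q ^ (n + 1) - q ^ (i : ℕ))).factorization 2 =
      (q ^ (n + 1) - 1).factorization 2 +
        (∏ i : Fin n, (q ^ n - q ^ (i : ℕ))).factorization 2 := by
    intro n
    have hne : q ^ (n + 1) - 1 ≠ 0 := by
      have := Nat.one_lt_pow (show n + 1 ≠ 0 by omega) h1
      omega
    rw [prod_GL_succ, Nat.factorization_mul hne (mul_ne_zero (pow_ne_zero _ (by omega)) (hpos n)),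
      Nat.factorization_mul (pow_ne_zero _ (by omega)) (hpos n), Finsupp.add_apply,
      Finsupp.add_apply, Nat.factorization_pow, Finsupp.smul_apply,
      Nat.factorization_eq_zero_of_not_dvd
        (fun h => Nat.not_even_iff_odd.2 hq (even_iff_two_dvd.2 h))]
    simp
  induction j with
  | zero =>
    have h := hstep 0
    simp at h ⊢
  | succ j ih =>
    have e : (∏ i : Fin (2 * (j + 1)), (q ^ (2 * (j + 1)) - q ^ (i : ℕ))).factorization 2 =
        (j + 1) * ((q - 1).factorization 2 + (q ^ 2 - 1).factorization 2) +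
          ((j + 1).factorial).factorization 2 := by
      show (∏ i : Fin (2 * j + 1 + 1), (q ^ (2 * j + 1 + 1) - q ^ (i : ℕ))).factorization 2 = _
      rw [hstep, ih.2, show 2 * j + 1 + 1 = 2 * (j + 1) by ring,
        fac_pow_sub_one_even hq h1 (by omega), Nat.factorial_succ,
        Nat.factorization_mul (by omega) (Nat.factorial_ne_zero j), Finsupp.add_apply]
      ring
    refine ⟨e, ?_⟩
    rw [hstep, e, fac_pow_sub_one_odd hq h1]
    ring

theorem fac_sp (hq : Odd q) (h1 : 1 < q) (m : ℕ) :
    (q ^ (m ^ 2) * ∏ i ∈ Finset.range m, (q ^ (2 * (i + 1)) - 1)).factorization 2 =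
      m * (q ^ 2 - 1).factorization 2 + (m.factorial).factorization 2 := by
  have hne : ∀ i ∈ Finset.range m, q ^ (2 * (i + 1)) - 1 ≠ 0 := fun i _ => by
    have := Nat.one_lt_pow (show 2 * (i + 1) ≠ 0 by omega) h1
    omega
  rw [Nat.factorization_mul (pow_ne_zero _ (by omega)) (Finset.prod_ne_zero_iff.2 hne),
    Finsupp.add_apply, Nat.factorization_pow, Finsupp.smul_apply,
    Nat.factorization_eq_zero_of_not_dvd
      (fun h => Nat.not_even_iff_odd.2 hq (even_iff_two_dvd.2 h)), smul_zero, zero_add,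
    Nat.factorization_prod hne, Finsupp.finsetSum_apply,
    Finset.sum_congr rfl fun i _ => fac_pow_sub_one_even hq h1 (by omega : 1 ≤ i + 1),
    Finset.sum_add_distrib, Finset.sum_const, Finset.card_range, smul_eq_mul,
    ← Finset.prod_range_add_one_eq_factorial, Nat.factorization_prod (fun i _ => by omega),
    Finsupp.finsetSum_apply]

theorem fac_SL_two (hq : Odd q) (h1 : 1 < q) :
    (q * ((q - 1) * (q + 1))).factorization 2 = (q ^ 2 - 1).factorization 2 := by
  have he : (q - 1) * (q + 1) = q ^ 2 - 1 := by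
    rw [mul_comm, ← Nat.sq_sub_sq, one_pow]
  have hne : q ^ 2 - 1 ≠ 0 := by
    have := Nat.one_lt_pow two_ne_zero h1
    omega
  rw [he, Nat.factorization_mul (by omega) hne, Finsupp.add_apply,
    Nat.factorization_eq_zero_of_not_dvd
      (fun h => Nat.not_even_iff_odd.2 hq (even_iff_two_dvd.2 h)), zero_add]

end arith

end Cfsg.Agent.Classical.WreathSq
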