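import Mathlib
import Cfsg.Agent.Lib.Classical.TorusNormalizer

/-!
# Normalisers of the Sylow 2-subgroups of `SL₂` in odd characteristic
-/

set_option autoImplicit false
set_option linter.unusedSectionVars false

namespace Cfsg.Agent.Classical.SylowTwoNormalizer

open Matrix
open scoped MatrixGroups
open TorusNormalizer

section abstract

variable {G : Type*} [Group G] {T : Subgroup G} {y z : G}

/-- The dicyclic group `T ∪ yT`. -/
def ext (h : Dicyclic T y z) : Subgroup G where
  carrier := {x | x ∈ T ∨ y⁻¹ * x ∈ T}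
  one_mem' := Or.inl T.one_mem
  mul_mem' := by
    rintro a b (ha | ha) (hb | hb)
    · exact Or.inl (T.mul_mem ha hb)
    · refine Or.inr ?_
      have e : a * b = y * (a⁻¹ * (y⁻¹ * b)) := by
        rw [← mul_assoc y, ← h.mul_y ha]; group
      rw [e, inv_mul_cancel_left]
      exact T.mul_mem (T.inv_mem ha) hb
    · refine Or.inr ?_
      rw [← mul_assoc]
      exact T.mul_mem ha hb
    · refine Or.inl ?_
      have e : a * b = y * y * ((y⁻¹ * a)⁻¹ * (y⁻¹ * b)) := by
        calc a * b = y * ((y⁻¹ * a) * y) * (y⁻¹ * b) := by group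
          _ = _ := by rw [h.mul_y ha]; group
      rw [e, h.ysq]
      exact T.mul_mem h.zmem (T.mul_mem (T.inv_mem ha) hb)
  inv_mem' := by
    rintro a (ha | ha)
    · exact Or.inl (T.inv_mem ha)
    · refine Or.inr ?_
      have hz : z * z = 1 := (h.sq z h.zmem).2 (Or.inr rfl)
      have e : a⁻¹ = a * z := inv_eq_of_mul_eq_one_right (by rw [← mul_assoc, h.sq_of_mem ha, hz])
      rw [e, ← mul_assoc]
      exact T.mul_mem ha h.zmem

theorem mem_ext (h : Dicyclic T y z) (x : G) : x ∈ ext h ↔ x ∈ T ∨ y⁻¹ * x ∈ T := Iff.rfl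

/-- The elements of `T` killed by `k`. -/
def part (hcomm : ∀ a ∈ T, ∀ b ∈ T, a * b = b * a) (k : ℕ) : Subgroup G where
  carrier := {g | g ∈ T ∧ g ^ k = 1}
  one_mem' := ⟨T.one_mem, one_pow k⟩
  mul_mem' := fun {a b} ha hb => ⟨T.mul_mem ha.1 hb.1,
    by rw [(show Commute a b from hcomm a ha.1 b hb.1).mul_pow, ha.2, hb.2, one_mul]⟩
  inv_mem' := fun {a} ha => ⟨T.inv_mem ha.1, by rw [inv_pow, ha.2, inv_one]⟩

theorem mem_part (hcomm : ∀ a ∈ T, ∀ b ∈ T, a * b = b * a) (k : ℕ) (g : G) :
    g ∈ part hcomm k ↔ g ∈ T ∧ g ^ k = 1 := Iff.rfl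

end abstract

variable {F : Type*} [Field F] [Fintype F] {T : Subgroup SL(2, F)} {y : SL(2, F)}

theorem sylow_two_of_torus (h2 : (2 : F) ≠ 0) (h : TorusData T y) [IsCyclic T] (h4 : 4 ∣ Nat.card T)
    (hv : (Nat.card SL(2, F)).factorization 2 = (Nat.card T).factorization 2 + 1)
    (P : Sylow 2 SL(2, F)) :
    Subgroup.centralizer ((P : Subgroup SL(2, F)) : Set SL(2, F)) = Subgroup.center SL(2, F) ∧
      (8 ∣ Nat.card T →
        Subgroup.normalizer ((P : Subgroup SL(2, F)) : Set SL(2, F)) = (P : Subgroup SL(2, F))) ∧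
      (¬ 8 ∣ Nat.card T →
        Nat.card (Subgroup.normalizer ((P : Subgroup SL(2, F)) : Set SL(2, F))) =
          3 * Nat.card P) := by
  classical
  have hD := h.dicyclic h2
  set s := (Nat.card T).factorization 2 with hs
  have hs2 : 2 ≤ s :=
    (Nat.Prime.pow_dvd_iff_le_factorization Nat.prime_two Nat.card_pos.ne').1 (by simpa using h4)
  have h8 : 8 ∣ Nat.card T ↔ 3 ≤ s := by
    rw [← Nat.Prime.pow_dvd_iff_le_factorization Nat.prime_two Nat.card_pos.ne']
    norm_num
  -- the Sylow subgroup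
  set T2 := part h.comm (2 ^ s) with hT2
  have hT2le : T2 ≤ T := fun x hx => hx.1
  obtain ⟨gT, hgT⟩ := IsCyclic.exists_ofOrder_eq_natCard (α := T)
  obtain ⟨e, he⟩ : 2 ^ s ∣ Nat.card T := Nat.ordProj_dvd _ 2
  have he0 : e ≠ 0 := fun h0 => Nat.card_pos.ne' (by rw [h0, mul_zero] at he; exact he)
  set g : SL(2, F) := ((gT ^ e : T) : SL(2, F)) with hg
  have hgord : orderOf g = 2 ^ s := by
    rw [hg, Subgroup.orderOf_coe, orderOf_pow_of_dvd he0 (hgT ▸ he ▸ Dvd.intro_left _ rfl), hgT, he,
      Nat.mul_div_cancel _ (Nat.pos_of_ne_zero he0)]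
  have hgT2 : g ∈ T2 := ⟨SetLike.coe_mem _, by rw [← hgord, pow_orderOf_eq_one]⟩
  have hg2 : g * g ≠ 1 := fun e => by
    have := Nat.le_of_dvd two_pos (orderOf_dvd_of_pow_eq_one (x := g) (n := 2) (by rw [sq, e]))
    rw [hgord] at this
    have : 2 ^ 2 ≤ 2 ^ s := Nat.pow_le_pow_right two_pos hs2
    omega
  have hcard2 : Nat.card T2 = 2 ^ s := by
    refine le_antisymm ?_ ?_
    · letI : CommGroup T := IsCyclic.commGroup
      have hk : Nat.card (powMonoidHom (2 ^ s) : T →* T).ker = 2 ^ s := by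
        rw [IsCyclic.card_powMonoidHom_ker, Nat.gcd_eq_right ⟨e, he⟩]
      rw [← hk]
      exact Nat.card_le_card_of_injective (fun x : T2 => (⟨⟨x.1, x.2.1⟩, Subtype.ext x.2.2⟩ :
        (powMonoidHom (2 ^ s) : T →* T).ker))
        fun a b hab => Subtype.ext (congrArg (fun x : (powMonoidHom (2 ^ s) : T →* T).ker =>
          ((x : T) : SL(2, F))) hab)
    · rw [← hgord, ← Nat.card_zpowers]
      exact Nat.le_of_dvd Nat.card_pos (Subgroup.card_dvd_of_le (Subgroup.zpowers_le.2 hgT2))
  have hzT2 : negOne F ∈ T2 := ⟨h.negmem, by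
    obtain ⟨r, hr⟩ : 2 ∣ 2 ^ s := dvd_pow_self 2 (by omega)
    rw [hr, pow_mul, sq, negOne_sq, one_pow]⟩
  have hD2 : Dicyclic T2 y (negOne F) :=
    { comm := fun a ha b hb => h.comm a ha.1 b hb.1
      zmem := hzT2
      zne := hD.zne
      ysq := h.ysq
      ynot := fun hy => h.y_not_mem hy.1
      inv := fun t ht => h.inv t ht.1
      sq := fun t ht => hD.sq t ht.1 }
  set S0 := ext hD2 with hS0
  obtain ⟨hS0card, -⟩ := hD2.card_classes S0 (mem_ext hD2)
  have hS0card' : Nat.card S0 = 2 ^ (Nat.card SL(2, F)).factorization 2 := by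
    rw [hS0card, hcard2, hv, pow_succ']
  obtain ⟨c, hc⟩ := MulAction.exists_smul_eq SL(2, F) (Sylow.ofCard S0 hS0card') P
  have hP : (P : Subgroup SL(2, F)) = S0.map (MulAut.conj c).toMonoidHom := by rw [← hc]; rfl
  have hgS : g ∈ S0 := Or.inl hgT2
  have hyS : y ∈ S0 := Or.inr (by rw [inv_mul_cancel]; exact T2.one_mem)
  -- centre and centraliser
  have hpm : ∀ x : SL(2, F), x = 1 ∨ x = negOne F → x ∈ Subgroup.center SL(2, F) := by
    rintro x (rfl | rfl)
    · exact Subgroup.one_mem _
    · exact Subgroup.mem_center_iff.2 fun a => Subtype.ext (by simp [coe_negOne])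
  have hcent : Subgroup.centralizer (S0 : Set SL(2, F)) = Subgroup.center SL(2, F) := by
    refine le_antisymm (fun x hx => hpm x ?_) (Subgroup.center_le_centralizer _)
    have hxT : x ∈ T := h.cent g hgT2.1 hg2 x (Subgroup.mem_centralizer_iff.1 hx g hgS)
    have hxy := Subgroup.mem_centralizer_iff.1 hx y hyS
    refine (hD.sq x hxT).1 ?_
    have := h.inv x hxT
    rw [hxy, mul_inv_cancel_right] at this
    nth_rw 2 [this]
    exact mul_inv_cancel x
  -- elements fixing the cyclic subgroup
  have hfix : ∀ n ∈ Subgroup.normalizer (S0 : Set SL(2, F)), n * g * n⁻¹ ∈ T2 → n ∈ S0 := by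
    intro n hn hng
    have key : ∀ t ∈ T, t ∈ Subgroup.normalizer (S0 : Set SL(2, F)) → t ∈ T2 := by
      intro t ht htn
      have hty := (Subgroup.mem_normalizer_iff.1 htn y).1 hyS
      have e1 : y⁻¹ * (t * y * t⁻¹) = t⁻¹ * t⁻¹ := by rw [hD.mul_y ht]; group
      have hmem : t⁻¹ * t⁻¹ ∈ T2 := by
        rcases hty with h' | h'
        · exfalso
          refine h.y_not_mem ?_
          have e2 : y = t⁻¹ * (t * y * t⁻¹) * t := by group
          rw [e2]
          exact T.mul_mem (T.mul_mem (T.inv_mem ht) h'.1) ht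
        · rwa [e1] at h'
      refine ⟨ht, ?_⟩
      have hp : t ^ (2 * 2 ^ s) = 1 := by
        have h3 := hmem.2
        rwa [← sq, inv_pow, inv_pow, inv_eq_one, ← pow_mul] at h3
      obtain ⟨j, -, hj⟩ := (Nat.dvd_prime_pow Nat.prime_two).1
        (show orderOf t ∣ 2 ^ (s + 1) by rw [pow_succ']; exact orderOf_dvd_of_pow_eq_one hp)
      have hjs : j ≤ s := (Nat.Prime.pow_dvd_iff_le_factorization Nat.prime_two Nat.card_pos.ne').1
        (hj ▸ Subgroup.orderOf_dvd_natCard T ht)
      exact orderOf_dvd_iff_pow_eq_one.1 (hj ▸ pow_dvd_pow 2 hjs)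
    rcases h.mem_or_mem hgT2.1 hg2 hng.1 with hnT | hnT
    · exact Or.inl (key n hnT hn)
    · refine Or.inr (key _ hnT ?_)
      exact Subgroup.mul_mem _ (Subgroup.inv_mem _ (Subgroup.le_normalizer hyS)) hn
  rw [hP, centralizer_map_conj, hcent, ← Subgroup.map_equiv_normalizer_eq,
    Subgroup.card_map_of_injective (MulAut.conj c).injective,
    Subgroup.card_map_of_injective (MulAut.conj c).injective]
  refine ⟨?_, fun hd => ?_, fun hd => ?_⟩
  · refine le_antisymm ?_ fun x hx => ⟨x, hx, ?_⟩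
    · rintro _ ⟨x, hx, rfl⟩
      show c * x * c⁻¹ ∈ _
      rw [Subgroup.mem_center_iff.1 hx c, mul_inv_cancel_right]
      exact hx
    · show c * x * c⁻¹ = x
      rw [Subgroup.mem_center_iff.1 hx c, mul_inv_cancel_right]
  · congr 1
    refine le_antisymm (fun n hn => hfix n hn ?_) Subgroup.le_normalizer
    rcases (Subgroup.mem_normalizer_iff.1 hn g).1 hgS with h' | h'
    · exact h'
    · exfalso
      have h4' := hD2.sq_of_mem h'
      have hg4 : g ^ 4 = 1 := by
        have e : n * (g * g) * n⁻¹ = negOne F := by rw [← h4']; group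
        have e' : n * (g * g * (g * g)) * n⁻¹ = 1 := by
          rw [← negOne_sq (F := F)]
          nth_rw 1 [← e]; nth_rw 1 [← e]; group
        rw [conj_eq_one_iff] at e'
        rw [← e']
        simp [pow_succ, mul_assoc]
      have h8' := Nat.le_of_dvd (by norm_num) (orderOf_dvd_of_pow_eq_one hg4)
      rw [hgord] at h8'
      have : 2 ^ 3 ≤ 2 ^ s := Nat.pow_le_pow_right two_pos (h8.1 hd)
      omega
  · have hs' : s = 2 := by
      by_contra hne
      exact hd (h8.2 (by omega))
    have hz1 := hD.zne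
    -- the quaternion relations
    have hgsq : g * g = negOne F := by
      refine ((hD.sq (g * g) (T.mul_mem hgT2.1 hgT2.1)).1 ?_).resolve_left hg2
      have := hgT2.2
      rw [hs'] at this
      rw [← this]
      simp [pow_succ, mul_assoc]
    set I := (g : Matrix (Fin 2) (Fin 2) F) with hI
    set J := (y : Matrix (Fin 2) (Fin 2) F) with hJ
    have hII : I * I = -1 := by
      rw [hI, ← Matrix.SpecialLinearGroup.coe_mul, hgsq, coe_negOne]
    have hJJ : J * J = -1 := by
      rw [hJ, ← Matrix.SpecialLinearGroup.coe_mul, h.ysq, coe_negOne]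
    have hJI : J * I = -(I * J) := by
      have e1 : y * g = g⁻¹ * y := by
        have := h.inv g hgT2.1
        rw [mul_inv_eq_iff_eq_mul] at this
        exact this
      have e2 : g⁻¹ = g * negOne F := inv_eq_of_mul_eq_one_right (by
        rw [← mul_assoc, hgsq, negOne_sq])
      rw [hI, hJ, ← Matrix.SpecialLinearGroup.coe_mul, e1, e2]
      simp [coe_negOne]
    have hdetI : ∀ M : SL(2, F), (M : Matrix (Fin 2) (Fin 2) F) * M = -1 →
        ((1 : Matrix (Fin 2) (Fin 2) F) + M).det = 2 := by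
      intro M hM
      have hd := Matrix.SpecialLinearGroup.det_coe M
      have h00 := congrFun (congrFun hM 0) 0
      simp [Matrix.mul_apply, Fin.sum_univ_two] at h00
      rw [det_fin_two] at hd
      have h11 := congrFun (congrFun hM 1) 1
      simp [Matrix.mul_apply, Fin.sum_univ_two] at h11
      set A := (M : Matrix (Fin 2) (Fin 2) F) with hA
      have htr : A 0 0 + A 1 1 = 0 := by
        have : (A 0 0 + A 1 1) ^ 2 = 0 := by linear_combination h00 + h11 + 2 * hd
        exact pow_eq_zero_iff two_ne_zero |>.1 this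
      rw [det_fin_two]
      simp
      linear_combination hd + htr
    let Wm : Matrix (Fin 2) (Fin 2) F := (2 : F)⁻¹ • ((1 + I) * (1 + J))
    have hWdet : Wm.det = 1 := by
      simp only [Wm, det_smul, det_mul, Fintype.card_fin]
      rw [hdetI g hII, hdetI y hJJ]
      field_simp
    let W : SL(2, F) := ⟨Wm, hWdet⟩
    have eIJI : I * (J * I) = J := by
      rw [hJI, mul_neg, ← mul_assoc, hII, neg_mul, one_mul, neg_neg]
    have eJIJ : J * I * J = I := by
      rw [hJI, neg_mul, mul_assoc, hJJ, mul_neg, mul_one, neg_neg]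
    have eIJJ : I * (J * J) = -I := by rw [hJJ, mul_neg, mul_one]
    have eJ2 : I * (J * I) * J = -1 := by rw [eIJI, hJJ]
    have hWI : W * g = y * W := Subtype.ext (by
      show Wm * I = J * Wm
      simp only [Wm, Matrix.smul_mul, Matrix.mul_smul]
      congr 1
      calc (1 + I) * (1 + J) * I = I + J * I + I * I + I * (J * I) := by noncomm_ring
        _ = I + -(I * J) + -1 + J := by rw [eIJI, hJI, hII]
        _ = J + J * J + J * I + J * I * J := by rw [eJIJ, hJJ, hJI]; abel
        _ = J * ((1 + I) * (1 + J)) := by noncomm_ring)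
    have hWJ : W * y = g * y * W := Subtype.ext (by
      show Wm * J = I * J * Wm
      simp only [Wm, Matrix.smul_mul, Matrix.mul_smul]
      congr 1
      calc (1 + I) * (1 + J) * J = J + J * J + I * J + I * (J * J) := by noncomm_ring
        _ = I * J + I * (J * J) + I * (J * I) + I * (J * I) * J := by
          rw [eJ2, eIJJ, eIJI, hJJ]; abel
        _ = I * J * ((1 + I) * (1 + J)) := by noncomm_ring)
    have hWg : W * g * W⁻¹ = y := by rw [hWI, mul_inv_cancel_right]
    have hWy : W * y * W⁻¹ = g * y := by rw [hWJ, mul_inv_cancel_right]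
    have hmemT2 : ∀ x ∈ T2, x = 1 ∨ x = negOne F ∨ x = g ∨ x = g * negOne F := by
      intro x hx
      have hle : Subgroup.zpowers g = T2 := Subgroup.eq_of_le_of_card_ge (Subgroup.zpowers_le.2 hgT2)
        (by rw [Nat.card_zpowers, hgord, hcard2])
      rw [← hle] at hx
      obtain ⟨i, hi⟩ := Subgroup.mem_zpowers_iff.1 hx
      rw [← hi, ← zpow_mod_orderOf, hgord, hs']
      have h4' : (i % ((2 ^ 2 : ℕ) : ℤ)) = 0 ∨ (i % ((2 ^ 2 : ℕ) : ℤ)) = 1 ∨
          (i % ((2 ^ 2 : ℕ) : ℤ)) = 2 ∨ (i % ((2 ^ 2 : ℕ) : ℤ)) = 3 := by omega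
      rcases h4' with h | h | h | h <;> rw [h]
      · exact Or.inl (zpow_zero g)
      · exact Or.inr (Or.inr (Or.inl (zpow_one g)))
      · exact Or.inr (Or.inl (by rw [← hgsq]; simp [zpow_ofNat, pow_succ, mul_assoc]))
      · exact Or.inr (Or.inr (Or.inr (by rw [← hgsq]; simp [zpow_ofNat, pow_succ, mul_assoc])))
    have hzc : ∀ a : SL(2, F), a * negOne F = negOne F * a := fun a =>
      Subgroup.mem_center_iff.1 (hpm _ (Or.inr rfl)) a
    have hWS : ∀ x ∈ S0, W * x * W⁻¹ ∈ S0 := by
      have hWz : W * negOne F * W⁻¹ ∈ S0 := by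
        rw [hzc, mul_inv_cancel_right]; exact Or.inl hzT2
      have hconj : ∀ a b : SL(2, F), W * (a * b) * W⁻¹ = (W * a * W⁻¹) * (W * b * W⁻¹) :=
        fun a b => by group
      have hT2' : ∀ x ∈ T2, W * x * W⁻¹ ∈ S0 := by
        intro x hx
        rcases hmemT2 x hx with rfl | rfl | rfl | rfl
        · simpa using S0.one_mem
        · exact hWz
        · rw [hWg]; exact hyS
        · rw [hconj, hWg]; exact S0.mul_mem hyS hWz
      rintro x (hx | hx)
      · exact hT2' x hx
      · rw [show x = y * (y⁻¹ * x) by group, hconj, hWy]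
        exact S0.mul_mem (S0.mul_mem hgS hyS) (hT2' _ hx)
    have hWn : W ∈ Subgroup.normalizer (S0 : Set SL(2, F)) := by
      refine Subgroup.mem_normalizer_iff.2 fun x => ⟨hWS x, fun hx => ?_⟩
      have heq : S0.map (MulAut.conj W).toMonoidHom = S0 :=
        Subgroup.eq_of_le_of_card_ge (by rintro _ ⟨a, ha, rfl⟩; exact hWS a ha)
          (by rw [Subgroup.card_map_of_injective (MulAut.conj W).injective])
      rw [← heq] at hx
      obtain ⟨a, ha, hae⟩ := hx
      rwa [← (MulAut.conj W).injective (show MulAut.conj W a = MulAut.conj W x from hae)]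
    have hzy : ∀ a : SL(2, F), a ∈ S0 → a * g * a⁻¹ ∈ T2 := by
      rintro a (ha | ha)
      · rw [hD2.comm a ha g hgT2, mul_inv_cancel_right]; exact hgT2
      · have : a * g * a⁻¹ = y * ((y⁻¹ * a) * g * (y⁻¹ * a)⁻¹) * y⁻¹ := by group
        rw [this, hD2.comm _ ha g hgT2, mul_inv_cancel_right, hD2.inv g hgT2]
        exact T2.inv_mem hgT2
    have hWnot : W ∉ S0 := fun hW => by
      have := hzy W hW
      rw [hWg] at this
      exact h.y_not_mem this.1
    have hW2not : W * W ∉ S0 := fun hW => by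
      have := hzy _ hW
      have e : W * W * g * (W * W)⁻¹ = g * y := by rw [← hWy, ← hWg]; group
      rw [e] at this
      exact h.y_not_mem (by simpa using T.mul_mem (T.inv_mem hgT2.1) this.1)
    let N := Subgroup.normalizer (S0 : Set SL(2, F))
    have hW3 : W * W * W ∈ S0 := by
      refine hfix _ (N.mul_mem (N.mul_mem hWn hWn) hWn) ?_
      have e : W * W * W * g * (W * W * W)⁻¹ = W * (W * (W * g * W⁻¹) * W⁻¹) * W⁻¹ := by group
      have e' : W * (g * y) * W⁻¹ = (W * g * W⁻¹) * (W * y * W⁻¹) := by group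
      rw [e, hWg, hWy, e', hWg, hWy, ← mul_assoc]
      have e1 : y * g = g⁻¹ * y := mul_inv_eq_iff_eq_mul.1 (h.inv g hgT2.1)
      rw [e1, mul_assoc, h.ysq]
      exact T2.mul_mem (T2.inv_mem hgT2) hzT2
    let f : Fin 3 × S0 → N := fun u => ⟨W ^ (u.1 : ℕ) * u.2,
      N.mul_mem (N.pow_mem hWn _) (Subgroup.le_normalizer u.2.2)⟩
    have hf : Function.Bijective f := by
      constructor
      · rintro ⟨i, a⟩ ⟨j, b⟩ hab
        have hab' := congrArg Subtype.val hab
        simp only [f] at hab'
        have hmem : (W ^ (i : ℕ))⁻¹ * W ^ (j : ℕ) ∈ S0 := by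
          rw [show (W ^ (i : ℕ))⁻¹ * W ^ (j : ℕ) = (a : SL(2, F)) * (b : SL(2, F))⁻¹ by
            rw [eq_mul_inv_iff_mul_eq, mul_assoc, ← hab', inv_mul_cancel_left]]
          exact S0.mul_mem a.2 (S0.inv_mem b.2)
        have hij : i = j := by
          fin_cases i <;> fin_cases j <;> first | rfl | (exfalso; simp [pow_succ] at hmem)
          all_goals first
            | exact hWnot hmem
            | exact hW2not hmem
            | exact hWnot (inv_mem_iff.1 hmem)
            | exact hW2not (inv_mem_iff.1 (by rwa [_root_.mul_inv_rev]))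
        subst hij
        rw [Subtype.ext (mul_left_cancel hab')]
      · rintro ⟨n, hn⟩
        have hgn := (Subgroup.mem_normalizer_iff.1 hn g).1 hgS
        suffices ∃ i : Fin 3, (W ^ (i : ℕ))⁻¹ * n ∈ S0 by
          obtain ⟨i, hi⟩ := this
          exact ⟨(i, ⟨_, hi⟩), Subtype.ext (mul_inv_cancel_left _ _)⟩
        have back : ∀ i : ℕ, (W ^ i)⁻¹ * n * g * ((W ^ i)⁻¹ * n)⁻¹ ∈ T2 →
            (W ^ i)⁻¹ * n ∈ S0 :=
          fun i hi => hfix _ (N.mul_mem (N.inv_mem (N.pow_mem hWn i)) hn) hi
        have eg : ∀ w : SL(2, F), w⁻¹ * n * g * (w⁻¹ * n)⁻¹ = w⁻¹ * (n * g * n⁻¹) * w :=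
          fun w => by group
        have h1 : W⁻¹ * y * W = g := by rw [← hWg]; group
        have h2' : (W * W)⁻¹ * (g * y) * (W * W) = g := by rw [← hWy, ← hWg]; group
        rcases hgn with h' | h'
        · exact ⟨0, back 0 (by simpa using h')⟩
        · rcases hmemT2 _ h' with e | e | e | e
          · refine ⟨1, back 1 ?_⟩
            rw [eg, show n * g * n⁻¹ = y by rw [inv_mul_eq_iff_eq_mul] at e; simpa using e, pow_one,
              h1]
            exact hgT2
          · refine ⟨1, back 1 ?_⟩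
            rw [inv_mul_eq_iff_eq_mul] at e
            rw [eg, e, pow_one, show W⁻¹ * (y * negOne F) * W = (W⁻¹ * y * W) * negOne F by
              rw [mul_assoc _ W, hzc W]; group, h1]
            exact T2.mul_mem hgT2 hzT2
          · refine ⟨2, back 2 ?_⟩
            rw [inv_mul_eq_iff_eq_mul] at e
            have e' : y * g = g * y * negOne F := by
              rw [mul_inv_eq_iff_eq_mul.1 (h.inv g hgT2.1), mul_assoc, hzc, ← mul_assoc,
                inv_eq_of_mul_eq_one_right (b := g * negOne F) (by rw [← mul_assoc, hgsq, negOne_sq])]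
            rw [eg, e, e', sq,
              show (W * W)⁻¹ * (g * y * negOne F) * (W * W) =
                ((W * W)⁻¹ * (g * y) * (W * W)) * negOne F by
              rw [mul_assoc _ (W * W), hzc (W * W)]; group, h2']
            exact T2.mul_mem hgT2 hzT2
          · refine ⟨2, back 2 ?_⟩
            rw [inv_mul_eq_iff_eq_mul] at e
            have e' : y * (g * negOne F) = g * y := by
              rw [← mul_assoc, mul_inv_eq_iff_eq_mul.1 (h.inv g hgT2.1), mul_assoc, hzc,
                ← mul_assoc, inv_eq_of_mul_eq_one_right (b := g * negOne F)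
                  (by rw [← mul_assoc, hgsq, negOne_sq]), mul_assoc g, negOne_sq, mul_one]
            rw [eg, e, e', sq, h2']
            exact hgT2
    rw [← Nat.card_eq_of_bijective f hf, Nat.card_prod, Nat.card_eq_fintype_card (α := Fin 3),
      Fintype.card_fin]

end Cfsg.Agent.Classical.SylowTwoNormalizer
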