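import Cfsg.Agent.Lib.Classical.OmegaCrit
import Cfsg.Agent.Lib.Classical.OrthForms
import Cfsg.Agent.Lib.Classical.SpectrumFactors
import Cfsg.Agent.Lib.Classical.SpectrumSymp

/-!
# No element of order `2pr` in `Ω_{2k+3}(q)` for a suitable primitive prime `r`
-/

set_option autoImplicit false
set_option linter.unusedSectionVars false

namespace Cfsg.Agent.Classical.OddOrthSpectrum

open Polynomial Module
open scoped Matrix
open Cfsg.Agent.Forms

universe u v

variable {F : Type u} [Field F] {V : Type v} [AddCommGroup V] [Module F V] [FiniteDimensional F V]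

/-- `f` preserves `B`. -/
def Isom (B : LinearMap.BilinForm F V) (f : Module.End F V) : Prop := ∀ u w, B (f u) (f w) = B u w

variable {B : LinearMap.BilinForm F V} {f : Module.End F V}

theorem gram {n : Type*} [Fintype n] [DecidableEq n] (hf : Isom B f) (b : Basis n F V) :
    (LinearMap.toMatrix b b f)ᵀ * LinearMap.BilinForm.toMatrix b B * LinearMap.toMatrix b b f =
      LinearMap.BilinForm.toMatrix b B := by
  rw [← LinearMap.BilinForm.toMatrix_comp b b B f f]
  exact congrArg _ (LinearMap.ext fun u => LinearMap.ext fun w => hf u w)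

theorem det_sq (hB : B.Nondegenerate) (hf : Isom B f) : LinearMap.det f * LinearMap.det f = 1 := by
  let b := Module.finBasis F V
  have h := congrArg Matrix.det (gram hf b)
  rw [Matrix.det_mul, Matrix.det_mul, Matrix.det_transpose, LinearMap.det_toMatrix] at h
  exact mul_right_cancel₀ ((LinearMap.BilinForm.nondegenerate_iff_det_ne_zero b).1 hB)
    (by linear_combination h)

theorem det_pow_odd (hB : B.Nondegenerate) (hf : Isom B f) {r : ℕ} (hr : Odd r) (hfr : f ^ r = 1) :
    LinearMap.det f = 1 := by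
  have h1 : LinearMap.det f ^ r = 1 := by rw [← map_pow, hfr, map_one]
  obtain ⟨c, rfl⟩ := hr
  rwa [pow_succ, pow_mul, pow_two, det_sq hB hf, one_pow, one_mul] at h1

/-- an isometry of determinant one in odd dimension fixes a vector -/
theorem exists_fixed (h2 : (2 : F) ≠ 0) (hB : B.Nondegenerate) (hf : Isom B f)
    (hd : LinearMap.det f = 1) (hn : Odd (finrank F V)) : ∃ v, v ≠ 0 ∧ f v = v := by
  let b := Module.finBasis F V
  set A := LinearMap.toMatrix b b f with hA
  set G := LinearMap.BilinForm.toMatrix b B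
  have h : (A - 1)ᵀ * G * A = -(G * (A - 1)) := by
    rw [Matrix.transpose_sub, Matrix.transpose_one, sub_mul, sub_mul, one_mul, mul_sub, mul_one,
      hA, gram hf b, neg_sub]
  have hG := (LinearMap.BilinForm.nondegenerate_iff_det_ne_zero b).1 hB
  have h' := congrArg Matrix.det h
  rw [Matrix.det_mul, Matrix.det_mul, Matrix.det_transpose, Matrix.det_neg, Matrix.det_mul,
    Fintype.card_fin, hn.neg_one_pow, hA, LinearMap.det_toMatrix, hd] at h'
  have h0 : (LinearMap.toMatrix b b f - 1).det = 0 := by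
    have : 2 * (LinearMap.toMatrix b b f - 1).det * G.det = 0 := by linear_combination h'
    exact (mul_eq_zero.1 ((mul_eq_zero.1 this).resolve_right hG)).resolve_left h2
  have h1 : LinearMap.det (f - 1) = 0 := by
    rw [← LinearMap.det_toMatrix b, map_sub, LinearMap.toMatrix_one, h0]
  obtain ⟨v, hv, hv0⟩ := Submodule.exists_mem_ne_zero_of_ne_bot
    (LinearMap.bot_lt_ker_of_det_eq_zero h1).ne'
  exact ⟨v, hv0, sub_eq_zero.1 hv⟩

omit [FiniteDimensional F V] in
theorem isom_pow (hf : Isom B f) (j : ℕ) : Isom B (f ^ j) := by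
  induction j with
  | zero => intro u w; rfl
  | succ j ih => intro u w; rw [pow_succ, Module.End.mul_apply, Module.End.mul_apply, ih, hf]

omit [FiniteDimensional F V] in
theorem isom_restrict (hf : Isom B f) {W : Submodule F V} (hW : ∀ x ∈ W, f x ∈ W) :
    Isom (B.restrict W) (f.restrict hW) := fun u w => hf u w

theorem restrict_nondeg (hS : B.IsSymm) {W : Submodule F V} (hW : Bases.NondegOn B W) :
    (B.restrict W).Nondegenerate := by
  have hl : ∀ x : W, (∀ y : W, B x.1 y.1 = 0) → x = 0 := fun x hx =>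
    Subtype.ext (hW x.1 x.2 fun y hy => hx ⟨y, hy⟩)
  exact ⟨hl, fun y hy => hl y fun x => by rw [hS.eq]; exact hy x⟩

/-- the eigenvalues of an isometry are closed under inversion -/
theorem aeval_inv_charpoly {K : Type*} [Field K] [Algebra F K] (hB : B.Nondegenerate)
    (hf : Isom B f) {t : K} (ht : t ≠ 0) (hroot : aeval t f.charpoly = 0) :
    aeval t⁻¹ f.charpoly = 0 := by
  let b := Module.finBasis F V
  have hG := (LinearMap.BilinForm.nondegenerate_iff_det_ne_zero b).1 hB
  have hAd : (LinearMap.toMatrix b b f).det ≠ 0 := by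
    rw [LinearMap.det_toMatrix]
    exact fun h => zero_ne_one (α := F) (by simpa [h] using det_sq hB hf)
  have hg := congrArg (fun M => M.map (algebraMap F K)) (gram hf b)
  simp only [Matrix.map_mul, Matrix.transpose_map] at hg
  have key : ∀ s : K, aeval s f.charpoly =
      (Matrix.scalar _ s - (LinearMap.toMatrix b b f).map (algebraMap F K)).det := fun s => by
    rw [← LinearMap.charpoly_toMatrix f b, aeval_def, ← eval_map, ← Matrix.charpoly_map,
      Matrix.eval_charpoly]
  set A := (LinearMap.toMatrix b b f).map (algebraMap F K) with hA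
  set G := (LinearMap.BilinForm.toMatrix b B).map (algebraMap F K) with hG'
  rw [key] at hroot ⊢
  have h : (Matrix.scalar _ t⁻¹ - A)ᵀ * G * A = (-t⁻¹) • (G * (Matrix.scalar _ t - A)) := by
    rw [Matrix.scalar_apply, Matrix.scalar_apply, ← Matrix.smul_one_eq_diagonal,
      ← Matrix.smul_one_eq_diagonal, Matrix.transpose_sub, Matrix.transpose_smul, Matrix.transpose_one,
      sub_mul, sub_mul, hg, smul_mul_assoc, smul_mul_assoc, one_mul, mul_sub, Matrix.mul_smul, mul_one,
      smul_sub, smul_smul, neg_mul, inv_mul_cancel₀ ht, neg_smul, neg_smul, one_smul]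
    abel
  have h' := congrArg Matrix.det h
  rw [Matrix.det_mul, Matrix.det_mul, Matrix.det_transpose, Matrix.det_smul, Matrix.det_mul, hroot,
    mul_zero, mul_zero] at h'
  have e1 : G.det ≠ 0 := by
    rw [hG', ← RingHom.mapMatrix_apply, ← RingHom.map_det]
    exact (_root_.map_ne_zero _).2 hG
  have e2 : A.det ≠ 0 := by
    rw [hA, ← RingHom.mapMatrix_apply, ← RingHom.map_det]
    exact (_root_.map_ne_zero _).2 hAd
  simpa [e1, e2] using h'

section Factors

variable [Fintype F]

/-- without fixed vectors all factors have the same degree -/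
theorem exists_factors {r e : ℕ} (hr : r.Prime) (hrF : (r : F) ≠ 0)
    (he : e = orderOf ((Fintype.card F : ℕ) : ZMod r)) (hfr : f ^ r = 1)
    (hfix : ∀ v, f v = v → v = 0) :
    e ∣ finrank F V ∧ (0 < finrank F V → ∃ x : F[X], x.Monic ∧ Irreducible x ∧ x ∣ f.charpoly ∧
      x ∣ cyclotomic r F ∧ x.natDegree = e) := by
  classical
  let b := Module.finBasis F V
  let A := LinearMap.toMatrixAlgEquiv b f
  have hA : A ^ r = 1 := by rw [← map_pow, hfr, map_one]
  have hAc : A.charpoly = f.charpoly := LinearMap.charpoly_toMatrix f b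
  obtain ⟨s, hs, hAs⟩ := PowScalarClasses.admissible_factors hrF one_ne_zero (A := A)
    (by rw [one_smul, hA])
  have hne : ∀ x ∈ s, x ≠ X - C 1 := by
    rintro x hx rfl
    have h1 : f.charpoly.eval 1 = 0 := by
      rw [← hAc, hAs]
      obtain ⟨c, hc⟩ := Multiset.dvd_prod hx
      rw [hc, eval_mul, eval_sub, eval_X, eval_C, sub_self, zero_mul]
    rw [LinearMap.eval_charpoly] at h1
    obtain ⟨v, hv, hv0⟩ := Submodule.exists_mem_ne_zero_of_ne_bot
      (LinearMap.bot_lt_ker_of_det_eq_zero h1).ne'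
    refine hv0 (hfix v ?_)
    have h3 : algebraMap F (Module.End F V) 1 v - f v = 0 := hv
    rw [map_one, Module.End.one_apply, sub_eq_zero] at h3
    exact h3.symm
  have hdeg : ∀ x ∈ s, x.natDegree = e := fun x hx => by
    rw [he]; exact SpectrumFactors.fac_degree hr hrF (hs.1 x hx).1 (hs.1 x hx).2.1 (hs.1 x hx).2.2 (hne x hx)
  have hsum := hs.2
  rw [Multiset.map_congr rfl hdeg, Multiset.map_const', Multiset.sum_replicate, smul_eq_mul] at hsum
  refine ⟨⟨_, hsum.symm.trans (mul_comm _ _)⟩, fun hpos => ?_⟩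
  obtain ⟨x, hx⟩ : ∃ x, x ∈ s := by
    refine Multiset.exists_mem_of_ne_zero fun h0 => ?_
    rw [h0, Multiset.card_zero, zero_mul] at hsum
    omega
  obtain ⟨d, hd, hxd⟩ := SpectrumTools.exists_divisor hr.pos (hs.1 x hx).2.1 (hs.1 x hx).2.2
  rcases (Nat.dvd_prime hr).1 hd with rfl | rfl
  · rw [cyclotomic_one] at hxd
    exact absurd (eq_of_monic_of_associated (hs.1 x hx).1 (monic_X_sub_C 1)
      ((hs.1 x hx).2.1.associated_of_dvd (irreducible_X_sub_C 1) (by rwa [map_one]))) (hne x hx)
  · exact ⟨x, (hs.1 x hx).1, (hs.1 x hx).2.1, hAc ▸ hAs ▸ Multiset.dvd_prod hx, hxd, hdeg x hx⟩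

/-- the only possible dimension of a non-degenerate invariant space without fixed vectors -/
theorem dim_key (h2 : (2 : F) ≠ 0) {r e k : ℕ} (hr : r.Prime) (hr2 : r ≠ 2) (hrF : (r : F) ≠ 0)
    (he : e = orderOf ((Fintype.card F : ℕ) : ZMod r)) (hk : 2 ≤ k)
    (hek : e = 2 * k ∨ (Odd k ∧ e = k)) (hB : B.Nondegenerate) (hf : Isom B f) (hfr : f ^ r = 1)
    (hfix : ∀ v, f v = v → v = 0) (hle : finrank F V ≤ 2 * k + 3) (hpos : 0 < finrank F V) :
    finrank F V = 2 * k ∧ Squarefree f.charpoly ∧
      ∃ x y : F[X], x.Monic ∧ y.Monic ∧ x.natDegree = e ∧ y.natDegree = e ∧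
        (e = k → f.charpoly = x * y) := by
  classical
  obtain ⟨hdvd, hex⟩ := exists_factors hr hrF he hfr hfix
  obtain ⟨x, hxm, hxi, hxf, hxd, hxe⟩ := hex hpos
  have : Fact (Irreducible x) := ⟨hxi⟩
  have hodd : Odd r := hr.odd_of_ne_two hr2
  have heven : Even (finrank F V) := by
    rw [← Nat.not_odd_iff_even]
    intro ho
    obtain ⟨v, hv0, hv⟩ := exists_fixed h2 hB hf (det_pow_odd hB hf hodd hfr) ho
    exact hv0 (hfix v hv)
  obtain ⟨c, hc⟩ := hdvd
  have hroot := SpectrumSymp.primitive_root hrF hxi hxd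
  have hrootne : AdjoinRoot.root x ≠ 0 := fun h0 => by
    have := hroot.pow_eq_one
    rw [h0, zero_pow hr.ne_zero] at this
    exact zero_ne_one this
  have hinv : aeval (AdjoinRoot.root x)⁻¹ f.charpoly = 0 :=
    aeval_inv_charpoly hB hf hrootne (by rw [AdjoinRoot.aeval_eq]; exact AdjoinRoot.mk_eq_zero.2 hxf)
  have hpw : (AdjoinRoot.root x)⁻¹ = AdjoinRoot.root x ^ (r - 1) := inv_eq_of_mul_eq_one_right (by
    rw [← pow_succ', Nat.sub_add_cancel hr.one_le, hroot.pow_eq_one])
  let b := Module.finBasis F V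
  have hMc : (LinearMap.toMatrix b b f).charpoly = f.charpoly := LinearMap.charpoly_toMatrix f b
  rcases hek with rfl | ⟨hkodd, hek⟩
  · have hc1 : c = 1 := by nlinarith
    refine ⟨by rw [hc, hc1, mul_one], ?_, x, x, hxm, hxm, hxe, hxe, fun h => absurd h (by omega)⟩
    rw [← hMc]
    refine SpectrumFactors.squarefree_of_card_le {x} (fun z hz => ?_) ?_
    · rw [Finset.mem_singleton.1 hz, hMc]; exact ⟨hxm, hxi, hxf⟩
    · rw [Finset.sum_singleton, hxe, Fintype.card_fin, hc, hc1, mul_one]
  · subst k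
    have : Module.Finite F (AdjoinRoot x) := (AdjoinRoot.powerBasis hxi.ne_zero).finite
    have hint : IsIntegral F (AdjoinRoot.root x)⁻¹ := IsIntegral.of_finite F _
    set y := minpoly F (AdjoinRoot.root x)⁻¹ with hy
    have hyf : y ∣ f.charpoly := minpoly.dvd F _ hinv
    have hyc : y ∣ cyclotomic r F := minpoly.dvd F _ (by
      rw [aeval_def, ← eval_map, map_cyclotomic]
      exact hroot.inv.isRoot_cyclotomic hr.pos)
    have hye : y.natDegree = e := by
      rw [he]; exact SpectrumTools.natDegree_of_dvd_cyclotomic hrF (minpoly.irreducible hint) hyc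
    have hxy : x ≠ y := by
      intro hxy
      obtain ⟨j, hj⟩ := SpectrumSymp.exists_neg_one hrF dvd_rfl hr.pos hxi hxd (k := r) (by
        have h0 : aeval (AdjoinRoot.root x)⁻¹ y = 0 := minpoly.aeval F _
        rwa [← hxy, hpw] at h0)
      have : Fact (2 < r) := ⟨lt_of_le_of_ne hr.two_le (Ne.symm hr2)⟩
      have h1 : (((Fintype.card F : ℕ) : ZMod r) ^ j) ^ e = 1 := by
        rw [← pow_mul, mul_comm, pow_mul, he, pow_orderOf_eq_one, one_pow]
      rw [hj, hkodd.neg_one_pow] at h1
      exact ZMod.neg_one_ne_one h1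
    have hT : ∀ z ∈ ({x, y} : Finset F[X]), z.Monic ∧ Irreducible z ∧
        z ∣ (LinearMap.toMatrix b b f).charpoly := fun z hz => by
      rw [hMc]
      rw [Finset.mem_insert, Finset.mem_singleton] at hz
      rcases hz with rfl | rfl
      exacts [⟨hxm, hxi, hxf⟩, ⟨minpoly.monic hint, minpoly.irreducible hint, hyf⟩]
    have hge := SpectrumFactors.sum_le _ hT
    rw [Finset.sum_pair hxy, hxe, hye, Fintype.card_fin] at hge
    have hc2 : c = 2 := by
      have h4 : c < 4 := by nlinarith
      have h2' : 2 ≤ c := by nlinarith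
      obtain rfl | rfl : c = 2 ∨ c = 3 := by omega
      · rfl
      · rw [hc, Nat.even_mul] at heven
        rcases heven with he' | he'
        · exact absurd he' (Nat.not_even_iff_odd.2 hkodd)
        · exact absurd he' (by decide)
    refine ⟨by rw [hc, hc2, mul_comm], ?_, x, y, hxm, minpoly.monic hint, hxe, hye, fun _ => ?_⟩
    · rw [← hMc]
      exact SpectrumFactors.squarefree_of_card_le _ hT
        (by rw [Finset.sum_pair hxy, hxe, hye, Fintype.card_fin, hc, hc2]; omega)
    · refine ((eq_of_monic_of_dvd_of_natDegree_le (hxm.mul (minpoly.monic hint))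
        (LinearMap.charpoly_monic f) ((hxi.coprime_iff_not_dvd.2 fun hd => hxy
          (eq_of_monic_of_associated hxm (minpoly.monic hint)
            (hxi.associated_of_dvd (minpoly.irreducible hint) hd))).mul_dvd hxf hyf) ?_).trans rfl)
      rw [LinearMap.charpoly_natDegree, hxm.natDegree_mul (minpoly.monic hint), hxe, hye, hc, hc2]
      omega

/-- an odd invariant subspace is totally isotropic -/
theorem exists_isotropic (h2 : (2 : F) ≠ 0) {r k : ℕ} (hr : r.Prime) (hr2 : r ≠ 2) (hrF : (r : F) ≠ 0)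
    (he : k = orderOf ((Fintype.card F : ℕ) : ZMod r)) (hk : 2 ≤ k) (hkodd : Odd k)
    (hS : B.IsSymm) (hB : B.Nondegenerate) (hf : Isom B f) (hfr : f ^ r = 1)
    (hfix : ∀ v, f v = v → v = 0) (hdim : finrank F V = 2 * k) :
    ∃ L : Submodule F V, finrank F L = k ∧ ∀ a ∈ L, ∀ c ∈ L, B a c = 0 := by
  classical
  obtain ⟨-, -, x, y, hxm, hym, hxe, hye, hxy⟩ :=
    dim_key h2 hr hr2 hrF he hk (Or.inr ⟨hkodd, rfl⟩) hB hf hfr hfix (by omega) (by omega)
  have hCH : aeval f x * aeval f y = 0 := by rw [← map_mul, ← hxy rfl, LinearMap.aeval_self_charpoly]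
  have : Nontrivial V := Module.nontrivial_of_finrank_pos (R := F) (by omega)
  obtain ⟨z, hzm, hze, v, hv0, hzv⟩ : ∃ z : F[X], z.Monic ∧ z.natDegree = k ∧
      ∃ v, v ≠ 0 ∧ aeval f z v = 0 := by
    by_cases hx0 : ∃ v, v ≠ 0 ∧ aeval f x v = 0
    · exact ⟨x, hxm, hxe, hx0⟩
    · push Not at hx0
      obtain ⟨v, hv⟩ := exists_ne (0 : V)
      refine ⟨y, hym, hye, v, hv, ?_⟩
      by_contra hne
      exact hx0 _ hne (LinearMap.congr_fun hCH v)
  let L := Submodule.span F (Set.range fun i : Fin k => (f ^ (i : ℕ)) v)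
  have hLle : finrank F L ≤ k := (finrank_range_le_card _).trans_eq (Fintype.card_fin k)
  have hvL : v ∈ L := Submodule.subset_span ⟨⟨0, by omega⟩, by simp⟩
  have hLf : ∀ a ∈ L, f a ∈ L := by
    have : L ≤ L.comap f := by
      rw [Submodule.span_le]
      rintro _ ⟨i, rfl⟩
      show f ((f ^ (i : ℕ)) v) ∈ L
      rw [← Module.End.mul_apply, ← pow_succ']
      by_cases hi : (i : ℕ) + 1 < k
      · exact Submodule.subset_span ⟨⟨_, hi⟩, rfl⟩
      · rw [show (i : ℕ) + 1 = k by omega]
        have h0 := hzv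
        rw [aeval_eq_sum_range, hze, Finset.sum_range_succ,
          show z.coeff k = 1 by rw [← hze]; exact hzm.coeff_natDegree, one_smul, LinearMap.add_apply,
          add_eq_zero_iff_eq_neg'] at h0
        rw [h0, LinearMap.sum_apply]
        exact neg_mem (sum_mem fun j hj =>
          Submodule.smul_mem _ _ (Submodule.subset_span ⟨⟨j, Finset.mem_range.1 hj⟩, rfl⟩))
    exact fun a ha => this ha
  have hdvdL : ∀ (R : Submodule F V), (∀ a ∈ R, f a ∈ R) → k ∣ finrank F R := fun R hR =>
    (exists_factors hr hrF he (SemisimpleConj.restrict_pow_eq_one hfr hR)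
      fun a ha => Subtype.ext (hfix a.1 (congrArg Subtype.val ha))).1
  have hLpos : 0 < finrank F L :=
    Module.finrank_pos_iff_exists_ne_zero.2 ⟨⟨v, hvL⟩, fun h => hv0 (congrArg Subtype.val h)⟩
  have hLk : finrank F L = k := le_antisymm hLle (Nat.le_of_dvd hLpos (hdvdL L hLf))
  refine ⟨L, hLk, ?_⟩
  let R := L ⊓ B.orthogonal L
  have hRf : ∀ a ∈ R, f a ∈ R := fun a ha => by
    obtain ⟨haL, hao⟩ := Submodule.mem_inf.1 ha
    refine Submodule.mem_inf.2 ⟨hLf a haL, fun w hw => ?_⟩
    show B w (f a) = 0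
    have hw' : w = f ((f ^ (r - 1)) w) := by
      rw [← Module.End.mul_apply, ← pow_succ', Nat.sub_add_cancel hr.one_le, hfr, Module.End.one_apply]
    rw [hw', hf]
    refine hao _ ?_
    have hpowL : ∀ (j : ℕ), (f ^ j) w ∈ L := fun j => by
      induction j with
      | zero => exact hw
      | succ j ih => rw [pow_succ', Module.End.mul_apply]; exact hLf _ ih
    exact hpowL _
  intro a ha c hc
  rcases Nat.eq_zero_or_pos (finrank F R) with h0 | h0
  · have hR : R = ⊥ := Submodule.finrank_eq_zero.1 h0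
    have hnd : Bases.NondegOn B L := fun z hz hzo => by
      have : z ∈ R := Submodule.mem_inf.2 ⟨hz, fun w hw => by
        show B w z = 0
        rw [hS.eq]; exact hzo w hw⟩
      rwa [hR, Submodule.mem_bot] at this
    obtain ⟨w, hw0, hw⟩ := exists_fixed h2 (restrict_nondeg hS hnd) (isom_restrict hf hLf)
      (det_pow_odd (restrict_nondeg hS hnd) (isom_restrict hf hLf) (hr.odd_of_ne_two hr2)
        (SemisimpleConj.restrict_pow_eq_one hfr hLf)) (hLk.symm ▸ hkodd)
    exact absurd (Subtype.ext (hfix w.1 (congrArg Subtype.val hw))) hw0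
  · have hRk := Nat.le_of_dvd h0 (hdvdL R hRf)
    have hRL : R = L := Submodule.eq_of_le_of_finrank_le inf_le_left (by omega)
    rw [← hRL] at hc
    exact (Submodule.mem_inf.1 hc).2 a ha

end Factors

/-- the discriminant of a form with a maximal isotropic subspace -/
theorem isSquare_of_isotropic (hS : B.IsSymm) {k : ℕ} (b : Basis (Fin (2 * k)) F V)
    (d : Fin (2 * k) → F) (hb : ∀ i j, B (b i) (b j) = if i = j then d i else 0) (L : Submodule F V)
    (hL : finrank F L = k) (hiso : ∀ a ∈ L, ∀ c ∈ L, B a c = 0) :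
    IsSquare ((-1 : F) ^ k * ∏ i, d i) := by
  obtain ⟨C, hC⟩ := Submodule.exists_isCompl L
  have hCk : finrank F C = k := by
    have h := Submodule.finrank_add_eq_of_isCompl hC
    rw [hL, finrank_eq_card_basis b, Fintype.card_fin] at h
    omega
  let bL := Module.finBasisOfFinrankEq F L hL
  let bC := Module.finBasisOfFinrankEq F C hCk
  let b' : Basis (Fin k ⊕ Fin k) F V := (bL.prod bC).map (Submodule.prodEquivOfIsCompl L C hC)
  let b₀ : Basis (Fin k ⊕ Fin k) F V := b.reindex ((finCongr (two_mul k)).trans finSumFinEquiv.symm)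
  have h₀ : LinearMap.BilinForm.toMatrix b₀ B =
      Matrix.diagonal fun i => d (((finCongr (two_mul k)).trans finSumFinEquiv.symm).symm i) := by
    ext i j
    rw [LinearMap.BilinForm.toMatrix_apply, Matrix.diagonal_apply, Basis.reindex_apply,
      Basis.reindex_apply, hb]
    simp
  set G := LinearMap.BilinForm.toMatrix b' B with hG
  have h11 : G.toBlocks₁₁ = 0 := by
    ext i j
    show G (Sum.inl i) (Sum.inl j) = 0
    rw [hG, LinearMap.BilinForm.toMatrix_apply]
    refine hiso _ ?_ _ ?_ <;> simp [b']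
  have h21 : G.toBlocks₂₁ = G.toBlocks₁₂ᵀ := by
    ext i j
    show G (Sum.inr i) (Sum.inl j) = G (Sum.inl j) (Sum.inr i)
    rw [hG, LinearMap.BilinForm.toMatrix_apply, LinearMap.BilinForm.toMatrix_apply, hS.eq]
  have hdet : G.det = (-1) ^ k * (G.toBlocks₁₂.det * G.toBlocks₁₂.det) := by
    conv_lhs => rw [← Matrix.fromBlocks_toBlocks G, h11, h21]
    have hJ : (Matrix.fromBlocks (0 : Matrix (Fin k) (Fin k) F) (1 : Matrix (Fin k) (Fin k) F)
        (1 : Matrix (Fin k) (Fin k) F) 0).det = (-1) ^ k := by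
      have hp : (Matrix.fromBlocks (1 : Matrix (Fin k) (Fin k) F) (1 : Matrix (Fin k) (Fin k) F) 0
            (1 : Matrix (Fin k) (Fin k) F)) *
          Matrix.fromBlocks 1 0 (-1) 1 * Matrix.fromBlocks 1 1 0 1 *
          Matrix.fromBlocks 1 0 0 (-1) = Matrix.fromBlocks 0 (-1) (-1) 0 := by
        simp [Matrix.fromBlocks_multiply]
      have hneg : Matrix.fromBlocks (0 : Matrix (Fin k) (Fin k) F) (-1) (-1) 0 =
          -Matrix.fromBlocks 0 (1 : Matrix (Fin k) (Fin k) F) (1 : Matrix (Fin k) (Fin k) F) 0 := by rw [Matrix.fromBlocks_neg]; simp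
      have h := congrArg Matrix.det hp
      rw [hneg, Matrix.det_neg, Fintype.card_sum, Fintype.card_fin, ← two_mul, pow_mul, neg_one_sq,
        one_pow, one_mul, Matrix.det_mul, Matrix.det_mul, Matrix.det_mul,
        Matrix.det_fromBlocks_zero₂₁, Matrix.det_fromBlocks_zero₁₂, Matrix.det_fromBlocks_zero₁₂,
        Matrix.det_neg, Fintype.card_fin] at h
      simpa using h.symm
    rw [show Matrix.fromBlocks 0 G.toBlocks₁₂ G.toBlocks₁₂ᵀ G.toBlocks₂₂ =
        Matrix.fromBlocks G.toBlocks₁₂ 0 G.toBlocks₂₂ G.toBlocks₁₂ᵀ *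
          Matrix.fromBlocks 0 (1 : Matrix (Fin k) (Fin k) F) (1 : Matrix (Fin k) (Fin k) F) 0 by
      rw [Matrix.fromBlocks_multiply]; simp, Matrix.det_mul, hJ, Matrix.det_fromBlocks_zero₁₂,
      Matrix.det_transpose]
    ring
  have hch : G.det = ((b₀.toMatrix b').det * (b₀.toMatrix b').det) * ∏ i, d i := by
    rw [hG, ← LinearMap.BilinForm.toMatrix_mul_basis_toMatrix b₀ b' B, h₀, Matrix.det_mul,
      Matrix.det_mul, Matrix.det_transpose, Matrix.det_diagonal, Equiv.prod_comp _ d]
    ring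
  have hP : (b₀.toMatrix b').det ≠ 0 := fun h0 => by
    have h := congrArg Matrix.det (b₀.toMatrix_mul_toMatrix_flip b')
    rw [Matrix.det_mul, h0, zero_mul, Matrix.det_one] at h
    exact zero_ne_one h
  refine ⟨G.toBlocks₁₂.det / (b₀.toMatrix b').det, ?_⟩
  have hk2 : ((-1 : F) ^ k) * (-1) ^ k = 1 := by rw [← mul_pow]; simp
  field_simp
  linear_combination (-1 : F) ^ k * (hdet.symm.trans hch).symm +
    (G.toBlocks₁₂.det ^ 2) * hk2

end Cfsg.Agent.Classical.OddOrthSpectrum
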