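import Cfsg.Agent.Lib.Classical.OmegaCrit

/-!
# Sign changes on hyperbolic coordinate pairs
-/

set_option autoImplicit false

namespace Cfsg.Agent.Classical.OmegaPairs

open Cfsg.Agent.Forms Cfsg.Agent.Forms.QuadStd Cfsg.Agent.Forms.Reflections
open Cfsg.Agent.Classical.OmegaCrit

variable {F : Type*} [Field F] [Fintype F] {ι : Type} [Fintype ι] [DecidableEq ι]
variable {Q : QuadraticForm F (ι → F)}

theorem act_pair {x y : ι} (hne : x ≠ y) (hQx : Q (Pi.single x 1) = 0) (hQy : Q (Pi.single y 1) = 0)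
    (hx : ∀ v, QuadraticMap.polar Q (Pi.single x 1) v = v y)
    (hy : ∀ v, QuadraticMap.polar Q (Pi.single y 1) v = v x) (v : ι → F) :
    Q (Pi.single x 1 - Pi.single y 1) = -1 ∧ Q (Pi.single x 1 + Pi.single y 1) = 1 ∧
    act (reflect Q (Pi.single x 1 - Pi.single y 1) * reflect Q (Pi.single x 1 + Pi.single y 1)) v =
      fun z => if z = x ∨ z = y then -v z else v z := by
  have hxy : QuadraticMap.polar Q (Pi.single x 1) (Pi.single y 1) = 1 := by
    rw [hx]; simp
  have hQm : Q (Pi.single x 1 - Pi.single y 1) = -1 := by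
    rw [sub_eq_add_neg, QuadraticMap.map_add Q, QuadraticMap.map_neg,
      QuadraticMap.polar_neg_right, hQx, hQy, hxy]
    ring
  have hQp : Q (Pi.single x 1 + Pi.single y 1) = 1 := by
    rw [QuadraticMap.map_add Q, hQx, hQy, hxy]; ring
  refine ⟨hQm, hQp, ?_⟩
  rw [act_mul, act_reflect _ (v := Pi.single x 1 + Pi.single y 1), act_reflect, hQm, hQp]
  simp only [QuadraticMap.polar_add_left, QuadraticMap.polar_sub_left, hx, hy, inv_one, one_mul,
    inv_neg, Pi.sub_apply, Pi.smul_apply, Pi.add_apply, smul_eq_mul]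
  funext z
  by_cases h1 : z = x
  · subst h1
    simp [hne, hne.symm]
  · by_cases h2 : z = y
    · subst h2
      simp [hne, h1]
    · simp [h1, h2]

variable (hQ : (QuadraticMap.polarBilin Q).Nondegenerate)
variable (h : Fintype.card F ≠ 2 ∨ Fintype.card ι ≠ 4)
variable {r : ℕ} (x y : Fin r → ι) (hxi : Function.Injective x) (hyi : Function.Injective y)
  (hxy : ∀ j k, x j ≠ y k)
  (hQx : ∀ j, Q (Pi.single (x j) 1) = 0) (hQy : ∀ j, Q (Pi.single (y j) 1) = 0)
  (hx : ∀ j v, QuadraticMap.polar Q (Pi.single (x j) 1) v = v (y j))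
  (hy : ∀ j v, QuadraticMap.polar Q (Pi.single (y j) 1) v = v (x j))

include hxi hyi hxy hQx hQy hx hy

theorem exists_neg (s : Finset (Fin r)) :
    ∃ g : Cfsg.isometryGroup F ⇑Q,
      (∀ v z, act g v z = if z ∈ s.image x ∪ s.image y then -v z else v z) ∧
      theta hQ h g = (1, chi ((-1 : F) ^ s.card)) := by
  classical
  induction s using Finset.induction_on with
  | empty => exact ⟨1, fun v z => by simp [act_one], by simp [chi_one]; rfl⟩
  | insert j s hj ih =>
    obtain ⟨g, hg, hgt⟩ := ih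
    refine ⟨reflect Q (Pi.single (x j) 1 - Pi.single (y j) 1) *
      reflect Q (Pi.single (x j) 1 + Pi.single (y j) 1) * g, fun v z => ?_, ?_⟩
    · rw [act_mul, (act_pair (hxy j j) (hQx j) (hQy j) (hx j) (hy j) _).2.2]
      show (if z = x j ∨ z = y j then -(act g v z) else act g v z) = _
      rw [hg]
      have e1 : x j ∉ s.image x ∪ s.image y := by
        simp only [Finset.mem_union, Finset.mem_image, not_or, not_exists, not_and]
        exact ⟨fun k hk hk' => hj (hxi hk' ▸ hk), fun k _ => (hxy j k).symm⟩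
      have e2 : y j ∉ s.image x ∪ s.image y := by
        simp only [Finset.mem_union, Finset.mem_image, not_or, not_exists, not_and]
        exact ⟨fun k _ => hxy k j, fun k hk hk' => hj (hyi hk' ▸ hk)⟩
      by_cases h1 : z = x j
      · subst h1; simp [e1]
      · by_cases h2 : z = y j
        · subst h2; simp [e2]
        · simp [h1, h2]
    · obtain ⟨hm, hp, -⟩ :=
        act_pair (hxy j j) (hQx j) (hQy j) (hx j) (hy j) (0 : ι → F)
      rw [map_mul, map_mul, theta_reflect hQ h (by rw [hm]; simp),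
        theta_reflect hQ h (by rw [hp]; simp), hgt, hm, hp, chi_one,
        Finset.card_insert_of_notMem hj, pow_succ', chi_mul (by simp) (by simp)]
      simp

include hQ in
theorem omega_diagonal_iff {q : ℕ} (hF : Fintype.card F = q) (hq : Odd q) (d : ι → F)
    (hd : ∀ z, d z = if z ∈ Finset.univ.image x ∪ Finset.univ.image y then -1 else 1) :
    (∃ g : Cfsg.isometryGroup F ⇑Q, g ∈ Cfsg.Omega F ⇑Q ∧
      ((g : Matrix.GeneralLinearGroup ι F) : Matrix ι ι F) = Matrix.diagonal d) ↔
      q ^ r % 4 = 1 := by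
  classical
  have h' : Fintype.card F ≠ 2 ∨ Fintype.card ι ≠ 4 := Or.inl fun hh => by
    rw [← hF, hh] at hq; exact absurd hq (by decide)
  obtain ⟨g, hg, hgt⟩ := exists_neg hQ h' x y hxi hyi hxy hQx hQy hx hy Finset.univ
  have hgm : ((g : Matrix.GeneralLinearGroup ι F) : Matrix ι ι F) = Matrix.diagonal d := by
    refine Matrix.ext_iff_mulVec.2 fun v => funext fun z => ?_
    rw [← act_apply, hg, Matrix.mulVec_diagonal, hd]
    split_ifs <;> simp
  have hiff : IsSquare ((-1 : F) ^ r) ↔ q ^ r % 4 = 1 := by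
    have hq2 : q % 2 = 1 := Nat.odd_iff.1 hq
    have hqq : q % 4 = 1 ∨ q % 4 = 3 := by omega
    rcases Nat.even_or_odd r with he | ho
    · refine iff_of_true ?_ ?_
      · rw [he.neg_one_pow]; exact IsSquare.one
      · obtain ⟨k, rfl⟩ := he
        rw [← two_mul, pow_mul, Nat.pow_mod, show q ^ 2 % 4 = 1 by
          rcases hqq with e | e <;> rw [Nat.pow_mod, e]]
        simp
    · rw [ho.neg_one_pow, FiniteField.isSquare_neg_one_iff, hF]
      obtain ⟨k, rfl⟩ := ho
      rw [pow_succ, pow_mul, Nat.mul_mod, Nat.pow_mod, show q ^ 2 % 4 = 1 by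
          rcases hqq with e | e <;> rw [Nat.pow_mod, e]]
      simp only [one_pow]
      omega
  have hkey : g ∈ Cfsg.Omega F ⇑Q ↔ q ^ r % 4 = 1 := by
    rw [mem_omega_iff hQ h', hgt, Prod.mk_eq_one, Finset.card_univ, Fintype.card_fin,
      chi_eq_one_iff, hiff]
    simp
  refine ⟨fun ⟨g', hg', hgm'⟩ => hkey.1 ?_, fun hh => ⟨g, hkey.2 hh, hgm⟩⟩
  rwa [show g = g' from Subtype.ext (Units.ext (hgm.trans hgm'.symm))]

end Cfsg.Agent.Classical.OmegaPairs
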