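import Cfsg.Agent.Lib.Classical.OmegaScale

/-!
# Transitivity of `Ω` on subspaces
-/

set_option autoImplicit false

namespace Cfsg.Agent.Classical.OmegaTrans

open Cfsg.Agent.Forms Cfsg.Agent.Forms.QuadStd Cfsg.Agent.Forms.Reflections
open Cfsg.Agent.Classical.OmegaCrit Cfsg.Agent.Classical.OmegaScale Module

variable {F : Type*} [Field F] {ι : Type} [Fintype ι] [DecidableEq ι]
variable {Q : QuadraticForm F (ι → F)}

/-- Witt extension between isometric subspaces. -/
theorem exists_map (hQ : (QuadraticMap.polarBilin Q).Nondegenerate) {U W : Submodule F (ι → F)}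
    (e : U ≃ₗ[F] W) (he : ∀ u : U, Q (e u : ι → F) = Q (u : ι → F)) :
    ∃ g : Cfsg.isometryGroup F ⇑Q, U.map (act g) = W := by
  obtain ⟨f, hf, hfx⟩ := Witt.witt_quad Q hQ U (W.subtype ∘ₗ e.toLinearMap)
    (W.injective_subtype.comp e.injective) he
  refine ⟨isoOfEquiv _ f hf, ?_⟩
  ext y
  constructor
  · rintro ⟨x, hx, rfl⟩
    rw [act_apply, isoOfEquiv_mulVec, hfx ⟨x, hx⟩]
    exact (e ⟨x, hx⟩).2
  · intro hy
    refine ⟨(e.symm ⟨y, hy⟩ : U), (e.symm ⟨y, hy⟩).2, ?_⟩
    rw [act_apply, isoOfEquiv_mulVec, hfx]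
    simp

theorem map_act_eq (g : Cfsg.isometryGroup F ⇑Q) {W : Submodule F (ι → F)}
    (hle : ∀ x ∈ W, act g x ∈ W) : W.map (act g) = W := by
  refine Submodule.eq_of_le_of_finrank_eq ?_
    (Submodule.equivMapOfInjective _ (act_injective _) _).finrank_eq.symm
  rintro _ ⟨x, hx, rfl⟩
  exact hle x hx

theorem reflect_map_mem {W : Submodule F (ι → F)} {a : ι → F}
    (ha : a ∈ W ∨ a ∈ (polB Q).orthogonal W) : W.map (act (reflect Q a)) = W := by
  refine map_act_eq _ fun x hx => ?_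
  rw [act_reflect]
  rcases ha with ha | ha
  · exact sub_mem hx (W.smul_mem _ ha)
  · rw [QuadraticMap.polar_comm, mem_orth.1 ha x hx, mul_zero, zero_smul, sub_zero]
    exact hx

theorem eq_bot_of_inf {W : Submodule F (ι → F)}
    (hW : W ⊓ LinearMap.BilinForm.orthogonal (QuadraticMap.polarBilin Q) W = ⊥) :
    Bases.NondegOn (polB Q) W := fun u hu h => by
  have : u ∈ W ⊓ LinearMap.BilinForm.orthogonal (QuadraticMap.polarBilin Q) W :=
    Submodule.mem_inf.2 ⟨hu, fun w hw => (QuadraticMap.polar_comm _ w u).trans (h w hw)⟩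
  rw [hW] at this
  exact (Submodule.mem_bot F).1 this

variable [Fintype F]
variable (hQ : (QuadraticMap.polarBilin Q).Nondegenerate)
variable (h : Fintype.card F ≠ 2 ∨ Fintype.card ι ≠ 4)

include hQ h in
/-- Adjusting by the stabiliser of the target. -/
theorem exists_omega {U W : Submodule F (ι → F)} {g : Cfsg.isometryGroup F ⇑Q}
    (hg : U.map (act g) = W) {a : ι → F} (ha : Q a ≠ 0) (haW : W.map (act (reflect Q a)) = W)
    (hs : (2 : F) ≠ 0 → ∃ k, W.map (act k) = W ∧ theta hQ h k = (1, -1)) :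
    ∃ k : Cfsg.isometryGroup F ⇑Q, k ∈ Cfsg.Omega F ⇑Q ∧ U.map (act k) = W := by
  obtain ⟨g', hg', hpar⟩ : ∃ g', U.map (act g') = W ∧ par g' = 1 := by
    rcases Int.units_eq_one_or (par g) with hp | hp
    · exact ⟨g, hg, hp⟩
    · refine ⟨reflect Q a * g, by rw [map_map_act, hg, haW], ?_⟩
      rw [par_reflect_mul hQ ha, hp, neg_neg]
  rcases Int.units_eq_one_or (theta hQ h g').2 with hsg | hsg
  · exact ⟨g', (mem_omega_iff hQ h g').2 (Prod.ext hpar hsg), hg'⟩
  · have h2 : (2 : F) ≠ 0 := fun h2 => by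
      change sgn g' = -1 at hsg
      rw [sgn, if_pos h2] at hsg
      exact absurd hsg (by decide)
    obtain ⟨k, hk, hkt⟩ := hs h2
    refine ⟨k * g', (mem_omega_iff hQ h _).2 ?_, by rw [map_map_act, hg', hk]⟩
    rw [map_mul, hkt]
    exact Prod.ext (by simp [theta_fst, hpar]) (by simp [hsg])

include hQ h in
theorem exists_omega_nondeg (hn : 3 ≤ Fintype.card ι) {U W : Submodule F (ι → F)}
    (hW : W ⊓ LinearMap.BilinForm.orthogonal (QuadraticMap.polarBilin Q) W = ⊥)
    (e : U ≃ₗ[F] W) (he : ∀ u : U, Q (e u : ι → F) = Q (u : ι → F)) :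
    ∃ k : Cfsg.isometryGroup F ⇑Q, k ∈ Cfsg.Omega F ⇑Q ∧ U.map (act k) = W := by
  obtain ⟨g, hg⟩ := exists_map hQ e he
  have hWn := eq_bot_of_inf hW
  have hOn : Bases.NondegOn (polB Q) ((polB Q).orthogonal W) := by
    intro u hu h'
    have hin : u ∈ (polB Q).orthogonal ((polB Q).orthogonal W) :=
      mem_orth.2 fun w hw => (QuadraticMap.polar_comm _ w u).trans (h' w hw)
    rw [LinearMap.BilinForm.orthogonal_orthogonal (show (polB Q).Nondegenerate from hQ) polB_refl]
      at hin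
    have : u ∈ W ⊓ LinearMap.BilinForm.orthogonal (QuadraticMap.polarBilin Q) W :=
      Submodule.mem_inf.2 ⟨hin, hu⟩
    rw [hW] at this
    exact (Submodule.mem_bot F).1 this
  have hd := LinearMap.BilinForm.finrank_orthogonal (show (polB Q).Nondegenerate from hQ) W
  rw [Module.finrank_pi] at hd
  have hle := (Submodule.finrank_le W).trans (Module.finrank_pi F).le
  obtain ⟨X, hXn, hX2, hXW⟩ : ∃ X : Submodule F (ι → F), Bases.NondegOn (polB Q) X ∧
      2 ≤ finrank F X ∧ ∀ a ∈ X, W.map (act (reflect Q a)) = W := by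
    rcases Nat.lt_or_ge (finrank F W) 2 with hlt | hge
    · exact ⟨_, hOn, by omega, fun a ha => reflect_map_mem (Or.inr ha)⟩
    · exact ⟨_, hWn, hge, fun a ha => reflect_map_mem (Or.inl ha)⟩
  obtain ⟨a, haX, ha⟩ := nondeg_val hXn rfl (fun hb => by rw [hb, finrank_bot] at hX2; omega)
  refine exists_omega hQ h hg ha (hXW a haX) fun h2 => ?_
  obtain ⟨c, hc, hchi⟩ := exists_nonsquare h2
  obtain ⟨x, hx, hx1⟩ := exists_value_on h2 hXn hX2 one_ne_zero
  obtain ⟨y, hy, hyc⟩ := exists_value_on h2 hXn hX2 hc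
  refine ⟨reflect Q x * reflect Q y, by rw [map_map_act, hXW y hy, hXW x hx], ?_⟩
  rw [map_mul, theta_reflect hQ h (by rw [hx1]; exact one_ne_zero),
    theta_reflect hQ h (by rw [hyc]; exact hc), hx1, hyc, chi_one, hchi]
  rfl

include hQ h in
theorem exists_omega_singular {k : ℕ} (hk : 2 * k < Fintype.card ι) {U W : Submodule F (ι → F)}
    (hU : finrank F U = k) (hW : finrank F W = k) (hU0 : ∀ u ∈ U, Q u = 0)
    (hW0 : ∀ w ∈ W, Q w = 0) :
    ∃ g : Cfsg.isometryGroup F ⇑Q, g ∈ Cfsg.Omega F ⇑Q ∧ U.map (act g) = W := by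
  obtain ⟨e⟩ : Nonempty (↥U ≃ₗ[F] ↥W) :=
    FiniteDimensional.nonempty_linearEquiv_of_finrank_eq (hU.trans hW.symm)
  by_cases hk0 : k = 0
  · refine ⟨1, one_mem _, ?_⟩
    subst hk0
    rw [Submodule.finrank_eq_zero] at hU hW
    rw [hU, hW, Submodule.map_bot]
  obtain ⟨g, hg⟩ := exists_map hQ e fun u => (hW0 _ (e u).2).trans (hU0 _ u.2).symm
  obtain ⟨a, haO, ha⟩ : ∃ a ∈ (polB Q).orthogonal W, Q a ≠ 0 := by
    by_contra hall
    push Not at hall
    have hle : (polB Q).orthogonal W ≤ (polB Q).orthogonal ((polB Q).orthogonal W) :=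
      fun x hx => mem_orth.2 fun w hw => by
        simp [QuadraticMap.polar, hall _ hx, hall _ hw, hall _ (add_mem hw hx)]
    rw [LinearMap.BilinForm.orthogonal_orthogonal (show (polB Q).Nondegenerate from hQ) polB_refl]
      at hle
    have := Submodule.finrank_mono hle
    rw [LinearMap.BilinForm.finrank_orthogonal (show (polB Q).Nondegenerate from hQ),
      Module.finrank_pi, hW] at this
    omega
  refine exists_omega hQ h hg ha (reflect_map_mem (Or.inr haO)) fun h2 => ?_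
  obtain ⟨c, hc, hchi⟩ := exists_nonsquare h2
  obtain ⟨s, hs, hst⟩ := exists_scale hQ h hW0
    (fun hb => hk0 (by rw [← hW, hb, finrank_bot])) hc
  exact ⟨s, hs, by rw [hst, hchi]⟩

include hQ h in
theorem exists_omega_line (h2 : (2 : F) = 0) {u v : ι → F} (hu : Q u ≠ 0) (hv : Q v ≠ 0) :
    ∃ g : Cfsg.isometryGroup F ⇑Q, g ∈ Cfsg.Omega F ⇑Q ∧
      Submodule.span F {act g u} = Submodule.span F {v} := by
  have : CharP F 2 := CharTwo.of_one_ne_zero_of_two_eq_zero one_ne_zero h2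
  obtain ⟨s, hs⟩ := (FiniteField.isSquare_of_char_two (ringChar.eq F 2) (Q u / Q v) :
    IsSquare (Q u / Q v))
  have hs0 : s ≠ 0 := fun h0 => div_ne_zero hu hv (by rw [hs, h0, mul_zero])
  have hu0 : u ≠ 0 := fun h0 => hu (by rw [h0, QuadraticMap.map_zero])
  have hv0 : s • v ≠ 0 := smul_ne_zero hs0 fun h0 => hv (by rw [h0, QuadraticMap.map_zero])
  have hQsv : Q (s • v) = Q u := by
    rw [QuadraticMap.map_smul, smul_eq_mul, ← hs, div_mul_cancel₀ _ hv]
  let e := (LinearEquiv.toSpanNonzeroSingleton F (ι → F) u hu0).symm.trans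
    (LinearEquiv.toSpanNonzeroSingleton F (ι → F) (s • v) hv0)
  obtain ⟨g, hg⟩ := exists_map hQ e fun x => by
    obtain ⟨c, rfl⟩ := (LinearEquiv.toSpanNonzeroSingleton F (ι → F) u hu0).surjective x
    rw [show e (LinearEquiv.toSpanNonzeroSingleton F (ι → F) u hu0 c) =
      LinearEquiv.toSpanNonzeroSingleton F (ι → F) (s • v) hv0 c from
        congrArg (LinearEquiv.toSpanNonzeroSingleton F (ι → F) (s • v) hv0)
          ((LinearEquiv.toSpanNonzeroSingleton F (ι → F) u hu0).symm_apply_apply c)]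
    simp [QuadraticMap.map_smul, hQsv]
  obtain ⟨k, hk, hkU⟩ := exists_omega hQ h hg (a := v) hv
    (reflect_map_mem (Or.inl (Submodule.mem_span_singleton.2
      ⟨s⁻¹, by rw [smul_smul, inv_mul_cancel₀ hs0, one_smul]⟩))) fun h' => absurd h2 h'
  refine ⟨k, hk, ?_⟩
  rw [Submodule.map_span, Set.image_singleton] at hkU
  rw [hkU, Submodule.span_singleton_smul_eq (isUnit_iff_ne_zero.2 hs0)]

end Cfsg.Agent.Classical.OmegaTrans
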