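import Mathlib
import Cfsg.Agent.Lib.Forms.Bases

/-!
# Symmetric forms over finite fields of characteristic two

Congruence normal forms and isometry group orders.
-/

set_option autoImplicit false
set_option linter.unusedSectionVars false

namespace Cfsg.Agent.Classical.SymmTwo

open Matrix Module Cfsg.Agent.Forms Cfsg.Agent.Forms.Bases

variable {F : Type*} [Field F]
variable {ι κ l : Type*} [Fintype ι] [DecidableEq ι] [Fintype κ] [DecidableEq κ] [Fintype l] [DecidableEq l]

/-- the matrices of isometries -/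
abbrev Iso (A : Matrix ι ι F) : Type _ := {P : Matrix ι ι F // P * A * Pᵀ = A}

/-- congruence, for possibly different index types -/
def Cong (A : Matrix ι ι F) (D : Matrix κ κ F) : Prop :=
  ∃ (X : Matrix κ ι F) (Y : Matrix ι κ F), X * Y = 1 ∧ Y * X = 1 ∧ X * A * Xᵀ = D

theorem Cong.symm {A : Matrix ι ι F} {D : Matrix κ κ F} (h : Cong A D) : Cong D A := by
  obtain ⟨X, Y, hXY, hYX, rfl⟩ := h
  refine ⟨Y, X, hYX, hXY, ?_⟩
  calc Y * (X * A * Xᵀ) * Yᵀ = Y * X * A * (Y * X)ᵀ := by
        simp only [transpose_mul, Matrix.mul_assoc]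
    _ = A := by rw [hYX]; simp

theorem Cong.trans {A : Matrix ι ι F} {D : Matrix κ κ F} {E : Matrix l l F} (h : Cong A D)
    (h' : Cong D E) : Cong A E := by
  obtain ⟨X, Y, hXY, hYX, rfl⟩ := h
  obtain ⟨Z, W, hZW, hWZ, rfl⟩ := h'
  refine ⟨Z * X, Y * W, ?_, ?_, ?_⟩
  · rw [Matrix.mul_assoc, ← Matrix.mul_assoc X, hXY, Matrix.one_mul, hZW]
  · rw [Matrix.mul_assoc, ← Matrix.mul_assoc W, hWZ, Matrix.one_mul, hYX]
  · simp only [transpose_mul, Matrix.mul_assoc]

theorem Cong.natCard_iso {A : Matrix ι ι F} {D : Matrix κ κ F} (h : Cong A D) :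
    Nat.card (Iso A) = Nat.card (Iso D) := by
  obtain ⟨X, Y, hXY, hYX, rfl⟩ := h
  have k1 : ∀ P : Matrix ι ι F, Y * (X * P * Y) * X = P := fun P =>
    calc Y * (X * P * Y) * X = Y * X * P * (Y * X) := by simp only [Matrix.mul_assoc]
      _ = P := by rw [hYX]; simp
  have k2 : ∀ P : Matrix κ κ F, X * (Y * P * X) * Y = P := fun P =>
    calc X * (Y * P * X) * Y = X * Y * P * (X * Y) := by simp only [Matrix.mul_assoc]
      _ = P := by rw [hXY]; simp
  refine Nat.card_congr
    { toFun := fun P => ⟨X * P.1 * Y, ?_⟩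
      invFun := fun P => ⟨Y * P.1 * X, ?_⟩
      left_inv := fun P => Subtype.ext (k1 P.1)
      right_inv := fun P => Subtype.ext (k2 P.1) }
  · calc X * P.1 * Y * (X * A * Xᵀ) * (X * P.1 * Y)ᵀ
        = X * (P.1 * (Y * X) * A * (Y * X)ᵀ * P.1ᵀ) * Xᵀ := by
          simp only [transpose_mul, Matrix.mul_assoc]
      _ = X * A * Xᵀ := by rw [hYX, transpose_one, Matrix.mul_one, Matrix.mul_one, P.2]
  · calc Y * P.1 * X * A * (Y * P.1 * X)ᵀ = Y * (P.1 * (X * A * Xᵀ) * P.1ᵀ) * Yᵀ := by
          simp only [transpose_mul, Matrix.mul_assoc]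
      _ = Y * X * A * (Y * X)ᵀ := by rw [P.2]; simp only [transpose_mul, Matrix.mul_assoc]
      _ = A := by rw [hYX]; simp

theorem cong_of_rows {s : ℕ} (A : Matrix (Fin s) (Fin s) F) (v : κ → Fin s → F)
    (hc : Fintype.card κ = s) (D : Matrix κ κ F) (hD : IsUnit D.det)
    (h : ∀ i j, Matrix.toBilin' A (v i) (v j) = D i j) : Cong A D := by
  have hX : Matrix.of v * A * (Matrix.of v)ᵀ = D := by
    ext i j
    rw [← h, Matrix.toBilin'_apply, Matrix.mul_apply, Finset.sum_comm]
    simp only [Matrix.mul_apply, transpose_apply, of_apply, Finset.sum_mul]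
  refine ⟨Matrix.of v, A * (Matrix.of v)ᵀ * D⁻¹, ?_, ?_, hX⟩
  · rw [← Matrix.mul_assoc, ← Matrix.mul_assoc, hX, Matrix.mul_nonsing_inv _ hD]
  · rw [← Matrix.mul_eq_one_comm_of_equiv (Fintype.equivFinOfCardEq hc), ← Matrix.mul_assoc,
      ← Matrix.mul_assoc, hX, Matrix.mul_nonsing_inv _ hD]

/-- the standard non-alternating form of odd dimension -/
def oddStd (k : ℕ) : Matrix (Unit ⊕ (Fin k ⊕ Fin k)) (Unit ⊕ (Fin k ⊕ Fin k)) F :=
  fromBlocks 1 0 0 (J (Fin k) F)

/-- the two-dimensional block -/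
def block2 (F : Type*) [Field F] : Matrix (Fin 2) (Fin 2) F := !![1, 1; 1, 0]

/-- the standard non-alternating form of even dimension -/
def evenStd (k : ℕ) : Matrix (Fin 2 ⊕ (Fin k ⊕ Fin k)) (Fin 2 ⊕ (Fin k ⊕ Fin k)) F :=
  fromBlocks (block2 F) 0 0 (J (Fin k) F)

theorem isUnit_det_oddStd (k : ℕ) : IsUnit (oddStd (F := F) k).det := by
  rw [oddStd, det_fromBlocks_zero₂₁, det_one, one_mul]
  exact isUnit_det_J (Fin k) F

theorem isUnit_det_evenStd (k : ℕ) : IsUnit (evenStd (F := F) k).det := by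
  rw [evenStd, det_fromBlocks_zero₂₁, block2, det_fin_two_of]
  exact IsUnit.mul (by simp) (isUnit_det_J (Fin k) F)

variable [CharP F 2]

theorem J_symm_apply (k : ℕ) (i j : Fin k ⊕ Fin k) : J (Fin k) F i j = J (Fin k) F j i := by
  have h : (J (Fin k) F)ᵀ = J (Fin k) F := by
    rw [J_transpose]
    ext i j
    simp [CharTwo.neg_eq]
  exact (congrFun (congrFun h i) j).symm

theorem J_diag (k : ℕ) (i : Fin k ⊕ Fin k) : J (Fin k) F i i = 0 := by
  rcases i with i | i <;> simp [J]

theorem sympFamily_gram {s k : ℕ} (B : LinearMap.BilinForm F (Fin s → F))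
    (hsym : ∀ x y, B x y = B y x) {e f : Fin k → Fin s → F}
    (hef : ∀ i j, B (e i) (f j) = if i = j then 1 else 0) (hee : ∀ i j, B (e i) (e j) = 0)
    (hff : ∀ i j, B (f i) (f j) = 0) (i j : Fin k ⊕ Fin k) :
    B (Sum.elim e f i) (Sum.elim e f j) = J (Fin k) F i j := by
  rcases i with i | i <;> rcases j with j | j
  · simp [J, hee]
  · simp [J, hef, Matrix.one_apply, CharTwo.neg_eq]
  · rw [hsym]; simp [J, hef, Matrix.one_apply, eq_comm]
  · simp [J, hff]

theorem toBilin'_symm {s : ℕ} {A : Matrix (Fin s) (Fin s) F} (hA : Aᵀ = A) (x y : Fin s → F) :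
    Matrix.toBilin' A x y = Matrix.toBilin' A y x := by
  rw [Matrix.toBilin'_apply', Matrix.toBilin'_apply', dotProduct_mulVec, ← mulVec_transpose, hA,
    dotProduct_comm]

theorem quad_add {V : Type*} [AddCommGroup V] [Module F V] (B : LinearMap.BilinForm F V)
    (hsym : ∀ x y, B x y = B y x) (x y : V) : B (x + y) (x + y) = B x x + B y y := by
  simp only [map_add, LinearMap.add_apply, hsym y x]
  linear_combination CharTwo.add_self_eq_zero (B x y)

theorem quad_pi {s : ℕ} (A : Matrix (Fin s) (Fin s) F) (hA : Aᵀ = A) (x : Fin s → F) :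
    Matrix.toBilin' A x x = ∑ i, A i i * x i ^ 2 := by
  set B := Matrix.toBilin' A with hB
  let Q : (Fin s → F) →+ F := AddMonoidHom.mk' (fun v => B v v) (quad_add B (toBilin'_symm hA))
  have h : x = ∑ i, x i • Pi.single (M := fun _ : Fin s => F) i (1 : F) := pi_eq_sum_univ' x
  show Q x = _
  conv_lhs => rw [h]
  rw [map_sum]
  refine Finset.sum_congr rfl fun i _ => ?_
  show B (x i • _) (x i • _) = _
  simp only [map_smul, LinearMap.smul_apply, smul_eq_mul, hB, Matrix.toBilin'_single]
  ring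

theorem cong_alt {s : ℕ} (A : Matrix (Fin s) (Fin s) F) (hA : Aᵀ = A) (hd : IsUnit A.det)
    (h0 : ∀ i, A i i = 0) : ∃ k, s = 2 * k ∧ Cong A (J (Fin k) F) := by
  classical
  set B := Matrix.toBilin' A with hB
  have hsym : ∀ x y, B x y = B y x := toBilin'_symm hA
  have halt : B.IsAlt := fun x => by simp [hB, quad_pi A hA, h0]
  have hnd : B.Nondegenerate := Matrix.nondegenerate_toBilin'_iff.2
    (Matrix.nondegenerate_iff_det_ne_zero.2 hd.ne_zero)
  obtain ⟨k, hk⟩ := even_finrank_of_alt B halt hnd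
  obtain ⟨b, h1, h2, h3⟩ := exists_sympBasis B halt hnd hk
  have hs : s = 2 * k := by simpa using hk
  refine ⟨k, hs, cong_of_rows A b (by simp [hs]; omega) _ (isUnit_det_J (Fin k) F) fun i j => ?_⟩
  have := sympFamily_gram B hsym (e := fun i => b (.inl i)) (f := fun i => b (.inr i)) h1 h2 h3 i j
  rw [← this]
  rcases i with i | i <;> rcases j with j | j <;> rfl

theorem cong_nonalt [Finite F] {s : ℕ} (A : Matrix (Fin s) (Fin s) F) (hA : Aᵀ = A)
    (hd : IsUnit A.det) (h0 : ∃ i, A i i ≠ 0) :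
    (∃ k, s = 2 * k + 1 ∧ Cong A (oddStd k)) ∨ (∃ k, s = 2 * k + 2 ∧ Cong A (evenStd k)) := by
  classical
  have : Fintype F := Fintype.ofFinite F
  set B := Matrix.toBilin' A with hB
  have hsym : ∀ x y, B x y = B y x := toBilin'_symm hA
  have hnd : B.Nondegenerate := Matrix.nondegenerate_toBilin'_iff.2
    (Matrix.nondegenerate_iff_det_ne_zero.2 hd.ne_zero)
  let φ : (Fin s → F) →ₗ[F] F :=
    { toFun := fun x => (frobeniusEquiv F 2).symm (B x x)
      map_add' := fun x y => by rw [quad_add B hsym, map_add]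
      map_smul' := fun c x => by
        apply (frobeniusEquiv F 2).injective
        simp only [RingEquiv.apply_symm_apply, map_smul, LinearMap.smul_apply, smul_eq_mul,
          RingHom.id_apply, map_mul, frobeniusEquiv_def]
        ring }
  have hφ : ∀ x, φ x ^ 2 = B x x := fun x => by
    show ((frobeniusEquiv F 2).symm (B x x)) ^ 2 = _
    rw [← frobeniusEquiv_def, RingEquiv.apply_symm_apply]
  obtain ⟨b, hb⟩ : ∃ b, ∀ x, B b x = φ x :=
    ⟨(B.toDual hnd).symm φ, fun x => LinearMap.BilinForm.apply_toDual_symm_apply (B := B) φ x⟩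
  obtain ⟨a, ha⟩ : ∃ a, φ a = 1 := by
    obtain ⟨i, hi⟩ := h0
    have h : φ (Pi.single i 1) ≠ 0 := fun h => hi (by
      rw [← Matrix.toBilin'_single A i i, ← hB, ← hφ, h]; simp)
    exact ⟨(φ (Pi.single i 1))⁻¹ • Pi.single i 1, by simp [h]⟩
  have haa : B a a = 1 := by rw [← hφ, ha]; simp
  have hba : B b a = 1 := by rw [hb, ha]
  let B' : LinearMap.BilinForm F (Fin s → F) := B + LinearMap.BilinForm.linMulLin φ φ
  have hB'alt : B'.IsAlt := fun x => by
    show B x x + φ x * φ x = 0
    rw [← hφ, sq]; exact CharTwo.add_self_eq_zero _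
  have hB' : ∀ x y, φ x = 0 → B' x y = B x y := fun x y hx => by
    show B x y + φ x * φ y = _
    rw [hx]; simp
  have hφr : LinearMap.range φ = ⊤ := LinearMap.range_eq_top.2 fun c => ⟨c • a, by simp [ha]⟩
  have hdimφ : finrank F (LinearMap.ker φ) + 1 = s := by
    have h := φ.finrank_range_add_finrank_ker
    rw [hφr, finrank_top, Module.finrank_self] at h
    simpa [add_comm] using h
  by_cases hbb : φ b = 0
  · right
    let ψ : (Fin s → F) →ₗ[F] F × F := φ.prod (B a)
    set W : Submodule F (Fin s → F) := LinearMap.ker ψ with hW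
    have hab : B a b = 1 := by rw [hsym, hba]
    have hbb' : B b b = 0 := by rw [hb, hbb]
    have hWmem : ∀ x ∈ W, φ x = 0 ∧ B a x = 0 := fun x hx => by
      simpa [hW, ψ, Prod.ext_iff] using hx
    have hψ : LinearMap.range ψ = ⊤ := LinearMap.range_eq_top.2 fun c =>
      ⟨c.1 • a + (c.2 - c.1) • b, by simp [ψ, ha, hbb, haa, hab]⟩
    have hdim : finrank F W + 2 = s := by
      have h := ψ.finrank_range_add_finrank_ker
      rw [hψ, finrank_top, Module.finrank_prod, Module.finrank_self] at h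
      simpa [hW, add_comm] using h
    have hWnd : NondegOn B' W := by
      intro u hu hv
      obtain ⟨hu1, hu2⟩ := hWmem u hu
      refine hnd.1 u fun v => ?_
      have hv' := hv (v - φ v • a - (B a v - φ v) • b) (by
        simp [hW, ψ, Prod.ext_iff, ha, hbb, haa, hab])
      rw [hB' u _ hu1] at hv'
      simpa [hsym u a, hu2, hsym u b, hb u, hu1] using hv'
    obtain ⟨k, e, f, hf⟩ := exists_sympFamily B' hB'alt W hWnd
    have hk := hf.finrank_eq
    refine ⟨k, by omega, cong_of_rows A (Sum.elim ![a, b] (Sum.elim e f))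
      (by simp; omega) _ (isUnit_det_evenStd k) ?_⟩
    have hin : ∀ i, (Sum.elim e f i : Fin s → F) ∈ W := by
      rintro (i | i) <;> [exact hf.e_mem i; exact hf.f_mem i]
    have hz : ∀ i, φ (Sum.elim e f i) = 0 ∧ B a (Sum.elim e f i) = 0 := fun i => hWmem _ (hin i)
    rintro (i | i) (j | j)
    · fin_cases i <;> fin_cases j <;> simp [evenStd, block2, ← hB, haa, hab, hba, hbb']
    · fin_cases i <;> simp [evenStd, ← hB, (hz j).2, hb, (hz j).1]
    · rw [← hB, hsym]
      fin_cases j <;> simp [evenStd, (hz i).2, hb, (hz i).1]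
    · simp only [Sum.elim_inr, evenStd, fromBlocks_apply₂₂, ← hB]
      exact sympFamily_gram B hsym
        (fun i j => (hB' _ _ (hWmem _ (hf.e_mem i)).1).symm.trans (hf.ef i j))
        (fun i j => (hB' _ _ (hWmem _ (hf.e_mem i)).1).symm.trans (hf.ee i j))
        (fun i j => (hB' _ _ (hWmem _ (hf.f_mem i)).1).symm.trans (hf.ff i j)) i j
  · left
    have hb1 : φ b = 1 := by
      have h := hφ b
      rw [hb, sq] at h
      exact mul_right_cancel₀ hbb (h.trans (one_mul _).symm)
    set W : Submodule F (Fin s → F) := LinearMap.ker φ with hW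
    have hWnd : NondegOn B' W := by
      intro u hu hv
      have hu1 : φ u = 0 := hu
      refine hnd.1 u fun v => ?_
      have hv' := hv (v - φ v • b) (by simp [hW, hb1])
      rw [hB' u _ hu1] at hv'
      simpa [hsym u b, hb u, hu1] using hv'
    obtain ⟨k, e, f, hf⟩ := exists_sympFamily B' hB'alt W hWnd
    have hk := hf.finrank_eq
    refine ⟨k, by omega, cong_of_rows A (Sum.elim (fun _ => b) (Sum.elim e f))
      (by simp; omega) _ (isUnit_det_oddStd k) ?_⟩
    have hin : ∀ i, (Sum.elim e f i : Fin s → F) ∈ W := by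
      rintro (i | i) <;> [exact hf.e_mem i; exact hf.f_mem i]
    have hz : ∀ i, φ (Sum.elim e f i) = 0 := fun i => hin i
    rintro (i | i) (j | j)
    · simp [oddStd, ← hB, hb, hb1]
    · simp [oddStd, ← hB, hb, hz j]
    · rw [← hB, hsym]
      simp [oddStd, hb, hz i]
    · simp only [Sum.elim_inr, oddStd, fromBlocks_apply₂₂, ← hB]
      exact sympFamily_gram B hsym (fun i j => (hB' _ _ (hf.e_mem i)).symm.trans (hf.ef i j))
        (fun i j => (hB' _ _ (hf.e_mem i)).symm.trans (hf.ee i j))
        (fun i j => (hB' _ _ (hf.f_mem i)).symm.trans (hf.ff i j)) i j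

/-! ### Isometry groups of the standard forms -/

theorem natCard_iso_J (k : ℕ) :
    Nat.card (Iso (J (Fin k) F)) = Nat.card (symplecticGroup (Fin k) F) :=
  Nat.card_congr (Equiv.subtypeEquivRight fun _ => SymplecticGroup.mem_iff.symm)

theorem sum_mul_J_self (k : ℕ) (u : Fin k ⊕ Fin k → F) :
    ∑ i, ∑ j, u i * J (Fin k) F i j * u j = 0 := by
  rw [← Fintype.sum_prod_type']
  refine Finset.sum_involution (fun p _ => (p.2, p.1)) ?_ ?_ (fun _ _ => Finset.mem_univ _)
    (fun _ _ => rfl)
  · intro p _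
    rw [J_symm_apply k p.2 p.1]
    linear_combination CharTwo.add_self_eq_zero (u p.1 * J (Fin k) F p.1 p.2 * u p.2)
  · rintro ⟨i, j⟩ _ h e
    obtain rfl : j = i := (Prod.ext_iff.1 e).1
    simp [J_diag] at h

theorem mul_J_diag {k : ℕ} (d : Matrix ι (Fin k ⊕ Fin k) F) (i : ι) :
    (d * J (Fin k) F * dᵀ) i i = 0 := by
  rw [← sum_mul_J_self k (d i)]
  simp only [Matrix.mul_apply, transpose_apply, Finset.sum_mul]
  exact Finset.sum_comm

theorem eq_zero_of_mul_J {k : ℕ} {b : Matrix ι (Fin k ⊕ Fin k) F}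
    {d : Matrix (Fin k ⊕ Fin k) (Fin k ⊕ Fin k) F} (hd : d * J (Fin k) F * dᵀ = J (Fin k) F)
    (h : b * J (Fin k) F * dᵀ = 0) : b = 0 := by
  have hu : IsUnit (J (Fin k) F * dᵀ).det := by
    have := isUnit_det_J (Fin k) F
    rw [← hd, Matrix.mul_assoc, det_mul] at this
    exact isUnit_of_mul_isUnit_right this
  calc b = b * (J (Fin k) F * dᵀ) * (J (Fin k) F * dᵀ)⁻¹ := by
        rw [Matrix.mul_assoc, Matrix.mul_nonsing_inv _ hu, Matrix.mul_one]
    _ = 0 := by rw [← Matrix.mul_assoc, h, Matrix.zero_mul]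

theorem natCard_iso_oddStd (k : ℕ) :
    Nat.card (Iso (oddStd (F := F) k)) = Nat.card (symplecticGroup (Fin k) F) := by
  rw [← natCard_iso_J]
  have key : ∀ P : Iso (oddStd (F := F) k),
      P.1 = fromBlocks 1 0 0 P.1.toBlocks₂₂ ∧
        P.1.toBlocks₂₂ * J (Fin k) F * P.1.toBlocks₂₂ᵀ = J (Fin k) F := by
    intro P
    have h := P.2
    unfold oddStd at h
    rw [← fromBlocks_toBlocks P.1, fromBlocks_transpose, fromBlocks_multiply,
      fromBlocks_multiply, fromBlocks_inj] at h
    simp only [Matrix.mul_zero, add_zero, zero_add, Matrix.mul_one] at h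
    obtain ⟨h11, h12, -, h22⟩ := h
    set a := P.1.toBlocks₁₁
    set b := P.1.toBlocks₁₂
    set c := P.1.toBlocks₂₁
    set d := P.1.toBlocks₂₂
    have ha : a = 1 := by
      ext i j
      have h := congrFun (congrFun h11 i) i
      rw [Matrix.add_apply, mul_J_diag, add_zero, Matrix.mul_apply] at h
      simp only [transpose_apply, Finset.univ_unique, Finset.sum_singleton,
        Matrix.one_apply_eq] at h
      have : (a i i) * (a i i) = 1 := h
      rw [Subsingleton.elim j i, Matrix.one_apply_eq]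
      exact CharTwo.sq_inj.1 (by rw [sq, sq, this, one_mul])
    have hc : c = 0 := by
      ext i j
      have h := congrFun (congrFun h22 i) i
      rw [Matrix.add_apply, mul_J_diag, add_zero, Matrix.mul_apply, J_diag] at h
      simp only [transpose_apply, Finset.univ_unique, Finset.sum_singleton] at h
      simpa [Subsingleton.elim j default] using h
    rw [hc] at h12 h22
    simp only [transpose_zero, Matrix.mul_zero, zero_add] at h12 h22
    refine ⟨?_, h22⟩
    conv_lhs => rw [← fromBlocks_toBlocks P.1]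
    rw [fromBlocks_inj]
    exact ⟨ha, eq_zero_of_mul_J h22 h12, hc, rfl⟩
  refine Nat.card_congr
    { toFun := fun P => ⟨P.1.toBlocks₂₂, (key P).2⟩
      invFun := fun d => ⟨fromBlocks 1 0 0 d.1, by
        rw [oddStd, fromBlocks_transpose, fromBlocks_multiply, fromBlocks_multiply]
        simp [d.2]⟩
      left_inv := fun P => Subtype.ext (key P).1.symm
      right_inv := fun d => Subtype.ext (by simp) }

theorem natCard_iso_evenStd [Fintype F] (k : ℕ) :
    Nat.card (Iso (evenStd (F := F) k)) =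
      Fintype.card F ^ (2 * k + 1) * Nat.card (symplecticGroup (Fin k) F) := by
  rw [← natCard_iso_J]
  let A2 : F → Matrix (Fin 2) (Fin 2) F := fun δ => !![1, δ; 0, 1]
  let B2 : (Fin k ⊕ Fin k → F) → Matrix (Fin 2) (Fin k ⊕ Fin k) F := fun u => Matrix.of ![u, 0]
  let C2 : (Fin k ⊕ Fin k → F) → Matrix (Fin k ⊕ Fin k) (Fin k ⊕ Fin k) F →
      Matrix (Fin k ⊕ Fin k) (Fin 2) F := fun u d => Matrix.of fun i => ![0, ((d * J (Fin k) F) *ᵥ u) i]
  have hB2 : ∀ u, B2 u * J (Fin k) F * (B2 u)ᵀ = 0 := by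
    intro u
    ext i j
    fin_cases i <;> fin_cases j
    · exact mul_J_diag (B2 u) 0
    all_goals
      simp [B2, Matrix.mul_apply]
  have key : ∀ P : Iso (evenStd (F := F) k),
      P.1 = fromBlocks (A2 (P.1.toBlocks₁₁ 0 1)) (B2 (P.1.toBlocks₁₂ 0))
        (C2 (P.1.toBlocks₁₂ 0) P.1.toBlocks₂₂) P.1.toBlocks₂₂ ∧
        P.1.toBlocks₂₂ * J (Fin k) F * P.1.toBlocks₂₂ᵀ = J (Fin k) F := by
    intro P
    have h := P.2
    unfold evenStd at h
    rw [← fromBlocks_toBlocks P.1, fromBlocks_transpose, fromBlocks_multiply,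
      fromBlocks_multiply, fromBlocks_inj] at h
    simp only [Matrix.mul_zero, add_zero, zero_add] at h
    obtain ⟨h11, -, h21, h22⟩ := h
    set a := P.1.toBlocks₁₁
    set b := P.1.toBlocks₁₂
    set c := P.1.toBlocks₂₁
    set d := P.1.toBlocks₂₂
    have hdiag : ∀ i, (a * block2 F * aᵀ) i i = (block2 F) i i := fun i => by
      have h := congrFun (congrFun h11 i) i
      rwa [Matrix.add_apply, mul_J_diag, add_zero] at h
    have hq : ∀ {ν : Type} [Fintype ν] (M : Matrix ν (Fin 2) F) (i : ν),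
        (M * block2 F * Mᵀ) i i = M i 0 ^ 2 := by
      intro ν _ M i
      simp [block2, Matrix.mul_apply, Fin.sum_univ_two]
      linear_combination CharTwo.add_self_eq_zero (M i 0 * M i 1)
    have ha00 : a 0 0 = 1 := CharTwo.sq_inj.1 (by
      rw [← hq a 0, hdiag]; simp [block2])
    have ha10 : a 1 0 = 0 := by
      have := (hq a 1).symm.trans (hdiag 1)
      simpa [block2] using this
    have hc0 : ∀ i, c i 0 = 0 := fun i => by
      have h := congrFun (congrFun h22 i) i
      rw [Matrix.add_apply, mul_J_diag, add_zero, hq, J_diag] at h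
      simpa using h
    have hcc : c * block2 F * cᵀ = 0 := by
      ext i j
      simp [block2, Matrix.mul_apply, Fin.sum_univ_two, hc0]
    rw [hcc, zero_add] at h22
    have hb1 : b 1 = 0 := by
      have hz : ∀ i, (c * block2 F * aᵀ) i 1 = 0 := fun i => by
        simp [block2, Matrix.mul_apply, Fin.sum_univ_two, hc0, ha10]
      have h' : (Matrix.of fun _ : Unit => b 1) * J (Fin k) F * dᵀ = 0 := by
        ext i j
        have h := congrFun (congrFun h21 j) 1
        rw [Matrix.add_apply, hz, zero_add, Matrix.zero_apply] at h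
        rw [Matrix.zero_apply, ← h, Matrix.mul_apply, Matrix.mul_apply]
        simp only [Matrix.mul_apply, transpose_apply, of_apply, Finset.sum_mul]
        rw [Finset.sum_comm]
        refine Finset.sum_congr rfl fun x _ => Finset.sum_congr rfl fun y _ => ?_
        rw [J_symm_apply k x y]; ring
      have := eq_zero_of_mul_J h22 h'
      exact congrFun this ()
    have hc1 : ∀ i, c i 1 = ((d * J (Fin k) F) *ᵥ b 0) i := fun i => by
      have h := congrFun (congrFun h21 i) 0
      rw [Matrix.add_apply, Matrix.zero_apply] at h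
      have e : (c * block2 F * aᵀ) i 0 = c i 1 := by
        simp [block2, Matrix.mul_apply, Fin.sum_univ_two, hc0, ha00]
      have e' : (d * J (Fin k) F * bᵀ) i 0 = ((d * J (Fin k) F) *ᵥ b 0) i := rfl
      rw [e, e'] at h
      exact CharTwo.add_eq_zero.1 h
    have ha11 : a 1 1 = 1 := by
      have hz : (b * J (Fin k) F * bᵀ) 0 1 = 0 := by
        simp [Matrix.mul_apply, hb1]
      have h := congrFun (congrFun h11 0) 1
      rw [Matrix.add_apply, hz, add_zero] at h
      simpa [block2, Matrix.mul_apply, Fin.sum_univ_two, ha00, ha10] using h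
    refine ⟨?_, h22⟩
    conv_lhs => rw [← fromBlocks_toBlocks P.1]
    rw [fromBlocks_inj]
    refine ⟨?_, ?_, ?_, rfl⟩
    · ext i j; fin_cases i <;> fin_cases j <;> simp [A2, a, ha00, ha10, ha11]
    · ext i j; fin_cases i <;> simp [B2, b, hb1]
    · ext i j; fin_cases j <;> simp [C2, c, hc0, hc1, d, b]
  rw [Nat.card_congr (
    { toFun := fun P => ((P.1.toBlocks₁₁ 0 1, P.1.toBlocks₁₂ 0), ⟨P.1.toBlocks₂₂, (key P).2⟩)
      invFun := fun x => ⟨fromBlocks (A2 x.1.1) (B2 x.1.2) (C2 x.1.2 x.2.1) x.2.1, by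
        rw [evenStd, fromBlocks_transpose, fromBlocks_multiply, fromBlocks_multiply]
        simp only [Matrix.mul_zero, add_zero, zero_add, fromBlocks_inj]
        have hC : C2 x.1.2 x.2.1 * block2 F * (C2 x.1.2 x.2.1)ᵀ = 0 := by
          ext i j
          simp [C2, block2, Matrix.mul_apply, Fin.sum_univ_two]
        have e21 : C2 x.1.2 x.2.1 * block2 F * (A2 x.1.1)ᵀ +
            x.2.1 * J (Fin k) F * (B2 x.1.2)ᵀ = 0 := by
          ext i j
          fin_cases j
          · simp [A2, B2, C2, block2, Matrix.mul_apply, Matrix.mulVec, dotProduct,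
              Fin.sum_univ_two, CharTwo.add_self_eq_zero]
          · simp [A2, B2, C2, block2, Matrix.mul_apply, Fin.sum_univ_two]
        have hblock : (block2 F)ᵀ = block2 F := by
          ext i j; fin_cases i <;> fin_cases j <;> simp [block2]
        have hJ : (J (Fin k) F)ᵀ = J (Fin k) F := by ext i j; exact J_symm_apply k j i
        refine ⟨?_, ?_, e21, ?_⟩
        · rw [hB2, add_zero]
          ext i j
          fin_cases i <;> fin_cases j <;>
            simp [A2, block2, Matrix.mul_apply, Fin.sum_univ_two] <;>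
            linear_combination CharTwo.add_self_eq_zero x.1.1
        · have := congrArg transpose e21
          simpa only [transpose_add, transpose_mul, transpose_transpose, transpose_zero, hblock, hJ,
            Matrix.mul_assoc] using this
        · rw [hC, zero_add, x.2.2]⟩
      left_inv := fun P => Subtype.ext (key P).1.symm
      right_inv := fun x => by
        refine Prod.ext (Prod.ext ?_ ?_) (Subtype.ext ?_) <;> simp [A2, B2]
        rfl } :
    Iso (evenStd (F := F) k) ≃ (F × (Fin k ⊕ Fin k → F)) × Iso (J (Fin k) F)),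
    Nat.card_prod, Nat.card_prod, Nat.card_fun, Nat.card_eq_fintype_card (α := F)]
  rw [Nat.card_eq_fintype_card, Fintype.card_sum, Fintype.card_fin, ← two_mul, ← pow_succ']

end Cfsg.Agent.Classical.SymmTwo
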