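import Mathlib
import Cfsg.Agent.Lib.Forms.SpecialOrth
import Cfsg.Agent.Lib.Forms.Witt
import Cfsg.Agent.Lib.Classical.SymmTwo

/-!
# Involutions of orthogonal groups in characteristic two
-/

set_option autoImplicit false
set_option linter.unusedSectionVars false

namespace Cfsg.Agent.Classical.OrthInvolution

open Matrix Module Cfsg.Agent.Forms.QuadStd Cfsg.Agent.Forms.Reflections
open Cfsg.Agent.Forms.Spinor Cfsg.Agent.Classical.SymmTwo

variable {F : Type*} [Field F] {ι : Type} [Fintype ι] [DecidableEq ι]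
variable {Q : QuadraticForm F (ι → F)} {s : ℕ}

/-- the pairings with a tuple -/
noncomputable def coords (Q : QuadraticForm F (ι → F)) (w : Fin s → ι → F) :
    (ι → F) →ₗ[F] (Fin s → F) :=
  LinearMap.pi fun j => polB Q (w j)

@[simp] theorem coords_apply (w : Fin s → ι → F) (v : ι → F) (j : Fin s) :
    coords Q w v j = QuadraticMap.polar Q (w j) v := rfl

/-- linear combinations of a tuple -/
noncomputable abbrev lc (w : Fin s → ι → F) : (Fin s → F) →ₗ[F] (ι → F) :=
  Fintype.linearCombination F w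

theorem polar_lc (w : Fin s → ι → F) (c : Fin s → F) (v : ι → F) :
    QuadraticMap.polar Q (lc w c) v = c ⬝ᵥ coords Q w v := by
  rw [← polB_apply, Fintype.linearCombination_apply, map_sum, LinearMap.sum_apply]
  simp [dotProduct, polB_apply]

theorem lc_injective {w : Fin s → ι → F} (hw : LinearIndependent F w) :
    Function.Injective (lc w) := by
  rw [← LinearMap.ker_eq_bot, LinearMap.ker_eq_bot']
  intro c hc
  rw [Fintype.linearCombination_apply] at hc
  exact funext (Fintype.linearIndependent_iff.1 hw c hc)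

theorem coords_surjective (hQ : (QuadraticMap.polarBilin Q).Nondegenerate)
    {w : Fin s → ι → F} (hw : LinearIndependent F w) :
    Function.Surjective (coords Q w) := by
  rw [← LinearMap.range_eq_top]
  by_contra h
  obtain ⟨φ, hφ, hφr⟩ := Submodule.exists_dual_map_eq_bot_of_lt_top (lt_top_iff_ne_top.2 h)
    inferInstance
  set c : Fin s → F := fun j => φ (Pi.single j 1) with hc
  have hφc : ∀ x, φ x = c ⬝ᵥ x := by
    intro x
    conv_lhs => rw [pi_eq_sum_univ' x]
    simp [dotProduct, hc, mul_comm]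
  have h0 : lc w c = 0 := hQ.1 _ fun v => by
    have hv : φ (coords Q w v) ∈ (⊥ : Submodule F F) :=
      hφr ▸ Submodule.mem_map_of_mem (LinearMap.mem_range_self (coords Q w) v)
    rw [QuadraticMap.polarBilin_apply_apply, polar_lc, ← hφc]
    simpa using hv
  have hc0 : c = 0 := lc_injective hw (by rw [h0, map_zero])
  exact hφ (LinearMap.ext fun x => by simp [hφc, hc0])

/-- the tuple is pairwise orthogonal -/
def IsoT (Q : QuadraticForm F (ι → F)) (w : Fin s → ι → F) : Prop :=
  ∀ i j, QuadraticMap.polar Q (w i) (w j) = 0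

theorem coords_eq_zero {w : Fin s → ι → F} (h : IsoT Q w) (c : Fin s → F) :
    coords Q w (lc w c) = 0 := by
  ext j
  rw [coords_apply, QuadraticMap.polar_comm, polar_lc, Pi.zero_apply]
  exact Finset.sum_eq_zero fun i _ => by rw [coords_apply, h i j, mul_zero]

theorem le_of_li_iso (hQ : (QuadraticMap.polarBilin Q).Nondegenerate) {w : Fin s → ι → F}
    (hw : LinearIndependent F w) (h : IsoT Q w) : 2 * s ≤ Fintype.card ι := by
  have h1 := (coords Q w).finrank_range_add_finrank_ker
  rw [LinearMap.range_eq_top.2 (coords_surjective hQ hw), finrank_top, Module.finrank_pi,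
    Module.finrank_pi, Fintype.card_fin] at h1
  have h2 : LinearMap.range (lc w) ≤ LinearMap.ker (coords Q w) := by
    rintro _ ⟨c, rfl⟩; exact coords_eq_zero h c
  have h3 := Submodule.finrank_mono h2
  rw [LinearMap.finrank_range_of_inj (lc_injective hw), Module.finrank_pi, Fintype.card_fin] at h3
  omega

/-- the quadratic form on the span of an orthogonal tuple -/
theorem map_lc {w : Fin s → ι → F} (h : IsoT Q w) (c : Fin s → F) :
    Q (lc w c) = ∑ i, c i * c i * Q (w i) := by
  rw [Fintype.linearCombination_apply]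
  have key : ∀ S : Finset (Fin s), Q (∑ i ∈ S, c i • w i) = ∑ i ∈ S, c i * c i * Q (w i) := by
    intro S
    induction S using Finset.induction_on with
    | empty => simp
    | insert a S ha ih =>
      rw [Finset.sum_insert ha, Finset.sum_insert ha, QuadraticMap.map_add Q, ih,
        QuadraticMap.map_smul, smul_eq_mul]
      have h0 : QuadraticMap.polar Q (c a • w a) (∑ i ∈ S, c i • w i) = 0 := by
        rw [← polB_apply, map_sum]
        exact Finset.sum_eq_zero fun i _ => by simp [polB_apply, h a i]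
      rw [h0, add_zero]
  exact key _

/-- Witt: isometries are transitive on orthogonal tuples with given values -/
theorem exists_move (hQ : (QuadraticMap.polarBilin Q).Nondegenerate) {w w' : Fin s → ι → F}
    (hw : LinearIndependent F w) (hw' : LinearIndependent F w') (h : IsoT Q w) (h' : IsoT Q w')
    (hval : ∀ i, Q (w i) = Q (w' i)) :
    ∃ g : Cfsg.isometryGroup F ⇑Q, ∀ i, act g (w i) = w' i := by
  let b := Module.Basis.span hw
  let φ : Submodule.span F (Set.range w) →ₗ[F] (ι → F) := lc w' ∘ₗ b.equivFun.toLinearMap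
  have hφ : Function.Injective φ := (lc_injective hw').comp b.equivFun.injective
  have hb : ∀ x : Submodule.span F (Set.range w), lc w (b.equivFun x) = (x : ι → F) := by
    intro x
    conv_rhs => rw [← b.sum_equivFun x]
    simp [Fintype.linearCombination_apply, b, Module.Basis.span_apply]
  obtain ⟨g, hg, hgx⟩ := Cfsg.Agent.Forms.Witt.witt_quad Q hQ _ φ hφ fun x => by
    show Q (lc w' (b.equivFun x)) = _
    rw [← hb x, map_lc h', map_lc h]
    simp [hval]
  refine ⟨isoOfEquiv ⇑Q g hg, fun i => ?_⟩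
  rw [act_apply, isoOfEquiv_mulVec]
  have := hgx ⟨w i, Submodule.subset_span ⟨i, rfl⟩⟩
  rw [this]
  have hbi : b i = ⟨w i, Submodule.subset_span ⟨i, rfl⟩⟩ := Module.Basis.span_apply hw i
  show lc w' (b.equivFun _) = _
  rw [← hbi]
  simp [Fintype.linearCombination_apply, Finsupp.single_apply]

/-- a tuple and coefficient matrix describing `t - 1` -/
structure Datum (t : Cfsg.isometryGroup F ⇑Q) (w : Fin s → ι → F)
    (C : Matrix (Fin s) (Fin s) F) : Prop where
  li : LinearIndependent F w
  iso : IsoT Q w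
  symm : Cᵀ = C
  det : IsUnit C.det
  act_eq : ∀ v, act t v = v + lc w (C *ᵥ coords Q w v)

/-- change of tuple -/
def comb (w : Fin s → ι → F) (P : Matrix (Fin s) (Fin s) F) : Fin s → ι → F :=
  fun j => ∑ i, P i j • w i

theorem lc_comb (w : Fin s → ι → F) (P : Matrix (Fin s) (Fin s) F) (c : Fin s → F) :
    lc (comb w P) c = lc w (P *ᵥ c) := by
  simp only [Fintype.linearCombination_apply, comb, Finset.smul_sum, smul_smul, Matrix.mulVec,
    dotProduct, Finset.sum_smul]
  rw [Finset.sum_comm]
  simp [mul_comm]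

theorem coords_comb (w : Fin s → ι → F) (P : Matrix (Fin s) (Fin s) F) (v : ι → F) :
    coords Q (comb w P) v = Pᵀ *ᵥ coords Q w v := by
  ext j
  rw [coords_apply, ← polB_apply]
  simp [comb, Matrix.mulVec, dotProduct, polB_apply]

theorem comb_iso {w : Fin s → ι → F} (h : IsoT Q w) (P : Matrix (Fin s) (Fin s) F) :
    IsoT Q (comb w P) := fun i j => by
  rw [← polB_apply]
  simp [comb, polB_apply, h _ _]

theorem comb_li {w : Fin s → ι → F} (hw : LinearIndependent F w) {P : Matrix (Fin s) (Fin s) F}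
    (hP : IsUnit P.det) : LinearIndependent F (comb w P) := by
  rw [Fintype.linearIndependent_iff]
  intro c hc i
  have h : lc w (P *ᵥ c) = lc w 0 := by
    rw [← lc_comb, map_zero, Fintype.linearCombination_apply, hc]
  exact congrFun (Matrix.mulVec_injective_iff_isUnit.2 ((Matrix.isUnit_iff_isUnit_det _).2 hP)
    ((lc_injective hw h).trans (Matrix.mulVec_zero P).symm)) i

theorem comb_injective {w : Fin s → ι → F} (hw : LinearIndependent F w) :
    Function.Injective (comb w) := by
  intro P P' h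
  ext i j
  have hj : lc w (fun i => P i j) = lc w (fun i => P' i j) := by
    simp only [Fintype.linearCombination_apply]
    exact congrFun h j
  exact congrFun (lc_injective hw hj) i

theorem Datum.eq {t t' : Cfsg.isometryGroup F ⇑Q} {w : Fin s → ι → F}
    {C : Matrix (Fin s) (Fin s) F} (h : Datum t w C) (h' : Datum t' w C) : t = t' :=
  iso_ext fun v => by rw [← act_apply, ← act_apply, h.act_eq, h'.act_eq]

theorem act_injective (g : Cfsg.isometryGroup F ⇑Q) : Function.Injective (act g) :=
  Function.LeftInverse.injective (g := act g⁻¹) (act_inv_cancel g)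

theorem Datum.conj {t : Cfsg.isometryGroup F ⇑Q} {w : Fin s → ι → F}
    {C : Matrix (Fin s) (Fin s) F} (h : Datum t w C) (g : Cfsg.isometryGroup F ⇑Q) :
    Datum (g * t * g⁻¹) (fun i => act g (w i)) C where
  li := h.li.map' (act g) (LinearMap.ker_eq_bot.2 (act_injective g))
  iso i j := by rw [act_polar]; exact h.iso i j
  symm := h.symm
  det := h.det
  act_eq v := by
    have e : coords Q (fun i => act g (w i)) v = coords Q w (act g⁻¹ v) := by
      ext j
      rw [coords_apply, coords_apply, ← act_polar g (w j), ← act_mul, mul_inv_cancel, act_one]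
    rw [act_mul, act_mul, h.act_eq, map_add, ← act_mul, mul_inv_cancel, act_one, e]
    simp [Fintype.linearCombination_apply]

theorem isUnit_det_of_congr {P C C' : Matrix (Fin s) (Fin s) F} (hC : IsUnit C.det)
    (h : P * C' * Pᵀ = C) : IsUnit P.det := by
  rw [← h, det_mul, det_mul] at hC
  exact isUnit_of_mul_isUnit_left (isUnit_of_mul_isUnit_left hC)

theorem Datum.change {t : Cfsg.isometryGroup F ⇑Q} {w : Fin s → ι → F}
    {C : Matrix (Fin s) (Fin s) F} (h : Datum t w C) {P C' : Matrix (Fin s) (Fin s) F}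
    (hP : P * C' * Pᵀ = C) : Datum t (comb w P) C' := by
  have hPd : IsUnit P.det := isUnit_det_of_congr h.det hP
  refine ⟨comb_li h.li hPd, comb_iso h.iso P, ?_, ?_, fun v => ?_⟩
  · have e : C' = P⁻¹ * C * P⁻¹ᵀ := by
      rw [← hP, transpose_nonsing_inv, Matrix.mul_assoc, Matrix.mul_assoc,
        Matrix.mul_nonsing_inv _ (by rwa [det_transpose]), Matrix.mul_one, ← Matrix.mul_assoc,
        Matrix.nonsing_inv_mul _ hPd, Matrix.one_mul]
    rw [e]
    simp only [transpose_mul, transpose_transpose, h.symm, Matrix.mul_assoc]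
  · have := h.det
    rw [← hP, det_mul, det_mul] at this
    exact isUnit_of_mul_isUnit_right (isUnit_of_mul_isUnit_left this)
  · rw [h.act_eq, lc_comb, coords_comb, mulVec_mulVec, mulVec_mulVec, ← hP, Matrix.mul_assoc]

section
variable (hQ : (QuadraticMap.polarBilin Q).Nondegenerate)
include hQ

theorem exists_dual {C : Matrix (Fin s) (Fin s) F} (hC : IsUnit C.det) {w : Fin s → ι → F}
    (hw : LinearIndependent F w) (x : Fin s → F) : ∃ v, C *ᵥ coords Q w v = x := by
  obtain ⟨y, hy⟩ := (Matrix.mulVec_surjective_iff_isUnit.2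
    ((Matrix.isUnit_iff_isUnit_det _).2 hC)) x
  obtain ⟨v, hv⟩ := coords_surjective hQ hw y
  exact ⟨v, by rw [hv, hy]⟩

theorem Datum.rigid {t : Cfsg.isometryGroup F ⇑Q} {w w' : Fin s → ι → F}
    {C C' : Matrix (Fin s) (Fin s) F} (h : Datum t w C) (h' : Datum t w' C') :
    ∃ P, comb w P = w' ∧ P * C' * Pᵀ = C := by
  have hw : ∀ j, ∃ c, lc w c = w' j := by
    intro j
    obtain ⟨v, hv⟩ := exists_dual hQ h'.det h'.li (Pi.single j 1)
    refine ⟨C *ᵥ coords Q w v, ?_⟩
    have e := (h.act_eq v).symm.trans (h'.act_eq v)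
    rw [hv, add_right_inj] at e
    rw [e]; simp [Fintype.linearCombination_apply_single]
  choose c hc using hw
  set P : Matrix (Fin s) (Fin s) F := Matrix.of fun i j => c j i with hP
  have hcomb : comb w P = w' := funext fun j => by
    rw [← hc j, Fintype.linearCombination_apply]; rfl
  refine ⟨P, hcomb, Matrix.ext_iff_mulVec.2 fun x => ?_⟩
  obtain ⟨v, rfl⟩ := coords_surjective hQ h.li x
  have e := (h.act_eq v).symm.trans (h'.act_eq v)
  rw [add_right_inj, ← hcomb, lc_comb, coords_comb, mulVec_mulVec, mulVec_mulVec] at e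
  exact (lc_injective h.li e).symm

theorem Datum.imSp_eq_range {t : Cfsg.isometryGroup F ⇑Q} {w : Fin s → ι → F}
    {C : Matrix (Fin s) (Fin s) F} (h : Datum t w C) : imSp t = LinearMap.range (lc w) := by
  apply le_antisymm
  · rintro _ ⟨v, rfl⟩
    exact ⟨C *ᵥ coords Q w v, by simp [h.act_eq]⟩
  · rintro _ ⟨c, rfl⟩
    obtain ⟨v, hv⟩ := exists_dual hQ h.det h.li c
    exact ⟨v, by simp [h.act_eq, hv]⟩

theorem Datum.rank_eq {t : Cfsg.isometryGroup F ⇑Q} {w : Fin s → ι → F}
    {C : Matrix (Fin s) (Fin s) F} (h : Datum t w C) : Module.finrank F (imSp t) = s := by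
  rw [h.imSp_eq_range hQ, LinearMap.finrank_range_of_inj (lc_injective h.li)]
  simp

theorem Datum.value {t : Cfsg.isometryGroup F ⇑Q} {w : Fin s → ι → F}
    {C : Matrix (Fin s) (Fin s) F} (h : Datum t w C) [CharP F 2] (i : Fin s) :
    Q (w i) = C⁻¹ i i := by
  obtain ⟨v, hv⟩ := exists_dual hQ h.det h.li (Pi.single i 1)
  have h1 := act_map t v
  rw [h.act_eq, QuadraticMap.map_add Q, hv, Fintype.linearCombination_apply_single, one_smul,
    add_assoc, add_eq_left] at h1
  have h2 : coords Q w v = C⁻¹ *ᵥ Pi.single i 1 := by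
    rw [← hv, mulVec_mulVec, Matrix.nonsing_inv_mul _ h.det, one_mulVec]
  have h3 := congrFun h2 i
  rw [coords_apply, QuadraticMap.polar_comm] at h3
  rw [CharTwo.add_eq_zero.1 h1, h3, mulVec_single_one]
  rfl

end

theorem rank_sub_one (g : Cfsg.isometryGroup F ⇑Q) :
    (((g : Matrix.GeneralLinearGroup ι F) : Matrix ι ι F) - 1).rank = Module.finrank F (imSp g) := by
  have e : (((g : Matrix.GeneralLinearGroup ι F) : Matrix ι ι F) - 1).mulVecLin =
      act g - LinearMap.id := LinearMap.ext fun v => by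
    simp [act_apply, Matrix.sub_mulVec]
  rw [Matrix.rank, e]
  rfl

theorem exists_range_tuple (L : (ι → F) →ₗ[F] (ι → F)) (hs : finrank F (LinearMap.range L) = s) :
    ∃ (w : Fin s → ι → F) (x : Fin s → ι → F), LinearIndependent F w ∧ (∀ i, L (x i) = w i) ∧
      ∀ v, ∃ c, lc w c = L v := by
  obtain ⟨W, hW⟩ : ∃ W : Submodule F (ι → F), W = LinearMap.range L := ⟨_, rfl⟩
  have hWs : finrank F W = s := by rw [hW]; exact hs
  obtain ⟨b⟩ : Nonempty (Basis (Fin s) F W) := ⟨Module.finBasisOfFinrankEq F W hWs⟩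
  have hmem : ∀ u, u ∈ W → ∃ v, L v = u := fun u hu => by
    rw [hW, LinearMap.mem_range] at hu; exact hu
  have hpre : ∀ i, ∃ v, L v = (b i : ι → F) := fun i => hmem _ (b i).2
  choose x hx using hpre
  refine ⟨fun i => (b i : ι → F), x, b.linearIndependent.map' W.subtype W.ker_subtype, hx,
    fun v => ?_⟩
  have hv : L v ∈ W := by rw [hW, LinearMap.mem_range]; exact ⟨v, rfl⟩
  refine ⟨fun i => b.repr ⟨_, hv⟩ i, ?_⟩
  have := congrArg Subtype.val (b.sum_repr ⟨_, hv⟩)
  rw [Submodule.coe_sum] at this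
  rw [Fintype.linearCombination_apply]
  exact this

variable [CharP F 2]

theorem exists_datum (hQ : (QuadraticMap.polarBilin Q).Nondegenerate)
    (t : Cfsg.isometryGroup F ⇑Q) (ht : t ^ 2 = 1) (hs : Module.finrank F (imSp t) = s) :
    ∃ w C, Datum (s := s) t w C := by
  have htt : ∀ v, act t (act t v) = v := fun v => by rw [← act_mul, ← sq, ht, act_one]
  obtain ⟨N, hN⟩ : ∃ N : (ι → F) →ₗ[F] (ι → F), N = act t - LinearMap.id := ⟨_, rfl⟩
  have hNv : ∀ v, N v = act t v + v := fun v => by
    rw [hN]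
    ext i
    simp [CharTwo.sub_eq_add]
  have hact : ∀ v, act t v = v + N v := fun v => by rw [hN]; simp
  have hadj : ∀ u v, QuadraticMap.polar Q (N u) v = QuadraticMap.polar Q u (N v) := fun u v => by
    rw [hNv, hNv, QuadraticMap.polar_add_left Q, QuadraticMap.polar_add_right Q,
      ← act_polar t (act t u) v, htt]
  have hNN : ∀ v, N (N v) = 0 := fun v => by
    rw [hNv (N v), hNv v, map_add, htt]
    ext i
    simp only [Pi.add_apply, Pi.zero_apply]
    linear_combination CharTwo.add_self_eq_zero (v i + act t v i)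
  obtain ⟨w, x, hw, hx, hspan⟩ := exists_range_tuple (s := s) N (by rw [hN]; exact hs)
  let A : Matrix (Fin s) (Fin s) F := Matrix.of fun i j => QuadraticMap.polar Q (w i) (x j)
  have hAs : Aᵀ = A := by
    ext i j
    simp only [A, transpose_apply, of_apply]
    rw [← hx j, hadj, hx, QuadraticMap.polar_comm]
  have hiso : IsoT Q w := fun i j => by
    rw [← hx i, hadj, ← hx j, hNN]
    simp [QuadraticMap.polar]
  have hcoords : ∀ v c, lc w c = N v → coords Q w v = A *ᵥ c := by
    intro v c hc
    ext j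
    rw [coords_apply, ← hx j, hadj, ← hc, QuadraticMap.polar_comm, polar_lc, Matrix.mulVec]
    refine Finset.sum_congr rfl fun i _ => ?_
    rw [coords_apply, mul_comm]
    congr 1
    rw [← hAs]; rfl
  have hA : IsUnit A := by
    rw [← Matrix.mulVec_injective_iff_isUnit]
    intro c c' hcc
    obtain ⟨v, hv, hv'⟩ : ∃ v, lc w (c - c') = N v ∧ coords Q w v = 0 := by
      refine ⟨∑ i, (c - c') i • x i, ?_, ?_⟩
      · simp [Fintype.linearCombination_apply, hx]
      · rw [hcoords _ (c - c') (by simp [Fintype.linearCombination_apply, hx]), mulVec_sub]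
        exact sub_eq_zero.2 hcc
    have h0 : N v = 0 := hQ.1 _ fun u => by
      obtain ⟨d, hd⟩ := hspan u
      rw [QuadraticMap.polarBilin_apply_apply, hadj, QuadraticMap.polar_comm, ← hd, polar_lc, hv',
        dotProduct_zero]
    exact sub_eq_zero.1 (lc_injective hw (by rw [hv, h0, map_zero]))
  have hAd := (Matrix.isUnit_iff_isUnit_det A).1 hA
  refine ⟨w, A⁻¹, hw, hiso, by rw [transpose_nonsing_inv, hAs],
    Matrix.isUnit_nonsing_inv_det A hAd, fun v => ?_⟩
  obtain ⟨c, hc⟩ := hspan v
  rw [hcoords v c hc, mulVec_mulVec, Matrix.nonsing_inv_mul _ hAd, one_mulVec, hc, hact]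

theorem exists_element {w : Fin s → ι → F} (hw : LinearIndependent F w) (hiso : IsoT Q w)
    {C : Matrix (Fin s) (Fin s) F} (hC : Cᵀ = C) (hd : IsUnit C.det)
    (hval : ∀ i, Q (w i) = C⁻¹ i i) :
    ∃ t : Cfsg.isometryGroup F ⇑Q, t ^ 2 = 1 ∧ Datum t w C := by
  let T : (ι → F) →ₗ[F] (ι → F) := LinearMap.id + lc w ∘ₗ (C.mulVecLin ∘ₗ coords Q w)
  have hT : ∀ v, T v = v + lc w (C *ᵥ coords Q w v) := fun v => rfl
  have hTT : T ∘ₗ T = LinearMap.id := LinearMap.ext fun v => by
    rw [LinearMap.comp_apply, hT (T v), hT v, map_add, coords_eq_zero hiso, add_zero,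
      LinearMap.id_apply, add_assoc]
    ext i
    simp [CharTwo.add_self_eq_zero]
  have hQT : ∀ v, Q (T v) = Q v := by
    intro v
    set x := coords Q w v with hx
    set c := C *ᵥ x with hc
    have e1 : Q (lc w c) = c ⬝ᵥ x := by
      rw [map_lc hiso]
      have h2 : C⁻¹ *ᵥ c = x := by
        rw [hc, mulVec_mulVec, Matrix.nonsing_inv_mul _ hd, one_mulVec]
      rw [← h2, ← Matrix.toBilin'_apply', quad_pi C⁻¹ (by rw [transpose_nonsing_inv, hC])]
      exact Finset.sum_congr rfl fun i _ => by rw [hval]; ring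
    rw [hT, QuadraticMap.map_add Q, e1, QuadraticMap.polar_comm, polar_lc, ← hx]
    linear_combination CharTwo.add_self_eq_zero (c ⬝ᵥ x)
  let e : (ι → F) ≃ₗ[F] (ι → F) := LinearEquiv.ofLinear T T hTT hTT
  let t : Cfsg.isometryGroup F ⇑Q := isoOfEquiv ⇑Q e hQT
  have ht : ∀ v, act t v = T v := fun v => by
    rw [act_apply]; exact isoOfEquiv_mulVec _ e hQT v
  refine ⟨t, ?_, hw, hiso, hC, hd, fun v => (ht v).trans (hT v)⟩
  refine iso_ext fun v => ?_
  rw [← act_apply, ← act_apply, sq, act_mul, ht, ht, act_one, ← LinearMap.comp_apply, hTT,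
    LinearMap.id_apply]

theorem Datum.isConj (hQ : (QuadraticMap.polarBilin Q).Nondegenerate)
    {t t' : Cfsg.isometryGroup F ⇑Q} {w w' : Fin s → ι → F} {C C' : Matrix (Fin s) (Fin s) F}
    (h : Datum t w C) (h' : Datum t' w' C') (hc : Cong C C') : IsConj t t' := by
  obtain ⟨Y, -, -, -, hY⟩ := hc.symm
  have h2 := h.change hY
  obtain ⟨g, hg⟩ := exists_move hQ h2.li h'.li h2.iso h'.iso fun i => by
    rw [h2.value hQ, h'.value hQ]
  refine isConj_iff.2 ⟨g, ?_⟩
  have h3 := h2.conj g
  rw [funext hg] at h3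
  exact h3.eq h'

/-- the form vanishes on `im (t - 1)` exactly in the alternating case -/
theorem Datum.alt_iff (hQ : (QuadraticMap.polarBilin Q).Nondegenerate)
    {t : Cfsg.isometryGroup F ⇑Q} {w : Fin s → ι → F} {C : Matrix (Fin s) (Fin s) F}
    (h : Datum t w C) : (∀ x ∈ imSp t, Q x = 0) ↔ ∀ i, C i i = 0 := by
  have key : ∀ x, Q (lc w (C *ᵥ x)) = ∑ i, C i i * x i ^ 2 := by
    intro x
    have h2 : C⁻¹ *ᵥ (C *ᵥ x) = x := by
      rw [mulVec_mulVec, Matrix.nonsing_inv_mul _ h.det, one_mulVec]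
    rw [map_lc h.iso]
    have e1 := quad_pi C⁻¹ (by rw [transpose_nonsing_inv, h.symm]) (C *ᵥ x)
    rw [Matrix.toBilin'_apply', h2, dotProduct_comm] at e1
    have e2 := quad_pi C h.symm x
    rw [Matrix.toBilin'_apply'] at e2
    rw [← e2, e1]
    exact Finset.sum_congr rfl fun i _ => by rw [h.value hQ]; ring
  rw [h.imSp_eq_range hQ]
  constructor
  · intro hx i
    have h1 := hx (lc w (C *ᵥ Pi.single i 1)) ⟨_, rfl⟩
    rw [key, Finset.sum_eq_single i (fun j _ hj => by simp [hj]) (by simp)] at h1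
    simpa using h1
  · rintro hC _ ⟨c, rfl⟩
    obtain ⟨y, rfl⟩ := (Matrix.mulVec_surjective_iff_isUnit.2
      ((Matrix.isUnit_iff_isUnit_det _).2 h.det)) c
    rw [key]
    simp [hC]

end Cfsg.Agent.Classical.OrthInvolution
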