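import Mathlib
import Cfsg.Agent.Lib.Classical.OrthInvolution
import Cfsg.Agent.Lib.Classical.QuadClass

/-!
# Classes of involutions of orthogonal groups in characteristic two
-/

set_option autoImplicit false
set_option linter.unusedSectionVars false

namespace Cfsg.Agent.Classical.OrthInvolution

open Matrix Module Cfsg.Agent.Forms.QuadStd Cfsg.Agent.Forms.Reflections
open Cfsg.Agent.Forms.Spinor Cfsg.Agent.Classical.SymmTwo

variable {F : Type*} [Field F] [Fintype F] [CharP F 2] {ι : Type} [Fintype ι] [DecidableEq ι]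
variable {Q : QuadraticForm F (ι → F)} {s m ν : ℕ}
variable (hQ : (QuadraticMap.polarBilin Q).Nondegenerate)

/-- coefficient matrices of both types -/
theorem exists_coeff {s : ℕ} {b : Bool} (hb : b = true → Even s) :
    ∃ C : Matrix (Fin s) (Fin s) F, Cᵀ = C ∧ IsUnit C.det ∧
      ∀ i, C i i = (if b = true then 0 else 1) ∧ C⁻¹ i i = (if b = true then 0 else 1) := by
  cases b
  · exact ⟨1, transpose_one, by simp, fun i => by simp⟩
  · obtain ⟨k, rfl⟩ := hb rfl
    let e : Fin k ⊕ Fin k ≃ Fin (k + k) := finSumFinEquiv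
    have hJ : J (Fin k) F * J (Fin k) F = 1 := by
      rw [J_squared]
      ext i j
      simp [CharTwo.neg_eq]
    have hsq : reindex e e (J (Fin k) F) * reindex e e (J (Fin k) F) = 1 := by
      simp [reindex_apply, Matrix.submatrix_mul_equiv, hJ]
    refine ⟨reindex e e (J (Fin k) F), ?_, ?_, fun i => ?_⟩
    · ext i j
      simp [J_symm_apply k (e.symm j) (e.symm i)]
    · rw [det_reindex_self]
      exact isUnit_det_J (Fin k) F
    · rw [Matrix.inv_eq_right_inv hsq]
      simp [J_diag]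

theorem cong_of_type {s : ℕ} {C C' : Matrix (Fin s) (Fin s) F} (hC : Cᵀ = C) (hd : IsUnit C.det)
    (hC' : C'ᵀ = C') (hd' : IsUnit C'.det) (h : (∀ i, C i i = 0) ↔ ∀ i, C' i i = 0) :
    Cong C C' := by
  by_cases hz : ∀ i, C' i i = 0
  · obtain ⟨k, hk, hc⟩ := cong_alt C hC hd (h.2 hz)
    obtain ⟨k', hk', hc'⟩ := cong_alt C' hC' hd' hz
    obtain rfl : k = k' := by omega
    exact hc.trans hc'.symm
  · have hz1 : ∃ i, C i i ≠ 0 := by
      have := mt h.1 hz
      push Not at this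
      exact this
    have hz2 : ∃ i, C' i i ≠ 0 := by push Not at hz; exact hz
    obtain ⟨k, hk, hc⟩ | ⟨k, hk, hc⟩ := cong_nonalt C hC hd hz1 <;>
      obtain ⟨k', hk', hc'⟩ | ⟨k', hk', hc'⟩ := cong_nonalt C' hC' hd' hz2
    all_goals first
      | omega
      | (obtain rfl : k = k' := by omega
         exact hc.trans hc'.symm)

/-- which pairs (rank, alternating) occur, for Witt index `ν` in dimension `2m` -/
def idx (m ν : ℕ) : Finset (ℕ × Bool) :=
  (Finset.Icc 1 m ×ˢ (Finset.univ : Finset Bool)).filter fun p => p.2 = true → Even p.1 ∧ p.1 ≤ ν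

theorem mem_idx {m ν s : ℕ} {b : Bool} :
    (s, b) ∈ idx m ν ↔ 1 ≤ s ∧ s ≤ m ∧ (b = true → Even s ∧ s ≤ ν) := by
  simp [idx, and_assoc]

/-- the pairs occurring in the kernel of the parity -/
def idxEven (m ν : ℕ) : Finset (ℕ × Bool) := (idx m ν).filter fun p => Even p.1

theorem card_idx {m ν : ℕ} (hν : ν ≤ m) :
    (idx m ν).card = m + ν / 2 ∧ (idxEven m ν).card = m / 2 + ν / 2 := by
  have h1 : idx m ν = (Finset.Icc 1 m).image (fun s => (s, false)) ∪
      (Finset.Icc 1 (ν / 2)).image (fun s => (2 * s, true)) := by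
    ext ⟨s, b⟩
    rw [mem_idx]
    cases b
    · simp
    · simp only [Finset.mem_union, Finset.mem_image, Prod.mk.injEq, Bool.false_eq_true, and_false,
        exists_false, false_or, Finset.mem_Icc, forall_const, and_true]
      constructor
      · rintro ⟨h1, h2, ⟨r, rfl⟩, h3⟩
        exact ⟨r, ⟨by omega, by omega⟩, by omega⟩
      · rintro ⟨r, ⟨h1, h2⟩, rfl⟩
        exact ⟨by omega, by omega, ⟨r, by omega⟩, by omega⟩
  have h2 : idxEven m ν = (Finset.Icc 1 (m / 2)).image (fun s => (2 * s, false)) ∪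
      (Finset.Icc 1 (ν / 2)).image (fun s => (2 * s, true)) := by
    ext ⟨s, b⟩
    rw [idxEven, h1, Finset.filter_union, Finset.mem_union, Finset.mem_union]
    simp only [Finset.mem_filter, Finset.mem_image, Finset.mem_Icc, Prod.mk.injEq]
    constructor
    · rintro (⟨⟨r, ⟨ha, hb⟩, rfl, rfl⟩, k, hk⟩ | ⟨hr, -⟩)
      · exact Or.inl ⟨k, ⟨by omega, by omega⟩, by omega, rfl⟩
      · exact Or.inr hr
    · rintro (⟨r, ⟨ha, hb⟩, rfl, rfl⟩ | ⟨r, ⟨ha, hb⟩, rfl, rfl⟩)
      · exact Or.inl ⟨⟨2 * r, ⟨by omega, by omega⟩, rfl, rfl⟩, r, by omega⟩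
      · exact Or.inr ⟨⟨r, ⟨ha, hb⟩, rfl, rfl⟩, r, by omega⟩
  have hinj : ∀ b : Bool, Function.Injective fun s : ℕ => (2 * s, b) := fun b a a' e => by
    simp only [Prod.mk.injEq, and_true] at e
    omega
  have hdisj : ∀ (f g : ℕ → ℕ) (S T : Finset ℕ),
      Disjoint (S.image fun s => (f s, false)) (T.image fun s => (g s, true)) := fun f g S T => by
    rw [Finset.disjoint_left]
    simp only [Finset.mem_image]
    rintro _ ⟨a, -, rfl⟩ ⟨b, -, e⟩
    simp at e
  constructor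
  · rw [h1, Finset.card_union_of_disjoint (hdisj (fun s => s) _ _ _),
      Finset.card_image_of_injective _ (fun a a' e => by simpa using e),
      Finset.card_image_of_injective _ (hinj true)]
    simp
  · rw [h2, Finset.card_union_of_disjoint (hdisj _ _ _ _),
      Finset.card_image_of_injective _ (hinj false), Finset.card_image_of_injective _ (hinj true)]
    simp

/-- hypotheses on a form of dimension `2m` and Witt index `ν` -/
structure Setup (Q : QuadraticForm F (ι → F)) (m ν : ℕ) : Prop where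
  card : Fintype.card ι = 2 * m
  sing : ∀ (s : ℕ) (w : Fin s → ι → F), LinearIndependent F w → IsoT Q w →
    (∀ i, Q (w i) = 0) → s ≤ ν
  exA : ∀ s, s ≤ ν → ∃ w : Fin s → ι → F, LinearIndependent F w ∧ IsoT Q w ∧ ∀ i, Q (w i) = 0
  exN : ∀ s, 1 ≤ s → s ≤ m → ∃ w : Fin s → ι → F, LinearIndependent F w ∧ IsoT Q w ∧ ∀ i, Q (w i) = 1

include hQ in
theorem Setup.exists_of_idx (hS : Setup Q m ν) (p : ℕ × Bool) (hp : p ∈ idx m ν) :
    ∃ (t : Cfsg.isometryGroup F ⇑Q) (w : Fin p.1 → ι → F) (C : Matrix (Fin p.1) (Fin p.1) F),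
      orderOf t = 2 ∧ Datum t w C ∧ ((∀ i, C i i = 0) ↔ p.2 = true) := by
  obtain ⟨h1, h2, h3⟩ := mem_idx.1 hp
  obtain ⟨C, hC, hd, hdiag⟩ := exists_coeff (F := F) (s := p.1) (b := p.2) fun hb => (h3 hb).1
  obtain ⟨w, hw, hiso, hval⟩ : ∃ w : Fin p.1 → ι → F, LinearIndependent F w ∧ IsoT Q w ∧
      ∀ i, Q (w i) = if p.2 = true then 0 else 1 := by
    by_cases hb : p.2 = true
    · obtain ⟨w, a, b, c⟩ := hS.exA p.1 (h3 hb).2
      exact ⟨w, a, b, fun i => by rw [c, if_pos hb]⟩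
    · obtain ⟨w, a, b, c⟩ := hS.exN p.1 h1 h2
      exact ⟨w, a, b, fun i => by rw [c, if_neg hb]⟩
  obtain ⟨t, ht, h⟩ := exists_element hw hiso hC hd fun i => by rw [hval, (hdiag i).2]
  refine ⟨t, w, C, orderOf_eq_prime ht ?_, h, ?_⟩
  · rintro rfl
    have h0 := h.rank_eq hQ
    have : imSp (1 : Cfsg.isometryGroup F ⇑Q) = ⊥ := by
      rw [imSp, LinearMap.range_eq_bot]
      ext v i
      simp [act_one]
    rw [this, finrank_bot] at h0
    omega
  · constructor
    · intro hz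
      by_contra hb
      have := hz ⟨0, h1⟩
      rw [(hdiag _).1, if_neg hb] at this
      exact one_ne_zero this
    · intro hb i
      rw [(hdiag i).1, if_pos hb]

include hQ in
/-- every involution has a datum with an index in `idx` -/
theorem Setup.idx_of_elem (hS : Setup Q m ν) (g : Cfsg.isometryGroup F ⇑Q) (hg : orderOf g = 2) :
    ∃ (s : ℕ) (b : Bool) (w : Fin s → ι → F) (C : Matrix (Fin s) (Fin s) F),
      (s, b) ∈ idx m ν ∧ Datum g w C ∧ ((∀ i, C i i = 0) ↔ b = true) := by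
  classical
  have hg2 : g ^ 2 = 1 := hg ▸ pow_orderOf_eq_one g
  obtain ⟨w, C, h⟩ := exists_datum hQ g hg2 rfl
  generalize Module.finrank F (imSp g) = s at w C h
  refine ⟨s, decide (∀ i, C i i = 0), w, C, mem_idx.2 ⟨?_, ?_, ?_⟩, h, by simp⟩
  · by_contra hc
    have hg1 : g = 1 := by
      refine iso_ext fun v => ?_
      rw [← act_apply, ← act_apply, h.act_eq, act_one]
      obtain rfl : s = 0 := by omega
      simp [Fintype.linearCombination_apply]
    rw [hg1, orderOf_one] at hg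
    omega
  · have := le_of_li_iso hQ h.li h.iso
    rw [hS.card] at this
    omega
  · intro hd
    have hz : ∀ i, C i i = 0 := of_decide_eq_true hd
    obtain ⟨k, hk, -⟩ := cong_alt C h.symm h.det hz
    refine ⟨⟨k, by omega⟩, hS.sing s w h.li h.iso fun i => ?_⟩
    refine (h.alt_iff hQ).2 hz _ ?_
    rw [h.imSp_eq_range hQ]
    exact ⟨Pi.single i 1, by simp [Fintype.linearCombination_apply_single]⟩

include hQ in
/-- conjugate involutions have the same index -/
theorem idx_unique {t t' : Cfsg.isometryGroup F ⇑Q} (ht : IsConj t t') {p p' : ℕ × Bool}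
    {w : Fin p.1 → ι → F} {C : Matrix (Fin p.1) (Fin p.1) F} (h : Datum t w C)
    (hb : (∀ i, C i i = 0) ↔ p.2 = true)
    {w' : Fin p'.1 → ι → F} {C' : Matrix (Fin p'.1) (Fin p'.1) F} (h' : Datum t' w' C')
    (hb' : (∀ i, C' i i = 0) ↔ p'.2 = true) : p = p' := by
  obtain ⟨g, rfl⟩ := isConj_iff.1 ht
  have h1 := h.conj g
  have hs : p.1 = p'.1 := by rw [← h1.rank_eq hQ, ← h'.rank_eq hQ]
  refine Prod.ext hs (Bool.eq_iff_iff.2 ?_)
  rw [← hb, ← hb', ← h1.alt_iff hQ, ← h'.alt_iff hQ]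

include hQ in
theorem Setup.natCard_classes (hS : Setup Q m ν) (hν : ν ≤ m) :
    Nat.card {C : ConjClasses ↥(Cfsg.isometryGroup F ⇑Q) //
      ∃ g : ↥(Cfsg.isometryGroup F ⇑Q), ConjClasses.mk g = C ∧ orderOf g = 2} = m + ν / 2 := by
  classical
  suffices hbij : ∃ Φ : (↥(idx m ν)) → {C : ConjClasses ↥(Cfsg.isometryGroup F ⇑Q) //
      ∃ g : ↥(Cfsg.isometryGroup F ⇑Q), ConjClasses.mk g = C ∧ orderOf g = 2},
      Function.Bijective Φ by
    obtain ⟨Φ, hΦ⟩ := hbij
    rw [← Nat.card_eq_of_bijective Φ hΦ, Nat.card_eq_finsetCard, (card_idx hν).1]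
  choose t w C ht hD hb using fun p : ↥(idx m ν) => hS.exists_of_idx hQ p.1 p.2
  refine ⟨fun p => ⟨ConjClasses.mk (t p), t p, rfl, ht p⟩, ?_, ?_⟩
  · intro p p' e
    exact Subtype.ext (idx_unique hQ (ConjClasses.mk_eq_mk_iff_isConj.1 (congrArg Subtype.val e))
      (hD p) (hb p) (hD p') (hb p'))
  · rintro ⟨_, g, rfl, hg⟩
    obtain ⟨s, b, w', C', hp, h', hb'⟩ := hS.idx_of_elem hQ g hg
    refine ⟨⟨(s, b), hp⟩, Subtype.ext (ConjClasses.mk_eq_mk_iff_isConj.2 ?_)⟩
    refine (hD ⟨(s, b), hp⟩).isConj hQ h' ?_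
    exact cong_of_type (hD ⟨(s, b), hp⟩).symm (hD ⟨(s, b), hp⟩).det h'.symm h'.det
      ((hb ⟨(s, b), hp⟩).trans hb'.symm)

/-! ### The kernel of the parity -/

include hQ in
theorem refGroup_eq_top_of_small (hc : Fintype.card ι = 4)
    (h : ∀ S : Submodule F (ι → F), (∀ x ∈ S, Q x = 0) → Module.finrank F S ≤ 1) :
    refGroup Q = ⊤ := by
  rw [eq_top_iff]
  intro g _
  induction hn : Fintype.card ι - Module.finrank F ↥(fixSp g) using Nat.strong_induction_on
    generalizing g with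
  | _ n ih =>
    have hsum := finrank_imSp hQ g
    by_cases hani : ∃ v ∈ imSp g, Q v ≠ 0
    · obtain ⟨v, hvm, hv⟩ := hani
      have h2 := (fix_reflect_of_mem hQ hv hvm).2
      have hsum' := finrank_imSp hQ (reflect Q v * g)
      have hmem := ih _ (by omega) (Subgroup.mem_top (reflect Q v * g)) rfl
      have := mul_mem (reflect_mem_refGroup (Q := Q) hv) hmem
      rwa [← mul_assoc, reflect_sq, one_mul] at this
    · push Not at hani
      obtain ⟨k, hk⟩ := even_of_singular hQ hani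
      have h1 := h (imSp g) hani
      have hfix : fixSp g = ⊤ := Submodule.eq_top_of_finrank_eq (by
        rw [Module.finrank_pi]; omega)
      have : g = 1 := iso_ext fun x => by
        rw [← act_apply, ← act_apply, act_one]
        exact mem_fixSp.1 (hfix ▸ Submodule.mem_top)
      rw [this]; exact one_mem _

include hQ in
theorem par_mul_of_ref (href : refGroup Q = ⊤) (g g' : Cfsg.isometryGroup F ⇑Q) :
    par (g * g') = par g * par g' :=
  par_mul hQ (href ▸ Subgroup.mem_top g) g'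

include hQ in
theorem mem_omega_iff_of_ref (href : refGroup Q = ⊤) (g : Cfsg.isometryGroup F ⇑Q) :
    g ∈ Cfsg.Omega F ⇑Q ↔ par g = 1 := by
  let φ : Cfsg.isometryGroup F ⇑Q →* ℤˣ := MonoidHom.mk' par (par_mul_of_ref hQ href)
  refine ⟨fun hg => Abelianization.commutator_subset_ker φ hg, fun hg => ?_⟩
  by_cases hex : ∃ r, Q r ≠ 0
  · obtain ⟨r, hr⟩ := hex
    have hφr : φ (reflect Q r) = -1 := by
      have h1 := par_reflect_mul hQ hr (1 : Cfsg.isometryGroup F ⇑Q)
      rwa [mul_one, par_one] at h1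
    set π := Abelianization.of (G := Cfsg.isometryGroup F ⇑Q)
    have hgen : π g ∈ Subgroup.closure ({π (reflect Q r)} : Set _) := by
      have hle : refGroup Q ≤ (Subgroup.closure ({π (reflect Q r)} : Set _)).comap π := by
        refine (Subgroup.closure_le _).2 ?_
        rintro _ ⟨v, hv, rfl⟩
        obtain ⟨w, hw⟩ := exists_conj_char_two hQ hr hv
        refine Subgroup.subset_closure ?_
        rw [Set.mem_singleton_iff, hw, map_mul, map_mul, map_inv, mul_inv_cancel_comm]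
      exact hle (href ▸ Subgroup.mem_top g)
    obtain ⟨i, hi⟩ := Subgroup.mem_closure_singleton.1 hgen
    have hsq : π (reflect Q r) ^ (2 : ℤ) = 1 := by
      rw [zpow_ofNat, sq, ← map_mul, reflect_sq, map_one]
    have h0 := congrArg (Abelianization.lift φ) hi
    rw [map_zpow, Abelianization.lift_apply_of, Abelianization.lift_apply_of, hφr,
      show φ g = 1 from hg, ← Int.emod_add_mul_ediv i 2, _root_.zpow_add, _root_.zpow_mul] at h0
    rw [← Int.emod_add_mul_ediv i 2, _root_.zpow_add, _root_.zpow_mul, hsq, _root_.one_zpow,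
      mul_one] at hi
    rcases Int.emod_two_eq_zero_or_one i with he | he
    · rw [he, zpow_zero] at hi
      exact (QuotientGroup.eq_one_iff g).1 hi.symm
    · rw [he] at h0
      simp at h0
  · push Not at hex
    have : g = 1 := iso_ext fun x => by
      have hs : Subsingleton (ι → F) := ⟨fun x y => by
        rw [hQ.1 x fun z => by simp [QuadraticMap.polar, hex],
          hQ.1 y fun z => by simp [QuadraticMap.polar, hex]]⟩
      exact Subsingleton.elim _ _
    rw [this]; exact one_mem _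

include hQ in
theorem Datum.par_eq {t : Cfsg.isometryGroup F ⇑Q} {w : Fin s → ι → F}
    {C : Matrix (Fin s) (Fin s) F} (h : Datum t w C) : par t = (-1) ^ s := by
  have h1 := finrank_imSp hQ t
  rw [h.rank_eq hQ] at h1
  rw [par, ← h1, show Module.finrank F ↥(fixSp t) + (s + Module.finrank F ↥(fixSp t)) =
    s + 2 * Module.finrank F ↥(fixSp t) by ring, pow_add, pow_mul]
  simp

include hQ in
theorem exists_odd_commute {t : Cfsg.isometryGroup F ⇑Q} {w : Fin s → ι → F}
    {C : Matrix (Fin s) (Fin s) F} (h : Datum t w C) {v : ι → F} (hv : Q v ≠ 0)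
    (hperp : ∀ i, QuadraticMap.polar Q v (w i) = 0) :
    ∃ r : Cfsg.isometryGroup F ⇑Q, Commute r t ∧ par r = -1 := by
  refine ⟨reflect Q v, ?_, ?_⟩
  · have h1 := h.conj (reflect Q v)
    have e : (fun i => act (reflect Q v) (w i)) = w := funext fun i => by
      rw [act_reflect, hperp, mul_zero, zero_smul, sub_zero]
    rw [e] at h1
    exact mul_inv_eq_iff_eq_mul.1 (h1.eq h)
  · have h1 := par_reflect_mul hQ hv (1 : Cfsg.isometryGroup F ⇑Q)
    rwa [mul_one, par_one] at h1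

include hQ in
theorem exists_perp {t : Cfsg.isometryGroup F ⇑Q} {w : Fin s → ι → F}
    {C : Matrix (Fin s) (Fin s) F} (h : Datum t w C) (hcard : Fintype.card ι = 2 * m)
    (hne : ¬ (s = m ∧ ∀ i, C i i = 0)) :
    ∃ v, Q v ≠ 0 ∧ ∀ i, QuadraticMap.polar Q v (w i) = 0 := by
  by_cases hsm : s < m
  · by_contra hall
    push Not at hall
    have hK : ∀ u ∈ LinearMap.ker (coords Q w), Q u = 0 := fun u hu => by
      by_contra hu'
      obtain ⟨i, hi⟩ := hall u hu'
      refine hi ?_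
      rw [QuadraticMap.polar_comm]
      exact congrFun (LinearMap.mem_ker.1 hu) i
    have h1 := QuadClass.two_mul_finrank_le Q hQ _ hK
    have h2 := (coords Q w).finrank_range_add_finrank_ker
    rw [LinearMap.range_eq_top.2 (coords_surjective hQ h.li), finrank_top, Module.finrank_pi,
      Module.finrank_pi, Fintype.card_fin] at h2
    rw [Module.finrank_pi] at h1
    omega
  · have := le_of_li_iso hQ h.li h.iso
    have hz : ¬ ∀ i, C i i = 0 := fun hz => hne ⟨by omega, hz⟩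
    rw [← h.alt_iff hQ, h.imSp_eq_range hQ] at hz
    push Not at hz
    obtain ⟨_, ⟨c, rfl⟩, hc⟩ := hz
    exact ⟨lc w c, hc, fun i => by rw [polar_lc]; simp [dotProduct, fun j => h.iso j i]⟩

include hQ in
theorem Setup.natCard_classes_omega (hS : Setup Q m ν) (hm : 1 ≤ m) (hν : ν ≤ m)
    (href : refGroup Q = ⊤)
    (hsplit : ∀ (t : Cfsg.isometryGroup F ⇑Q) (w : Fin m → ι → F) (C : Matrix (Fin m) (Fin m) F),
      Datum t w C → (∀ i, C i i = 0) → ∀ c, Commute c t → par c = 1) :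
    Nat.card {C : ConjClasses ↥(Cfsg.Omega F ⇑Q) //
      ∃ g : ↥(Cfsg.Omega F ⇑Q), ConjClasses.mk g = C ∧ orderOf g = 2} =
        m / 2 + ν / 2 + if ν = m ∧ Even m then 1 else 0 := by
  classical
  obtain ⟨r, hr⟩ : ∃ r : Cfsg.isometryGroup F ⇑Q, par r = -1 := by
    obtain ⟨w, hw, hiso, hval⟩ := hS.exN 1 le_rfl hm
    refine ⟨reflect Q (w 0), ?_⟩
    have h1 := par_reflect_mul hQ (v := w 0) (by rw [hval]; exact one_ne_zero)
      (1 : Cfsg.isometryGroup F ⇑Q)
    rwa [mul_one, par_one] at h1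
  have hmul := par_mul_of_ref hQ href
  have hinv : ∀ g, par g⁻¹ = par g := fun g => by
    have h1 := hmul g⁻¹ g
    rw [inv_mul_cancel, par_one] at h1
    rw [eq_inv_of_mul_eq_one_left h1.symm, Int.units_inv_eq_self]
  have hΩ : ∀ g, g ∈ Cfsg.Omega F ⇑Q ↔ par g = 1 := mem_omega_iff_of_ref hQ href
  let extra : Finset Unit := if ν = m ∧ Even m then {()} else ∅
  have hextra : Nat.card ↥extra = if ν = m ∧ Even m then 1 else 0 := by
    rw [Nat.card_eq_finsetCard]
    simp only [extra]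
    split_ifs <;> simp
  suffices hbij : ∃ Φ : (↥(idxEven m ν)) ⊕ ↥extra → {C : ConjClasses ↥(Cfsg.Omega F ⇑Q) //
      ∃ g : ↥(Cfsg.Omega F ⇑Q), ConjClasses.mk g = C ∧ orderOf g = 2}, Function.Bijective Φ by
    obtain ⟨Φ, hΦ⟩ := hbij
    rw [← Nat.card_eq_of_bijective Φ hΦ, Nat.card_sum, hextra, Nat.card_eq_finsetCard,
      (card_idx hν).2]
  have hmemE : ∀ p, p ∈ idxEven m ν → p ∈ idx m ν ∧ Even p.1 := fun p hp => Finset.mem_filter.1 hp
  choose t w C ht hD hb using fun p : ↥(idxEven m ν) =>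
    hS.exists_of_idx hQ p.1 (hmemE p.1 p.2).1
  have htΩ : ∀ p, t p ∈ Cfsg.Omega F ⇑Q := fun p => by
    rw [hΩ, (hD p).par_eq hQ, (hmemE p.1 p.2).2.neg_one_pow]
  have hord : ∀ (g : Cfsg.isometryGroup F ⇑Q) (hg : g ∈ Cfsg.Omega F ⇑Q), orderOf g = 2 →
      orderOf (⟨g, hg⟩ : ↥(Cfsg.Omega F ⇑Q)) = 2 := fun g hg ho => by
    rw [← Subgroup.orderOf_coe]; exact ho
  have hjj : ν = m ∧ Even m → (m, true) ∈ idxEven m ν := fun h =>
    Finset.mem_filter.2 ⟨mem_idx.2 ⟨hm, le_rfl, fun _ => ⟨h.2, h.1.ge⟩⟩, h.2⟩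
  have hex : ∀ u : ↥extra, ν = m ∧ Even m := fun u => by
    by_contra hne
    have := u.2
    simp [extra, hne] at this
  let other : ↥extra → Cfsg.isometryGroup F ⇑Q := fun u => r * t ⟨_, hjj (hex u)⟩ * r⁻¹
  have hotherΩ : ∀ u, other u ∈ Cfsg.Omega F ⇑Q := fun u => by
    rw [hΩ, hmul, hmul, hinv, (hΩ _).1 (htΩ _), hr]
    simp
  have hotherord : ∀ u, orderOf (other u) = 2 := fun u => by
    rw [← ht ⟨_, hjj (hex u)⟩]
    exact orderOf_injective (MulAut.conj r).toMonoidHom (MulAut.conj r).injective _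
  refine ⟨fun x => x.elim
    (fun p => ⟨ConjClasses.mk ⟨t p, htΩ p⟩, _, rfl, hord _ _ (ht p)⟩)
    (fun u => ⟨ConjClasses.mk ⟨other u, hotherΩ u⟩, _, rfl, hord _ _ (hotherord u)⟩), ?_, ?_⟩
  · have hconj : ∀ {a b : ↥(Cfsg.Omega F ⇑Q)}, ConjClasses.mk a = ConjClasses.mk b →
        ∃ c : Cfsg.isometryGroup F ⇑Q, par c = 1 ∧
          c * (a : Cfsg.isometryGroup F ⇑Q) * c⁻¹ = (b : Cfsg.isometryGroup F ⇑Q) := fun {a b} e => by
      obtain ⟨c, hc⟩ := isConj_iff.1 (ConjClasses.mk_eq_mk_iff_isConj.1 e)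
      exact ⟨c, (hΩ _).1 c.2, congrArg Subtype.val hc⟩
    have hsame : ∀ (p : ↥(idxEven m ν)) (u : ↥extra) (c : Cfsg.isometryGroup F ⇑Q), par c = 1 →
        c * t p * c⁻¹ = other u → False := by
      intro p u c hc e
      have hp : p.1 = (m, true) := idx_unique hQ (p := p.1) (p' := (m, true))
        ((isConj_iff.2 ⟨c, e⟩).trans (IsConj.symm (isConj_iff.2 ⟨r, rfl⟩)))
        (hD p) (hb p) (hD ⟨_, hjj (hex u)⟩) (hb ⟨_, hjj (hex u)⟩)
      have hp' : p = ⟨_, hjj (hex u)⟩ := Subtype.ext hp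
      subst hp'
      have hcomm : Commute (r⁻¹ * c) (t ⟨_, hjj (hex u)⟩) := by
        refine mul_inv_eq_iff_eq_mul.1 ?_
        rw [_root_.mul_inv_rev, inv_inv]
        calc r⁻¹ * c * t ⟨_, hjj (hex u)⟩ * (c⁻¹ * r)
            = r⁻¹ * (c * t ⟨_, hjj (hex u)⟩ * c⁻¹) * r := by group
          _ = t ⟨_, hjj (hex u)⟩ := by rw [e]; simp only [other]; group
      have h1 := hsplit _ _ _ (hD ⟨_, hjj (hex u)⟩) ((hb ⟨_, hjj (hex u)⟩).2 rfl) _ hcomm
      rw [hmul, hinv, hr, hc] at h1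
      exact absurd h1 (by decide)
    rintro (p | u) (p' | u') e <;> simp only [Sum.elim_inl, Sum.elim_inr] at e <;>
      obtain ⟨c, hc, hce⟩ := hconj (congrArg Subtype.val e)
    · exact congrArg Sum.inl (Subtype.ext
        (idx_unique hQ (isConj_iff.2 ⟨c, hce⟩) (hD p) (hb p) (hD p') (hb p')))
    · exact (hsame p u' c hc hce).elim
    · refine (hsame p' u c⁻¹ (by rw [hinv, hc]) ?_).elim
      change c * other u * c⁻¹ = t p' at hce
      rw [← hce]; group
    · exact congrArg Sum.inr (Subtype.ext (Subsingleton.elim _ _))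
  · rintro ⟨_, g, rfl, hg⟩
    have hg' : orderOf (g : Cfsg.isometryGroup F ⇑Q) = 2 := by rw [Subgroup.orderOf_coe]; exact hg
    obtain ⟨s, b, w', C', hp, h', hb'⟩ := hS.idx_of_elem hQ _ hg'
    have hse : Even s := by
      by_contra hne
      have := h'.par_eq hQ
      rw [(hΩ _).1 g.2, (Nat.not_even_iff_odd.1 hne).neg_one_pow] at this
      exact absurd this (by decide)
    let p : ↥(idxEven m ν) := ⟨(s, b), Finset.mem_filter.2 ⟨hp, hse⟩⟩
    obtain ⟨c, hc⟩ := isConj_iff.1 ((hD p).isConj hQ h'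
      (cong_of_type (hD p).symm (hD p).det h'.symm h'.det ((hb p).trans hb'.symm)))
    have fin : ∀ d, par d = 1 → d * t p * d⁻¹ = (g : Cfsg.isometryGroup F ⇑Q) →
        ∃ x, (Sum.elim (fun p => (⟨ConjClasses.mk ⟨t p, htΩ p⟩, _, rfl, hord _ _ (ht p)⟩ :
            {C : ConjClasses ↥(Cfsg.Omega F ⇑Q) //
              ∃ g : ↥(Cfsg.Omega F ⇑Q), ConjClasses.mk g = C ∧ orderOf g = 2}))
          (fun u => ⟨ConjClasses.mk ⟨other u, hotherΩ u⟩, _, rfl, hord _ _ (hotherord u)⟩) x).1 =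
            ConjClasses.mk g := fun d hd e =>
      ⟨Sum.inl p, ConjClasses.mk_eq_mk_iff_isConj.2
        (isConj_iff.2 ⟨⟨d, (hΩ _).2 hd⟩, Subtype.ext e⟩)⟩
    rcases Int.units_eq_one_or (par c) with hp1 | hp1
    · obtain ⟨x, hx⟩ := fin c hp1 hc
      exact ⟨x, Subtype.ext hx⟩
    by_cases hA : s = m ∧ b = true
    · obtain ⟨rfl, rfl⟩ := hA
      have hνm : ν = s ∧ Even s := ⟨le_antisymm hν ((mem_idx.1 hp).2.2 rfl).2, hse⟩
      let u : ↥extra := ⟨(), by simp [extra, hνm]⟩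
      refine ⟨Sum.inr u, Subtype.ext (ConjClasses.mk_eq_mk_iff_isConj.2
        (isConj_iff.2 ⟨⟨c * r⁻¹, (hΩ _).2 ?_⟩, Subtype.ext ?_⟩))⟩
      · rw [hmul, hinv, hr, hp1]; simp
      · show c * r⁻¹ * (r * t p * r⁻¹) * (c * r⁻¹)⁻¹ = _
        rw [← hc]; group
    · obtain ⟨v, hv, hperp⟩ := exists_perp hQ (hD p) hS.card (fun hh => hA ⟨hh.1, by
        simpa using (hb p).1 hh.2⟩)
      obtain ⟨d, hd, hdp⟩ := exists_odd_commute hQ (hD p) hv hperp
      obtain ⟨x, hx⟩ := fin (c * d) (by rw [hmul, hp1, hdp]; simp) (by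
        calc c * d * t p * (c * d)⁻¹ = c * (d * t p) * d⁻¹ * c⁻¹ := by group
          _ = c * (t p * d) * d⁻¹ * c⁻¹ := by rw [hd.eq]
          _ = _ := by rw [← hc]; group)
      exact ⟨x, Subtype.ext hx⟩

end Cfsg.Agent.Classical.OrthInvolution
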