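import Mathlib
import Cfsg.Agent.Lib.Classical.OrthInvolutionClasses

/-!
# Involutions in characteristic two: the standard forms of plus and minus type
-/

set_option autoImplicit false
set_option linter.unusedSectionVars false

namespace Cfsg.Agent.Classical.OrthInvolution

open Matrix Module Cfsg.Agent.Forms.QuadStd Cfsg.Agent.Forms.Reflections
open Cfsg.Agent.Forms.PlusStd Cfsg.Agent.Classical.OrthForms

variable {F : Type*} [Field F] [Fintype F] [CharP F 2] {ι : Type} [Fintype ι] [DecidableEq ι]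
variable {Q : QuadraticForm F (ι → F)} {s m : ℕ}

theorem singular_span {w : Fin s → ι → F} (hiso : IsoT Q w) (h0 : ∀ i, Q (w i) = 0) :
    ∀ x ∈ LinearMap.range (lc w), Q x = 0 := by
  rintro _ ⟨c, rfl⟩
  rw [map_lc hiso]
  simp [h0]

theorem exN_of {k : ℕ} {u : Fin k → ι → F} (hu : LinearIndependent F u) (hiso : IsoT Q u)
    (h0 : ∀ i, Q (u i) = 0) {x : ι → F} (hx : Q x = 1)
    (hux : ∀ i, QuadraticMap.polar Q (u i) x = 0) :
    ∃ w : Fin (k + 1) → ι → F, LinearIndependent F w ∧ IsoT Q w ∧ ∀ i, Q (w i) = 1 := by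
  refine ⟨Fin.snoc (fun i => u i + x) x, ?_, ?_, ?_⟩
  · rw [Fintype.linearIndependent_iff]
    intro c hc
    rw [Fin.sum_univ_castSucc] at hc
    simp only [Fin.snoc_castSucc, Fin.snoc_last, smul_add, Finset.sum_add_distrib,
      ← Finset.sum_smul] at hc
    rw [add_assoc, ← add_smul] at hc
    set σ := ∑ i : Fin k, c i.castSucc + c (Fin.last k) with hσ
    have hσ0 : σ = 0 := by
      by_contra hne
      have hxmem : x ∈ LinearMap.range (lc u) := by
        refine ⟨fun i => -(σ⁻¹ * c i.castSucc), ?_⟩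
        rw [Fintype.linearCombination_apply]
        have := congrArg (fun v => (-σ⁻¹) • v) hc
        simp only [smul_add, smul_zero, smul_smul, neg_mul, inv_mul_cancel₀ hne,
          Finset.smul_sum] at this
        rw [add_eq_zero_iff_eq_neg, neg_smul, neg_neg, one_smul] at this
        exact this
      have := singular_span hiso h0 x hxmem
      rw [hx] at this
      exact one_ne_zero this
    rw [hσ0, zero_smul, add_zero] at hc
    have h1 := Fintype.linearIndependent_iff.1 hu _ hc
    intro i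
    refine Fin.lastCases ?_ h1 i
    simpa [hσ, h1] using hσ0
  · intro i j
    have hxx : QuadraticMap.polar Q x x = 0 := by
      rw [QuadraticMap.polar_self, two_nsmul]
      exact CharTwo.add_self_eq_zero _
    refine Fin.lastCases ?_ (fun i => ?_) i <;> refine Fin.lastCases ?_ (fun j => ?_) j <;>
      simp [QuadraticMap.polar_add_left Q, QuadraticMap.polar_add_right Q, hxx, hux,
        QuadraticMap.polar_comm _ x, show ∀ a b, QuadraticMap.polar Q (u a) (u b) = 0 from hiso]
  · intro i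
    refine Fin.lastCases ?_ (fun i => ?_) i
    · simp [hx]
    · simp [QuadraticMap.map_add Q, h0, hx, hux]

/-- the first standard singular vectors of the plus form -/
noncomputable def plusTuple (F : Type*) [Field F] {m k : ℕ} (hk : k ≤ m) :
    Fin k → Fin m ⊕ Fin m → F := fun i => Pi.single (Sum.inl (Fin.castLE hk i)) 1

theorem plusTuple_spec {m k : ℕ} (hk : k ≤ m) :
    LinearIndependent F (plusTuple F hk) ∧ IsoT (plusQ F m) (plusTuple F hk) ∧
      ∀ i, plusQ F m (plusTuple F hk i) = 0 := by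
  refine ⟨?_, fun i j => ?_, fun i => ?_⟩
  · exact (Pi.linearIndependent_single_one (Fin m ⊕ Fin m) F).comp _
      (Sum.inl_injective.comp (Fin.castLE_injective hk))
  · rw [plusQ_polar]; simp [plusTuple, Pi.single_apply]
  · rw [plusQ_apply]; simp [plusTuple, Cfsg.quadFormPlus]

theorem setup_plus (m : ℕ) : Setup (plusQ F m) m m where
  card := by simp [two_mul]
  sing s w hw hiso h0 := by
    have h := QuadClass.two_mul_finrank_le _ (plusQ_nondeg F m) _ (singular_span hiso h0)
    rw [LinearMap.finrank_range_of_inj (lc_injective hw), Module.finrank_pi, Module.finrank_pi,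
      Fintype.card_sum, Fintype.card_fin, Fintype.card_fin] at h
    omega
  exA s hs := ⟨plusTuple F hs, plusTuple_spec hs⟩
  exN s h1 h2 := by
    obtain ⟨k, rfl⟩ : ∃ k, s = k + 1 := ⟨s - 1, by omega⟩
    obtain ⟨a, b, c⟩ := plusTuple_spec (F := F) (show k ≤ m by omega)
    let j : Fin m := ⟨k, by omega⟩
    refine exN_of a b c (x := Pi.single (Sum.inl j) 1 + Pi.single (Sum.inr j) 1) ?_ fun i => ?_
    · rw [plusQ_apply, Cfsg.quadFormPlus, Finset.sum_eq_single j (fun b _ hb => by simp [hb])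
        (by simp)]
      simp
    · rw [plusQ_polar]
      refine Finset.sum_eq_zero fun l _ => ?_
      have hne : Fin.castLE (show k ≤ m by omega) i ≠ j := fun e => by
        have := congrArg Fin.val e
        simp [j] at this
        omega
      by_cases hl : l = j <;> simp [plusTuple, hl, hne.symm, Pi.single_apply]

theorem minQ_single_inl (k : ℕ) (a b : F) (i : Fin k) :
    minQ F k a b (Pi.single (Sum.inl (Sum.inl i)) 1) = 0 := by
  rw [minQ_apply]
  simp [plusQ_apply, Cfsg.quadFormPlus]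

theorem setup_minus (k : ℕ) {a b : F}
    (hab : ∀ z₁ z₂ : F, z₁ ^ 2 + a * z₁ * z₂ + b * z₂ ^ 2 = 0 → z₁ = 0 ∧ z₂ = 0) :
    Setup (minQ F k a b) (k + 1) k where
  card := by simp; omega
  sing s w hw hiso h0 := by
    have h := QuadClass.finrank_le_of_minus hab _ (singular_span hiso h0)
    rwa [LinearMap.finrank_range_of_inj (lc_injective hw), Module.finrank_pi,
      Fintype.card_fin] at h
  exA s hs := by
    refine ⟨fun i => Pi.single (Sum.inl (Sum.inl (Fin.castLE hs i))) 1, ?_, fun i j => ?_,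
      fun i => minQ_single_inl k a b _⟩
    · exact (Pi.linearIndependent_single_one ((Fin k ⊕ Fin k) ⊕ Fin 2) F).comp _
        (Sum.inl_injective.comp (Sum.inl_injective.comp (Fin.castLE_injective hs)))
    · rw [minQ_polar]; simp [plusQ_polar, Pi.single_apply]
  exN s h1 h2 := by
    obtain ⟨j, rfl⟩ : ∃ j, s = j + 1 := ⟨s - 1, by omega⟩
    have hj : j ≤ k := by omega
    refine exN_of (u := fun i => Pi.single (Sum.inl (Sum.inl (Fin.castLE hj i))) 1) ?_ ?_ ?_
      (x := Pi.single (Sum.inr 0) 1) ?_ fun i => ?_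
    · exact (Pi.linearIndependent_single_one ((Fin k ⊕ Fin k) ⊕ Fin 2) F).comp _
        (Sum.inl_injective.comp (Sum.inl_injective.comp (Fin.castLE_injective hj)))
    · intro i i'
      rw [minQ_polar]; simp [plusQ_polar, Pi.single_apply]
    · exact fun i => minQ_single_inl k a b _
    · rw [minQ_apply]; simp [plusQ_apply, Cfsg.quadFormPlus]
    · rw [minQ_polar]; simp [plusQ_polar, Pi.single_apply]

theorem refGroup_minus (k : ℕ) {a b : F}
    (hab : ∀ z₁ z₂ : F, z₁ ^ 2 + a * z₁ * z₂ + b * z₂ ^ 2 = 0 → z₁ = 0 ∧ z₂ = 0) :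
    refGroup (minQ F k a b) = ⊤ := by
  by_cases h : k = 1
  · subst h
    exact refGroup_eq_top_of_small (minQ_nondeg 1 hab) (by simp)
      fun S hS => QuadClass.finrank_le_of_minus hab S hS
  · exact refGroup_eq_top (minQ_nondeg k hab) (Or.inr (by simp; omega))

/-! ### Stabilisers of maximal singular subspaces have even parity -/

theorem finrank_ker_blocks {n₁ n₂ : Type*} [Fintype n₁] [Fintype n₂] [DecidableEq n₁]
    [DecidableEq n₂] (a : Matrix n₁ n₁ F) (b : Matrix n₂ n₂ F) :
    finrank F (LinearMap.ker (fromBlocks a 0 0 b).mulVecLin) =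
      finrank F (LinearMap.ker a.mulVecLin) + finrank F (LinearMap.ker b.mulVecLin) := by
  rw [← Module.finrank_prod]
  have key : ∀ v, v ∈ LinearMap.ker (fromBlocks a 0 0 b).mulVecLin ↔
      a *ᵥ (v ∘ Sum.inl) = 0 ∧ b *ᵥ (v ∘ Sum.inr) = 0 := fun v => by
    rw [LinearMap.mem_ker, mulVecLin_apply, fromBlocks_mulVec, funext_iff, funext_iff, funext_iff]
    simp [Sum.forall]
  exact LinearEquiv.finrank_eq
    { toFun := fun v => (⟨(v : n₁ ⊕ n₂ → F) ∘ Sum.inl, ((key _).1 v.2).1⟩,
        ⟨(v : n₁ ⊕ n₂ → F) ∘ Sum.inr, ((key _).1 v.2).2⟩)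
      map_add' := fun _ _ => rfl
      map_smul' := fun _ _ => rfl
      invFun := fun p => ⟨Sum.elim p.1.1 p.2.1, (key _).2
        ⟨by simp [LinearMap.mem_ker.1 p.1.2, ← mulVecLin_apply],
          by simp [LinearMap.mem_ker.1 p.2.2, ← mulVecLin_apply]⟩⟩
      left_inv := fun v => Subtype.ext (Sum.elim_comp_inl_inr _)
      right_inv := fun p => rfl }

/-- the Levi element -/
theorem exists_levi {A B : Matrix (Fin m) (Fin m) F} (hBA : Bᵀ * A = 1) :
    ∃ L : Cfsg.isometryGroup F ⇑(plusQ F m),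
      ((L : Matrix.GeneralLinearGroup (Fin m ⊕ Fin m) F) : Matrix _ _ F) = fromBlocks A 0 0 B ∧
        par L = 1 := by
  have hAB : A * Bᵀ = 1 := mul_eq_one_comm.1 hBA
  have hAt : Aᵀ * B = 1 := by
    have := congrArg Matrix.transpose hBA
    simpa using this
  have hinv : fromBlocks A 0 0 B * fromBlocks Bᵀ 0 0 Aᵀ = 1 := by
    simp [fromBlocks_multiply, hAB, mul_eq_one_comm.1 hAt]
  have hinv' : fromBlocks Bᵀ 0 0 Aᵀ * fromBlocks A 0 0 B = 1 := mul_eq_one_comm.1 hinv
  have hdot : ∀ v : Fin m ⊕ Fin m → F, plusQ F m v = (v ∘ Sum.inl) ⬝ᵥ (v ∘ Sum.inr) := fun v => by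
    rw [plusQ_apply]; rfl
  let L : Cfsg.isometryGroup F ⇑(plusQ F m) := ⟨⟨_, _, hinv, hinv'⟩, (mem_isometry_iff _ _).2
    fun v => by
      show plusQ F m (fromBlocks A 0 0 B *ᵥ v) = _
      rw [hdot, hdot, fromBlocks_mulVec, Sum.elim_comp_inl, Sum.elim_comp_inr]
      simp only [zero_mulVec, add_zero, zero_add]
      rw [dotProduct_mulVec, ← mulVec_transpose, mulVec_mulVec, hBA, one_mulVec]⟩
  refine ⟨L, rfl, ?_⟩
  have e : act L - LinearMap.id = (fromBlocks (A - 1) 0 0 (B - 1)).mulVecLin := by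
    refine LinearMap.ext fun v => ?_
    rw [LinearMap.sub_apply, LinearMap.id_apply, act_apply, mulVecLin_apply]
    show fromBlocks A 0 0 B *ᵥ v - v = _
    have : fromBlocks (A - 1) 0 0 (B - 1) = fromBlocks A 0 0 B - 1 := by
      ext i j
      rcases i with i | i <;> rcases j with j | j <;> simp [Matrix.one_apply]
    rw [this, sub_mulVec, one_mulVec]
  have hrank : (B - 1).rank = (A - 1).rank := by
    have hAu : IsUnit Bᵀ.det := IsUnit.of_mul_eq_one A.det (by rw [← det_mul, hBA, det_one])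
    have e1 : (B - 1)ᵀ = Bᵀ * (A - 1) := by
      ext i j
      rw [Matrix.mul_sub, hBA, Matrix.mul_one, transpose_sub, transpose_one]
      simp only [Matrix.sub_apply, CharTwo.sub_eq_add, add_comm]
    rw [← rank_transpose (B - 1), e1, rank_mul_eq_right_of_isUnit_det _ _ hAu]
  rw [par, fixSp, e, finrank_ker_blocks]
  have h1 := (A - 1).mulVecLin.finrank_range_add_finrank_ker
  have h2 := (B - 1).mulVecLin.finrank_range_add_finrank_ker
  rw [Matrix.rank, Matrix.rank] at hrank
  rw [Module.finrank_pi] at h1 h2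
  simp only [Fintype.card_sum]
  refine Even.neg_one_pow ⟨finrank F (LinearMap.ker (A - 1).mulVecLin) + Fintype.card (Fin m), ?_⟩
  omega

theorem par_eq_one_of_singular_im (g : Cfsg.isometryGroup F ⇑(plusQ F m))
    (h : ∀ x ∈ imSp g, plusQ F m x = 0) : par g = 1 := by
  obtain ⟨k, hk⟩ := even_of_singular (plusQ_nondeg F m) h
  have := finrank_imSp (plusQ_nondeg F m) g
  rw [par]
  refine Even.neg_one_pow ⟨Module.finrank F ↥(fixSp g) + k, ?_⟩
  omega

theorem par_eq_one_of_stab (href : refGroup (plusQ F m) = ⊤)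
    {w : Fin m → Fin m ⊕ Fin m → F} (hw : LinearIndependent F w) (hiso : IsoT (plusQ F m) w)
    (h0 : ∀ i, plusQ F m (w i) = 0) (g : Cfsg.isometryGroup F ⇑(plusQ F m))
    (hg : ∀ i, act g (w i) ∈ LinearMap.range (lc w)) : par g = 1 := by
  have hQ := plusQ_nondeg F m
  have hmul := par_mul_of_ref hQ href
  obtain ⟨e1, e2, e3⟩ := plusTuple_spec (F := F) (le_refl m)
  obtain ⟨h, hh⟩ := exists_move hQ e1 hw e2 hiso fun i => by rw [e3, h0]
  set g' := h⁻¹ * g * h with hg'
  have hpar : par g = par g' := by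
    have h1 : par h⁻¹ * par h = 1 := by rw [← hmul, inv_mul_cancel, par_one]
    rw [hg', hmul, hmul, mul_right_comm, h1, one_mul]
  have hspan : ∀ c, act h (lc (plusTuple F le_rfl) c) = lc w c := fun c => by
    simp [Fintype.linearCombination_apply, hh]
  choose a ha using hg
  have hg'e : ∀ i, act g' (plusTuple F le_rfl i) = lc (plusTuple F le_rfl) (a i) := fun i => by
    refine act_injective h ?_
    rw [hspan, ha, hg', act_mul, act_mul, hh, ← act_mul, mul_inv_cancel, act_one]
  let A : Matrix (Fin m) (Fin m) F := Matrix.of fun j i => a i j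
  have hlc : ∀ c, lc (plusTuple F (le_refl m)) c = Sum.elim c 0 := fun c => by
    ext (i | i) <;>
      simp [Fintype.linearCombination_apply, plusTuple, Pi.single_apply]
  have hA : ∀ c, act g' (lc (plusTuple F le_rfl) c) = lc (plusTuple F le_rfl) (A *ᵥ c) := fun c => by
    simp only [Fintype.linearCombination_apply, map_sum, map_smul, hg'e, Finset.smul_sum,
      smul_smul, Matrix.mulVec, dotProduct, Finset.sum_smul, A, Matrix.of_apply]
    rw [Finset.sum_comm]
    simp [mul_comm]
  have hAu : IsUnit A.det := by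
    rw [← Matrix.isUnit_iff_isUnit_det, ← Matrix.mulVec_injective_iff_isUnit]
    intro c c' hcc
    exact lc_injective e1 (act_injective g' (by rw [hA, hA, hcc]))
  obtain ⟨L, hL, hLpar⟩ := exists_levi (A := A) (B := A⁻¹ᵀ)
    (by rw [transpose_transpose, Matrix.nonsing_inv_mul _ hAu])
  have hfix : ∀ c, act (L⁻¹ * g') (Sum.elim c 0) = Sum.elim c 0 := fun c => by
    refine act_injective L ?_
    rw [← act_mul, ← mul_assoc, mul_inv_cancel, one_mul, ← hlc, hA, hlc, hlc, act_apply, hL,
      fromBlocks_mulVec]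
    simp
  have hLg : par (L⁻¹ * g') = 1 := by
    refine par_eq_one_of_singular_im _ fun x hx => ?_
    have hx0 : ∀ i, x (Sum.inr i) = 0 := fun i => by
      rw [imSp_eq hQ] at hx
      have h1 := mem_orth.1 hx (Sum.elim (Pi.single i 1) 0) (mem_fixSp.2 (hfix _))
      rw [plusQ_polar] at h1
      simpa [Pi.single_apply] using h1
    rw [plusQ_apply]
    simp [Cfsg.quadFormPlus, hx0]
  rw [hpar, ← hLg, hmul L⁻¹ g']
  have h1 : par L⁻¹ * par L = 1 := by rw [← hmul, inv_mul_cancel, par_one]
  rw [hLpar, mul_one] at h1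
  rw [h1, one_mul]

theorem hsplit_plus (href : refGroup (plusQ F m) = ⊤)
    (t : Cfsg.isometryGroup F ⇑(plusQ F m)) (w : Fin m → Fin m ⊕ Fin m → F)
    (C : Matrix (Fin m) (Fin m) F) (h : Datum t w C) (hz : ∀ i, C i i = 0)
    (c : Cfsg.isometryGroup F ⇑(plusQ F m)) (hc : Commute c t) : par c = 1 := by
  have hQ := plusQ_nondeg F m
  have him := h.imSp_eq_range hQ
  refine par_eq_one_of_stab href h.li h.iso (fun i => ?_) c fun i => ?_
  · refine (h.alt_iff hQ).2 hz _ ?_
    rw [him]
    exact ⟨Pi.single i 1, by simp [Fintype.linearCombination_apply_single]⟩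
  · obtain ⟨v, hv⟩ := exists_dual hQ h.det h.li (Pi.single i 1)
    rw [← him]
    refine ⟨act c v, ?_⟩
    rw [LinearMap.sub_apply, LinearMap.id_apply, ← act_mul, ← hc.eq, act_mul, h.act_eq, hv,
      map_add, add_sub_cancel_left]
    simp [Fintype.linearCombination_apply_single]

theorem hsplit_minus (k : ℕ) {a b : F}
    (hab : ∀ z₁ z₂ : F, z₁ ^ 2 + a * z₁ * z₂ + b * z₂ ^ 2 = 0 → z₁ = 0 ∧ z₂ = 0)
    (t : Cfsg.isometryGroup F ⇑(minQ F k a b)) (w : Fin (k + 1) → (Fin k ⊕ Fin k) ⊕ Fin 2 → F)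
    (C : Matrix (Fin (k + 1)) (Fin (k + 1)) F) (h : Datum t w C) (hz : ∀ i, C i i = 0)
    (c : Cfsg.isometryGroup F ⇑(minQ F k a b)) (_hc : Commute c t) : par c = 1 := by
  have hQ := minQ_nondeg k hab
  have := (setup_minus k hab).sing (k + 1) w h.li h.iso fun i => by
    refine (h.alt_iff hQ).2 hz _ ?_
    rw [h.imSp_eq_range hQ]
    exact ⟨Pi.single i 1, by simp [Fintype.linearCombination_apply_single]⟩
  omega

end Cfsg.Agent.Classical.OrthInvolution
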