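import Mathlib
import Cfsg.Agent.Lib.Classical.OrthInvolutionStd

/-!
# Centralizer orders of involutions of plus type orthogonal groups in characteristic two
-/

set_option autoImplicit false
set_option linter.unusedSectionVars false

namespace Cfsg.Agent.Classical.OrthInvolution

open Matrix Module Cfsg.Agent.Forms.QuadStd Cfsg.Agent.Forms.Reflections
open Cfsg.Agent.Forms.PlusStd Cfsg.Agent.Classical.OrthForms Cfsg.Agent.Classical.OrthCount
open Cfsg.Agent.Classical.SymmTwo

variable {F : Type*} [Field F] [Fintype F] [CharP F 2] {ι : Type} [Fintype ι] [DecidableEq ι]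
variable {Q : QuadraticForm F (ι → F)} {s m : ℕ}

/-- the pointwise stabilizer of a tuple -/
noncomputable abbrev Fix (Q : QuadraticForm F (ι → F)) (w : Fin s → ι → F) : Type _ :=
  {g : Cfsg.isometryGroup F ⇑Q // ∀ i, act g (w i) = w i}

theorem natCard_fix_mul {α : Type*} [Finite α] (w : Fin s → ι → F) (X : α → ι → F)
    (hX : Function.Injective X) (a₀ : α)
    (hmaps : ∀ g : Fix Q w, ∃ a, act g.1 (X a₀) = X a)
    (htrans : ∀ a, ∃ g : Fix Q w, act g.1 (X a₀) = X a) :
    Nat.card (Fix Q w) = Nat.card α * Nat.card (Fix Q (Fin.snoc w (X a₀) : Fin (s + 1) → ι → F)) := by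
  choose idx hidx using hmaps
  choose rep hrep using htrans
  have hmul : ∀ (g h : Fix Q w) i, act (g.1 * h.1) (w i) = w i := fun g h i => by
    rw [act_mul, h.2, g.2]
  have hinv : ∀ (g : Fix Q w) i, act g.1⁻¹ (w i) = w i := fun g i => by
    conv_lhs => rw [← g.2 i]
    rw [← act_mul, inv_mul_cancel, act_one]
  rw [← Nat.card_prod]
  refine Nat.card_congr
    { toFun := fun g => (idx g, ⟨(rep (idx g)).1⁻¹ * g.1, ?_⟩)
      invFun := fun p => ⟨(rep p.1).1 * p.2.1, hmul (rep p.1) ⟨p.2.1, fun i => by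
        simpa using p.2.2 i.castSucc⟩⟩
      left_inv := fun g => Subtype.ext (by simp)
      right_inv := fun p => ?_ }
  · intro i
    refine Fin.lastCases ?_ (fun i => ?_) i
    · rw [Fin.snoc_last, act_mul, hidx g, ← hrep (idx g), ← act_mul, inv_mul_cancel, act_one]
    · rw [Fin.snoc_castSucc, act_mul, g.2, hinv]
  · have h1 : ∀ h, idx ⟨(rep p.1).1 * p.2.1, h⟩ = p.1 := fun h => hX (by
      have := p.2.2 (Fin.last s)
      rw [Fin.snoc_last] at this
      rw [← hidx, act_mul, this, hrep])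
    refine Prod.ext (h1 _) (Subtype.ext ?_)
    simp [h1]

theorem natCard_fix_move {w w' : Fin s → ι → F} (h : Cfsg.isometryGroup F ⇑Q)
    (hh : ∀ i, act h (w i) = w' i) : Nat.card (Fix Q w) = Nat.card (Fix Q w') :=
  Nat.card_congr
    { toFun := fun g => ⟨h * g.1 * h⁻¹, fun i => by
        rw [← hh, ← act_mul, mul_assoc, inv_mul_cancel, mul_one, act_mul, g.2]⟩
      invFun := fun g => ⟨h⁻¹ * g.1 * h, fun i => by
        rw [act_mul, hh, act_mul, g.2, ← hh, ← act_mul, inv_mul_cancel, act_one]⟩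
      left_inv := fun g => Subtype.ext (by simp [mul_assoc])
      right_inv := fun g => Subtype.ext (by simp [mul_assoc]) }

theorem natCard_centralizer (hQ : (QuadraticMap.polarBilin Q).Nondegenerate)
    {t : Cfsg.isometryGroup F ⇑Q} {w : Fin s → ι → F} {C : Matrix (Fin s) (Fin s) F}
    (h : Datum t w C) :
    Nat.card {g : Cfsg.isometryGroup F ⇑Q // Commute g t} = Nat.card (Iso C) * Nat.card (Fix Q w) := by
  have hPex : ∀ g : {g : Cfsg.isometryGroup F ⇑Q // Commute g t},
      ∃ P : Iso C, ∀ i, act g.1 (w i) = comb w P.1 i := by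
    intro g
    have h3 := h.conj g.1
    rw [mul_inv_eq_iff_eq_mul.2 g.2.eq] at h3
    obtain ⟨P, hP, hPC⟩ := h.rigid hQ h3
    exact ⟨⟨P, hPC⟩, fun i => (congrFun hP i).symm⟩
  have hgex : ∀ P : Iso C, ∃ g : {g : Cfsg.isometryGroup F ⇑Q // Commute g t},
      ∀ i, act g.1 (w i) = comb w P.1 i := by
    intro P
    have h2 := h.change P.2
    obtain ⟨g, hg⟩ := exists_move hQ h.li h2.li h.iso h2.iso fun i => by
      rw [h.value hQ, h2.value hQ]
    have h3 := h.conj g
    rw [funext hg] at h3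
    exact ⟨⟨g, mul_inv_eq_iff_eq_mul.1 (h3.eq h2)⟩, hg⟩
  choose idx hidx using hPex
  choose rep hrep using hgex
  have hfix : ∀ g : Fix Q w, Commute g.1 t := fun g => by
    have h3 := h.conj g.1
    rw [funext g.2] at h3
    exact mul_inv_eq_iff_eq_mul.1 (h3.eq h)
  rw [← Nat.card_prod]
  refine Nat.card_congr
    { toFun := fun g => (idx g, ⟨(rep (idx g)).1⁻¹ * g.1, ?_⟩)
      invFun := fun p => ⟨(rep p.1).1 * p.2.1, (rep p.1).2.mul_left (hfix p.2)⟩
      left_inv := fun g => Subtype.ext (by simp)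
      right_inv := fun p => ?_ }
  · intro i
    rw [act_mul, hidx, ← hrep (idx g) i, ← act_mul, inv_mul_cancel, act_one]
  · have h1 : ∀ h', idx ⟨(rep p.1).1 * p.2.1, h'⟩ = p.1 := fun h' => Subtype.ext
      (comb_injective h.li (funext fun i => by rw [← hidx, act_mul, p.2.2, hrep]))
    refine Prod.ext (h1 _) (Subtype.ext ?_)
    simp [h1]

/-- halving by the parity -/
theorem natCard_par_one (hQ : (QuadraticMap.polarBilin Q).Nondegenerate) (href : refGroup Q = ⊤)
    (t d : Cfsg.isometryGroup F ⇑Q) (hd : Commute d t) (hdp : par d = -1) :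
    Nat.card {g : Cfsg.isometryGroup F ⇑Q // Commute g t} =
      2 * Nat.card {g : Cfsg.isometryGroup F ⇑Q // par g = 1 ∧ Commute g t} := by
  classical
  have hmul := par_mul_of_ref hQ href
  have h1 := Nat.card_congr
    (Equiv.sumCompl (fun g : {g : Cfsg.isometryGroup F ⇑Q // Commute g t} => par g.1 = 1))
  rw [Nat.card_sum] at h1
  rw [← h1, two_mul]
  congr 1
  · exact Nat.card_congr
      { toFun := fun g => ⟨g.1.1, g.2, g.1.2⟩
        invFun := fun g => ⟨⟨g.1, g.2.2⟩, g.2.1⟩
        left_inv := fun _ => rfl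
        right_inv := fun _ => rfl }
  · have hinvp : par d⁻¹ = -1 := by
      have h2 := hmul d⁻¹ d
      rw [inv_mul_cancel, par_one, hdp] at h2
      rcases Int.units_eq_one_or (par d⁻¹) with h3 | h3
      · rw [h3] at h2; exact absurd h2 (by decide)
      · exact h3
    exact Nat.card_congr
      { toFun := fun g => ⟨d * g.1.1, by
          rcases Int.units_eq_one_or (par g.1.1) with h3 | h3
          · exact absurd h3 g.2
          · rw [hmul, hdp, h3]; simp, hd.mul_left g.1.2⟩
        invFun := fun g => ⟨⟨d⁻¹ * g.1, hd.inv_left.mul_left g.2.2⟩, by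
          rw [hmul, hinvp, g.2.1]; decide⟩
        left_inv := fun g => Subtype.ext (Subtype.ext (by simp))
        right_inv := fun g => Subtype.ext (by simp) }

theorem natCard_omega_sub (hQ : (QuadraticMap.polarBilin Q).Nondegenerate)
    (href : refGroup Q = ⊤) (x : Cfsg.isometryGroup F ⇑Q) :
    Nat.card {g : ↥(Cfsg.Omega F ⇑Q) //
        (g : Cfsg.isometryGroup F ⇑Q) * x = x * (g : Cfsg.isometryGroup F ⇑Q)} =
      Nat.card {g : Cfsg.isometryGroup F ⇑Q // par g = 1 ∧ Commute g x} :=
  Nat.card_congr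
    { toFun := fun g => ⟨g.1.1, (mem_omega_iff_of_ref hQ href _).1 g.1.2, g.2⟩
      invFun := fun g => ⟨⟨g.1, (mem_omega_iff_of_ref hQ href _).2 g.2.1⟩, g.2.2⟩
      left_inv := fun _ => rfl
      right_inv := fun _ => rfl }

/-! ### Counting for the plus form -/

local notation "q" => Fintype.card F

theorem natCard_level (k r : ℕ) (c : F) :
    Nat.card {x : Fin (k + r) ⊕ Fin (k + r) → F //
      (∀ i : Fin k, x (Sum.inr (Fin.castAdd r i)) = 0) ∧ plusQ F (k + r) x = c} =
    q ^ k * Nat.card {y : Fin r ⊕ Fin r → F // plusQ F r y = c} := by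
  have hsum : ∀ x : Fin (k + r) ⊕ Fin (k + r) → F,
      (∀ i : Fin k, x (Sum.inr (Fin.castAdd r i)) = 0) →
      plusQ F (k + r) x = plusQ F r (Sum.elim (fun i => x (Sum.inl (Fin.natAdd k i)))
        fun i => x (Sum.inr (Fin.natAdd k i))) := by
    intro x hx
    rw [plusQ_apply, plusQ_apply, Cfsg.quadFormPlus, Cfsg.quadFormPlus, Fin.sum_univ_add]
    simp [hx]
  rw [show q ^ k = Nat.card (Fin k → F) by simp, ← Nat.card_prod]
  exact Nat.card_congr
    { toFun := fun x => (fun i => x.1 (Sum.inl (Fin.castAdd r i)),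
        ⟨Sum.elim (fun i => x.1 (Sum.inl (Fin.natAdd k i))) fun i => x.1 (Sum.inr (Fin.natAdd k i)),
          (hsum _ x.2.1).symm.trans x.2.2⟩)
      invFun := fun p => ⟨Sum.elim (Fin.addCases p.1 fun i => p.2.1 (Sum.inl i))
          (Fin.addCases (fun _ => 0) fun i => p.2.1 (Sum.inr i)), by
        refine ⟨fun i => by simp, (hsum _ fun i => by simp).trans ?_⟩
        conv_rhs => rw [← p.2.2]
        congr 1
        ext (i | i) <;> simp⟩
      left_inv := fun x => by
        refine Subtype.ext ?_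
        ext (i | i) <;> refine Fin.addCases (fun j => ?_) (fun j => ?_) i <;> simp [x.2.1]
      right_inv := fun p => by
        refine Prod.ext ?_ (Subtype.ext ?_)
        · ext i; simp
        · ext (i | i) <;> simp }

theorem zeros_sub_one (j : ℕ) :
    Nat.card {y : Fin (j + 1) ⊕ Fin (j + 1) → F // plusQ F (j + 1) y = 0} =
      (q ^ (j + 1) - 1) * (q ^ j + 1) + 1 := by
  have hq : 2 ≤ q := Fintype.one_lt_card
  show zeros ⇑(plusQ F (j + 1)) = _
  rw [zeros_plus rfl (by omega), show 2 * (j + 1) - 1 = (j + 1) + j by omega, pow_add,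
    Nat.add_sub_cancel]
  have h1 : 1 ≤ q ^ (j + 1) := Nat.one_le_pow _ _ (by omega)
  have h2 : q ^ j ≤ q ^ (j + 1) := Nat.pow_le_pow_right (by omega) (by omega)
  generalize q ^ (j + 1) = A at h1 h2 ⊢
  generalize q ^ j = B at h2 ⊢
  obtain ⟨D, rfl⟩ : ∃ D, A = D + 1 := ⟨A - 1, by omega⟩
  simp only [Nat.add_sub_cancel, Nat.add_mul, Nat.mul_add, one_mul, mul_one]
  omega

theorem natCard_ones (j : ℕ) :
    Nat.card {y : Fin (j + 1) ⊕ Fin (j + 1) → F // plusQ F (j + 1) y = 1} =
      q ^ j * (q ^ (j + 1) - 1) := by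
  classical
  have hq : 2 ≤ q := Fintype.one_lt_card
  set Q' := plusQ F (j + 1)
  have hscale : ∀ c : F, c ≠ 0 → Nat.card {y // Q' y = c} = Nat.card {y // Q' y = 1} := by
    intro c hc
    obtain ⟨σ, hσ⟩ := (FiniteField.isSquare_of_char_two (ringChar.eq F 2) c : IsSquare c)
    have hσ0 : σ ≠ 0 := fun h0 => hc (by rw [hσ, h0, mul_zero])
    refine (Nat.card_congr ((Equiv.subtypeEquiv (MulAction.toPerm (Units.mk0 σ hσ0)) ?_))).symm
    intro y
    show Q' y = 1 ↔ Q' (σ • y) = c
    rw [QuadraticMap.map_smul, smul_eq_mul, hσ]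
    exact ⟨fun h => by rw [h, mul_one], fun h => mul_left_cancel₀ (mul_ne_zero hσ0 hσ0)
      (h.trans (mul_one _).symm)⟩
  have htot := Nat.card_congr (Equiv.sigmaFiberEquiv ⇑Q')
  rw [Nat.card_sigma, ← Finset.add_sum_erase Finset.univ _ (Finset.mem_univ 0),
    Finset.sum_congr rfl (fun c hc => hscale c (Finset.ne_of_mem_erase hc)), Finset.sum_const,
    Finset.card_erase_of_mem (Finset.mem_univ 0), Finset.card_univ, smul_eq_mul, zeros_sub_one,
    Nat.card_fun, Nat.card_eq_fintype_card (α := F), Nat.card_sum, Nat.card_fin] at htot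
  refine Nat.eq_of_mul_eq_mul_left (show 0 < q - 1 by omega) ?_
  have h1 : 1 ≤ q ^ (j + 1) := Nat.one_le_pow _ _ (by omega)
  rw [pow_add q (j + 1) (j + 1)] at htot
  generalize Nat.card {y // Q' y = 1} = N at htot ⊢
  have hs : q ^ (j + 1) = q * q ^ j := pow_succ' q j
  generalize q ^ (j + 1) = A at h1 htot hs ⊢
  generalize q ^ j = B at htot hs ⊢
  generalize q = Q0 at hq htot hs ⊢
  obtain ⟨D, rfl⟩ : ∃ D, A = D + 1 := ⟨A - 1, by omega⟩
  obtain ⟨E, rfl⟩ : ∃ E, Q0 = E + 1 := ⟨Q0 - 1, by omega⟩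
  simp only [Nat.add_sub_cancel] at htot ⊢
  zify at htot hs ⊢
  linear_combination htot + (D : ℤ) * hs

/-- exponent of `q` in the pointwise stabilizer -/
def fexp (k r : ℕ) : ℕ := (∑ i ∈ Finset.range k, i) + 2 * k * r + r * (r - 1)

/-- expected order of the pointwise stabilizer of a singular `k`-tuple in dimension `2(k+r)` -/
noncomputable def fval (Q0 : ℕ) (k : ℕ) : ℕ → ℕ
  | 0 => Q0 ^ fexp k 0
  | j + 1 => 2 * Q0 ^ fexp k (j + 1) * (Q0 ^ (j + 1) - 1) *
      ∏ i ∈ Finset.range j, (Q0 ^ (2 * (i + 1)) - 1)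

theorem fix_step_zero (k j : ℕ) (hk : k ≤ k + (j + 1)) (hk' : k + 1 ≤ k + (j + 1)) :
    Nat.card (Fix (plusQ F (k + (j + 1))) (plusTuple F hk)) =
      q ^ k * ((q ^ (j + 1) - 1) * (q ^ j + 1)) *
        Nat.card (Fix (plusQ F (k + (j + 1))) (plusTuple F hk')) := by
  classical
  set Q' := plusQ F (k + (j + 1))
  obtain ⟨e1, e2, e3⟩ := plusTuple_spec (F := F) hk
  obtain ⟨f1, f2, f3⟩ := plusTuple_spec (F := F) hk'
  let S := {x : Fin (k + (j + 1)) ⊕ Fin (k + (j + 1)) → F //
      ((∀ i : Fin k, x (Sum.inr (Fin.castAdd (j + 1) i)) = 0) ∧ Q' x = 0) ∧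
        x ∉ LinearMap.range (lc (plusTuple F hk))}
  have hperp : ∀ x : Fin (k + (j + 1)) ⊕ Fin (k + (j + 1)) → F, ∀ i,
      QuadraticMap.polar Q' (plusTuple F hk i) x = x (Sum.inr (Fin.castAdd (j + 1) i)) := fun x i => by
    rw [plusQ_polar, Finset.sum_eq_single (Fin.castAdd (j + 1) i)]
    · simp [plusTuple, Fin.castLE, Fin.castAdd]
    · intro b _ hb
      have : Fin.castLE hk i ≠ b := fun e => hb (e ▸ rfl)
      simp [plusTuple, this, Pi.single_apply, this.symm]
    · simp
  have hsnoc : (Fin.snoc (plusTuple F hk) (plusTuple F hk' (Fin.last k)) : Fin (k + 1) → _) =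
      plusTuple F hk' := by
    ext i
    refine Fin.lastCases ?_ (fun i => ?_) i <;> simp [plusTuple, Fin.castLE]
  have hlast : ∀ i, plusTuple F hk i = plusTuple F hk' (Fin.castSucc i) := fun i => by
    conv_rhs => rw [← hsnoc]
    simp
  let a₀ : S := ⟨plusTuple F hk' (Fin.last k), ⟨fun i => by
    refine (hperp _ i).symm.trans ?_
    rw [hlast]; exact f2 _ _, f3 _⟩, by
    rintro ⟨c, hc⟩
    have h1 := congrFun hc (Sum.inl (Fin.castLE hk' (Fin.last k)))
    rw [Fintype.linearCombination_apply] at h1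
    simp [plusTuple, Pi.single_apply, Fin.ext_iff] at h1
    rw [Finset.sum_eq_zero fun i _ => if_neg (by omega)] at h1
    exact one_ne_zero h1.symm⟩
  have hli : ∀ a : S, LinearIndependent F (Fin.snoc (plusTuple F hk) a.1 : Fin (k + 1) → _) :=
    fun a => linearIndependent_finSnoc.2 ⟨e1, by
      rw [← Fintype.range_linearCombination]; exact a.2.2⟩
  have hiso : ∀ a : S, IsoT Q' (Fin.snoc (plusTuple F hk) a.1 : Fin (k + 1) → _) := fun a => by
    intro x y
    refine Fin.lastCases ?_ (fun x => ?_) x <;> refine Fin.lastCases ?_ (fun y => ?_) y <;>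
      simp only [Fin.snoc_last, Fin.snoc_castSucc]
    · rw [QuadraticMap.polar_self, a.2.1.2, nsmul_zero]
    · rw [QuadraticMap.polar_comm, hperp]; exact a.2.1.1 _
    · rw [hperp]; exact a.2.1.1 _
    · exact e2 _ _
  have key := natCard_fix_mul (Q := Q') (plusTuple F hk) (fun a : S => a.1) Subtype.val_injective a₀ ?_ ?_
  · rw [hsnoc] at key
    rw [key]
    congr 1
    let T := {x : Fin (k + (j + 1)) ⊕ Fin (k + (j + 1)) → F //
      (∀ i : Fin k, x (Sum.inr (Fin.castAdd (j + 1) i)) = 0) ∧ Q' x = 0}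
    let P : T → Prop := fun x => x.1 ∈ LinearMap.range (lc (plusTuple F hk))
    have hS : Nat.card S = Nat.card {x : T // ¬ P x} := Nat.card_congr
      { toFun := fun x => ⟨⟨x.1, x.2.1⟩, x.2.2⟩
        invFun := fun x => ⟨x.1.1, x.1.2, x.2⟩
        left_inv := fun _ => rfl
        right_inv := fun _ => rfl }
    have hP : Nat.card {x : T // P x} = q ^ k := by
      have hmem : ∀ c, (∀ i : Fin k, lc (plusTuple F hk) c (Sum.inr (Fin.castAdd (j + 1) i)) = 0) ∧
          Q' (lc (plusTuple F hk) c) = 0 := fun c => ⟨fun i => by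
        rw [Fintype.linearCombination_apply]
        simp [plusTuple], singular_span e2 e3 _ ⟨c, rfl⟩⟩
      rw [← Nat.card_congr (Equiv.ofBijective
        (fun c => (⟨⟨_, hmem c⟩, c, rfl⟩ : {x : T // P x})) ⟨fun c c' e => lc_injective e1
          (congrArg (fun z : {x : T // P x} => z.1.1) e), fun x => ⟨x.2.choose,
            Subtype.ext (Subtype.ext x.2.choose_spec)⟩⟩)]
      simp
    have htot := Nat.card_congr (Equiv.sumCompl P)
    rw [Nat.card_sum, hP, ← hS,
      show Nat.card T = q ^ k * ((q ^ (j + 1) - 1) * (q ^ j + 1) + 1) from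
        (natCard_level k (j + 1) 0).trans (by rw [zeros_sub_one]), mul_add, mul_one] at htot
    omega
  · intro g
    refine ⟨⟨act g.1 a₀.1, ⟨fun i => ?_, ?_⟩, ?_⟩, rfl⟩
    · refine (hperp _ i).symm.trans ?_
      rw [← g.2 i, act_polar, hperp]; exact a₀.2.1.1 i
    · rw [act_map]; exact a₀.2.1.2
    · rintro ⟨c, hc⟩
      refine a₀.2.2 ⟨c, act_injective g.1 (Eq.trans ?_ hc)⟩
      simp [Fintype.linearCombination_apply, g.2]
  · intro a
    obtain ⟨g, hg⟩ := exists_move (plusQ_nondeg F _) (hli a₀) (hli a) (hiso a₀) (hiso a) fun i => by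
      refine Fin.lastCases ?_ (fun i => ?_) i
      · simp only [Fin.snoc_last]; exact a₀.2.1.2.trans a.2.1.2.symm
      · simp
    exact ⟨⟨g, fun i => by simpa using hg i.castSucc⟩, by simpa using hg (Fin.last k)⟩

theorem natCard_fix_plusTuple : ∀ (k r : ℕ) (hk : k ≤ k + r),
    Nat.card (Fix (plusQ F (k + r)) (plusTuple F hk)) = fval q k r := by
  intro k
  induction k with
  | zero =>
    intro r hk
    have h0 : Nat.card (Fix (plusQ F (0 + r)) (plusTuple F hk)) =
        Nat.card (Cfsg.isometryGroup F ⇑(plusQ F (0 + r))) :=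
      Nat.card_congr (Equiv.subtypeUnivEquiv fun g i => i.elim0)
    rw [h0, Nat.zero_add]
    rcases r with - | j
    · rw [Nat.card_eq_one_iff_unique.2 ⟨⟨fun a b => Subtype.ext (Units.ext (Matrix.ext fun i =>
        isEmptyElim i))⟩, ⟨1⟩⟩]
      simp [fval, fexp]
    · rw [natCard_O_plus rfl j]
      simp [fval, fexp]
  | succ k ih =>
    intro r hk
    have h1 := fix_step_zero (F := F) k r (Nat.le_add_right k (r + 1)) (by omega)
    rw [ih (r + 1) (Nat.le_add_right k (r + 1))] at h1
    have hcast : ∀ (M : ℕ) (hM : k + 1 + r = M) (h : k + 1 ≤ M),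
        Nat.card (Fix (plusQ F (k + 1 + r)) (plusTuple F hk)) =
          Nat.card (Fix (plusQ F M) (plusTuple F h)) := by
      rintro _ rfl h; rfl
    rw [hcast _ (by omega : k + 1 + r = k + (r + 1)) (by omega)]
    have hq : 2 ≤ q := Fintype.one_lt_card
    have hpos : 0 < q ^ k * ((q ^ (r + 1) - 1) * (q ^ r + 1)) :=
      Nat.mul_pos (pow_pos (by omega) _) (Nat.mul_pos
        (Nat.sub_pos_of_lt (Nat.one_lt_pow (by omega) (by omega))) (by omega))
    refine Nat.eq_of_mul_eq_mul_left hpos ?_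
    rw [← h1]
    have hT : ∑ i ∈ Finset.range (k + 1), i = (∑ i ∈ Finset.range k, i) + k := Finset.sum_range_succ _ k
    rcases r with - | j
    · simp only [fval, fexp, Finset.range_zero, Finset.prod_empty, mul_one, hT, zero_add, pow_zero,
        pow_one]
      ring
    · have he : fexp k (j + 1 + 1) = k + fexp (k + 1) (j + 1) := by
        simp only [fexp, hT, Nat.add_sub_cancel]
        ring
      have hfac : q ^ (2 * (j + 1)) - 1 = (q ^ (j + 1) + 1) * (q ^ (j + 1) - 1) := by
        rw [← Nat.sq_sub_sq, one_pow, ← pow_mul, mul_comm]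
      simp only [fval, Finset.prod_range_succ, hfac, he, pow_add]
      ring

theorem natCard_fix_one (k j : ℕ) (u : Fin (k + 1) → Fin (k + (j + 1)) ⊕ Fin (k + (j + 1)) → F)
    (hu : LinearIndependent F u) (hiso : IsoT (plusQ F (k + (j + 1))) u)
    (h1 : ∀ i, plusQ F (k + (j + 1)) (u i) = 1) :
    Nat.card (Fix (plusQ F (k + (j + 1))) u) =
      2 * q ^ ((∑ i ∈ Finset.range k, i) + 2 * k * j + k + j * j) *
        ∏ i ∈ Finset.range j, (q ^ (2 * (i + 1)) - 1) := by
  classical
  set Q' := plusQ F (k + (j + 1))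
  have hQ : (QuadraticMap.polarBilin Q').Nondegenerate := plusQ_nondeg F _
  -- singular vectors first
  let v : Fin k → Fin (k + (j + 1)) ⊕ Fin (k + (j + 1)) → F :=
    fun i => u i.castSucc + u (Fin.last k)
  set z := u (Fin.last k) with hz
  have hv0 : ∀ i, Q' (v i) = 0 := fun i => by
    rw [QuadraticMap.map_add Q', h1, h1, hiso, add_zero]; exact CharTwo.add_self_eq_zero _
  have hviso : IsoT Q' v := fun a b => by
    simp [v, QuadraticMap.polar_add_left Q', QuadraticMap.polar_add_right Q',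
      show ∀ a b, QuadraticMap.polar Q' (u a) (u b) = 0 from hiso, hz]
  have hvz : ∀ i, QuadraticMap.polar Q' (v i) z = 0 := fun i => by
    simp [v, QuadraticMap.polar_add_left Q',
      show ∀ a b, QuadraticMap.polar Q' (u a) (u b) = 0 from hiso, hz]
  have hsame : Nat.card (Fix Q' u) = Nat.card (Fix Q' (Fin.snoc v z : Fin (k + 1) → _)) :=
    Nat.card_congr (Equiv.subtypeEquivRight fun g => by
      constructor
      · intro hg i
        refine Fin.lastCases ?_ (fun i => ?_) i <;> simp [v, z, hg]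
      · intro hg i
        have hl : act g z = z := by simpa using hg (Fin.last k)
        refine Fin.lastCases hl (fun i => ?_) i
        have := hg i.castSucc
        have hl' : act g (u (Fin.last k)) = u (Fin.last k) := hl
        simp only [Fin.snoc_castSucc, v, map_add, hz, hl'] at this
        exact add_right_cancel this)
  rw [hsame]
  -- move to the standard tuple
  obtain ⟨e1, e2, e3⟩ := plusTuple_spec (F := F) (Nat.le_add_right k (j + 1))
  have hvli : LinearIndependent F v := by
    rw [Fintype.linearIndependent_iff]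
    intro c hc i
    have h := Fintype.linearIndependent_iff.1 hu (Fin.snoc c (∑ i, c i)) (by
      rw [Fin.sum_univ_castSucc]
      simp only [Fin.snoc_castSucc, Fin.snoc_last, Finset.sum_smul]
      simpa [v, smul_add, Finset.sum_add_distrib] using hc) i.castSucc
    simpa using h
  obtain ⟨g, hg⟩ := exists_move hQ hvli e1 hviso e2 fun i => by rw [hv0, e3]
  set z' := act g z with hz'
  have hgs : ∀ i, act g ((Fin.snoc v z : Fin (k + 1) → _) i) =
      (Fin.snoc (plusTuple F (Nat.le_add_right k (j + 1))) z' : Fin (k + 1) → _) i := fun i => by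
    refine Fin.lastCases ?_ (fun i => ?_) i <;> simp [hg, z']
  rw [natCard_fix_move g hgs]
  let S := {x : Fin (k + (j + 1)) ⊕ Fin (k + (j + 1)) → F //
      (∀ i : Fin k, x (Sum.inr (Fin.castAdd (j + 1) i)) = 0) ∧ Q' x = 1}
  have hperp : ∀ x : Fin (k + (j + 1)) ⊕ Fin (k + (j + 1)) → F, ∀ i,
      QuadraticMap.polar Q' (plusTuple F (Nat.le_add_right k (j + 1)) i) x =
        x (Sum.inr (Fin.castAdd (j + 1) i)) := fun x i => by
    rw [plusQ_polar, Finset.sum_eq_single (Fin.castAdd (j + 1) i)]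
    · simp [plusTuple, Fin.castLE, Fin.castAdd]
    · intro b _ hb
      have : Fin.castLE (Nat.le_add_right k (j + 1)) i ≠ b := fun e => hb (e ▸ rfl)
      simp [plusTuple, this, Pi.single_apply, this.symm]
    · simp
  let a₀ : S := ⟨z', fun i => by
    refine (hperp _ i).symm.trans ?_
    rw [← hg i, hz', act_polar]; exact hvz i,
    by rw [hz', act_map]; exact h1 _⟩
  have hli : ∀ a : S, LinearIndependent F
      (Fin.snoc (plusTuple F (Nat.le_add_right k (j + 1))) a.1 : Fin (k + 1) → _) :=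
    fun a => linearIndependent_finSnoc.2 ⟨e1, by
      rw [← Fintype.range_linearCombination]
      intro hmem
      exact one_ne_zero (a.2.2.symm.trans (singular_span e2 e3 _ hmem))⟩
  have hiso' : ∀ a : S, IsoT Q'
      (Fin.snoc (plusTuple F (Nat.le_add_right k (j + 1))) a.1 : Fin (k + 1) → _) := fun a => by
    intro x y
    refine Fin.lastCases ?_ (fun x => ?_) x <;> refine Fin.lastCases ?_ (fun y => ?_) y <;>
      simp only [Fin.snoc_last, Fin.snoc_castSucc]
    · rw [QuadraticMap.polar_self, two_nsmul]; exact CharTwo.add_self_eq_zero _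
    · rw [QuadraticMap.polar_comm, hperp]; exact a.2.1 _
    · rw [hperp]; exact a.2.1 _
    · exact e2 _ _
  have key := natCard_fix_mul (Q := Q') (plusTuple F (Nat.le_add_right k (j + 1)))
    (fun a : S => a.1) Subtype.val_injective a₀ (fun g => ⟨⟨act g.1 z', fun i => by
      refine (hperp _ i).symm.trans ?_
      rw [← g.2 i, act_polar, hperp]; exact a₀.2.1 i,
      (act_map g.1 z').trans a₀.2.2⟩, rfl⟩) (fun a => ?_)
  · rw [natCard_fix_plusTuple k (j + 1) (Nat.le_add_right k (j + 1)),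
      show Nat.card S = q ^ k * (q ^ j * (q ^ (j + 1) - 1)) from
        (natCard_level k (j + 1) 1).trans (by rw [natCard_ones])] at key
    have hq : 2 ≤ q := Fintype.one_lt_card
    have hpos : 0 < q ^ k * (q ^ j * (q ^ (j + 1) - 1)) :=
      Nat.mul_pos (pow_pos (by omega) _) (Nat.mul_pos (pow_pos (by omega) _)
        (Nat.sub_pos_of_lt (Nat.one_lt_pow (by omega) (by omega))))
    refine Nat.eq_of_mul_eq_mul_left hpos ?_
    rw [← key]
    have he : fexp k (j + 1) = k + j + ((∑ i ∈ Finset.range k, i) + 2 * k * j + k + j * j) := by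
      simp only [fexp, Nat.add_sub_cancel]
      ring
    simp only [fval, he, pow_add]
    ring
  · obtain ⟨g, hg⟩ := exists_move hQ (hli a₀) (hli a) (hiso' a₀) (hiso' a) fun i => by
      refine Fin.lastCases ?_ (fun i => ?_) i
      · simp only [Fin.snoc_last]; exact a₀.2.2.trans a.2.2.symm
      · simp
    exact ⟨⟨g, fun i => by simpa using hg i.castSucc⟩, by simpa using hg (Fin.last k)⟩

end Cfsg.Agent.Classical.OrthInvolution
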