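import Mathlib
import Cfsg.Prelude.Def_Classical
import Cfsg.Agent.Lib.Classical.OrthForms
import Cfsg.Agent.Lib.Classical.Linear
import Cfsg.Agent.Lib.Forms.Spinor
import Cfsg.Agent.Lib.Forms.SpecialOrth

/-!
# Identifying `PΩ(Q)` with the central quotient of a group acting isometrically
-/

set_option autoImplicit false
set_option linter.unusedSectionVars false

namespace Cfsg.Agent.Classical.OrthIso

open Matrix Cfsg.Agent.Forms
open scoped commutatorElement

section group

variable {G : Type*} [Group G]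

theorem hom_eq_one_of_perfect (h : commutator G = ⊤) {A : Type*} [Group A]
    (hA : ∀ a b : A, a * b = b * a) (f : G →* A) : f = 1 := by
  refine MonoidHom.ext fun x => ?_
  have hx : x ∈ f.ker := by
    refine (show commutator G ≤ f.ker from ?_) (h ▸ Subgroup.mem_top x)
    rw [commutator_def, Subgroup.commutator_le]
    intro a _ b _
    rw [MonoidHom.mem_ker, map_commutatorElement, commutatorElement_eq_one_iff_mul_comm]
    exact hA _ _
  exact MonoidHom.mem_ker.1 hx

theorem hom_eq_one_of_gen {S : Set G} (hS : Subgroup.closure S = ⊤) {p : ℕ}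
    (hp : ∀ s ∈ S, s ^ p = 1) {A : Type*} [Group A] (hA : p.Coprime (Nat.card A)) (f : G →* A) :
    f = 1 := by
  refine MonoidHom.ext fun x => ?_
  have hx : x ∈ f.ker := by
    refine (show Subgroup.closure S ≤ f.ker from ?_) (hS ▸ Subgroup.mem_top x)
    rw [Subgroup.closure_le]
    intro s hs
    have h1 : f s ^ p = 1 := by rw [← map_pow, hp s hs, map_one]
    rw [SetLike.mem_coe, MonoidHom.mem_ker, ← orderOf_eq_one_iff]
    exact Nat.eq_one_of_dvd_coprimes hA (orderOf_dvd_of_pow_eq_one h1) (orderOf_dvd_natCard _)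
  exact MonoidHom.mem_ker.1 hx

/-- In a perfect group with simple central quotient, proper normal subgroups are central. -/
theorem le_center_of_simple [IsSimpleGroup (G ⧸ Subgroup.center G)] (hp : commutator G = ⊤)
    (N : Subgroup G) [hN : N.Normal] (hne : N ≠ ⊤) : N ≤ Subgroup.center G := by
  have hn : (N.map (QuotientGroup.mk' (Subgroup.center G))).Normal :=
    Subgroup.Normal.map hN _ (QuotientGroup.mk'_surjective _)
  rcases hn.eq_bot_or_eq_top with h | h
  · rwa [Subgroup.map_eq_bot_iff, QuotientGroup.ker_mk'] at h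
  · refine absurd (top_le_iff.1 ?_) hne
    have hd : ∀ a : G, ∃ n ∈ N, ∃ z ∈ Subgroup.center G, a = n * z := fun a => by
      have ha : (QuotientGroup.mk' (Subgroup.center G)) a ∈
          N.map (QuotientGroup.mk' (Subgroup.center G)) := h ▸ Subgroup.mem_top _
      obtain ⟨n, hn', he⟩ := ha
      exact ⟨n, hn', n⁻¹ * a, QuotientGroup.eq.1 he, by group⟩
    rw [← hp, commutator_def, Subgroup.commutator_le]
    intro a _ b _
    obtain ⟨n, hn', z, hz, rfl⟩ := hd a
    have h1 : ⁅n * z, b⁆ = ⁅n, b⁆ := by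
      rw [commutatorElement_def, commutatorElement_def, _root_.mul_inv_rev, ← mul_assoc,
        mul_assoc n z b, ← Subgroup.mem_center_iff.1 hz b]
      group
    rw [h1]
    have h2 := hN.conj_mem n⁻¹ (inv_mem hn') b
    have h3 := mul_mem hn' h2
    rwa [commutatorElement_def, mul_assoc, mul_assoc, ← mul_assoc b]

end group

variable {F : Type*} [Field F] {ι : Type} [Fintype ι] [DecidableEq ι]
variable {G : Type*} [Group G]

section rep

variable (Q : QuadraticForm F (ι → F)) (ρ : G →* Module.End F (ι → F))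
  (hQ : ∀ g v, Q (ρ g v) = Q v)

/-- The invertible map attached to a group element. -/
noncomputable def repEquiv (g : G) : (ι → F) ≃ₗ[F] (ι → F) :=
  LinearEquiv.ofLinearMap (ρ g) (ρ g⁻¹)
    (by rw [← Module.End.mul_eq_comp, ← map_mul, mul_inv_cancel, map_one]; rfl)
    (by rw [← Module.End.mul_eq_comp, ← map_mul, inv_mul_cancel, map_one]; rfl)

theorem repEquiv_apply (g : G) (v : ι → F) : repEquiv ρ g v = ρ g v := rfl

include hQ in
theorem repEquiv_map (g : G) (v : ι → F) : Q (repEquiv ρ g v) = Q v := hQ g v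

/-- An isometric representation as a homomorphism to the isometry group. -/
noncomputable def repHom : G →* Cfsg.isometryGroup F ⇑Q :=
  MonoidHom.mk' (fun g => QuadStd.isoOfEquiv ⇑Q (repEquiv ρ g) (repEquiv_map Q ρ hQ g))
    fun g h => QuadStd.iso_ext fun v => by
      rw [QuadStd.mul_mulVec_iso, QuadStd.isoOfEquiv_mulVec, QuadStd.isoOfEquiv_mulVec,
        QuadStd.isoOfEquiv_mulVec, repEquiv_apply, repEquiv_apply, repEquiv_apply, map_mul,
        Module.End.mul_apply]

theorem repHom_mulVec (g : G) (v : ι → F) :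
    ((repHom Q ρ hQ g : Matrix.GeneralLinearGroup ι F) : Matrix ι ι F) *ᵥ v = ρ g v :=
  QuadStd.isoOfEquiv_mulVec _ _ (repEquiv_map Q ρ hQ g) v

theorem repHom_eq_one {g : G} : repHom Q ρ hQ g = 1 ↔ ∀ v, ρ g v = v := by
  constructor
  · intro h v
    rw [← repHom_mulVec Q ρ hQ g v, h]
    exact one_mulVec v
  · intro h
    refine QuadStd.iso_ext fun v => ?_
    rw [repHom_mulVec, h]
    exact (one_mulVec v).symm

end rep

variable (Q : QuadraticForm F (ι → F)) (φ : G →* Cfsg.isometryGroup F ⇑Q)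

theorem range_le_omega (h : ∀ f : G →* Cfsg.isometryGroup F ⇑Q ⧸ Cfsg.Omega F ⇑Q, f = 1) :
    φ.range ≤ Cfsg.Omega F ⇑Q := by
  rintro _ ⟨g, rfl⟩
  have := DFunLike.congr_fun (h ((QuotientGroup.mk' (Cfsg.Omega F ⇑Q)).comp φ)) g
  exact (QuotientGroup.eq_one_iff _).1 this

/-- The general recognition lemma. -/
theorem nonempty_equiv [Finite G] [Finite (Cfsg.isometryGroup F ⇑Q)]
    (hrange : φ.range ≤ Cfsg.Omega F ⇑Q) (hker : φ.ker ≤ Subgroup.center G)
    (hcard : Nat.card G * (Cfsg.Omega F ⇑Q).index =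
      Nat.card (Cfsg.isometryGroup F ⇑Q) * Nat.card φ.ker)
    (hhom : ∀ f : G →* Subgroup.center G, f = 1) :
    Nonempty (Cfsg.POmega F ⇑Q ≃* G ⧸ Subgroup.center G) := by
  have hr : φ.range = Cfsg.Omega F ⇑Q := by
    refine Subgroup.eq_of_le_of_card_ge hrange (le_of_eq ?_)
    have h1 : Nat.card φ.range * Nat.card φ.ker = Nat.card G := by
      rw [← Subgroup.index_ker, mul_comm, Subgroup.card_mul_index]
    have h2 := Subgroup.card_mul_index (Cfsg.Omega F ⇑Q)
    have hk : 0 < Nat.card φ.ker := Nat.card_pos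
    have hi : 0 < (Cfsg.Omega F ⇑Q).index := Nat.pos_of_ne_zero Subgroup.index_ne_zero_of_finite
    rw [← h1, ← h2] at hcard
    exact (Nat.eq_of_mul_eq_mul_right (Nat.mul_pos hi hk) (by linear_combination hcard)).symm
  let ψ : G →* Cfsg.Omega F ⇑Q := φ.codRestrict _ fun g => hrange ⟨g, rfl⟩
  have hψ : Function.Surjective ψ := fun x => by
    obtain ⟨g, hg⟩ : (x : Cfsg.isometryGroup F ⇑Q) ∈ φ.range := by rw [hr]; exact x.2
    exact ⟨g, Subtype.ext hg⟩
  let π : G →* Cfsg.POmega F ⇑Q := (QuotientGroup.mk' _).comp ψ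
  have hπ : Function.Surjective π := (QuotientGroup.mk'_surjective _).comp hψ
  have hk : π.ker = Subgroup.center G := by
    refine le_antisymm (fun x hx => ?_) (fun x hx => ?_)
    · have hz : ψ x ∈ Subgroup.center (Cfsg.Omega F ⇑Q) := (QuotientGroup.eq_one_iff _).1 hx
      have hc : ∀ g, x * g * x⁻¹ * g⁻¹ ∈ Subgroup.center G := fun g => by
        refine hker ?_
        have : ψ (x * g * x⁻¹ * g⁻¹) = 1 := by
          rw [map_mul, map_mul, map_mul, map_inv, map_inv, ← Subgroup.mem_center_iff.1 hz (ψ g)]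
          group
        exact congrArg Subtype.val this
      let f : G →* Subgroup.center G := MonoidHom.mk' (fun g => ⟨_, hc g⟩) fun g h => by
        refine Subtype.ext ?_
        show x * (g * h) * x⁻¹ * (g * h)⁻¹ = x * g * x⁻¹ * g⁻¹ * (x * h * x⁻¹ * h⁻¹)
        rw [Subgroup.mem_center_iff.1 (hc h) (x * g * x⁻¹ * g⁻¹)]
        have := Subgroup.mem_center_iff.1 (hc h) (x * g * x⁻¹)
        calc x * (g * h) * x⁻¹ * (g * h)⁻¹
            = x * g * x⁻¹ * (x * h * x⁻¹ * h⁻¹) * g⁻¹ := by group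
          _ = (x * h * x⁻¹ * h⁻¹) * (x * g * x⁻¹) * g⁻¹ := by rw [this]
          _ = (x * h * x⁻¹ * h⁻¹) * (x * g * x⁻¹ * g⁻¹) := by group
      refine Subgroup.mem_center_iff.2 fun g => ?_
      have hg : x * g * x⁻¹ * g⁻¹ = 1 := congrArg Subtype.val (DFunLike.congr_fun (hhom f) g)
      exact (eq_of_mul_inv_eq_one
        (show (x * g) * (g * x)⁻¹ = 1 by rw [_root_.mul_inv_rev, ← mul_assoc, hg])).symm
    · refine (QuotientGroup.eq_one_iff _).2 (Subgroup.mem_center_iff.2 fun y => ?_)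
      obtain ⟨g, rfl⟩ := hψ y
      rw [← map_mul, ← map_mul, Subgroup.mem_center_iff.1 hx]
  exact ⟨((QuotientGroup.quotientMulEquivOfEq hk.symm).trans
    (QuotientGroup.quotientKerEquivOfSurjective π hπ)).symm⟩

/-- The perfect case. -/
theorem nonempty_equiv_of_perfect [Finite G] [Finite (Cfsg.isometryGroup F ⇑Q)]
    (hp : commutator G = ⊤) (hker : φ.ker ≤ Subgroup.center G)
    (hcard : Nat.card G * 2 = Nat.card (Cfsg.isometryGroup F ⇑Q))
    (hidx : (Cfsg.Omega F ⇑Q).index = 2 * Nat.card φ.ker) :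
    Nonempty (Cfsg.POmega F ⇑Q ≃* G ⧸ Subgroup.center G) := by
  refine nonempty_equiv Q φ (range_le_omega Q φ fun f => hom_eq_one_of_perfect hp ?_ f) hker
    (by rw [hidx, ← hcard, mul_assoc]) fun f => hom_eq_one_of_perfect hp ?_ f
  · intro a b
    obtain ⟨a, rfl⟩ := QuotientGroup.mk'_surjective _ a
    obtain ⟨b, rfl⟩ := QuotientGroup.mk'_surjective _ b
    exact mul_comm (Abelianization.of a) (Abelianization.of b)
  · intro a b
    exact Subtype.ext (Subgroup.mem_center_iff.1 b.2 a)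

/-- The case of generation by elements of order dividing an odd prime. -/
theorem nonempty_equiv_of_gen [Finite G] [Finite (Cfsg.isometryGroup F ⇑Q)]
    {S : Set G} (hS : Subgroup.closure S = ⊤) {p : ℕ} (hp : ∀ s ∈ S, s ^ p = 1)
    (hodd : Odd p) (hcen : p.Coprime (Nat.card (Subgroup.center G)))
    (hker : φ.ker ≤ Subgroup.center G)
    (hcard : Nat.card G * 2 = Nat.card (Cfsg.isometryGroup F ⇑Q))
    (hidx : (Cfsg.Omega F ⇑Q).index = 2 * Nat.card φ.ker)
    (hk : Nat.card φ.ker = 2) :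
    Nonempty (Cfsg.POmega F ⇑Q ≃* G ⧸ Subgroup.center G) := by
  refine nonempty_equiv Q φ (range_le_omega Q φ fun f => hom_eq_one_of_gen hS hp ?_ f) hker
    (by rw [hidx, ← hcard, mul_assoc]) fun f => hom_eq_one_of_gen hS hp hcen f
  rw [← Subgroup.index_eq_card, hidx, hk]
  exact Nat.Coprime.pow_right 2 hodd.coprime_two_right

/-- Transport of a representation along a linear equivalence. -/
noncomputable def conjRep {V W : Type*} [AddCommGroup V] [Module F V] [AddCommGroup W] [Module F W]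
    (e : V ≃ₗ[F] W) (σ : G →* Module.End F W) : G →* Module.End F V where
  toFun g := e.symm.toLinearMap ∘ₗ σ g ∘ₗ e.toLinearMap
  map_one' := LinearMap.ext fun v => by simp
  map_mul' g h := LinearMap.ext fun v => by simp

theorem conjRep_apply {V W : Type*} [AddCommGroup V] [Module F V] [AddCommGroup W] [Module F W]
    (e : V ≃ₗ[F] W) (σ : G →* Module.End F W) (g : G) (v : V) :
    conjRep e σ g v = e.symm (σ g (e v)) := rfl

theorem conjRep_eq_iff {V W : Type*} [AddCommGroup V] [Module F V] [AddCommGroup W] [Module F W]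
    (e : V ≃ₗ[F] W) (σ : G →* Module.End F W) (g : G) :
    (∀ v, conjRep e σ g v = v) ↔ ∀ w, σ g w = w := by
  refine ⟨fun h w => ?_, fun h v => by rw [conjRep_apply, h, LinearEquiv.symm_apply_apply]⟩
  have := h (e.symm w)
  rw [conjRep_apply, LinearEquiv.apply_symm_apply] at this
  exact e.symm.injective this

/-- A group of scalars in bijection with the square roots of one. -/
theorem natCard_scalar_eq {K : Type*} [Field K] (N : Subgroup G) (sc : G → K)
    (hinj : ∀ g ∈ N, ∀ h ∈ N, sc g = sc h → g = h) (h1 : ∀ g ∈ N, sc g ^ 2 = 1)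
    (h2 : ∀ c : K, c ^ 2 = 1 → ∃ g ∈ N, sc g = c) :
    Nat.card N = Nat.card {c : K // c ^ 2 = 1} := by
  refine Nat.card_eq_of_bijective (fun g => ⟨sc g.1, h1 g.1 g.2⟩) ⟨fun g h he => ?_, fun c => ?_⟩
  · exact Subtype.ext (hinj _ g.2 _ h.2 (congrArg Subtype.val he))
  · obtain ⟨g, hg, he⟩ := h2 c.1 c.2
    exact ⟨⟨g, hg⟩, Subtype.ext he⟩

/-! ### Numbers -/

theorem natCard_sq_one_odd (h2 : (2 : F) ≠ 0) : Nat.card {c : F // c ^ 2 = 1} = 2 := by
  rw [Nat.card_eq_two_iff]
  refine ⟨⟨1, one_pow 2⟩, ⟨-1, by ring⟩, fun h => h2 ?_, eq_top_iff.2 fun c _ => ?_⟩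
  · have h' : (1 : F) = -1 := congrArg Subtype.val h
    linear_combination h'
  · rcases sq_eq_one_iff.1 c.2 with h | h
    · exact Or.inl (Subtype.ext h)
    · exact Or.inr (Subtype.ext h)

theorem natCard_sq_one_even (h2 : (2 : F) = 0) : Nat.card {c : F // c ^ 2 = 1} = 1 := by
  rw [Nat.card_eq_one_iff_unique]
  refine ⟨⟨fun c d => Subtype.ext ?_⟩, ⟨⟨1, one_pow 2⟩⟩⟩
  have h : ∀ x : F, x ^ 2 = 1 → x = 1 := fun x hx => sub_eq_zero.1
    (eq_zero_of_pow_eq_zero (n := 2) (by linear_combination hx + (1 - x) * h2))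
  rw [h _ c.2, h _ d.2]

theorem index_omega [Fintype F] (hQ : (QuadraticMap.polarBilin Q).Nondegenerate)
    (hn : 2 ≤ Fintype.card ι) (h24 : Fintype.card F ≠ 2 ∨ Fintype.card ι ≠ 4) :
    (Cfsg.Omega F ⇑Q).index = 2 * Nat.card {c : F // c ^ 2 = 1} := by
  by_cases h2 : (2 : F) = 0
  · have : CharP F 2 := CharTwo.of_one_ne_zero_of_two_eq_zero one_ne_zero h2
    rw [SpecialOrth.omega_index_two hQ h24 (by omega), natCard_sq_one_even h2]
  · rw [Spinor.omega_index hQ h2 hn, natCard_sq_one_odd h2]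

end Cfsg.Agent.Classical.OrthIso
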