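import Mathlib
import Cfsg.Agent.Lib.Classical.OrthForms
import Cfsg.Agent.Lib.Classical.OrthSimple
import Cfsg.Agent.Lib.Classical.OmegaCrit
import Cfsg.Agent.Lib.Classical.TwoGenExtract

/-!
# Short root groups generate `Ω`
-/

set_option autoImplicit false
set_option linter.unusedSectionVars false

namespace Cfsg.Agent.Classical.OrthTwoGen

open Cfsg.Agent.Forms Cfsg.Agent.Forms.QuadStd Cfsg.Agent.Forms.Reflections Cfsg.Agent.Forms.PlusStd
open Cfsg.Agent.Classical.Orth

variable {F : Type*} [Field F] {ι : Type} [Fintype ι] [DecidableEq ι]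
variable {Q : QuadraticForm F (ι → F)}

local notation "Vec" => (ι → F)
local notation "B" => QuadraticMap.polar Q

variable (Q) in
/-- the Eichler transformation at `u`, `w` lies in `H` -/
def EM (H : Subgroup (Cfsg.isometryGroup F ⇑Q)) (u w : ι → F) : Prop :=
  ∃ (hu : Q u = 0) (huw : QuadraticMap.polar Q u w = 0), eich u w hu huw ∈ H

variable {H : Subgroup (Cfsg.isometryGroup F ⇑Q)}

theorem EM.add {u w w' : Vec} (h : EM Q H u w) (h' : EM Q H u w') : EM Q H u (w + w') := by
  obtain ⟨hu, h1, h2⟩ := h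
  obtain ⟨_, h1', h2'⟩ := h'
  exact ⟨hu, _, eich_mul hu h1 h1' ▸ mul_mem h2 h2'⟩

theorem EM.zero {u : Vec} (hu : Q u = 0) : EM Q H u 0 :=
  ⟨hu, by simp, by rw [eich_zero_right]; exact one_mem H⟩

theorem EM.self {u : Vec} (hu : Q u = 0) (s : F) : EM Q H u (s • u) := by
  have h0 : B u (0 : Vec) = 0 := by simp
  have h1 : B u (0 + s • u) = 0 := by
    rw [zero_add, QuadraticMap.polar_smul_right, polar_self_zero hu, smul_eq_mul, mul_zero]
  refine ⟨hu, by rwa [zero_add] at h1, ?_⟩
  rw [eich_congr (show s • u = 0 + s • u by rw [zero_add]), eich_add_self s hu h0, eich_zero_right]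
  exact one_mem H

theorem EM.neg {u w : Vec} (h : EM Q H u w) : EM Q H u (-w) := by
  obtain ⟨hu, h1, h2⟩ := h
  refine ⟨hu, by rw [QuadraticMap.polar_neg_right, h1, neg_zero], ?_⟩
  rw [← eich_inv hu h1]
  exact inv_mem h2

theorem EM.map {u w : Vec} (h : EM Q H u w) {g : Cfsg.isometryGroup F ⇑Q} (hg : g ∈ H) :
    EM Q H (act g u) (act g w) := by
  obtain ⟨hu, h1, h2⟩ := h
  exact ⟨_, _, eich_conj g hu h1 ▸ mul_mem (mul_mem hg h2) (inv_mem hg)⟩

theorem EM.moved {u w : Vec} (h : EM Q H u w) {g : Cfsg.isometryGroup F ⇑Q} (hg : g ∈ H)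
    (hgu : act g u = u) : EM Q H u (act g w - w) := by
  have h' := h.map hg
  rw [hgu] at h'
  rw [sub_eq_add_neg]
  exact h'.add h.neg

theorem EM.smul_left {u w : Vec} {c : F} (hc : c ≠ 0) (h : EM Q H (c • u) w) : EM Q H u (c • w) := by
  obtain ⟨hu, h1, h2⟩ := h
  have hu' : Q u = 0 := by
    rw [map_smul'] at hu
    simpa [hc] using hu
  have h1' : B u (c • w) = 0 := by
    rw [QuadraticMap.polar_smul_right, smul_eq_mul]
    rwa [QuadraticMap.polar_smul_left, smul_eq_mul] at h1
  exact ⟨hu', h1', eich_smul c hu h1 hu' h1' ▸ h2⟩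

variable (Q) in
/-- all Eichler transformations at `u` lie in `H` -/
def Full (H : Subgroup (Cfsg.isometryGroup F ⇑Q)) (u : ι → F) : Prop :=
  ∀ w, QuadraticMap.polar Q u w = 0 → EM Q H u w

theorem Full.of_smul {u : Vec} {c : F} (hc : c ≠ 0) (h : Full Q H (c • u)) : Full Q H u := by
  intro w hw
  have h1 := (h (c⁻¹ • w) (by simp [QuadraticMap.polar_smul_left, QuadraticMap.polar_smul_right, hw])).smul_left hc
  rwa [smul_smul, mul_inv_cancel₀ hc, one_smul] at h1

theorem Full.map {u : Vec} (h : Full Q H u) {g : Cfsg.isometryGroup F ⇑Q} (hg : g ∈ H) :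
    Full Q H (act g u) := by
  intro w hw
  have hw' : B u (act g⁻¹ w) = 0 := by
    rw [← hw]
    conv_rhs => rw [← act_cancel_inv g w]
    rw [act_polar]
  have h1 := (h _ hw').map hg
  rwa [act_cancel_inv] at h1

/-- the radical at `u` moves every singular vector off `u⊥` to a multiple of `v` -/
theorem Full.reach {u v : Vec} (hp : IsPair Q u v) (hu : Full Q H u) (hv : Full Q H v) {z : Vec}
    (hQz : Q z = 0) (hz : B z u ≠ 0) : Full Q H z := by
  set w := (-(B z u)⁻¹) • proj Q u v z with hw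
  have huw : B u w = 0 := by
    rw [QuadraticMap.polar_comm, hw, QuadraticMap.polar_smul_left, (proj_perp hp z).1, smul_zero]
  obtain ⟨hu0, h1, hmem⟩ := hu w huw
  have he : act (eich u w hu0 h1) z = (B z v - B z w - Q w * B z u) • u + B z u • v := by
    rw [act_eich]
    nth_rw 1 [proj_add (Q := Q) u v z]
    rw [hw, smul_smul, mul_neg, mul_inv_cancel₀ hz]
    module
  have ha : B z v - B z w - Q w * B z u = 0 := by
    have h2 := act_map (eich u w hu0 h1) z
    rw [he, hQz, pair_value hp, mul_eq_zero, or_iff_left hz] at h2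
    exact h2
  rw [ha, zero_smul, zero_add] at he
  have h3 : Full Q H (B z u • v) := Full.of_smul (inv_ne_zero hz)
    (by rwa [smul_smul, inv_mul_cancel₀ hz, one_smul])
  rw [← he] at h3
  have h4 := h3.map (inv_mem hmem)
  rwa [Spinor.act_inv_cancel] at h4

variable (hQ : (QuadraticMap.polarBilin Q).Nondegenerate)

include hQ in
theorem full_all {u v : Vec} (hp : IsPair Q u v) (hu : Full Q H u) (hv : Full Q H v) {y : Vec}
    (hy : Q y = 0) : Full Q H y := by
  by_cases hyu : B y u ≠ 0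
  · exact hu.reach hp hv hy hyu
  push Not at hyu
  by_cases hy0 : y = 0
  · subst hy0
    intro w hw
    exact ⟨hy, hw, by rw [eich_zero_left]; exact one_mem H⟩
  obtain ⟨x, hxu, hx, hxy, hxF⟩ : ∃ x, B x u = 1 ∧ Q x = 0 ∧ B y x ≠ 0 ∧ Full Q H x := by
    by_cases hyv : B y v ≠ 0
    · exact ⟨v, hp.hvu, hp.hv, hyv, hv⟩
    push Not at hyv
    obtain ⟨s, hs⟩ : ∃ s, B y s ≠ 0 := by
      by_contra hcon
      push Not at hcon
      exact hy0 (hQ.1 y hcon)
    set w := proj Q u v s with hw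
    have huw : B u w = 0 := by rw [QuadraticMap.polar_comm]; exact (proj_perp hp s).1
    obtain ⟨hu0, h1, hmem⟩ := hu w huw
    have hxu : B (act (eich u w hu0 h1) v) u = 1 := by
      have h := act_polar (eich u w hu0 h1) v u
      rwa [act_eich_self, hp.hvu] at h
    refine ⟨_, hxu, by rw [act_map, hp.hv], ?_, hv.map hmem⟩
    have hyw : B y w = B y s := by
      simp [hw, proj, QuadraticMap.polar_sub_right, QuadraticMap.polar_smul_right, hyu, hyv]
    simp [act_eich, QuadraticMap.polar_sub_right, QuadraticMap.polar_add_right,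
      QuadraticMap.polar_smul_right, hyu, hyv, hp.hvu, hyw, hs]
  exact hxF.reach ⟨hx, hp.hu, hxu⟩ hu hy hxy

section Generation

variable [Fintype F]

include hQ in
theorem omega_le (f : Frame Q) (hn : 5 ≤ Fintype.card ι) {u v : Vec} (hp : IsPair Q u v)
    (hu : Full Q H u) (hv : Full Q H v) : Cfsg.Omega F ⇑Q ≤ H := by
  rw [omega_eq_eGroup hQ f hn]
  refine (Subgroup.closure_le _).2 ?_
  rintro _ ⟨a, w, ha, haw, -, -, rfl⟩
  obtain ⟨_, _, hmem⟩ := full_all hQ hp hu hv ha w haw
  exact hmem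

omit [Fintype F] in
theorem exists_POmega {P : (ι → F) → F} {a b : Cfsg.isometryGroup F P} (ha : a ∈ Cfsg.Omega F P)
    (hb : b ∈ Cfsg.Omega F P)
    (h : Cfsg.Omega F P ≤ Subgroup.closure ({a, b} : Set (Cfsg.isometryGroup F P))) :
    ∃ x y : Cfsg.POmega F P, Subgroup.closure ({x, y} : Set (Cfsg.POmega F P)) = ⊤ := by
  refine TwoGenExtract.exists_quot _ (a := ⟨a, ha⟩) (b := ⟨b, hb⟩) ?_
  refine Subgroup.map_injective (Cfsg.Omega F P).subtype_injective ?_
  rw [MonoidHom.map_closure, Set.image_pair, ← MonoidHom.range_eq_map, Subgroup.range_subtype]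
  refine le_antisymm ((Subgroup.closure_le _).2 ?_) h
  intro x hx
  rcases hx with rfl | rfl
  · exact ha
  · exact hb

end Generation

/-! ### Split bases -/

/-- the coordinates split into `r` hyperbolic planes and a rest -/
structure Sys (Q : QuadraticForm F (ι → F)) (r : ℕ) (κ : Type) where
  σ : (Fin r ⊕ Fin r) ⊕ κ ≃ ι
  Q0 : QuadraticForm F (κ → F)
  split : ∀ v : ι → F, Q v = plusQ F r (fun a => v (σ (.inl a))) + Q0 (fun k => v (σ (.inr k)))

variable {r : ℕ} {κ : Type} (S : Sys Q r κ)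

/-- the hyperbolic basis vectors -/
def Sys.c (a : Fin r ⊕ Fin r) : ι → F := fun i => Sum.elim (Pi.single a 1) 0 (S.σ.symm i)

/-- the vectors of the rest -/
def Sys.inj (z : κ → F) : ι → F := fun i => Sum.elim 0 z (S.σ.symm i)

theorem Sys.polar_eq (x y : Vec) : B x y =
    QuadraticMap.polar (plusQ F r) (fun a => x (S.σ (.inl a))) (fun a => y (S.σ (.inl a))) +
    QuadraticMap.polar S.Q0 (fun k => x (S.σ (.inr k))) (fun k => y (S.σ (.inr k))) := by
  simp only [QuadraticMap.polar, S.split, Pi.add_apply]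
  rw [show (fun a => x (S.σ (.inl a)) + y (S.σ (.inl a))) =
      (fun a => x (S.σ (.inl a))) + fun a => y (S.σ (.inl a)) from rfl,
    show (fun k => x (S.σ (.inr k)) + y (S.σ (.inr k))) =
      (fun k => x (S.σ (.inr k))) + fun k => y (S.σ (.inr k)) from rfl]
  ring

theorem Sys.Q_c (a : Fin r ⊕ Fin r) : Q (S.c a) = 0 := by
  rw [S.split]
  rcases a with i | i <;>
    simp [Sys.c, plusQ_apply, Cfsg.quadFormPlus, Pi.single_apply, show (fun _ : κ => (0 : F)) = 0 from rfl]

theorem Sys.B_cc (a b : Fin r ⊕ Fin r) : B (S.c a) (S.c b) = if b = a.swap then 1 else 0 := by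
  rw [S.polar_eq]
  rcases a with i | i <;> rcases b with j | j <;>
    simp [Sys.c, plusQ_polar, Pi.single_apply, show (fun _ : κ => (0 : F)) = 0 from rfl,
      eq_comm]

theorem Sys.B_ci (a : Fin r ⊕ Fin r) (z : κ → F) : B (S.c a) (S.inj z) = 0 := by
  rw [S.polar_eq]
  simp [Sys.c, Sys.inj, show (fun _ : κ => (0 : F)) = 0 from rfl,
    show (fun _ : Fin r ⊕ Fin r => (0 : F)) = 0 from rfl]

theorem Sys.B_ii (z w : κ → F) : B (S.inj z) (S.inj w) = QuadraticMap.polar S.Q0 z w := by
  rw [S.polar_eq]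
  simp [Sys.inj, show (fun _ : Fin r ⊕ Fin r => (0 : F)) = 0 from rfl]

theorem Sys.Q_inj (z : κ → F) : Q (S.inj z) = S.Q0 z := by
  rw [S.split]
  simp [Sys.inj, plusQ_apply, Cfsg.quadFormPlus]

theorem Sys.inj_smul (t : F) (z : κ → F) : S.inj (t • z) = t • S.inj z := by
  funext i; rcases h : S.σ.symm i with a | k <;> simp [Sys.inj, h]

theorem Sys.inj_add (z w : κ → F) : S.inj (z + w) = S.inj z + S.inj w := by
  funext i; rcases h : S.σ.symm i with a | k <;> simp [Sys.inj, h]

theorem Sys.decomp (x : Vec) :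
    x = (∑ a, x (S.σ (.inl a)) • S.c a) + S.inj (fun k => x (S.σ (.inr k))) := by
  funext i
  obtain ⟨j, rfl⟩ := S.σ.surjective i
  rw [Pi.add_apply, Finset.sum_apply]
  rcases j with a | k
  · rw [Finset.sum_eq_single a]
    · simp [Sys.c, Sys.inj]
    · intro b _ hb
      simp [Sys.c, Pi.single_apply, Ne.symm hb]
    · simp
  · simp [Sys.c, Sys.inj]

variable [Fintype F]

include hQ in
theorem omega_le_of_short (f : Frame Q) (hn : 5 ≤ Fintype.card ι) (hr : 1 ≤ r)
    (hE : ∀ a z, EM Q H (S.c a) (S.inj z))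
    (hB : ∃ z w, QuadraticMap.polar S.Q0 z w ≠ 0) : Cfsg.Omega F ⇑Q ≤ H := by
  obtain ⟨z, w, hzw⟩ := hB
  have hfull : ∀ a, Full Q H (S.c a) := by
    intro a x hx
    have hc : ∀ (b : Fin r ⊕ Fin r) (t : F), b ≠ a.swap → EM Q H (S.c a) (t • S.c b) := by
      intro b t hb
      by_cases hba : b = a
      · subst hba; exact EM.self (S.Q_c b) t
      obtain ⟨hb0, hbw, hmem⟩ := hE b w
      set s := -t / QuadraticMap.polar S.Q0 z w with hs
      have hab : B (S.c a) (S.c b) = 0 := by rw [S.B_cc, if_neg hb]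
      have h := (hE a (s • z)).moved hmem (act_eich_fix _ _ hab (S.B_ci a w))
      rw [act_eich, QuadraticMap.polar_comm _ (S.inj (s • z)) (S.c b), S.B_ci, S.B_ii,
        QuadraticMap.polar_smul_left, smul_eq_mul, hs, div_mul_cancel₀ _ hzw] at h
      convert h using 1
      module
    rw [S.decomp x]
    refine EM.add (Finset.sum_induction _ (EM Q H (S.c a)) (fun _ _ => EM.add) (EM.zero (S.Q_c a))
      fun b _ => ?_) (hE a _)
    by_cases hb : b = a.swap
    · have hx0 : x (S.σ (.inl b)) = 0 := by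
        rw [S.decomp x, QuadraticMap.polar_comm] at hx
        rw [QuadraticMap.polar_comm, QuadraticMap.polar_add_right, S.B_ci, add_zero] at hx
        rw [show B (S.c a) = fun y => polB Q (S.c a) y from rfl] at hx
        simp only [map_sum, map_smul, polB_apply, S.B_cc, smul_eq_mul, mul_ite, mul_one, mul_zero,
          Finset.sum_ite_eq', Finset.mem_univ, if_true] at hx
        rwa [hb]
      rw [hx0, zero_smul]
      exact EM.zero (S.Q_c a)
    · exact hc b _ hb
  refine omega_le hQ f hn (u := S.c (.inl ⟨0, by omega⟩)) (v := S.c (.inr ⟨0, by omega⟩))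
    ⟨S.Q_c _, S.Q_c _, by rw [S.B_cc]; simp⟩ (hfull _) (hfull _)

end Cfsg.Agent.Classical.OrthTwoGen
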