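import Mathlib
import Cfsg.Agent.Lib.Classical.OrthTwoGenCore

/-!
# Monomial isometries of a split basis
-/

set_option autoImplicit false
set_option linter.unusedSectionVars false

namespace Cfsg.Agent.Classical.OrthTwoGen

open Cfsg.Agent.Forms Cfsg.Agent.Forms.QuadStd Cfsg.Agent.Forms.Reflections Cfsg.Agent.Forms.PlusStd
open Cfsg.Agent.Classical.Orth Cfsg.Agent.Classical.OmegaCrit
open scoped commutatorElement

variable {F : Type*} [Field F] {ι : Type} [Fintype ι] [DecidableEq ι]
variable {Q : QuadraticForm F (ι → F)} {r : ℕ} {κ : Type} (S : Sys Q r κ)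

local notation "Vec" => (ι → F)
local notation "B" => QuadraticMap.polar Q

/-- isometries agreeing on the basis are equal -/
theorem Sys.ext {g g' : Cfsg.isometryGroup F ⇑Q} (h : ∀ a, act g (S.c a) = act g' (S.c a))
    (h' : ∀ z, act g (S.inj z) = act g' (S.inj z)) : g = g' := by
  refine act_ext fun x => ?_
  rw [S.decomp x]
  simp [map_sum, h, h']

theorem Sys.inj_injective : Function.Injective S.inj := fun z w h => by
  funext k
  simpa [Sys.inj] using congrFun h (S.σ (.inr k))

theorem Sys.c_ne_zero (a : Fin r ⊕ Fin r) : S.c a ≠ 0 := fun h => by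
  simpa [Sys.c] using congrFun h (S.σ (.inl a))

/-- a monomial map of the hyperbolic coordinates -/
def monoLin (p : Equiv.Perm (Fin r ⊕ Fin r)) (w : Fin r ⊕ Fin r → Fˣ) : Vec →ₗ[F] Vec where
  toFun x i := Sum.elim (fun b => (w b : F) * x (S.σ (.inl (p b)))) (fun k => x (S.σ (.inr k))) (S.σ.symm i)
  map_add' x y := by funext i; rcases h : S.σ.symm i with b | k <;> simp [h, mul_add]
  map_smul' c x := by
    funext i; rcases h : S.σ.symm i with b | k <;> simp [h, mul_left_comm]

/-- a monomial isometry -/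
noncomputable def mono (p : Equiv.Perm (Fin r ⊕ Fin r)) (w : Fin r ⊕ Fin r → Fˣ)
    (hform : ∀ v, plusQ F r (fun b => (w b : F) * v (p b)) = plusQ F r v) :
    Cfsg.isometryGroup F ⇑Q :=
  isoOfEquiv ⇑Q
    (LinearEquiv.ofLinearMap (monoLin S p w) (monoLin S p.symm (fun b => (w (p.symm b))⁻¹))
      (LinearMap.ext fun x => funext fun i => by
        obtain ⟨j, rfl⟩ := S.σ.surjective i
        rcases j with b | k <;> simp [monoLin])
      (LinearMap.ext fun x => funext fun i => by
        obtain ⟨j, rfl⟩ := S.σ.surjective i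
        rcases j with b | k <;> simp [monoLin]))
    (fun x => by
      show Q (monoLin S p w x) = Q x
      rw [S.split, S.split x]
      simp only [monoLin, LinearMap.coe_mk, AddHom.coe_mk, Equiv.symm_apply_apply, Sum.elim_inl,
        Sum.elim_inr]
      rw [show plusQ F r (fun b => (w b : F) * x (S.σ (.inl (p b)))) = _ from
        hform (fun a => x (S.σ (.inl a)))])

theorem act_mono (p : Equiv.Perm (Fin r ⊕ Fin r)) (w : Fin r ⊕ Fin r → Fˣ)
    (hform : ∀ v, plusQ F r (fun b => (w b : F) * v (p b)) = plusQ F r v) :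
    (∀ a, act (mono S p w hform) (S.c a) = (w (p.symm a) : F) • S.c (p.symm a)) ∧
      ∀ z, act (mono S p w hform) (S.inj z) = S.inj z := by
  have e : ∀ x, act (mono S p w hform) x = monoLin S p w x := fun x => by
    rw [act_apply]
    exact isoOfEquiv_mulVec _ _ _ x
  refine ⟨fun a => ?_, fun z => ?_⟩ <;> rw [e] <;> funext i <;>
    obtain ⟨j, rfl⟩ := S.σ.surjective i
  · rcases j with b | k
    · by_cases hb : b = p.symm a
      · subst hb; simp [monoLin, Sys.c]
      · have : p b ≠ a := fun e => hb (by rw [← e, Equiv.symm_apply_apply])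
        simp [monoLin, Sys.c, hb, this]
    · simp [monoLin, Sys.c]
  · rcases j with b | k <;> simp [monoLin, Sys.inj]

/-- the cyclic predecessor -/
def prv (i : Fin r) : Fin r := ⟨if (i : ℕ) = 0 then r - 1 else i - 1, by have := i.isLt; split_ifs <;> omega⟩

theorem prv_bijective : Function.Bijective (prv (r := r)) := by
  refine (Finite.injective_iff_bijective).1 fun a b h => ?_
  have ha := a.isLt
  have hb := b.isLt
  simp only [prv, Fin.ext_iff] at h
  ext
  split_ifs at h <;> omega

/-- the predecessor on the `2r` coordinate lines -/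
noncomputable def pd (r : ℕ) : Equiv.Perm (Fin r ⊕ Fin r) :=
  Equiv.ofBijective
    (Sum.elim (fun i => if (i : ℕ) = 0 then Sum.inr (prv i) else Sum.inl (prv i))
      (fun i => if (i : ℕ) = 0 then Sum.inl (prv i) else Sum.inr (prv i)))
    ((Finite.injective_iff_bijective).1 fun a b h => by
      rcases a with a | a <;> rcases b with b | b <;> simp only [Sum.elim_inl, Sum.elim_inr] at h <;>
        split_ifs at h with h1 h2 h3 <;>
        simp only [Sum.inl.injEq, Sum.inr.injEq, reduceCtorEq] at h ⊢ <;>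
        (have he : a = b := prv_bijective.injective h) <;>
        first
          | exact he
          | (subst he; contradiction))

/-- the successor -/
noncomputable def nx (r : ℕ) : Equiv.Perm (Fin r ⊕ Fin r) := (pd r).symm

theorem nx_inl {i : Fin r} (h : (i : ℕ) + 1 < r) :
    nx r (.inl i) = .inl ⟨i + 1, h⟩ ∧ nx r (.inr i) = .inr ⟨i + 1, h⟩ := by
  constructor <;> rw [nx, Equiv.symm_apply_eq] <;> simp [pd, prv]

theorem nx_last {i : Fin r} (h : (i : ℕ) + 1 = r) :
    nx r (.inl i) = .inr ⟨0, by omega⟩ ∧ nx r (.inr i) = .inl ⟨0, by omega⟩ := by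
  constructor <;> rw [nx, Equiv.symm_apply_eq] <;> simp [pd, prv, Fin.ext_iff] <;> omega

/-- a predicate closed under the successor holds everywhere -/
theorem forall_of_nx {P : Fin r ⊕ Fin r → Prop} (hstep : ∀ a, P a → P (nx r a))
    {a₀ : Fin r ⊕ Fin r} (h₀ : P a₀) : ∀ a, P a := by
  have upl : ∀ (n : ℕ) (i : Fin r), P (.inl i) → (i : ℕ) + 1 + n = r → P (.inr ⟨0, by have := i.isLt; omega⟩) := by
    intro n
    induction n with
    | zero => intro i hi h; have := hstep _ hi; rwa [(nx_last (by omega)).1] at this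
    | succ n ih =>
      intro i hi h
      have := hstep _ hi
      rw [(nx_inl (show (i : ℕ) + 1 < r by omega)).1] at this
      exact ih _ this (by simp only; omega)
  have upr : ∀ (n : ℕ) (i : Fin r), P (.inr i) → (i : ℕ) + 1 + n = r → P (.inl ⟨0, by have := i.isLt; omega⟩) := by
    intro n
    induction n with
    | zero => intro i hi h; have := hstep _ hi; rwa [(nx_last (by omega)).2] at this
    | succ n ih =>
      intro i hi h
      have := hstep _ hi
      rw [(nx_inl (show (i : ℕ) + 1 < r by omega)).2] at this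
      exact ih _ this (by simp only; omega)
  have h0 : ∀ h : 0 < r, P (.inl ⟨0, h⟩) ∧ P (.inr ⟨0, h⟩) := by
    intro h
    rcases a₀ with i | i
    · have hr := upl (r - (i + 1)) i h₀ (by omega)
      exact ⟨upr (r - 1) _ hr (by simp only; omega), hr⟩
    · have hl := upr (r - (i + 1)) i h₀ (by omega)
      exact ⟨hl, upl (r - 1) _ hl (by simp only; omega)⟩
  have hall : ∀ (n : ℕ) (h : n < r), P (.inl ⟨n, h⟩) ∧ P (.inr ⟨n, h⟩) := by
    intro n
    induction n with
    | zero => exact h0
    | succ n ih =>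
      intro h
      obtain ⟨h1, h2⟩ := ih (by omega)
      have e := nx_inl (i := (⟨n, by omega⟩ : Fin r)) (show n + 1 < r from h)
      exact ⟨e.1 ▸ hstep _ h1, e.2 ▸ hstep _ h2⟩
  intro a
  rcases a with i | i
  exacts [(hall i i.isLt).1, (hall i i.isLt).2]

theorem pd_form (v : Fin r ⊕ Fin r → F) :
    plusQ F r (fun b => ((1 : Fˣ) : F) * v (pd r b)) = plusQ F r v := by
  simp only [plusQ_apply, Cfsg.quadFormPlus, Units.val_one, one_mul]
  refine Fintype.sum_equiv (Equiv.ofBijective _ prv_bijective) _ _ fun i => ?_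
  by_cases h : (i : ℕ) = 0 <;> simp [pd, h, mul_comm]

variable [Fintype F]

/-- what is used of the monomial element -/
structure Cycles (n : Cfsg.isometryGroup F ⇑Q) : Prop where
  c_map : ∀ a, ∃ α : F, α ≠ 0 ∧ act n (S.c a) = α • S.c (nx r a)
  inj_map : ∀ z, ∃ z', act n (S.inj z) = S.inj z'

theorem Cycles.inj_inv [Finite κ] {n : Cfsg.isometryGroup F ⇑Q} (hn : Cycles S n) (z : κ → F) :
    ∃ w, act n (S.inj w) = S.inj z := by
  choose N hN using hn.inj_map
  have hinj : Function.Injective N := fun a b h => by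
    have := hN a
    rw [h, ← hN b] at this
    exact S.inj_injective (act_injective n this)
  obtain ⟨w, hw⟩ := (Finite.injective_iff_surjective.1 hinj) z
  exact ⟨w, by rw [hN, hw]⟩

theorem exists_cycle (hQ : (QuadraticMap.polarBilin Q).Nondegenerate)
    (h : Fintype.card F ≠ 2 ∨ Fintype.card ι ≠ 4) (hr : 1 ≤ r) (hA : ∃ z, S.Q0 z ≠ 0) :
    ∃ n, n ∈ Cfsg.Omega F ⇑Q ∧ Cycles S n := by
  obtain ⟨zA, hzA⟩ := hA
  set n₀ : Cfsg.isometryGroup F ⇑Q := mono S (pd r) (fun _ => 1) pd_form with hn₀
  have hc₀ : Cycles S n₀ := by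
    refine ⟨fun a => ⟨1, one_ne_zero, ?_⟩, fun z => ⟨z, (act_mono S _ _ _).2 z⟩⟩
    rw [hn₀, (act_mono S _ _ _).1]
    simp [nx]
  -- correcting the parity
  obtain ⟨n₁, hc₁, hp₁⟩ : ∃ n₁, Cycles S n₁ ∧ (theta hQ h n₁).1 = 1 := by
    rcases Int.units_eq_one_or (theta hQ h n₀).1 with hp | hp
    · exact ⟨n₀, hc₀, hp⟩
    · have hv : Q (S.inj zA) ≠ 0 := by rwa [S.Q_inj]
      refine ⟨n₀ * reflect Q (S.inj zA), ⟨fun a => ?_, fun z => ?_⟩, ?_⟩
      · obtain ⟨α, hα, e⟩ := hc₀.c_map a
        refine ⟨α, hα, ?_⟩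
        rw [act_mul, act_reflect, QuadraticMap.polar_comm, S.B_ci, mul_zero, zero_smul, sub_zero, e]
      · obtain ⟨z', hz'⟩ := hc₀.inj_map z
        obtain ⟨w, hw⟩ := hc₀.inj_map zA
        refine ⟨z' + (-((S.Q0 zA)⁻¹ * QuadraticMap.polar S.Q0 zA z)) • w, ?_⟩
        rw [act_mul, act_reflect, map_sub, map_smul, hz', hw, S.B_ii, S.Q_inj, S.inj_add, S.inj_smul]
        module
      · rw [map_mul, Prod.fst_mul, hp, theta_reflect hQ h hv]
        simp
  rcases Int.units_eq_one_or (theta hQ h n₁).2 with hs | hs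
  · exact ⟨n₁, (mem_omega_iff hQ h n₁).2 (Prod.ext hp₁ hs), hc₁⟩
  · -- correcting the spinor norm
    have h2 : (2 : F) ≠ 0 := fun h2 => by
      change sgn n₁ = -1 at hs
      rw [sgn, if_pos h2] at hs
      exact absurd hs (by decide)
    obtain ⟨c, hc, hchi⟩ := exists_nonsquare h2
    set i₀ : Fin r := ⟨0, hr⟩
    set e := S.c (.inl i₀) with he
    set f' := S.c (.inr i₀) with hf'
    have hQv : ∀ t : F, Q (e + t • f') = t := fun t => by
      rw [map_add', map_smul', QuadraticMap.polar_smul_right, he, hf', S.Q_c, S.Q_c, S.B_cc]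
      simp
    have hu : ∀ t : F, t ≠ 0 → Q (e + t • f') ≠ 0 := fun t ht => by rwa [hQv]
    refine ⟨n₁ * (reflect Q (e + (1 : F) • f') * reflect Q (e + c • f')), ?_, ⟨fun a => ?_, fun z => ?_⟩⟩
    · refine (mem_omega_iff hQ h _).2 ?_
      rw [map_mul, map_mul, theta_reflect hQ h (hu 1 one_ne_zero), theta_reflect hQ h (hu c hc), hQv,
        hQv, chi_one, hchi]
      exact Prod.ext (by simp [hp₁]) (by simp [hs])
    · obtain ⟨α, hα, e'⟩ := hc₁.c_map a
      have key : ∀ t : F, ∀ b, B (e + t • f') (S.c b) =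
          (if b = .inr i₀ then 1 else 0) + t * (if b = .inl i₀ then 1 else 0) := fun t b => by
        rw [QuadraticMap.polar_add_left, QuadraticMap.polar_smul_left, he, hf', S.B_cc, S.B_cc]
        split_ifs <;> simp_all
      have hR : ∀ (t : F) (x : Vec), act (reflect Q (e + t • f')) x =
          x - (t⁻¹ * B (e + t • f') x) • (e + t • f') := fun t x => by rw [act_reflect, hQv]
      by_cases h1 : a = .inl i₀
      · subst h1
        refine ⟨c * α, mul_ne_zero hc hα, ?_⟩
        have e1 : act (reflect Q (e + c • f')) e = -(c • f') := by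
          rw [hR, he, key, if_neg (by simp), if_pos rfl, zero_add, mul_one, inv_mul_cancel₀ hc]
          module
        have e2 : act (reflect Q (e + (1 : F) • f')) f' = -e := by
          rw [hR, hf', key, if_pos rfl, if_neg (by simp)]
          simp
        rw [act_mul, act_mul, ← he, e1, map_neg, map_smul, e2, map_neg, map_smul, map_neg, he, e']
        module
      by_cases h2' : a = .inr i₀
      · subst h2'
        refine ⟨c⁻¹ * α, mul_ne_zero (inv_ne_zero hc) hα, ?_⟩
        have e1 : act (reflect Q (e + c • f')) f' = -(c⁻¹ • e) := by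
          rw [hR, hf', key, if_pos rfl, if_neg (by simp), mul_zero, add_zero, mul_one, smul_add,
            smul_smul, inv_mul_cancel₀ hc, one_smul]
          abel
        have e2 : act (reflect Q (e + (1 : F) • f')) e = -f' := by
          rw [hR, he, key, if_neg (by simp), if_pos rfl]
          simp
        rw [act_mul, act_mul, ← hf', e1, map_neg, map_smul, e2, map_neg, map_smul, map_neg, hf', e']
        module
      · refine ⟨α, hα, ?_⟩
        have e3 : ∀ t : F, act (reflect Q (e + t • f')) (S.c a) = S.c a := fun t => by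
          rw [act_reflect, key, if_neg h1, if_neg h2']; simp
        rw [act_mul, act_mul, e3, e3, e']
    · obtain ⟨z', hz'⟩ := hc₁.inj_map z
      refine ⟨z', ?_⟩
      have e3 : ∀ t : F, act (reflect Q (e + t • f')) (S.inj z) = S.inj z := fun t => by
        rw [act_reflect, QuadraticMap.polar_add_left, QuadraticMap.polar_smul_left, he, hf', S.B_ci,
          S.B_ci]
        simp
      rw [act_mul, act_mul, e3, e3, hz']

omit [Fintype F] in
/-- the torus element `k` on plane `i`, `k⁻¹` on plane `j`, as a commutator -/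
theorem exists_torus {i j : Fin r} (hij : i ≠ j) (k : Fˣ) :
    ∃ g, g ∈ Cfsg.Omega F ⇑Q ∧ (∀ z, act g (S.inj z) = S.inj z) ∧
      ∀ a, act g (S.c a) = Sum.elim
        (fun l => if l = i then (k : F) else if l = j then ((k⁻¹ : Fˣ) : F) else 1)
        (fun l => if l = i then ((k⁻¹ : Fˣ) : F) else if l = j then (k : F) else 1) a • S.c a := by
  set w : Fin r ⊕ Fin r → Fˣ := Sum.elim (fun l => if l = i then k else 1)
    (fun l => if l = i then k⁻¹ else 1) with hw
  have hD : ∀ v, plusQ F r (fun b => (w b : F) * v ((Equiv.refl (Fin r ⊕ Fin r)) b)) = plusQ F r v := by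
    intro v
    simp only [plusQ_apply, Cfsg.quadFormPlus]
    refine Finset.sum_congr rfl fun l _ => ?_
    by_cases hl : l = i
    · simp [hw, hl]; field_simp
    · simp [hw, hl]
  set sw : Equiv.Perm (Fin r ⊕ Fin r) := Equiv.sumCongr (Equiv.swap i j) (Equiv.swap i j) with hsw
  have hP : ∀ v, plusQ F r (fun b => (((fun _ => 1) : Fin r ⊕ Fin r → Fˣ) b : F) * v (sw b)) = plusQ F r v := by
    intro v
    simp only [plusQ_apply, Cfsg.quadFormPlus, Units.val_one, one_mul]
    exact Fintype.sum_equiv (Equiv.swap i j) _ _ fun l => by simp [hsw]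
  set D := mono S (Equiv.refl _) w hD
  set P := mono S sw (fun _ => 1) hP
  refine ⟨⁅D, P⁆, Subgroup.commutator_mem_commutator (Subgroup.mem_top D) (Subgroup.mem_top P), ?_, ?_⟩
  · intro z
    have hDi : act D⁻¹ (S.inj z) = S.inj z := by
      have := Spinor.act_inv_cancel D (S.inj z)
      rwa [(act_mono S _ _ hD).2] at this
    have hPi : act P⁻¹ (S.inj z) = S.inj z := by
      have := Spinor.act_inv_cancel P (S.inj z)
      rwa [(act_mono S _ _ hP).2] at this
    rw [commutatorElement_def, act_mul, act_mul, act_mul, hPi, hDi, (act_mono S _ _ hP).2,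
      (act_mono S _ _ hD).2]
  · intro a
    have hPi : act P⁻¹ (S.c a) = S.c (sw a) := by
      have := Spinor.act_inv_cancel P (S.c (sw a))
      rwa [(act_mono S _ _ hP).1, Units.val_one, one_smul, Equiv.symm_apply_apply] at this
    have hDi : ∀ b, act D⁻¹ (S.c b) = ((w b)⁻¹ : Fˣ) • S.c b := fun b => by
      have := Spinor.act_inv_cancel D ((w b)⁻¹ • S.c b)
      rw [Units.smul_def, map_smul, (act_mono S _ _ hD).1] at this
      simpa [smul_smul, Units.smul_def] using this
    rw [commutatorElement_def, act_mul, act_mul, act_mul, hPi, hDi, Units.smul_def, map_smul, map_smul,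
      (act_mono S _ _ hP).1, Units.val_one, one_smul, Equiv.symm_apply_apply, (act_mono S _ _ hD).1,
      smul_smul]
    congr 1
    rcases a with l | l <;> by_cases h1 : l = i <;> by_cases h2 : l = j <;>
      simp [hw, hsw, Equiv.refl_symm, h1, h2, Ne.symm hij, Equiv.swap_apply_of_ne_of_ne]

end Cfsg.Agent.Classical.OrthTwoGen
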