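import Mathlib
import Cfsg.Agent.Lib.Classical.OrthTwoGenMono

/-!
# Two generators of `Ω` over fields with more than two elements
-/

set_option autoImplicit false
set_option linter.unusedSectionVars false

namespace Cfsg.Agent.Classical.OrthTwoGen

open Cfsg.Agent.Forms Cfsg.Agent.Forms.QuadStd Cfsg.Agent.Forms.Reflections Cfsg.Agent.Forms.PlusStd
open Cfsg.Agent.Classical.Orth Cfsg.Agent.Classical.OmegaCrit
open Cfsg.Agent.Classical.TwoGenExtract

variable {F : Type*} [Field F] {ι : Type} [Fintype ι] [DecidableEq ι]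
variable {Q : QuadraticForm F (ι → F)} {r : ℕ} {κ : Type} (S : Sys Q r κ)

local notation "Vec" => (ι → F)
local notation "B" => QuadraticMap.polar Q

/-- the short root element at a basis vector -/
noncomputable def short (a : Fin r ⊕ Fin r) (z : κ → F) : Cfsg.isometryGroup F ⇑Q :=
  eich (S.c a) (S.inj z) (S.Q_c a) (S.B_ci a z)

theorem short_add (a : Fin r ⊕ Fin r) (z w : κ → F) :
    short S a (z + w) = short S a z * short S a w := by
  rw [short, short, short, eich_mul, eich_congr (S.inj_add z w)]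

theorem short_zero (a : Fin r ⊕ Fin r) : short S a 0 = 1 := by
  have h := short_add S a 0 0
  rwa [add_zero, left_eq_mul] at h

theorem short_pow (a : Fin r ⊕ Fin r) (z : κ → F) (j : ℕ) :
    short S a z ^ j = short S a ((j : F) • z) := by
  induction j with
  | zero => rw [pow_zero, Nat.cast_zero, zero_smul, short_zero]
  | succ j ih => rw [pow_succ, ih, ← short_add, Nat.cast_succ, add_smul, one_smul]

theorem short_conj {g : Cfsg.isometryGroup F ⇑Q} {a b : Fin r ⊕ Fin r} {z w : κ → F} {α : F}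
    (hc : act g (S.c a) = α • S.c b) (hz : act g (S.inj z) = S.inj w) :
    g * short S a z * g⁻¹ = short S b (α • w) := by
  refine act_ext fun x => ?_
  rw [short, short, eich_conj, act_eich, act_eich]
  simp only [hc, hz, S.inj_smul, QuadraticMap.polar_smul_right, smul_eq_mul, map_smul',
    QuadraticMap.map_smul]
  module

theorem short_em {H : Subgroup (Cfsg.isometryGroup F ⇑Q)} {a : Fin r ⊕ Fin r} {z : κ → F}
    (h : short S a z ∈ H) : EM Q H (S.c a) (S.inj z) :=
  ⟨S.Q_c a, S.B_ci a z, h⟩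

variable [Fintype F]

/-- `k` on plane `0`, `k⁻¹` on plane `1` -/
def coeff (r : ℕ) (k : Fˣ) : Fin r ⊕ Fin r → F :=
  Sum.elim (fun l => if (l : ℕ) = 0 then (k : F) else if (l : ℕ) = 1 then ((k⁻¹ : Fˣ) : F) else 1)
    (fun l => if (l : ℕ) = 0 then ((k⁻¹ : Fˣ) : F) else if (l : ℕ) = 1 then (k : F) else 1)

theorem two_gen_torus [Finite κ] (hQ : (QuadraticMap.polarBilin Q).Nondegenerate) (f : Frame Q)
    (hn : 5 ≤ Fintype.card ι) (hr : 2 ≤ r) (hF : ∃ x : F, x ≠ 0 ∧ x ≠ 1)
    {z₀ : κ → F} (hz₀ : S.Q0 z₀ ≠ 0) (hB : ∃ z w, QuadraticMap.polar S.Q0 z w ≠ 0)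
    (hdim : ∀ z : κ → F, z ≠ 0 → ∃ z', (∀ x, ∃ s t : F, x = s • z + t • z') ∧ (r = 2 → z' = 0)) :
    ∃ x y : Cfsg.POmega F ⇑Q, Subgroup.closure ({x, y} : Set (Cfsg.POmega F ⇑Q)) = ⊤ := by
  obtain ⟨k, hgen, hk1⟩ := exists_generator F
  replace hk1 := hk1 hF
  have hgeni : ∀ x : F, x ≠ 0 → ∃ j : ℕ, ((k⁻¹ : Fˣ) : F) ^ j = x := fun x hx => by
    obtain ⟨j, hj⟩ := hgen x⁻¹ (inv_ne_zero hx)
    exact ⟨j, by rw [Units.val_inv_eq_inv_val, inv_pow, hj, inv_inv]⟩
  have hk1i : ((k⁻¹ : Fˣ) : F) ≠ 1 := by rwa [Units.val_inv_eq_inv_val, Ne, inv_eq_one]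
  obtain ⟨p, hp⟩ := CharP.exists F
  obtain ⟨l, hpr, hcard⟩ := FiniteField.card F p
  have hω : Fintype.card F ≠ 2 ∨ Fintype.card ι ≠ 4 := Or.inr (by omega)
  obtain ⟨n, hnΩ, hnc⟩ := exists_cycle S hQ hω (by omega) ⟨z₀, hz₀⟩
  obtain ⟨g, hgΩ, hgz, hgc⟩ := exists_torus S (i := ⟨0, by omega⟩) (j := ⟨1, by omega⟩) (by simp) k
  replace hgc : ∀ a, act g (S.c a) = coeff r k a • S.c a := fun a => by
    rw [hgc]
    congr 1
    rcases a with i | i <;> simp [coeff, Fin.ext_iff]
  have hz0' : z₀ ≠ 0 := fun h => hz₀ (by rw [h, QuadraticMap.map_zero])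
  set a₁ : Fin r ⊕ Fin r := .inl ⟨1, hr⟩ with ha₁
  set a₂ := nx r a₁ with ha₂
  obtain ⟨α₁, hα₁, hn₁⟩ := hnc.c_map a₁
  obtain ⟨w₀, hw₀⟩ := hnc.inj_map z₀
  have hw0' : w₀ ≠ 0 := fun h => by
    have h1 := act_map n (S.inj z₀)
    rw [hw₀, S.Q_inj, S.Q_inj, h, QuadraticMap.map_zero] at h1
    exact hz₀ h1.symm
  obtain ⟨z', hspan, hz'2⟩ := hdim w₀ hw0'
  -- the coefficients used
  have hd1 : coeff r k a₁ = ((k⁻¹ : Fˣ) : F) := by simp [coeff, ha₁]
  have hd0 : coeff r k (.inl (⟨0, by omega⟩ : Fin r)) = k := by simp [coeff]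
  have hcomm : Commute g (short S a₂ z') := by
    by_cases h2 : r = 2
    · rw [hz'2 h2, short_zero]; exact Commute.one_right g
    · have hd2 : coeff r k a₂ = 1 := by
        rw [ha₂, ha₁, (nx_inl (show (1 : ℕ) + 1 < r by omega)).1]; simp [coeff]
      have := short_conj S (hgc a₂) (hgz z')
      rw [hd2, one_smul] at this
      exact mul_inv_eq_iff_eq_mul.1 this
  have hgq : g ^ (Fintype.card F) = g := by
    have hpow : ∀ j : ℕ, (∀ a, act (g ^ j) (S.c a) = coeff r k a ^ j • S.c a) ∧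
        ∀ z, act (g ^ j) (S.inj z) = S.inj z := fun j => by
      induction j with
      | zero => exact ⟨fun a => by rw [pow_zero, pow_zero, act_one, one_smul],
          fun z => by rw [pow_zero, act_one]⟩
      | succ j ih => exact ⟨fun a => by rw [pow_succ, act_mul, hgc, map_smul, ih.1, smul_smul, pow_succ'],
          fun z => by rw [pow_succ, act_mul, hgz, ih.2]⟩
    refine S.ext (fun a => ?_) fun z => ?_
    · rw [(hpow _).1, FiniteField.pow_card, hgc]
    · rw [(hpow _).2, hgz]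
  set Y : F → Cfsg.isometryGroup F ⇑Q := fun t => short S a₁ (t • z₀) with hY
  set Y' : F → Cfsg.isometryGroup F ⇑Q := fun t => short S a₂ (t • z') with hY'
  set H := Subgroup.closure ({g * short S a₂ z', Y 1 * n} : Set (Cfsg.isometryGroup F ⇑Q)) with hH
  have hshortΩ : ∀ a z, short S a z ∈ Cfsg.Omega F ⇑Q := fun a z =>
    eGroup_mem_omega hQ f hn (eich_mem _ _ trivial trivial)
  refine exists_POmega (mul_mem hgΩ (hshortΩ a₂ z')) (mul_mem (hshortΩ a₁ ((1 : F) • z₀)) hnΩ) ?_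
  have hyp : short S a₂ z' ^ p = 1 := by rw [short_pow, CharP.cast_eq_zero, zero_smul, short_zero]
  obtain ⟨hgH, hyH⟩ := split (H := H) (p := p) (k := l) l.2 hcard.symm hcomm hgq hyp
    (Subgroup.subset_closure (by simp [hH]))
  -- the conjugate torus
  set g' := n * g * n⁻¹ with hg'
  have hg'c : ∀ a, act g' (S.c (nx r a)) = coeff r k a • S.c (nx r a) := fun a => by
    obtain ⟨α, hα, e⟩ := hnc.c_map a
    have e' : act n⁻¹ (S.c (nx r a)) = α⁻¹ • S.c a := by
      have := Spinor.act_inv_cancel n (α⁻¹ • S.c a)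
      rwa [map_smul, e, smul_smul, inv_mul_cancel₀ hα, one_smul] at this
    rw [hg', act_mul, act_mul, e', map_smul, hgc, map_smul, map_smul, e, smul_smul, smul_smul]
    congr 1
    field_simp
  have hg'z : ∀ z, act g' (S.inj z) = S.inj z := fun z => by
    obtain ⟨w, hw⟩ := hnc.inj_inv S z
    have e' : act n⁻¹ (S.inj z) = S.inj w := by rw [← hw, Spinor.act_inv_cancel]
    rw [hg', act_mul, act_mul, e', hgz, hw]
  have hgg' : g * g' = g' * g := by
    refine S.ext (fun a => ?_) fun z => by simp only [act_mul, hgz, hg'z]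
    obtain ⟨b, rfl⟩ := (nx r).surjective a
    simp only [act_mul, hgc, hg'c, map_smul, smul_smul, mul_comm]
  have hs : ∀ t, g * Y t * g⁻¹ = Y (((k⁻¹ : Fˣ) : F) * t) := fun t => by
    simp only [hY]
    rw [short_conj S (hgc a₁) (hgz _), hd1, smul_smul]
  have hs' : ∀ t, g' * Y t * g'⁻¹ = Y ((k : F) * t) := fun t => by
    simp only [hY]
    have e : a₁ = nx r (.inl ⟨0, by omega⟩) := by
      rw [(nx_inl (show (0 : ℕ) + 1 < r by omega)).1]
    have hc' : act g' (S.c a₁) = (k : F) • S.c a₁ := by rw [e, hg'c, hd0]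
    rw [short_conj S hc' (hg'z _), smul_smul]
  obtain ⟨hall, hnH⟩ := steinberg_trick (H := H) (Y := Y)
    (fun a b => by simp only [hY]; rw [add_smul, short_add]) hg'.symm hgg' hs hs' hgeni hk1i hk1
    one_ne_zero hgH (Subgroup.subset_closure (by simp [hH]))
  have hg'H : g' ∈ H := mul_mem (mul_mem hnH hgH) (inv_mem hnH)
  have hall' : ∀ t, Y' t ∈ H := by
    refine family_full (fun a b => by simp only [hY']; rw [add_smul, short_add]) g' hg'H (fun t => ?_)
      hgeni one_ne_zero (by simp only [hY', one_smul]; exact hyH)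
    simp only [hY']
    rw [short_conj S (hg'c a₁) (hg'z _), hd1, smul_smul]
  refine omega_le_of_short hQ S f hn (by omega) ?_ hB
  refine forall_of_nx (P := fun a => ∀ z, EM Q H (S.c a) (S.inj z)) (fun a ha z => ?_) (a₀ := a₂) fun z => ?_
  · obtain ⟨α, hα, e⟩ := hnc.c_map a
    obtain ⟨w, hw⟩ := hnc.inj_inv S (α⁻¹ • z)
    have h := (ha w).map hnH
    rw [e, hw] at h
    have h' := h.smul_left hα
    rwa [S.inj_smul, smul_smul, mul_inv_cancel₀ hα, one_smul] at h'
  · obtain ⟨s, t, rfl⟩ := hspan z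
    rw [S.inj_add]
    refine EM.add (short_em S ?_) (short_em S (hall' t))
    have h := mul_mem (mul_mem hnH (hall (s / α₁))) (inv_mem hnH)
    simp only [hY] at h
    rwa [short_conj S (w := (s / α₁) • w₀) hn₁ (by rw [S.inj_smul, map_smul, hw₀, S.inj_smul]),
      smul_smul, mul_div_cancel₀ _ hα₁] at h

end Cfsg.Agent.Classical.OrthTwoGen
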