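import Mathlib
import Cfsg.Agent.Lib.Classical.OrthTwoGenTorus

/-!
# Two generators of `Ω` over the field with two elements
-/

set_option autoImplicit false
set_option linter.unusedSectionVars false

namespace Cfsg.Agent.Classical.OrthTwoGen

open Cfsg.Agent.Forms Cfsg.Agent.Forms.QuadStd Cfsg.Agent.Forms.Reflections Cfsg.Agent.Forms.PlusStd
open Cfsg.Agent.Classical.Orth Cfsg.Agent.Classical.OmegaCrit
open Cfsg.Agent.Classical.TwoGenExtract

variable {F : Type*} [Field F] {ι : Type} [Fintype ι] [DecidableEq ι]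
variable {Q : QuadraticForm F (ι → F)} {r : ℕ}

local notation "Vec" => (ι → F)
local notation "B" => QuadraticMap.polar Q

theorem inj_zero {κ : Type} (S : Sys Q r κ) : S.inj (0 : κ → F) = 0 := by
  funext i; rcases h : S.σ.symm i with b | k <;> simp [Sys.inj, h]

theorem act_short_c {κ : Type} (S : Sys Q r κ) (a b : Fin r ⊕ Fin r) (z : κ → F) :
    act (short S a z) (S.c b) =
      S.c b + (if b = a.swap then (1 : F) else 0) • (S.inj z - S.Q0 z • S.c a) := by
  rw [short, act_eich, QuadraticMap.polar_comm _ (S.c b) (S.c a), S.B_cc, S.B_ci, S.Q_inj]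
  module

theorem act_short_inj {κ : Type} (S : Sys Q r κ) (a : Fin r ⊕ Fin r) (z w : κ → F) :
    act (short S a z) (S.inj w) = S.inj w - QuadraticMap.polar S.Q0 w z • S.c a := by
  rw [short, act_eich, QuadraticMap.polar_comm _ (S.inj w) (S.c a), S.B_ci, S.B_ii]
  module

variable {H : Subgroup (Cfsg.isometryGroup F ⇑Q)}

/-- exchanging the two singular vectors of an Eichler transformation -/
theorem EM.symm' {u w : Vec} (h : EM Q H u w) (hw : Q w = 0) : EM Q H w (-u) := by
  obtain ⟨hu, huw, hmem⟩ := h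
  have h2 : B w (-u) = 0 := by
    rw [QuadraticMap.polar_neg_right, QuadraticMap.polar_comm, huw, neg_zero]
  refine ⟨hw, h2, ?_⟩
  have e : eich w (-u) hw h2 = eich u w hu huw := act_ext fun x => by
    simp only [act_eich, QuadraticMap.map_neg, hu, hw, QuadraticMap.polar_neg_right]
    module
  rwa [e]

variable [Fintype F]

theorem forall_short {κ : Type} [Finite κ] (S : Sys Q r κ) {n : Cfsg.isometryGroup F ⇑Q}
    (hnc : Cycles S n) (hnH : n ∈ H) {a₀ : Fin r ⊕ Fin r} (h₀ : ∀ z, EM Q H (S.c a₀) (S.inj z)) :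
    ∀ a z, EM Q H (S.c a) (S.inj z) := by
  refine forall_of_nx (P := fun a => ∀ z, EM Q H (S.c a) (S.inj z)) (fun a ha z => ?_) h₀
  obtain ⟨α, hα, e⟩ := hnc.c_map a
  obtain ⟨w, hw⟩ := hnc.inj_inv S (α⁻¹ • z)
  have h := (ha w).map hnH
  rw [e, hw] at h
  have h' := h.smul_left hα
  rwa [S.inj_smul, smul_smul, mul_inv_cancel₀ hα, one_smul] at h'

/-- the rotation of order three -/
def rot (z : Fin 2 → F) : Fin 2 → F := ![z 1, z 0 + z 1]

theorem two_eq_zero (hF : ∀ x : F, x = 0 ∨ x = 1) : (2 : F) = 0 :=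
  (hF 2).resolve_right fun h => by
    have : (1 : F) + 1 = 1 + 0 := by rw [add_zero, one_add_one_eq_two, h]
    exact one_ne_zero (add_left_cancel this)

theorem plane_cases (hF : ∀ x : F, x = 0 ∨ x = 1) (z : Fin 2 → F) :
    z = 0 ∨ z = ![1, 0] ∨ z = ![0, 1] ∨ z = ![1, 1] := by
  rcases hF (z 0) with h0 | h0 <;> rcases hF (z 1) with h1 | h1
  · exact Or.inl (funext fun i => by fin_cases i <;> assumption)
  · exact Or.inr (Or.inr (Or.inl (funext fun i => by fin_cases i <;> assumption)))
  · exact Or.inr (Or.inl (funext fun i => by fin_cases i <;> assumption))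
  · exact Or.inr (Or.inr (Or.inr (funext fun i => by fin_cases i <;> assumption)))

theorem two_gen_minus_two (hF : ∀ x : F, x = 0 ∨ x = 1) (S : Sys Q r (Fin 2))
    (hQ0 : ∀ z : Fin 2 → F, S.Q0 z = z 0 ^ 2 + z 0 * z 1 + z 1 ^ 2)
    (hQ : (QuadraticMap.polarBilin Q).Nondegenerate) (f : Frame Q)
    (hn : 5 ≤ Fintype.card ι) (hr : 2 ≤ r) :
    ∃ x y : Cfsg.POmega F ⇑Q, Subgroup.closure ({x, y} : Set (Cfsg.POmega F ⇑Q)) = ⊤ := by
  have h2 := two_eq_zero hF
  have h3 : (3 : F) = 1 := by linear_combination h2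
  haveI : CharP F 2 := CharTwo.of_one_ne_zero_of_two_eq_zero one_ne_zero h2
  have hω : Fintype.card F ≠ 2 ∨ Fintype.card ι ≠ 4 := Or.inr (by omega)
  have hB0 : ∀ z w : Fin 2 → F, QuadraticMap.polar S.Q0 z w = z 0 * w 1 + z 1 * w 0 := fun z w => by
    simp only [QuadraticMap.polar, hQ0, Pi.add_apply]
    linear_combination (z 0 * w 0 + z 1 * w 1) * h2
  have hQu : ∀ z : Fin 2 → F, z ≠ 0 → S.Q0 z = 1 := fun z hz => by
    rcases plane_cases hF z with rfl | rfl | rfl | rfl
    · exact absurd rfl hz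
    all_goals rw [hQ0]; simp
    linear_combination h2
  have hu : (![1, 0] : Fin 2 → F) ≠ 0 := by simp
  have hv : (![0, 1] : Fin 2 → F) ≠ 0 := by simp
  obtain ⟨n, hnΩ, hnc⟩ := exists_cycle S hQ hω (by omega) ⟨_, by rw [hQu _ hu]; exact one_ne_zero⟩
  set R : (Fin 2 → F) → Cfsg.isometryGroup F ⇑Q := fun z => reflect Q (S.inj z) with hR
  have hRc : ∀ z a, act (R z) (S.c a) = S.c a := fun z a => by
    rw [hR, act_reflect, QuadraticMap.polar_comm, S.B_ci, mul_zero, zero_smul, sub_zero]
  have hRi : ∀ z w, z ≠ 0 → act (R z) (S.inj w) = S.inj (w + QuadraticMap.polar S.Q0 z w • z) := fun z w hz => by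
    rw [hR, act_reflect, S.Q_inj, hQu z hz, inv_one, one_mul, S.B_ii, S.inj_add, S.inj_smul,
      sub_eq_add_neg, ← neg_smul, CharTwo.neg_eq]
  -- any product of two different reflections of the plane is a power of the rotation
  have pair : ∀ p p', p ≠ 0 → p' ≠ 0 → p ≠ p' →
      (∀ z, act (R p * R p') (S.inj z) = S.inj (rot z)) ∨
      (∀ z, act (R p * R p') (S.inj z) = S.inj (rot (rot z))) := by
    intro p p' hp hp' hne
    have e : ∀ z, act (R p * R p') (S.inj z) = S.inj ((z + QuadraticMap.polar S.Q0 p' z • p') +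
        QuadraticMap.polar S.Q0 p (z + QuadraticMap.polar S.Q0 p' z • p') • p) := fun z => by
      rw [act_mul, hRi _ _ hp', hRi _ _ hp]
    simp only [e]
    rcases plane_cases hF p with rfl | rfl | rfl | rfl <;>
      rcases plane_cases hF p' with rfl | rfl | rfl | rfl <;>
      first
        | exact absurd rfl hp
        | exact absurd rfl hp'
        | exact absurd rfl hne
        | (left; intro z; rcases plane_cases hF z with rfl | rfl | rfl | rfl <;> congr 1 <;> funext i <;>
            fin_cases i <;> simp [hB0, rot, CharTwo.add_self_eq_zero]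
           done)
        | (right; intro z; rcases plane_cases hF z with rfl | rfl | rfl | rfl <;> congr 1 <;> funext i <;>
            fin_cases i <;> simp [hB0, rot, CharTwo.add_self_eq_zero]
           done)
  set g := R ![1, 0] * R ![0, 1] with hg
  have hgc : ∀ a, act g (S.c a) = S.c a := fun a => by rw [hg, act_mul, hRc, hRc]
  have hgz : ∀ z, act g (S.inj z) = S.inj (rot z) := fun z => by
    rw [hg, act_mul, hRi _ _ hv, hRi _ _ hu]
    rcases plane_cases hF z with rfl | rfl | rfl | rfl <;> congr 1 <;> funext i <;>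
      fin_cases i <;> simp [hB0, rot, CharTwo.add_self_eq_zero]
  have hgΩ : g ∈ Cfsg.Omega F ⇑Q := by
    refine (mem_omega_iff hQ hω g).2 ?_
    have hne : ∀ z : Fin 2 → F, z ≠ 0 → Q (S.inj z) ≠ 0 := fun z hz => by
      rw [S.Q_inj, hQu z hz]; exact one_ne_zero
    rw [hg, map_mul, theta_reflect hQ hω (hne _ hu), theta_reflect hQ hω (hne _ hv), chi_two h2, chi_two h2]
    exact Prod.ext (by simp) (by simp)
  obtain ⟨pu, hpu⟩ := hnc.inj_map ![1, 0]
  obtain ⟨pv, hpv⟩ := hnc.inj_map ![0, 1]
  have hne0 : ∀ z w, act n (S.inj z) = S.inj w → z ≠ 0 → w ≠ 0 := fun z w h hz hw => by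
    have h1 := act_map n (S.inj z)
    rw [h, S.Q_inj, S.Q_inj, hw, QuadraticMap.map_zero, hQu z hz] at h1
    exact zero_ne_one h1
  set g' := n * g * n⁻¹ with hg'
  have hg'e : g' = R pu * R pv := by
    have e1 : n * g * n⁻¹ = (n * R ![1, 0] * n⁻¹) * (n * R ![0, 1] * n⁻¹) := by rw [hg]; group
    rw [hg', e1]
    simp only [hR]
    rw [Spinor.reflect_conj, Spinor.reflect_conj, hpu, hpv]
  have hg'c : ∀ a, act g' (S.c a) = S.c a := fun a => by rw [hg'e, act_mul, hRc, hRc]
  have hg'z := pair pu pv (hne0 _ _ hpu hu) (hne0 _ _ hpv hv) (fun h => by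
    rw [h, ← hpv] at hpu
    have := congrFun (S.inj_injective (act_injective n hpu)) 0
    simp at this)
  rw [← hg'e] at hg'z
  have hgg' : g * g' = g' * g := by
    refine S.ext (fun a => by simp only [act_mul, hgc, hg'c]) fun z => ?_
    rcases hg'z with h | h <;> simp only [act_mul, hgz, h]
  set a₁ : Fin r ⊕ Fin r := .inl ⟨1, hr⟩
  set y := short S a₁ ![1, 0] with hy
  set H := Subgroup.closure ({g, y * n} : Set (Cfsg.isometryGroup F ⇑Q)) with hH
  refine exists_POmega hgΩ (mul_mem (eGroup_mem_omega hQ f hn (g := y) (eich_mem _ _ trivial trivial)) hnΩ) ?_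
  have hgH : g ∈ H := Subgroup.subset_closure (by simp)
  have hbH : y * n ∈ H := Subgroup.subset_closure (by simp)
  obtain ⟨c, hc, hcH⟩ : ∃ c, c ≠ 0 ∧ short S a₁ c ∈ H := by
    have hgy : ∀ z, g * short S a₁ z * g⁻¹ = short S a₁ (rot z) := fun z => by
      rw [short_conj S (α := 1) (by rw [hgc, one_smul]) (hgz z), one_smul]
    have hinv : ∀ z, (short S a₁ z)⁻¹ = short S a₁ z := fun z => inv_eq_of_mul_eq_one_right (by
      rw [← short_add, ← two_smul F, h2, zero_smul, short_zero])
    have e1 : g * (y * g' * y⁻¹) * g⁻¹ * (y * g' * y⁻¹)⁻¹ =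
        (g * y * g⁻¹) * (g' * (g * y⁻¹ * g⁻¹) * g'⁻¹) * ((g' * y * g'⁻¹) * y⁻¹) := by
      have e2 : g * g' * g⁻¹ = g' := by rw [hgg', mul_inv_cancel_right]
      calc g * (y * g' * y⁻¹) * g⁻¹ * (y * g' * y⁻¹)⁻¹
          = (g * y * g⁻¹) * (g * g' * g⁻¹) * (g * y⁻¹ * g⁻¹) * (y * g'⁻¹ * y⁻¹) := by group
        _ = (g * y * g⁻¹) * g' * (g * y⁻¹ * g⁻¹) * (y * g'⁻¹ * y⁻¹) := by rw [e2]
        _ = _ := by group
    have hm : y * g' * y⁻¹ ∈ H := by
      rw [hg', show y * (n * g * n⁻¹) * y⁻¹ = (y * n) * g * (y * n)⁻¹ by group]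
      exact mul_mem (mul_mem hbH hgH) (inv_mem hbH)
    have hk := mul_mem (mul_mem (mul_mem hgH hm) (inv_mem hgH)) (inv_mem hm)
    rw [e1, hy, hinv, hgy] at hk
    rcases hg'z with h | h <;>
      rw [short_conj S (α := 1) (by rw [hg'c, one_smul]) (h _),
        short_conj S (α := 1) (by rw [hg'c, one_smul]) (h _), one_smul, one_smul, ← short_add,
        ← short_add, ← short_add] at hk <;>
      refine ⟨_, ?_, hk⟩ <;> intro h0 <;> have := congrFun h0 0 <;> have := congrFun h0 1 <;>
      simp [rot, CharTwo.add_self_eq_zero] at *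
  have hall : ∀ z, short S a₁ z ∈ H := by
    have hstep : ∀ z, short S a₁ z ∈ H → short S a₁ (rot z) ∈ H := fun z hz => by
      have := mul_mem (mul_mem hgH hz) (inv_mem hgH)
      rwa [short_conj S (α := 1) (by rw [hgc, one_smul]) (hgz z), one_smul] at this
    intro z
    have h3 := hstep _ hcH
    have h4 := hstep _ h3
    rcases plane_cases hF z with rfl | rfl | rfl | rfl
    · rw [short_zero]; exact one_mem H
    all_goals
      rcases plane_cases hF c with rfl | rfl | rfl | rfl
      · exact absurd rfl hc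
      all_goals
        simp [rot, CharTwo.add_self_eq_zero] at h3 h4
        first | exact hcH | exact h3 | exact h4
  have hnH : n ∈ H := by
    have := mul_mem (inv_mem (hall ![1, 0])) hbH
    rwa [hy, inv_mul_cancel_left] at this
  exact omega_le_of_short hQ S f hn (by omega) (forall_short S hnc hnH fun z => short_em S (hall z))
    ⟨![1, 0], ![0, 1], by simp [hB0]⟩

theorem two_gen_plus_two (hF : ∀ x : F, x = 0 ∨ x = 1) (S : Sys Q r (Fin 2))
    (hQ0 : ∀ z : Fin 2 → F, S.Q0 z = z 0 * z 1)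
    (hQ : (QuadraticMap.polarBilin Q).Nondegenerate) (f : Frame Q)
    (hn : 5 ≤ Fintype.card ι) (hr : 2 ≤ r) :
    ∃ x y : Cfsg.POmega F ⇑Q, Subgroup.closure ({x, y} : Set (Cfsg.POmega F ⇑Q)) = ⊤ := by
  have h2 := two_eq_zero hF
  have h3 : (3 : F) = 1 := by linear_combination h2
  haveI : CharP F 2 := CharTwo.of_one_ne_zero_of_two_eq_zero one_ne_zero h2
  have hneg : ∀ x : Vec, -x = x := fun x => by funext i; simp [CharTwo.neg_eq]
  have hω : Fintype.card F ≠ 2 ∨ Fintype.card ι ≠ 4 := Or.inr (by omega)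
  have hB0 : ∀ z w : Fin 2 → F, QuadraticMap.polar S.Q0 z w = z 0 * w 1 + z 1 * w 0 := fun z w => by
    simp only [QuadraticMap.polar, hQ0, Pi.add_apply]
    ring
  set p : Fin 2 → F := ![1, 0] with hp
  set p' : Fin 2 → F := ![0, 1] with hp'
  have hzz : ∀ z : Fin 2 → F, z = z 0 • p + z 1 • p' := fun z => by
    funext i; fin_cases i <;> simp [hp, hp']
  have Qp : S.Q0 p = 0 := by simp [hQ0, hp]
  have Qp' : S.Q0 p' = 0 := by simp [hQ0, hp']
  have Bpp : QuadraticMap.polar S.Q0 p p = 0 := by simp [hB0, hp]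
  have Bp'p' : QuadraticMap.polar S.Q0 p' p' = 0 := by simp [hB0, hp']
  have Bpp' : QuadraticMap.polar S.Q0 p p' = 1 := by simp [hB0, hp, hp']
  have Bp'p : QuadraticMap.polar S.Q0 p' p = 1 := by simp [hB0, hp, hp']
  obtain ⟨n, hnΩ, hnc⟩ := exists_cycle S hQ hω (by omega) ⟨![1, 1], by simp [hQ0]⟩
  set L : Fin r ⊕ Fin r := .inl ⟨0, by omega⟩ with hL
  set R : Fin r ⊕ Fin r := .inr ⟨0, by omega⟩ with hR
  have hLR : L ≠ R := by simp [hL, hR]
  set g := short S L p' * short S R p with hg
  set x := short S L p with hx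
  have sL : L.swap = R := rfl
  have sR : R.swap = L := rfl
  have gL : act g (S.c L) = S.inj p := by
    rw [hg, act_mul, act_short_c, if_pos sR.symm, map_add, map_smul, map_sub, map_smul, act_short_c,
      if_neg (show L ≠ L.swap by rw [sL]; exact hLR), act_short_inj, Qp, Bpp']
    module
  have gR : act g (S.c R) = S.c R + S.inj p' := by
    rw [hg, act_mul, act_short_c, if_neg (show R ≠ R.swap by rw [sR]; exact hLR.symm), zero_smul,
      add_zero, act_short_c, if_pos sL.symm, Qp']
    module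
  have gp : act g (S.inj p) = S.inj p + S.c L := by
    rw [hg, act_mul, act_short_inj, Bpp, zero_smul, sub_zero, act_short_inj, Bpp', one_smul,
      sub_eq_add_neg, hneg]
  have gp' : act g (S.inj p') = S.c R := by
    rw [hg, act_mul, act_short_inj, Bp'p, map_sub, map_smul, act_short_inj, Bp'p', act_short_c,
      if_pos sL.symm, Qp', sub_eq_add_neg, hneg]
    funext i
    simp [CharTwo.add_self_eq_zero]
    ring_nf
    simp [CharTwo.two_eq_zero, h3]
  have hg3 : g ^ 3 = 1 := by
    refine S.ext (fun a => ?_) fun z => ?_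
    · rw [act_one, pow_succ, pow_succ, pow_one, act_mul, act_mul]
      by_cases h1 : a = L
      · rw [h1, gL, gp, map_add, gp, gL]
        funext i; simp [CharTwo.add_self_eq_zero]; ring_nf; simp [CharTwo.two_eq_zero, h3]
      by_cases h1' : a = R
      · rw [h1', gR, map_add, gR, gp', map_add, map_add, gR, gp']
        funext i; simp [CharTwo.add_self_eq_zero]; ring_nf; simp [CharTwo.two_eq_zero, h3]
      · have e : act g (S.c a) = S.c a := by
          rw [hg, act_mul, act_short_c, if_neg (by rwa [sR]), zero_smul, add_zero, act_short_c,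
            if_neg (by rwa [sL]), zero_smul, add_zero]
        rw [e, e, e]
    · rw [hzz z, S.inj_add, S.inj_smul, S.inj_smul, act_one]
      simp only [pow_succ, pow_zero, one_mul, act_mul, map_add, map_smul, gp, gp', gL, gR]
      funext i; simp [CharTwo.add_self_eq_zero]; ring_nf; simp [CharTwo.two_eq_zero, h3]
  have hcomm : Commute g x := by
    refine mul_inv_eq_iff_eq_mul.1 (act_ext fun v => ?_)
    rw [hx, short, eich_conj, act_eich, act_eich]
    simp only [gL, gp, map_add', S.Q_inj, S.Q_c, Qp, QuadraticMap.polar_add_right,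
      QuadraticMap.polar_comm _ (S.inj p) (S.c L), S.B_ci]
    funext i; simp [CharTwo.sub_eq_add]; ring_nf; simp [CharTwo.two_eq_zero, h3]
  have hx2 : x ^ 2 = 1 := by rw [hx, short_pow, Nat.cast_two, h2, zero_smul, short_zero]
  have hshortΩ : ∀ a z, short S a z ∈ Cfsg.Omega F ⇑Q := fun a z =>
    eGroup_mem_omega hQ f hn (eich_mem _ _ trivial trivial)
  set H := Subgroup.closure ({g * x, n} : Set (Cfsg.isometryGroup F ⇑Q)) with hH
  refine exists_POmega (mul_mem (mul_mem (hshortΩ L p') (hshortΩ R p)) (hshortΩ L p)) hnΩ ?_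
  have hgx : g * x ∈ H := Subgroup.subset_closure (by simp)
  have hnH : n ∈ H := Subgroup.subset_closure (by simp)
  have hxH : x ∈ H := by
    have := H.pow_mem hgx 3
    rwa [hcomm.mul_pow, hg3, one_mul, pow_succ, hx2, one_mul] at this
  have hgH : g ∈ H := by
    have := mul_mem hgx (inv_mem hxH)
    rwa [mul_inv_cancel_right] at this
  have ginvp : act g⁻¹ (S.inj p) = S.c L := by rw [← gL, Spinor.act_inv_cancel]
  have ginvR : act g⁻¹ (S.c R) = S.inj p' := by rw [← gp', Spinor.act_inv_cancel]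
  have hsome : ∀ a, EM Q H (S.c a) (S.inj p) ∨ EM Q H (S.c a) (S.inj p') := by
    refine forall_of_nx (P := fun a => EM Q H (S.c a) (S.inj p) ∨ EM Q H (S.c a) (S.inj p'))
      (fun a ha => ?_) (a₀ := L) (Or.inl (short_em S hxH))
    obtain ⟨α, hα, e⟩ := hnc.c_map a
    have hα1 : α = 1 := (hF α).resolve_left hα
    rw [hα1, one_smul] at e
    have key : ∀ s, S.Q0 s = 0 → s ≠ 0 → EM Q H (S.c a) (S.inj s) →
        EM Q H (S.c (nx r a)) (S.inj p) ∨ EM Q H (S.c (nx r a)) (S.inj p') := by
      intro s hs hs0 h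
      obtain ⟨w, hw⟩ := hnc.inj_map s
      have hQw : S.Q0 w = 0 := by rw [← S.Q_inj, ← hw, act_map, S.Q_inj, hs]
      have hw0 : w ≠ 0 := fun h0 => hs0 (S.inj_injective (act_injective n (by
        rw [hw, h0, inj_zero, map_zero])))
      have h' := h.map hnH
      rw [e, hw] at h'
      rcases plane_cases hF w with rfl | rfl | rfl | rfl
      · exact absurd rfl hw0
      · exact Or.inl h'
      · exact Or.inr h'
      · simp [hQ0] at hQw
    rcases ha with h | h
    · exact key p Qp (by simp [hp]) h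
    · exact key p' Qp' (by simp [hp']) h
  obtain ⟨a₀, h0, h0'⟩ : ∃ a, EM Q H (S.c a) (S.inj p) ∧ EM Q H (S.c a) (S.inj p') := by
    rcases hsome R with h | h
    · refine ⟨L, short_em S hxH, ?_⟩
      have h' := h.map (inv_mem hgH)
      rw [ginvp, ginvR] at h'
      have h'' := h'.symm' (S.Q_c L)
      rwa [hneg] at h''
    · obtain ⟨_, _, hmem⟩ := h
      set a : Fin r ⊕ Fin r := .inl ⟨1, hr⟩ with ha
      have haR : a ≠ R := by simp [ha, hR]
      have haL : a ≠ L := by simp [ha, hL]
      have ga : act g (S.c a) = S.c a := by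
        rw [hg, act_mul, act_short_c, if_neg (by rwa [sR]), zero_smul, add_zero, act_short_c,
          if_neg (by rwa [sL]), zero_smul, add_zero]
      have gia : act g⁻¹ (S.c a) = S.c a := by
        conv_lhs => rw [← ga]
        rw [Spinor.act_inv_cancel]
      refine ⟨a, ?_⟩
      rcases hsome a with ha' | ha'
      · refine ⟨ha', ?_⟩
        have h1 := ha'.map (inv_mem hgH)
        rw [ginvp, gia] at h1
        have h2' := h1.moved hmem (act_eich_fix _ _ (by rw [S.B_cc, if_neg]; simp [ha, hR])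
          (S.B_ci a p'))
        rw [show eich (S.c R) (S.inj p') _ _ = short S R p' from rfl, act_short_c, if_pos sR.symm,
          one_smul, add_sub_cancel_left, Qp', zero_smul, sub_zero] at h2'
        exact h2'
      · refine ⟨?_, ha'⟩
        have h1 := ha'.map hgH
        rw [gp', ga] at h1
        have h2' := h1.moved hxH (act_eich_fix _ _ (by rw [S.B_cc, if_neg]; simp [ha, hL])
          (S.B_ci a p))
        rw [hx, act_short_c, if_pos sL.symm, one_smul, add_sub_cancel_left, Qp, zero_smul, sub_zero] at h2'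
        exact h2'
  refine omega_le_of_short hQ S f hn (by omega) (forall_short S hnc hnH (a₀ := a₀) fun z => ?_)
    ⟨p, p', by rw [Bpp']; exact one_ne_zero⟩
  rcases plane_cases hF z with rfl | rfl | rfl | rfl
  · convert EM.zero (Q := Q) (H := H) (S.Q_c a₀) using 1
    funext i
    rcases h : S.σ.symm i with b | k <;> simp [Sys.inj, h]
  · exact h0
  · exact h0'
  · have := h0.add h0'
    rw [← S.inj_add] at this
    convert this using 3
    simp [hp, hp']

end Cfsg.Agent.Classical.OrthTwoGen
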