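import Mathlib
import Cfsg.Agent.Lib.Classical.OrthTwoGenSmall

/-!
# The three standard orthogonal families are generated by two elements
-/

set_option autoImplicit false
set_option linter.unusedSectionVars false

namespace Cfsg.Agent.Classical.OrthTwoGen

open Cfsg.Agent.Forms Cfsg.Agent.Forms.QuadStd Cfsg.Agent.Forms.PlusStd
open Cfsg.Agent.Classical.OrthForms Cfsg.Agent.Classical.OrthCount

variable {F : Type*} [Field F] [Fintype F]

/-- the square form on a line -/
noncomputable def sqQ (F : Type*) [Field F] : QuadraticForm F (Unit → F) :=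
  QuadraticMap.linMulLin (LinearMap.proj (R := F) (φ := fun _ : Unit => F) ())
    (LinearMap.proj (R := F) (φ := fun _ : Unit => F) ())

/-- the binary form -/
noncomputable def binQ (F : Type*) [Field F] (a b : F) : QuadraticForm F (Fin 2 → F) :=
  QuadraticMap.linMulLin (LinearMap.proj (R := F) (φ := fun _ : Fin 2 => F) 0)
      (LinearMap.proj (R := F) (φ := fun _ : Fin 2 => F) 0)
    + a • QuadraticMap.linMulLin (LinearMap.proj (R := F) (φ := fun _ : Fin 2 => F) 0)
      (LinearMap.proj (R := F) (φ := fun _ : Fin 2 => F) 1)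
    + b • QuadraticMap.linMulLin (LinearMap.proj (R := F) (φ := fun _ : Fin 2 => F) 1)
      (LinearMap.proj (R := F) (φ := fun _ : Fin 2 => F) 1)

theorem binQ_apply (a b : F) (z : Fin 2 → F) :
    binQ F a b z = z 0 ^ 2 + a * (z 0 * z 1) + b * z 1 ^ 2 := by
  simp [binQ]; ring

/-- the hyperbolic line -/
noncomputable def hypLine (F : Type*) [Field F] : QuadraticForm F (Fin 2 → F) :=
  QuadraticMap.linMulLin (LinearMap.proj (R := F) (φ := fun _ : Fin 2 => F) 0)
      (LinearMap.proj (R := F) (φ := fun _ : Fin 2 => F) 1)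

/-- the split basis of the odd form -/
noncomputable def oddSys (F : Type*) [Field F] (m : ℕ) : Sys (oddQ F m) m Unit where
  σ := Equiv.sumComm _ _
  Q0 := sqQ F
  split v := by
    rw [oddQ_apply]
    simp [sqQ, Function.comp_def]
    ring

/-- the split basis of the minus form -/
noncomputable def minSys (F : Type*) [Field F] [Fintype F] (k : ℕ) (a b : F) : Sys (minQ F k a b) k (Fin 2) where
  σ := Equiv.refl _
  Q0 := binQ F a b
  split v := by
    rw [minQ_apply, binQ_apply]
    simp [Function.comp_def]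
    ring

/-- the split basis of the plus form -/
noncomputable def plusSys (F : Type*) [Field F] (r : ℕ) : Sys (plusQ F (r + 1)) r (Fin 2) where
  σ := (Equiv.sumComm _ _).trans (plusIdx r).symm
  Q0 := hypLine F
  split v := by
    have h := plus_split (F := F) r (v ∘ (plusIdx r).symm)
    rw [Function.comp_assoc, Equiv.symm_comp_self, Function.comp_id] at h
    rw [h, hypQ_apply]
    simp [hypLine, Function.comp_def]
    ring

theorem exists_other {F : Type*} [Field F] (z : Fin 2 → F) (hz : z ≠ 0) :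
    ∃ z' : Fin 2 → F, ∀ x, ∃ s t : F, x = s • z + t • z' := by
  by_cases h : z 0 = 0
  · have h1 : z 1 ≠ 0 := fun h1 => hz (funext fun i => by fin_cases i <;> assumption)
    refine ⟨![1, 0], fun x => ⟨x 1 / z 1, x 0, funext fun i => ?_⟩⟩
    fin_cases i <;> simp [h, h1]
  · refine ⟨![0, 1], fun x => ⟨x 0 / z 0, x 1 - x 0 / z 0 * z 1, funext fun i => ?_⟩⟩
    fin_cases i <;> simp [h]

theorem dichotomy : (∃ x : F, x ≠ 0 ∧ x ≠ 1) ∨ ∀ x : F, x = 0 ∨ x = 1 := by
  by_cases h : ∃ x : F, x ≠ 0 ∧ x ≠ 1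
  · exact Or.inl h
  · push Not at h
    exact Or.inr fun x => or_iff_not_imp_left.2 (h x)

theorem two_gen_odd (hodd : Odd (Fintype.card F)) (m : ℕ) (hm : 2 ≤ m) :
    ∃ x y : Cfsg.POmega F (Cfsg.quadFormOdd m F),
      Subgroup.closure ({x, y} : Set (Cfsg.POmega F (Cfsg.quadFormOdd m F))) = ⊤ := by
  have h2 := two_ne_zero_of_odd hodd
  rw [← oddQ_eq]
  refine two_gen_torus (oddSys F m) (oddQ_nondeg h2 m) (oddFrame F hm)
    (by simp; omega) hm ⟨-1, neg_ne_zero.2 one_ne_zero, fun h => h2 (by linear_combination -h)⟩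
    (z₀ := fun _ => 1) (by simp [oddSys, sqQ]) ⟨fun _ => 1, fun _ => 1, ?_⟩ fun z hz => ?_
  · simp only [QuadraticMap.polar, oddSys, sqQ, QuadraticMap.linMulLin_apply, LinearMap.proj_apply, Pi.add_apply]
    intro h
    exact h2 (by linear_combination h)
  · have hz1 : z () ≠ 0 := fun h => hz (funext fun _ => h)
    exact ⟨0, fun x => ⟨x () / z (), 0, funext fun _ => by simp [hz1]⟩, fun _ => rfl⟩

theorem two_gen_minus (m : ℕ) (hm : 4 ≤ m) (a b : F)
    (hab : ∀ z₁ z₂ : F, z₁ ^ 2 + a * z₁ * z₂ + b * z₂ ^ 2 = 0 → z₁ = 0 ∧ z₂ = 0) :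
    ∃ g h : Cfsg.POmega F (Cfsg.quadFormMinus (m - 1) F a b),
      Subgroup.closure ({g, h} : Set (Cfsg.POmega F (Cfsg.quadFormMinus (m - 1) F a b))) = ⊤ := by
  obtain ⟨k, rfl⟩ : ∃ k, m = k + 1 := ⟨m - 1, by omega⟩
  rw [Nat.add_sub_cancel, ← minQ_eq]
  have hn : 5 ≤ Fintype.card ((Fin k ⊕ Fin k) ⊕ Fin 2) := by simp; omega
  rcases dichotomy (F := F) with hF | hF
  · refine two_gen_torus (minSys F k a b) (minQ_nondeg k hab) (minFrame F (by omega) a b) hn (by omega)
      hF (z₀ := ![1, 0]) (by simp [minSys, binQ_apply]) ?_ fun z hz => ?_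
    · by_contra hcon
      push Not at hcon
      have h0 := hcon ![1, 0] ![1, 0]
      have h1 := hcon ![1, 0] ![0, 1]
      simp [QuadraticMap.polar, minSys, binQ_apply] at h0 h1
      exact disc_ne_zero hab (by linear_combination (2 * b) * h0 - a * h1)
    · obtain ⟨z', hz'⟩ := exists_other z hz
      exact ⟨z', hz', fun h => absurd h (by omega)⟩
  · have h2 := two_eq_zero hF
    have hb : b = 1 := (hF b).resolve_left fun h => one_ne_zero (hab 0 1 (by rw [h]; ring)).2
    have ha : a = 1 := (hF a).resolve_left fun h => by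
      exact one_ne_zero (hab 1 1 (by rw [h, hb]; linear_combination h2)).1
    exact two_gen_minus_two hF (minSys F k a b) (fun z => by simp [minSys, binQ_apply, ha, hb])
      (minQ_nondeg k hab) (minFrame F (by omega) a b) hn (by omega)

theorem two_gen_plus (m : ℕ) (hm : 4 ≤ m) :
    ∃ x y : Cfsg.POmega F (Cfsg.quadFormPlus m F),
      Subgroup.closure ({x, y} : Set (Cfsg.POmega F (Cfsg.quadFormPlus m F))) = ⊤ := by
  obtain ⟨r, rfl⟩ : ∃ r, m = r + 1 := ⟨m - 1, by omega⟩
  rw [← plusQ_eq]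
  have hn : 5 ≤ Fintype.card (Fin (r + 1) ⊕ Fin (r + 1)) := by simp; omega
  have hP : (QuadraticMap.polarBilin (plusQ F (r + 1))).Nondegenerate := plusQ_nondeg F (r + 1)
  rcases dichotomy (F := F) with hF | hF
  · refine two_gen_torus (plusSys F r) hP (plusFrame F (by omega)) hn (by omega) hF
      (z₀ := ![1, 1]) (by simp [plusSys, hypLine]) ⟨![1, 0], ![0, 1], ?_⟩ fun z hz => ?_
    · simp [QuadraticMap.polar, plusSys, hypLine]
    · obtain ⟨z', hz'⟩ := exists_other z hz
      exact ⟨z', hz', fun h => absurd h (by omega)⟩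
  · exact two_gen_plus_two hF (plusSys F r) (fun z => by simp [plusSys, hypLine])
      hP (plusFrame F (by omega)) hn (by omega)

end Cfsg.Agent.Classical.OrthTwoGen
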