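import Mathlib
import Cfsg.Agent.Lib.Classical.Linear

/-!
# Spreading transvections inside a subgroup of `SL`
-/

set_option autoImplicit false

namespace Cfsg.Agent.Classical.TransvectionSpread

open Matrix

variable {F : Type*} [Field F] {ι : Type*} [Fintype ι] [DecidableEq ι]
variable {H : Subgroup (SpecialLinearGroup ι F)}

theorem val_mul (a b : SpecialLinearGroup ι F) : (a * b).1 = a.1 * b.1 := rfl

theorem val_inv_mul (a : SpecialLinearGroup ι F) : (a⁻¹).1 * a.1 = 1 := by
  rw [← val_mul, inv_mul_cancel]; rfl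

theorem val_mul_inv (a : SpecialLinearGroup ι F) : a.1 * (a⁻¹).1 = 1 := by
  rw [← val_mul, mul_inv_cancel]; rfl

/-- `H` contains the transvection `1 + v φ` -/
def Mem (H : Subgroup (SpecialLinearGroup ι F)) (v φ : ι → F) : Prop :=
  ∃ g ∈ H, g.1 = 1 + vecMulVec v φ

/-- `H` contains all transvections with the functional `φ` -/
def Full (H : Subgroup (SpecialLinearGroup ι F)) (φ : ι → F) : Prop :=
  ∀ v, φ ⬝ᵥ v = 0 → Mem H v φ

theorem Mem.dot {v φ : ι → F} (h : Mem H v φ) : φ ⬝ᵥ v = 0 := by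
  obtain ⟨g, -, hg⟩ := h
  have := g.det_coe
  rw [hg, vecMulVec_eq Unit, det_one_add_replicateCol_mul_replicateRow] at this
  simpa using this

theorem mem_zero (φ : ι → F) : Mem H 0 φ := ⟨1, H.one_mem, by simp⟩

theorem Mem.add {v v' φ : ι → F} (h : Mem H v φ) (h' : Mem H v' φ) : Mem H (v + v') φ := by
  have hd := h'.dot
  obtain ⟨g, hg, hge⟩ := h
  obtain ⟨g', hg', hge'⟩ := h'
  refine ⟨g * g', mul_mem hg hg', ?_⟩
  rw [val_mul, hge, hge', add_mul, one_mul, mul_add, mul_one,
    vecMulVec_mul_vecMulVec, hd, zero_smul, add_vecMulVec, vecMulVec_zero, add_zero]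
  abel

theorem Mem.neg {v φ : ι → F} (h : Mem H v φ) : Mem H (-v) φ := by
  have hd := h.dot
  obtain ⟨g, hg, hge⟩ := h
  refine ⟨g⁻¹, inv_mem hg, ?_⟩
  have h1 : g.1 * (1 + vecMulVec (-v) φ) = 1 := by
    rw [hge, add_mul, one_mul, mul_add, mul_one, vecMulVec_mul_vecMulVec, dotProduct_neg, hd, neg_zero,
      zero_smul, vecMulVec_zero, add_zero, neg_vecMulVec]
    abel
  have h2 : (g⁻¹).1 * g.1 = 1 := by
    exact val_inv_mul g
  exact left_inv_eq_right_inv h2 h1

theorem Mem.sub {v v' φ : ι → F} (h : Mem H v φ) (h' : Mem H v' φ) : Mem H (v - v') φ := by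
  rw [sub_eq_add_neg]; exact h.add h'.neg

theorem mem_smul_iff {v φ : ι → F} (t : F) : Mem H (t • v) φ ↔ Mem H v (t • φ) := by
  simp only [Mem, smul_vecMulVec, vecMulVec_smul]

theorem Mem.conj {v φ : ι → F} (h : Mem H v φ) {x : SpecialLinearGroup ι F} (hx : x ∈ H) :
    Mem H (x.1 *ᵥ v) (φ ᵥ* (x⁻¹).1) := by
  obtain ⟨g, hg, hge⟩ := h
  refine ⟨x * g * x⁻¹, mul_mem (mul_mem hx hg) (inv_mem hx), ?_⟩
  rw [val_mul, val_mul, hge, mul_add, mul_one, add_mul,
    mul_vecMulVec, vecMulVec_mul, val_mul_inv]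

/-- the commutator of two transvections -/
theorem Mem.comm {v φ u ψ : ι → F} (h : Mem H v φ) (h' : Mem H u ψ) (hu : φ ⬝ᵥ u = 0) :
    Mem H ((ψ ⬝ᵥ v) • u) φ := by
  have hv := h.dot
  have hu' := h'.dot
  obtain ⟨a, ha, hae⟩ := h
  have h'' := h'.neg
  obtain ⟨b, hb, hbe⟩ := h'
  obtain ⟨b', hb', hbe'⟩ := h''
  have key : Mem H (-((ψ ⬝ᵥ v) • u)) φ := by
    refine ⟨a * b * a⁻¹ * b', mul_mem (mul_mem (mul_mem ha hb) (inv_mem ha)) hb', ?_⟩
    have hainv : (a⁻¹).1 = 1 + vecMulVec (-v) φ := by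
      have h1 : a.1 * (1 + vecMulVec (-v) φ) = 1 := by
        rw [hae, add_mul, one_mul, mul_add, mul_one, vecMulVec_mul_vecMulVec, dotProduct_neg, hv,
          neg_zero, zero_smul, vecMulVec_zero, add_zero, neg_vecMulVec]
        abel
      exact left_inv_eq_right_inv (val_inv_mul _) h1
    rw [val_mul, val_mul, val_mul, hae, hbe,
      hainv, hbe']
    simp only [add_mul, mul_add, one_mul, mul_one, mul_neg, neg_mul, smul_mul_assoc, mul_smul_comm, vecMulVec_mul_vecMulVec, hu, hu', hv, dotProduct_neg,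
      dotProduct_smul, smul_eq_mul, mul_zero, zero_smul, vecMulVec_zero, add_zero, neg_zero,
      neg_vecMulVec, vecMulVec_neg, smul_vecMulVec, vecMulVec_smul]
    module
  simpa using key.neg

/-- transvections along a submodule -/
def good (H : Subgroup (SpecialLinearGroup ι F)) (φ : ι → F) : Submodule F (ι → F) where
  carrier := {v | ∀ t : F, Mem H (t • v) φ}
  add_mem' {v w} hv hw := fun t => by rw [smul_add]; exact (hv t).add (hw t)
  zero_mem' := fun t => by rw [smul_zero]; exact mem_zero φ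
  smul_mem' c v hv := fun t => by rw [smul_smul]; exact hv _

theorem mem_good {v φ : ι → F} : v ∈ good H φ ↔ ∀ t : F, Mem H (t • v) φ := Iff.rfl

theorem Full.smul {φ : ι → F} (h : Full H φ) (t : F) : Full H (t • φ) := by
  intro v hv
  by_cases ht : t = 0
  · subst ht
    rw [← mem_smul_iff, zero_smul]; exact mem_zero φ
  · rw [← mem_smul_iff]
    refine h _ ?_
    rw [smul_dotProduct, smul_eq_mul, mul_eq_zero] at hv
    rw [dotProduct_smul, hv.resolve_left ht, smul_zero]

theorem Full.zero : Full H (0 : ι → F) := fun v _ => ⟨1, H.one_mem, by simp⟩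

theorem Full.conj {φ : ι → F} (h : Full H φ) {x : SpecialLinearGroup ι F} (hx : x ∈ H) :
    Full H (φ ᵥ* x.1) := by
  intro v hv
  rw [← dotProduct_mulVec] at hv
  have := (h _ hv).conj (inv_mem hx)
  rwa [inv_inv, mulVec_mulVec, val_inv_mul, one_mulVec] at this

theorem Full.add {φ ψ : ι → F} (h : Full H φ) (h' : Full H ψ) : Full H (φ + ψ) := by
  by_cases hex : ∃ v, ψ ⬝ᵥ v = 0 ∧ φ ⬝ᵥ v ≠ 0
  · obtain ⟨v, hv, hv'⟩ := hex
    obtain ⟨g, hg, hge⟩ := h' ((φ ⬝ᵥ v)⁻¹ • v) (by rw [dotProduct_smul, hv, smul_zero])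
    have := h.conj hg
    rwa [hge, vecMul_add, vecMul_one, vecMul_vecMulVec, dotProduct_smul, smul_eq_mul,
      inv_mul_cancel₀ hv', one_smul] at this
  · push Not at hex
    by_cases hψ : ψ = 0
    · subst hψ; rwa [add_zero]
    obtain ⟨i, hi⟩ := Function.ne_iff.1 hψ
    have hφ : φ = (φ i / ψ i) • ψ := funext fun j => by
      have := hex (Pi.single j (ψ i) - Pi.single i (ψ j))
        (by rw [dotProduct_sub, dotProduct_single, dotProduct_single]; ring)
      rw [dotProduct_sub, dotProduct_single, dotProduct_single, sub_eq_zero] at this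
      have hi' : ψ i ≠ 0 := hi
      rw [Pi.smul_apply, smul_eq_mul, div_mul_eq_mul_div, eq_div_iff hi', this]
    rw [hφ, show (φ i / ψ i) • ψ + ψ = (φ i / ψ i + 1) • ψ by rw [add_smul, one_smul]]
    exact h'.smul _

/-- **all functionals full gives the whole group** -/
theorem eq_top_of_full (h : ∀ i, Full H (Pi.single i (1 : F))) : H = ⊤ := by
  have hall : ∀ φ : ι → F, Full H φ := fun φ => by
    rw [pi_eq_sum_univ' φ]
    refine Finset.sum_induction _ (Full H) (fun _ _ => Full.add) Full.zero fun i _ => (h i).smul _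
  refine Linear.eq_top_of_transvection_mem H fun i j hij c => ?_
  obtain ⟨g, hg, hge⟩ := hall (Pi.single j 1) (Pi.single i c)
    (by rw [single_dotProduct, one_mul, Pi.single_eq_of_ne hij.symm])
  have : g = SpecialLinearGroup.transvection hij c := Subtype.ext (by
    rw [hge, SpecialLinearGroup.transvection_coe]
    congr 1
    ext x y
    by_cases hx : i = x <;> by_cases hy : j = y <;>
      simp [vecMulVec_apply, Matrix.single_apply, Pi.single_apply, eq_comm, hx, hy])
  exact this ▸ hg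

end Cfsg.Agent.Classical.TransvectionSpread
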