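import Mathlib
import Cfsg.Agent.Lib.Classical.TransvectionSpread

/-!
# A regular unipotent element of `SL`, its conjugates, and what they generate
-/

set_option autoImplicit false

namespace Cfsg.Agent.Classical.RegUnipotentSL

open Matrix
open Cfsg.Agent.Classical.TransvectionSpread

variable {F : Type*} [Field F] {d : ℕ}

variable (F d) in
/-- the nilpotent shift -/
def shiftUp : Matrix (Fin (d + 1)) (Fin (d + 1)) F :=
  Matrix.of fun i j => if (j : ℕ) = i + 1 then 1 else 0

theorem shiftUp_pow (k : ℕ) (i j : Fin (d + 1)) :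
    (shiftUp F d ^ k) i j = if (j : ℕ) = i + k then 1 else 0 := by
  induction k generalizing i with
  | zero => simp [Matrix.one_apply, Fin.ext_iff, eq_comm]
  | succ k ih =>
    rw [pow_succ', Matrix.mul_apply]
    by_cases hi : (i : ℕ) + 1 < d + 1
    · rw [Finset.sum_eq_single (⟨i + 1, hi⟩ : Fin (d + 1))]
      · rw [ih, shiftUp, Matrix.of_apply, if_pos rfl, one_mul]
        simp only [show (i : ℕ) + 1 + k = i + (k + 1) by omega]
      · intro b _ hb
        rw [shiftUp, Matrix.of_apply, if_neg (fun h => hb (Fin.ext h)), zero_mul]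
      · intro h; exact absurd (Finset.mem_univ _) h
    · rw [if_neg (by have := j.isLt; omega)]
      refine Finset.sum_eq_zero fun b _ => ?_
      rw [shiftUp, Matrix.of_apply, if_neg (by have := b.isLt; omega), zero_mul]

theorem shiftUp_nilpotent : IsNilpotent (shiftUp F d) := by
  refine ⟨d + 1, Matrix.ext fun i j => ?_⟩
  rw [shiftUp_pow, if_neg (by have := j.isLt; omega), Matrix.zero_apply]

theorem shiftUp_pow_ne_zero : shiftUp F d ^ d ≠ 0 := fun h => by
  have := congrFun (congrFun h 0) (Fin.last d)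
  rw [shiftUp_pow, if_pos (by simp), Matrix.zero_apply] at this
  exact one_ne_zero this

theorem det_jor : (1 + shiftUp F d).det = 1 := by
  rw [Matrix.det_of_isUpperTriangular]
  · simp [shiftUp]
  · intro i j hij
    have : (j : ℕ) < i := hij
    rw [Matrix.add_apply, Matrix.one_apply_ne (by intro e; subst e; omega), shiftUp, Matrix.of_apply,
      if_neg (by omega), add_zero]

variable (F d) in
/-- the regular unipotent `1 + shiftUp` -/
def jor : SpecialLinearGroup (Fin (d + 1)) F := ⟨1 + shiftUp F d, det_jor⟩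

theorem jor_zero : (jor F d).1 *ᵥ Pi.single 0 1 = Pi.single 0 1 := by
  ext a
  rw [Matrix.mulVec_single_one]
  simp [jor, shiftUp, Matrix.one_apply, Pi.single_apply]

theorem jor_succ (i : Fin d) :
    (jor F d).1 *ᵥ Pi.single i.succ 1 = Pi.single i.succ 1 + Pi.single i.castSucc 1 := by
  ext a
  rw [Matrix.mulVec_single_one]
  simp [jor, shiftUp, Matrix.one_apply, Pi.single_apply, Fin.ext_iff, eq_comm]

theorem jor_last : Pi.single (Fin.last d) (1 : F) ᵥ* (jor F d).1 = Pi.single (Fin.last d) 1 := by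
  ext b
  rw [Matrix.single_one_vecMul]
  simp only [jor, shiftUp, Matrix.row_apply, Matrix.add_apply, Matrix.of_apply]
  rw [if_neg (by have := b.isLt; rw [Fin.val_last]; omega), add_zero, Matrix.one_apply, Pi.single_apply]
  simp [eq_comm]

/-- conjugating by a signed reversal -/
theorem exists_lower : ∃ (h : SpecialLinearGroup (Fin (d + 1)) F) (c : Fin d → F), (∀ k, c k ≠ 0) ∧
    ((h * jor F d * h⁻¹).1 *ᵥ Pi.single (Fin.last d) 1 = Pi.single (Fin.last d) 1) ∧
    ∀ k, (h * jor F d * h⁻¹).1 *ᵥ Pi.single k.castSucc 1 = Pi.single k.castSucc 1 + c k • Pi.single k.succ 1 := by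
  classical
  set ε : F := ((Equiv.Perm.sign (Fin.revPerm : Equiv.Perm (Fin (d + 1))) : ℤ) : F) with hε
  have hεε : ε * ε = 1 := by
    rw [hε, ← Int.cast_mul, ← Units.val_mul, Int.units_mul_self, Units.val_one, Int.cast_one]
  let s : Fin (d + 1) → F := fun i => if i = 0 then ε else 1
  have hs : ∀ i, s i ≠ 0 := fun i => by
    simp only [s]
    split_ifs
    · exact left_ne_zero_of_mul_eq_one hεε
    · exact one_ne_zero
  let M : Matrix (Fin (d + 1)) (Fin (d + 1)) F := (diagonal s).submatrix Fin.revPerm id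
  have hdet : M.det = 1 := by
    rw [Matrix.det_permute, Matrix.det_diagonal, ← hε]
    simp only [s]
    rw [Finset.prod_ite_eq' Finset.univ (0 : Fin (d + 1)) (fun _ => ε), if_pos (Finset.mem_univ _), hεε]
  let h : SpecialLinearGroup (Fin (d + 1)) F := ⟨M, hdet⟩
  have hM : ∀ i, h.1 *ᵥ Pi.single i 1 = s i • Pi.single i.rev 1 := fun i => by
    ext a
    rw [Matrix.mulVec_single_one]
    simp only [h, M, Matrix.col_apply, Matrix.submatrix_apply, id_eq, Pi.smul_apply, Pi.single_apply,
      Fin.revPerm_apply, Matrix.diagonal_apply, smul_eq_mul]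
    by_cases ha : a = i.rev
    · subst ha; simp
    · rw [if_neg ha, if_neg (fun e => ha (by rw [← e, Fin.rev_rev])), mul_zero]
  have hw : ∀ v, (h * jor F d * h⁻¹).1 *ᵥ (h.1 *ᵥ v) = h.1 *ᵥ ((jor F d).1 *ᵥ v) := fun v => by
    rw [Matrix.mulVec_mulVec, Matrix.mulVec_mulVec, ← val_mul, ← val_mul, inv_mul_cancel_right]
  refine ⟨h, fun k => s k.rev.castSucc / s k.rev.succ, fun k => div_ne_zero (hs _) (hs _), ?_, fun k => ?_⟩
  · have := hw (Pi.single 0 1)
    rw [jor_zero, hM, Fin.rev_zero, Matrix.mulVec_smul] at this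
    exact smul_right_injective _ (hs 0) this
  · have := hw (Pi.single k.rev.succ 1)
    rw [jor_succ, Matrix.mulVec_add, hM, hM, Fin.rev_succ, Fin.rev_castSucc, Fin.rev_rev, Matrix.mulVec_smul] at this
    refine smul_right_injective _ (hs k.rev.succ) ?_
    dsimp only
    rw [this, smul_add, smul_smul, mul_div_cancel₀ _ (hs _)]

/-- **generation**: `jor`, a lower conjugate and one root group generate `SL` -/
theorem eq_top_of_line {m : ℕ} {H : Subgroup (SpecialLinearGroup (Fin (m + 2 + 1)) F)}
    {W : SpecialLinearGroup (Fin (m + 2 + 1)) F} (hW : W ∈ H)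
    {c : Fin (m + 2) → F} (hc : ∀ k, c k ≠ 0)
    (hWlast : W.1 *ᵥ Pi.single (Fin.last (m + 2)) 1 = Pi.single (Fin.last (m + 2)) 1)
    (hWk : ∀ k, W.1 *ᵥ Pi.single k.castSucc 1 = Pi.single k.castSucc 1 + c k • Pi.single k.succ 1)
    (hfull0 : ∀ t : F, Mem H (t • Pi.single 0 1) (Pi.single (Fin.last (m + 2)) 1)) : H = ⊤ := by
  classical
  set φ : Fin (m + 2 + 1) → F := Pi.single (Fin.last (m + 2)) 1 with hφ
  set r := φ ᵥ* (W⁻¹).1 with hr
  have hφe : ∀ i, φ ⬝ᵥ Pi.single i (1 : F) = if i = Fin.last (m + 2) then 1 else 0 := fun i => by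
    rw [dotProduct_single, mul_one, hφ, Pi.single_apply]
  have hφk : ∀ k : Fin (m + 2), φ ⬝ᵥ Pi.single k.castSucc (1 : F) = 0 := fun k => by
    rw [hφe, if_neg (Fin.castSucc_lt_last k).ne]
  have hrW : ∀ v, r ⬝ᵥ (W.1 *ᵥ v) = φ ⬝ᵥ v := fun v => by
    rw [hr, ← dotProduct_mulVec, Matrix.mulVec_mulVec, val_inv_mul, Matrix.one_mulVec]
  have hrlast : r (Fin.last (m + 2)) = 1 := by
    have := hrW (Pi.single (Fin.last (m + 2)) 1)
    rw [hWlast, hφe, if_pos rfl, dotProduct_single, mul_one] at this
    exact this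
  have hrk : ∀ k : Fin (m + 2), r k.castSucc + c k * r k.succ = 0 := fun k => by
    have := hrW (Pi.single k.castSucc 1)
    rw [hWk, hφk, dotProduct_add, dotProduct_smul, dotProduct_single, dotProduct_single] at this
    simpa using this
  have hrne : ∀ i, r i ≠ 0 := by
    refine Fin.reverseInduction (by rw [hrlast]; exact one_ne_zero) fun k hk h0 => ?_
    have := hrk k
    rw [h0, zero_add, mul_eq_zero] at this
    exact this.elim (hc k) hk
  -- the conjugate of a transvection along `φ`
  have hstep : ∀ (i : Fin (m + 2 + 1)) (t : F), Mem H (t • Pi.single i 1) φ →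
      Mem H (t • (W.1 *ᵥ Pi.single i 1)) r := fun i t h => by
    have := h.conj hW
    rwa [Matrix.mulVec_smul] at this
  have h01 : (0 : Fin (m + 2 + 1)) = (0 : Fin (m + 2)).castSucc := rfl
  have hφW : ∀ k : Fin (m + 2), (k : ℕ) ≤ m →
      φ ⬝ᵥ (W.1 *ᵥ Pi.single k.castSucc 1) = 0 := fun k hk => by
    rw [hWk, dotProduct_add, dotProduct_smul, hφk, hφe, if_neg (fun e => by
      have := congrArg Fin.val e
      rw [Fin.val_succ, Fin.val_last] at this
      omega), smul_zero, add_zero]
  -- all columns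
  have hcol : ∀ i : Fin (m + 2), Pi.single i.castSucc (1 : F) ∈ good H φ := by
    intro i
    induction hi : (i : ℕ) generalizing i with
    | zero =>
      have : i = 0 := Fin.ext hi
      rw [this, ← h01]
      exact hfull0
    | succ j ih =>
      have hj : j < m + 2 := by have := i.isLt; omega
      have hprev := ih ⟨j, hj⟩ rfl
      have hwv : W.1 *ᵥ Pi.single (⟨j, hj⟩ : Fin (m + 2)).castSucc 1 ∈ good H φ := by
        intro t
        have h1 := hstep _ (t / r 0) (hprev (t / r 0))
        have h2 : Mem H (Pi.single (0 : Fin (m + 2 + 1)) (1 : F)) φ := by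
          have := hfull0 1; rwa [one_smul] at this
        have h3 := h2.comm h1 (by
          rw [dotProduct_smul, hφW _ (by show j ≤ m; have := i.isLt; omega), smul_zero])
        rwa [dotProduct_single, mul_one, smul_smul, mul_div_cancel₀ _ (hrne 0)] at h3
      rw [hWk] at hwv
      have := sub_mem hwv hprev
      rw [add_sub_cancel_left] at this
      have h4 := Submodule.smul_mem _ (c ⟨j, hj⟩)⁻¹ this
      rw [smul_smul, inv_mul_cancel₀ (hc _), one_smul] at h4
      have : (⟨j, hj⟩ : Fin (m + 2)).succ = i.castSucc := Fin.ext (by simp [hi])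
      rwa [this] at h4
  have hφfull : Full H φ := by
    intro v hv
    have hv' : v ∈ good H φ := by
      rw [pi_eq_sum_univ' v]
      refine Submodule.sum_mem _ fun i _ => ?_
      induction i using Fin.lastCases with
      | cast i => exact Submodule.smul_mem _ _ (hcol i)
      | last =>
        rw [hφ, single_dotProduct, one_mul] at hv
        rw [hv, zero_smul]
        exact zero_mem _
    have := hv' 1
    rwa [one_smul] at this
  refine eq_top_of_full ?_
  refine Fin.reverseInduction hφfull fun k hk => ?_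
  have hWrow : Pi.single k.succ (1 : F) ᵥ* W.1 = Pi.single k.succ 1 + c k • Pi.single k.castSucc 1 := by
    ext b
    rw [Matrix.single_one_vecMul, Matrix.row_apply]
    induction b using Fin.lastCases with
    | cast b =>
      have := congrFun (hWk b) k.succ
      rw [Matrix.mulVec_single_one, Matrix.col_apply] at this
      rw [this]
      by_cases hbk : b = k
      · subst hbk
        simp [Pi.single_apply, Fin.ext_iff]
      · have hbk' : ¬ k.succ = b.succ := fun e => hbk (Fin.succ_injective _ e).symm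
        simp [Pi.single_apply, hbk, hbk', Ne.symm hbk, eq_comm]
    | last =>
      have := congrFun hWlast k.succ
      rw [Matrix.mulVec_single_one, Matrix.col_apply] at this
      rw [this]
      simp [hφ, Pi.single_apply, (Fin.castSucc_lt_last k).ne', eq_comm]
  have h1 := hk.conj hW
  rw [hWrow] at h1
  have h2 := h1.add (hk.smul (-1))
  rw [neg_one_smul, add_neg_cancel_comm] at h2
  have h3 := h2.smul (c k)⁻¹
  rwa [smul_smul, inv_mul_cancel₀ (hc k), one_smul] at h3


/-- **generation**: `jor`, a lower conjugate and one transvection generate `SL` -/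
theorem eq_top {m : ℕ} {H : Subgroup (SpecialLinearGroup (Fin (m + 2 + 1)) F)}
    (hJ : jor F (m + 2) ∈ H) {W : SpecialLinearGroup (Fin (m + 2 + 1)) F} (hW : W ∈ H)
    {c : Fin (m + 2) → F} (hc : ∀ k, c k ≠ 0)
    (hWlast : W.1 *ᵥ Pi.single (Fin.last (m + 2)) 1 = Pi.single (Fin.last (m + 2)) 1)
    (hWk : ∀ k, W.1 *ᵥ Pi.single k.castSucc 1 = Pi.single k.castSucc 1 + c k • Pi.single k.succ 1)
    {β : F} (hβ : ∀ y : F, y ≠ 0 → ∃ k : ℕ, y = β ^ k)
    {a : F} (ha : a ≠ 0) (haβ : ((Pi.single (Fin.last (m + 2)) 1 ᵥ* (W⁻¹).1) 0) * c 0 * a = β)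
    (hT : Mem H (a • Pi.single 0 1) (Pi.single (Fin.last (m + 2)) 1)) : H = ⊤ := by
  classical
  set φ : Fin (m + 2 + 1) → F := Pi.single (Fin.last (m + 2)) 1 with hφ
  set r := φ ᵥ* (W⁻¹).1 with hr
  have hφe : ∀ i, φ ⬝ᵥ Pi.single i (1 : F) = if i = Fin.last (m + 2) then 1 else 0 := fun i => by
    rw [dotProduct_single, mul_one, hφ, Pi.single_apply]
  have hφk : ∀ k : Fin (m + 2), φ ⬝ᵥ Pi.single k.castSucc (1 : F) = 0 := fun k => by
    rw [hφe, if_neg (Fin.castSucc_lt_last k).ne]
  have hrW : ∀ v, r ⬝ᵥ (W.1 *ᵥ v) = φ ⬝ᵥ v := fun v => by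
    rw [hr, ← dotProduct_mulVec, Matrix.mulVec_mulVec, val_inv_mul, Matrix.one_mulVec]
  have hrlast : r (Fin.last (m + 2)) = 1 := by
    have := hrW (Pi.single (Fin.last (m + 2)) 1)
    rw [hWlast, hφe, if_pos rfl, dotProduct_single, mul_one] at this
    exact this
  have hrk : ∀ k : Fin (m + 2), r k.castSucc + c k * r k.succ = 0 := fun k => by
    have := hrW (Pi.single k.castSucc 1)
    rw [hWk, hφk, dotProduct_add, dotProduct_smul, dotProduct_single, dotProduct_single] at this
    simpa using this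
  have hrne : ∀ i, r i ≠ 0 := by
    refine Fin.reverseInduction (by rw [hrlast]; exact one_ne_zero) fun k hk h0 => ?_
    have := hrk k
    rw [h0, zero_add, mul_eq_zero] at this
    exact this.elim (hc k) hk
  -- the conjugate of a transvection along `φ`
  have hstep : ∀ (i : Fin (m + 2 + 1)) (t : F), Mem H (t • Pi.single i 1) φ →
      Mem H (t • (W.1 *ᵥ Pi.single i 1)) r := fun i t h => by
    have := h.conj hW
    rwa [Matrix.mulVec_smul] at this
  have h01 : (0 : Fin (m + 2 + 1)) = (0 : Fin (m + 2)).castSucc := rfl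
  have hφW : ∀ k : Fin (m + 2), (k : ℕ) ≤ m →
      φ ⬝ᵥ (W.1 *ᵥ Pi.single k.castSucc 1) = 0 := fun k hk => by
    rw [hWk, dotProduct_add, dotProduct_smul, hφk, hφe, if_neg (fun e => by
      have := congrArg Fin.val e
      rw [Fin.val_succ, Fin.val_last] at this
      omega), smul_zero, add_zero]
  -- the field
  have hscal : ∀ t : F, Mem H (t • Pi.single 0 1) φ → Mem H ((t * β) • Pi.single 0 1) φ := by
    intro t ht
    have hT1 := hstep 0 a hT
    have hc1 := ht.comm hT1 (by rw [dotProduct_smul, h01, hφW 0 (Nat.zero_le _), smul_zero])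
    have hJc := hc1.conj hJ
    have hJφ : φ ᵥ* ((jor F (m + 2))⁻¹).1 = φ := by
      conv_lhs => rw [hφ, ← jor_last (F := F) (d := m + 2)]
      rw [Matrix.vecMul_vecMul, val_mul_inv, Matrix.vecMul_one]
    rw [hJφ] at hJc
    have := hJc.sub hc1
    rw [dotProduct_smul, dotProduct_single, mul_one, Matrix.mulVec_smul, Matrix.mulVec_smul, h01, hWk,
      Matrix.mulVec_add, Matrix.mulVec_smul, jor_succ, ← h01, jor_zero] at this
    convert this using 1
    rw [← haβ]
    simp only [smul_smul, smul_add, Fin.castSucc_zero, smul_eq_mul]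
    module
  have hfull0 : ∀ t : F, Mem H (t • Pi.single 0 1) φ := by
    intro t
    by_cases ht : t = 0
    · rw [ht, zero_smul]; exact mem_zero φ
    obtain ⟨k, hk⟩ := hβ (t / a) (div_ne_zero ht ha)
    rw [show t = a * β ^ k by rw [← hk, mul_div_cancel₀ _ ha]]
    clear hk
    induction k with
    | zero => rw [pow_zero, mul_one]; exact hT
    | succ k ih => rw [pow_succ, ← mul_assoc]; exact hscal _ ih
  exact eq_top_of_line hW hc hWlast hWk hfull0

end Cfsg.Agent.Classical.RegUnipotentSL
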