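import Mathlib
import Cfsg.Agent.Lib.Classical.RegUnipotentSL
import Cfsg.Agent.S3939

/-!
No group between `PSL_n(q)` and `PGL_n(q)` has a minimal cover by nilpotent subgroups: a nilpotent subgroup
containing a regular unipotent element is a `p`-group, so it lies in a point stabiliser; there are more such
members than points (for `n = 2`: one split-torus member is used besides them).
-/

set_option autoImplicit false
set_option linter.unusedSectionVars false

namespace Cfsg.Agent.Classical.PGLNilpotentCover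

open Matrix

/-- the abstract counting step -/
theorem count_contra {G ι : Type*} [Group G] [Fintype ι] [DecidableEq (Subgroup G)]
    (St : ι → Subgroup G) (hSt : ∀ i, St i ≠ ⊤) (𝓐 X S : Finset (Subgroup G))
    (hprop : ∀ A ∈ 𝓐, A ≠ ⊤)
    (hmin : ∀ 𝓑 : Finset (Subgroup G), (∀ A ∈ 𝓑, A ≠ ⊤) ∧ (∀ g : G, ∃ A ∈ 𝓑, g ∈ A) → 𝓐.card ≤ 𝓑.card)
    (hX : X ⊆ 𝓐) (hS : S ⊆ 𝓐) (hXS : Disjoint X S) (hcard : Fintype.card ι < X.card)
    (hcover : ∀ g : G, (∃ i, g ∈ St i) ∨ ∃ A ∈ S, g ∈ A) : False := by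
  have h := hmin (Finset.univ.image St ∪ S) ⟨fun A hA => ?_, fun g => ?_⟩
  · have h1 := Finset.card_union_le (Finset.univ.image St) S
    have h2 : (Finset.univ.image St).card ≤ Fintype.card ι := Finset.card_image_le
    have h3 := Finset.card_le_card (Finset.union_subset hX hS)
    rw [Finset.card_union_of_disjoint hXS] at h3
    omega
  · rcases Finset.mem_union.1 hA with hA | hA
    · obtain ⟨i, -, rfl⟩ := Finset.mem_image.1 hA
      exact hSt i
    · exact hprop A (hS hA)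
  · rcases hcover g with ⟨i, hi⟩ | ⟨A, hA, hg⟩
    · exact ⟨St i, Finset.mem_union_left _ (Finset.mem_image_of_mem _ (Finset.mem_univ i)), hi⟩
    · exact ⟨A, Finset.mem_union_right _ hA, hg⟩

variable {F : Type*} [Field F] [Fintype F] {n : ℕ}

variable (F n) in
/-- the projection to `PGL` -/
abbrev pr : GL (Fin n) F →* GL (Fin n) F ⧸ Subgroup.center (GL (Fin n) F) :=
  QuotientGroup.mk' (Subgroup.center (GL (Fin n) F))

theorem exists_scalar {M : GL (Fin n) F} (hM : M ∈ Subgroup.center (GL (Fin n) F)) :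
    ∃ c : F, (M : Matrix (Fin n) (Fin n) F) = c • 1 := by
  obtain ⟨c, hc⟩ := Matrix.GeneralLinearGroup.mem_center_iff_val_mem_range_scalar.1 hM
  exact ⟨c, by rw [← hc, Matrix.scalar_apply, Matrix.smul_one_eq_diagonal]⟩

theorem mem_center_of_eq_smul {M : GL (Fin n) F} {c : F} (hM : (M : Matrix (Fin n) (Fin n) F) = c • 1) :
    M ∈ Subgroup.center (GL (Fin n) F) :=
  Matrix.GeneralLinearGroup.mem_center_iff_val_mem_range_scalar.2
    ⟨c, by rw [hM, Matrix.scalar_apply, Matrix.smul_one_eq_diagonal]⟩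

theorem pr_eq_one {M : GL (Fin n) F} {c : F} (hM : (M : Matrix (Fin n) (Fin n) F) = c • 1) : pr F n M = 1 :=
  (QuotientGroup.eq_one_iff _).2 (mem_center_of_eq_smul hM)

/-- the stabiliser of the line through `v` -/
def lineStab (v : Fin n → F) : Subgroup (GL (Fin n) F) where
  carrier := {M | ∃ c : Fˣ, (M : Matrix (Fin n) (Fin n) F) *ᵥ v = (c : F) • v}
  one_mem' := ⟨1, by simp⟩
  mul_mem' := by
    rintro a b ⟨c, hc⟩ ⟨d, hd⟩
    refine ⟨c * d, ?_⟩
    rw [Units.val_mul, ← Matrix.mulVec_mulVec, hd, Matrix.mulVec_smul, hc, smul_smul, Units.val_mul, mul_comm]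
  inv_mem' := by
    rintro a ⟨c, hc⟩
    refine ⟨c⁻¹, ?_⟩
    have h := congrArg (fun u => ((a⁻¹ : GL (Fin n) F) : Matrix (Fin n) (Fin n) F) *ᵥ u) hc
    simp only [Matrix.mulVec_mulVec, Units.inv_mul, Matrix.one_mulVec, Matrix.mulVec_smul] at h
    conv_rhs => rw [h]
    rw [smul_smul, Units.inv_mul, one_smul]

theorem mem_lineStab {v : Fin n → F} (hv : v ≠ 0) {M : GL (Fin n) F} :
    M ∈ lineStab v ↔ ∃ c : F, (M : Matrix (Fin n) (Fin n) F) *ᵥ v = c • v := by
  refine ⟨fun ⟨c, hc⟩ => ⟨c, hc⟩, fun ⟨c, hc⟩ => ?_⟩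
  have hc0 : c ≠ 0 := by
    intro h0
    rw [h0, zero_smul] at hc
    have := congrArg (fun u => ((M⁻¹ : GL (Fin n) F) : Matrix (Fin n) (Fin n) F) *ᵥ u) hc
    simp only [Matrix.mulVec_mulVec, Units.inv_mul, Matrix.one_mulVec, Matrix.mulVec_zero] at this
    exact hv this
  exact ⟨Units.mk0 c hc0, hc⟩

theorem center_le_lineStab (v : Fin n → F) : Subgroup.center (GL (Fin n) F) ≤ lineStab v := by
  intro M hM
  rcases eq_or_ne v 0 with rfl | hv
  · exact ⟨1, by simp⟩
  obtain ⟨c, hc⟩ := exists_scalar hM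
  exact (mem_lineStab hv).2 ⟨c, by rw [hc, Matrix.smul_mulVec, Matrix.one_mulVec]⟩

theorem pr_mem_map {v : Fin n → F} {M : GL (Fin n) F} :
    pr F n M ∈ (lineStab v).map (pr F n) ↔ M ∈ lineStab v := by
  refine ⟨?_, fun h => Subgroup.mem_map_of_mem _ h⟩
  rintro ⟨N, hN, hNM⟩
  have : N⁻¹ * M ∈ Subgroup.center (GL (Fin n) F) := QuotientGroup.eq.1 hNM
  have := (lineStab v).mul_mem hN (center_le_lineStab v this)
  rwa [mul_inv_cancel_left] at this

theorem lineStab_smul {v : Fin n → F} {c : F} (hc : c ≠ 0) : lineStab (c • v) = lineStab v := by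
  ext M
  constructor <;> rintro ⟨d, hd⟩ <;> refine ⟨d, ?_⟩
  · rw [Matrix.mulVec_smul, smul_comm] at hd
    exact smul_right_injective _ hc hd
  · rw [Matrix.mulVec_smul, hd, smul_comm]

/-- a finite `p`-group of matrices in characteristic `p` fixes a non-zero vector -/
theorem exists_fixed_vector {p : ℕ} [Fact p.Prime] [CharP F p] (hn : 0 < n) (P : Subgroup (GL (Fin n) F))
    (hP : IsPGroup p P) :
    ∃ v : Fin n → F, v ≠ 0 ∧ ∀ M ∈ P, ((M : GL (Fin n) F) : Matrix (Fin n) (Fin n) F) *ᵥ v = v := by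
  classical
  letI : MulAction P (Fin n → F) :=
    { smul := fun M v => ((M : GL (Fin n) F) : Matrix (Fin n) (Fin n) F) *ᵥ v
      one_smul := fun v => by
        show (1 : Matrix (Fin n) (Fin n) F) *ᵥ v = v
        rw [Matrix.one_mulVec]
      mul_smul := fun a b v => by
        show (((a * b : P) : GL (Fin n) F) : Matrix (Fin n) (Fin n) F) *ᵥ v = _
        rw [Subgroup.coe_mul, Units.val_mul, ← Matrix.mulVec_mulVec]
        rfl }
  have hdvd : p ∣ Nat.card (Fin n → F) := by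
    obtain ⟨k, hp, hk⟩ := FiniteField.card F p
    rw [Nat.card_eq_fintype_card, Fintype.card_fun, hk, Fintype.card_fin, ← pow_mul]
    exact dvd_pow_self p (Nat.mul_ne_zero k.pos.ne' hn.ne')
  obtain ⟨v, hv, hv0⟩ := hP.exists_fixed_point_of_prime_dvd_card_of_fixed_point (Fin n → F) hdvd
    (a := 0) (fun M => Matrix.mulVec_zero _)
  exact ⟨v, hv0.symm, fun M hM => hv ⟨M, hM⟩⟩

/-- a finite `p`-group of matrices in characteristic `p` fixes a non-zero row vector -/
theorem exists_fixed_row {p : ℕ} [Fact p.Prime] [CharP F p] (hn : 0 < n) (P : Subgroup (GL (Fin n) F))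
    (hP : IsPGroup p P) :
    ∃ w : Fin n → F, w ≠ 0 ∧ ∀ M ∈ P, w ᵥ* ((M : GL (Fin n) F) : Matrix (Fin n) (Fin n) F) = w := by
  let φ : GL (Fin n) F →* GL (Fin n) F :=
    { toFun := fun M => ⟨((M⁻¹ : GL (Fin n) F) : Matrix (Fin n) (Fin n) F)ᵀ, (M : Matrix (Fin n) (Fin n) F)ᵀ,
        by rw [← Matrix.transpose_mul, Units.mul_inv, Matrix.transpose_one],
        by rw [← Matrix.transpose_mul, Units.inv_mul, Matrix.transpose_one]⟩
      map_one' := Units.ext (by simp)
      map_mul' := fun a b => Units.ext (by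
        show ((a * b)⁻¹ : GL (Fin n) F).1ᵀ = (a⁻¹ : GL (Fin n) F).1ᵀ * (b⁻¹ : GL (Fin n) F).1ᵀ
        rw [_root_.mul_inv_rev, Units.val_mul, Matrix.transpose_mul]) }
  obtain ⟨w, hw0, hw⟩ := exists_fixed_vector hn (P.map φ) (hP.map φ)
  refine ⟨w, hw0, fun M hM => ?_⟩
  have h := hw _ (Subgroup.mem_map_of_mem φ (P.inv_mem hM))
  change ((M⁻¹)⁻¹ : GL (Fin n) F).1ᵀ *ᵥ w = w at h
  rwa [inv_inv, Matrix.mulVec_transpose] at h

/-- lifting a `p`-subgroup of `PGL` to a `p`-subgroup of `GL` -/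
theorem exists_lift {p : ℕ} [Fact p.Prime] (A : Subgroup (GL (Fin n) F ⧸ Subgroup.center (GL (Fin n) F)))
    (hA : IsPGroup p A) : ∃ P : Subgroup (GL (Fin n) F), IsPGroup p P ∧ P.map (pr F n) = A := by
  let B := A.comap (pr F n)
  let f : B →* A := (pr F n).subgroupComap A
  have hf : Function.Surjective f := by
    rintro ⟨a, ha⟩
    obtain ⟨M, rfl⟩ := QuotientGroup.mk'_surjective _ a
    exact ⟨⟨M, ha⟩, rfl⟩
  obtain ⟨S⟩ : Nonempty (Sylow p B) := inferInstance
  refine ⟨(S : Subgroup B).map B.subtype, S.isPGroup'.map _, ?_⟩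
  have h1 : ((S.mapSurjective hf : Sylow p A) : Subgroup A) = ⊤ := by
    obtain ⟨T, hT⟩ := IsPGroup.exists_le_sylow (p := p) (G := A) (P := ⊤) (hA.to_subgroup ⊤)
    exact (S.mapSurjective hf).is_maximal' (hA.to_subgroup ⊤) le_top |>.symm
  rw [Sylow.coe_mapSurjective] at h1
  apply le_antisymm
  · rintro _ ⟨_, ⟨b, -, rfl⟩, rfl⟩
    exact b.2
  · intro a ha
    have h2 : (⟨a, ha⟩ : A) ∈ (S : Subgroup B).map f := h1 ▸ Subgroup.mem_top _
    obtain ⟨b, hb, hba⟩ := h2
    exact ⟨b, ⟨b, hb, rfl⟩, congrArg Subtype.val hba⟩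

section regular

variable {p : ℕ} [Fact p.Prime] [CharP F p] {d : ℕ}

open RegUnipotentSL

theorem jor_val : (jor F d).1 = 1 + shiftUp F d := rfl

theorem shift_kernel {v : Fin (d + 1) → F} (hv : shiftUp F d *ᵥ v = 0) : v = v 0 • Pi.single 0 1 := by
  ext i
  induction i using Fin.cases with
  | zero => simp
  | succ i =>
    have h := congrFun hv i.castSucc
    rw [Matrix.mulVec, dotProduct, Finset.sum_eq_single i.succ] at h
    · simp only [shiftUp, Matrix.of_apply, Fin.val_succ, Fin.val_castSucc, if_pos, one_mul, Pi.zero_apply] at h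
      simp [h, Fin.succ_ne_zero]
    · intro b _ hb
      rw [shiftUp, Matrix.of_apply, if_neg (fun e => hb (Fin.ext (by simpa using e))), zero_mul]
    · simp

theorem shift_row_kernel {w : Fin (d + 1) → F} (hw : w ᵥ* shiftUp F d = 0) :
    w = w (Fin.last d) • Pi.single (Fin.last d) 1 := by
  ext i
  induction i using Fin.lastCases with
  | last => simp
  | cast i =>
    have h := congrFun hw i.succ
    rw [Matrix.vecMul, dotProduct, Finset.sum_eq_single i.castSucc] at h
    · simp only [shiftUp, Matrix.of_apply, Fin.val_succ, Fin.val_castSucc, if_pos, mul_one, Pi.zero_apply] at h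
      simp [h, (Fin.castSucc_lt_last i).ne]
    · intro b _ hb
      rw [shiftUp, Matrix.of_apply, if_neg (fun e => hb (Fin.ext (by
        simp only [Fin.val_succ] at e; simp only [Fin.val_castSucc]; omega))), mul_zero]
    · simp

/-- eigenvalues of a unipotent matrix are `1` -/
theorem eigen_one {m : ℕ} {N : Matrix (Fin m) (Fin m) F} (hN : IsNilpotent N) {v : Fin m → F} (hv : v ≠ 0) {c : F}
    (h : (1 + N) *ᵥ v = c • v) : c = 1 := by
  obtain ⟨k, hk⟩ := hN
  have h1 : N *ᵥ v = (c - 1) • v := by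
    rw [Matrix.add_mulVec, Matrix.one_mulVec] at h
    rw [sub_smul, one_smul, ← h, add_sub_cancel_left]
  have h2 : ∀ j : ℕ, (N ^ j) *ᵥ v = (c - 1) ^ j • v := by
    intro j
    induction j with
    | zero => simp
    | succ j ih => rw [pow_succ, ← Matrix.mulVec_mulVec, h1, Matrix.mulVec_smul, ih, smul_smul, pow_succ']
  have h3 := h2 k
  rw [hk, Matrix.zero_mulVec] at h3
  have h4 : (c - 1) ^ k = 0 := (smul_eq_zero.1 h3.symm).resolve_right hv
  exact sub_eq_zero.1 (eq_zero_of_pow_eq_zero h4)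

theorem jor_fixed_line {v : Fin (d + 1) → F} (hv : v ≠ 0) {c : F} (h : (jor F d).1 *ᵥ v = c • v) :
    v = v 0 • Pi.single 0 1 := by
  rw [jor_val] at h
  have hc := eigen_one shiftUp_nilpotent hv h
  rw [hc, one_smul, Matrix.add_mulVec, Matrix.one_mulVec, add_eq_left] at h
  exact shift_kernel h

theorem jor_fixed_row {w : Fin (d + 1) → F} (h : w ᵥ* (jor F d).1 = w) :
    w = w (Fin.last d) • Pi.single (Fin.last d) 1 := by
  rw [jor_val, Matrix.vecMul_add, Matrix.vecMul_one, add_eq_left] at h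
  exact shift_row_kernel h

/-- elements commuting with the regular unipotent modulo scalars have `p`-power order modulo scalars -/
theorem pow_mem_center_of_commute (M : GL (Fin (d + 1)) F)
    (hM : ∃ c : F, (M : Matrix (Fin (d + 1)) (Fin (d + 1)) F) * (jor F d).1 = c • ((jor F d).1 * (M : Matrix (Fin (d + 1)) (Fin (d + 1)) F))) :
    ∃ k : ℕ, pr F (d + 1) M ^ p ^ k = 1 := by
  obtain ⟨c, hc⟩ := hM
  set e : Fin (d + 1) → F := Pi.single 0 1 with he
  have he0 : e ≠ 0 := fun h => one_ne_zero (α := F) (by simpa [he] using congrFun h 0)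
  have hJe : (jor F d).1 *ᵥ e = e := jor_zero
  have hMe0 : (M : Matrix (Fin (d + 1)) (Fin (d + 1)) F) *ᵥ e ≠ 0 := by
    intro h
    have := congrArg (fun u => ((M⁻¹ : GL (Fin (d + 1)) F) : Matrix (Fin (d + 1)) (Fin (d + 1)) F) *ᵥ u) h
    simp only [Matrix.mulVec_mulVec, Units.inv_mul, Matrix.one_mulVec, Matrix.mulVec_zero] at this
    exact he0 this
  have hc0 : c ≠ 0 := by
    intro h0
    rw [h0, zero_smul] at hc
    have h1 := congrArg (fun X => X *ᵥ e) hc
    simp only [← Matrix.mulVec_mulVec, hJe, Matrix.zero_mulVec] at h1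
    exact hMe0 h1
  have h1 : (jor F d).1 *ᵥ ((M : Matrix (Fin (d + 1)) (Fin (d + 1)) F) *ᵥ e) = c⁻¹ • ((M : Matrix (Fin (d + 1)) (Fin (d + 1)) F) *ᵥ e) := by
    have h := congrArg (fun X => X *ᵥ e) hc
    simp only [← Matrix.mulVec_mulVec, hJe, Matrix.smul_mulVec] at h
    conv_rhs => rw [h]
    rw [smul_smul, inv_mul_cancel₀ hc0, one_smul]
  have hc1 : c = 1 := inv_eq_one.1 (eigen_one shiftUp_nilpotent hMe0 (by rw [← jor_val]; exact h1))
  rw [hc1, one_smul] at hc
  set a := ((M : Matrix (Fin (d + 1)) (Fin (d + 1)) F) *ᵥ e) 0 with ha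
  have hMe : (M : Matrix (Fin (d + 1)) (Fin (d + 1)) F) *ᵥ e = a • e := jor_fixed_line hMe0 h1
  set D := (M : Matrix (Fin (d + 1)) (Fin (d + 1)) F) - a • 1 with hD
  have hDe : D *ᵥ e = 0 := by rw [hD, Matrix.sub_mulVec, hMe, Matrix.smul_mulVec, Matrix.one_mulVec, sub_self]
  have hcomm : Commute (shiftUp F d) D := by
    have h2 : Commute ((M : Matrix (Fin (d + 1)) (Fin (d + 1)) F)) (1 + shiftUp F d) := hc
    have h3 : Commute ((M : Matrix (Fin (d + 1)) (Fin (d + 1)) F)) (shiftUp F d) := by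
      have := h2.sub_right (Commute.one_right _)
      rwa [add_sub_cancel_left] at this
    exact (h3.sub_left ((Commute.one_left _).smul_left a)).symm
  -- `D` lowers the kernel filtration of the shift
  have key : ∀ (i : ℕ) (v : Fin (d + 1) → F), (shiftUp F d ^ (i + 1)) *ᵥ v = 0 →
      (shiftUp F d ^ i) *ᵥ (D *ᵥ v) = 0 := by
    intro i v hv
    rw [Matrix.mulVec_mulVec, (hcomm.pow_left i).eq, ← Matrix.mulVec_mulVec]
    have h4 : shiftUp F d *ᵥ ((shiftUp F d ^ i) *ᵥ v) = 0 := by rwa [Matrix.mulVec_mulVec, ← pow_succ']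
    rw [shift_kernel h4, Matrix.mulVec_smul, hDe, smul_zero]
  have hnil : ∀ (i : ℕ) (v : Fin (d + 1) → F), (shiftUp F d ^ i) *ᵥ v = 0 → (D ^ i) *ᵥ v = 0 := by
    intro i
    induction i with
    | zero => intro v hv; simpa using hv
    | succ i ih =>
      intro v hv
      rw [pow_succ, ← Matrix.mulVec_mulVec]
      exact ih _ (key i v hv)
  obtain ⟨m, hm⟩ := (shiftUp_nilpotent : IsNilpotent (shiftUp F d))
  have hDm : D ^ m = 0 := Matrix.toLin'.injective (LinearMap.ext fun v => by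
    rw [Matrix.toLin'_apply, hnil m v (by rw [hm, Matrix.zero_mulVec]), map_zero, LinearMap.zero_apply])
  obtain ⟨k, hk⟩ : ∃ k : ℕ, m ≤ p ^ k := ⟨m, (Nat.lt_pow_self (Fact.out : p.Prime).one_lt).le⟩
  refine ⟨k, ?_⟩
  rw [← map_pow]
  refine pr_eq_one (c := a ^ p ^ k) ?_
  rw [Units.val_pow_eq_pow_val, show (M : Matrix (Fin (d + 1)) (Fin (d + 1)) F) = D + a • 1 by rw [hD]; abel,
    add_pow_char_pow_of_commute _ _ ((Commute.one_right D).smul_right a), pow_eq_zero_of_le hk hDm, zero_add,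
    smul_pow, one_pow]

end regular

end Cfsg.Agent.Classical.PGLNilpotentCover
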