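import Cfsg.Agent.Lib.Classical.PGLNilpotentCover

/-!
No group between `PSL_n(q)` and `PGL_n(q)` has a minimal cover by nilpotent subgroups: the two cases.
-/

set_option autoImplicit false
set_option linter.unusedSectionVars false

namespace Cfsg.Agent.Classical.PGLNilpotentCover

open Matrix RegUnipotentSL
open scoped LinearAlgebra.Projectivization

variable {F : Type*} [Field F] [Fintype F]

theorem exists_move {n : ℕ} {v : Fin n → F} (hv : v ≠ 0) (i : Fin n) :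
    ∃ h : GL (Fin n) F, (h : Matrix (Fin n) (Fin n) F) *ᵥ Pi.single i 1 = v := by
  obtain ⟨j, hj⟩ := Function.ne_iff.1 hv
  simp only [Pi.zero_apply] at hj
  let M : Matrix (Fin n) (Fin n) F := (1 : Matrix (Fin n) (Fin n) F).updateCol j v
  have hdet : M.det ≠ 0 := by
    rw [← Matrix.cramer_apply, Matrix.cramer_one]
    exact hj
  let P : Matrix (Fin n) (Fin n) F := (Equiv.swap i j).permMatrix F
  have hP : P.det ≠ 0 := by
    rw [Matrix.det_permutation]
    rcases Int.units_eq_one_or (Equiv.Perm.sign (Equiv.swap i j)) with h | h <;> simp [h]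
  refine ⟨GeneralLinearGroup.mkOfDetNeZero (M * P) (by rw [Matrix.det_mul]; exact mul_ne_zero hdet hP), ?_⟩
  show (M * P) *ᵥ Pi.single i 1 = v
  rw [← Matrix.mulVec_mulVec, Matrix.mulVec_single_one, show P.col i = Pi.single j 1 from ?_,
    Matrix.mulVec_single_one]
  · ext a
    simp [M, Matrix.updateCol_apply]
  · ext a
    simp only [P, Matrix.col_apply, Equiv.Perm.permMatrix, PEquiv.toMatrix_apply, Equiv.toPEquiv_apply,
      Option.mem_def, Option.some.injEq, Pi.single_apply]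
    congr 1
    rw [Equiv.swap_apply_eq_iff, Equiv.swap_apply_left]

variable {p : ℕ} [Fact p.Prime] [CharP F p] {d : ℕ}
variable (G : Subgroup (GL (Fin (d + 1)) F ⧸ Subgroup.center (GL (Fin (d + 1)) F)))

/-- the stabiliser in `G` of the line through `v` -/
def St (v : Fin (d + 1) → F) : Subgroup ↥G := ((lineStab v).map (pr F (d + 1))).subgroupOf G

theorem mem_St {v : Fin (d + 1) → F} {g : ↥G} {M : GL (Fin (d + 1)) F} (hM : pr F (d + 1) M = g) :
    g ∈ St G v ↔ M ∈ lineStab v := by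
  rw [St, Subgroup.mem_subgroupOf, ← hM, pr_mem_map]

variable (hG : ((Matrix.SpecialLinearGroup.toGL : Matrix.SpecialLinearGroup (Fin (d + 1)) F →* GL (Fin (d + 1)) F).range).map
      (QuotientGroup.mk' (Subgroup.center (GL (Fin (d + 1)) F))) ≤ G)

include hG

theorem pr_mem_of_det {M : GL (Fin (d + 1)) F} (hM : (M : Matrix (Fin (d + 1)) (Fin (d + 1)) F).det = 1) :
    pr F (d + 1) M ∈ G :=
  hG ⟨M, ⟨⟨_, hM⟩, Units.ext rfl⟩, rfl⟩

/-- the image in `G` of a conjugate of the regular unipotent -/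
def reg (h : GL (Fin (d + 1)) F) : ↥G :=
  ⟨pr F (d + 1) (h * Matrix.SpecialLinearGroup.toGL (jor F d) * h⁻¹), pr_mem_of_det G hG (by
    rw [Units.val_mul, Units.val_mul, Matrix.det_units_conj]
    exact (jor F d).2)⟩

theorem reg_fix (h : GL (Fin (d + 1)) F) :
    reg G hG h ∈ St G ((h : Matrix (Fin (d + 1)) (Fin (d + 1)) F) *ᵥ Pi.single 0 1) := by
  rw [mem_St G (M := h * Matrix.SpecialLinearGroup.toGL (jor F d) * h⁻¹) rfl]
  refine ⟨1, ?_⟩
  rw [Units.val_mul, Units.val_mul, ← Matrix.mulVec_mulVec, Matrix.mulVec_mulVec _ (h⁻¹ : GL (Fin (d + 1)) F).1,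
    Units.inv_mul, Matrix.one_mulVec, ← Matrix.mulVec_mulVec, Units.val_one, one_smul]
  exact congrArg _ jor_zero

theorem reg_fix_unique (h : GL (Fin (d + 1)) F) {v : Fin (d + 1) → F} (hv : v ≠ 0) (hm : reg G hG h ∈ St G v) :
    ∃ c : F, c ≠ 0 ∧ v = c • ((h : Matrix (Fin (d + 1)) (Fin (d + 1)) F) *ᵥ Pi.single 0 1) := by
  rw [mem_St G (M := h * Matrix.SpecialLinearGroup.toGL (jor F d) * h⁻¹) rfl, mem_lineStab hv] at hm
  obtain ⟨c, hc⟩ := hm
  have hu : ((h⁻¹ : GL (Fin (d + 1)) F) : Matrix (Fin (d + 1)) (Fin (d + 1)) F) *ᵥ v ≠ 0 := by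
    intro e
    have := congrArg (fun u => (h : Matrix (Fin (d + 1)) (Fin (d + 1)) F) *ᵥ u) e
    simp only [Matrix.mulVec_mulVec, Units.mul_inv, Matrix.one_mulVec, Matrix.mulVec_zero] at this
    exact hv this
  set u := ((h⁻¹ : GL (Fin (d + 1)) F) : Matrix (Fin (d + 1)) (Fin (d + 1)) F) *ᵥ v with hudef
  have h1 : (jor F d).1 *ᵥ u = c • u := by
    have := congrArg (fun w => ((h⁻¹ : GL (Fin (d + 1)) F) : Matrix (Fin (d + 1)) (Fin (d + 1)) F) *ᵥ w) hc
    simp only [Units.val_mul, Matrix.mulVec_smul, Matrix.mulVec_mulVec, ← mul_assoc, Units.inv_mul, one_mul] at this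
    rw [hudef, Matrix.mulVec_mulVec]
    exact this
  have h2 := jor_fixed_line hu h1
  refine ⟨u 0, fun e => hu (by rw [h2, e, zero_smul]), ?_⟩
  rw [← Matrix.mulVec_smul, ← h2, hudef, Matrix.mulVec_mulVec, Units.mul_inv, Matrix.one_mulVec]

variable {A : Subgroup ↥G}

include p

/-- a nilpotent subgroup containing a regular unipotent element is a `p`-group -/
theorem isPGroup_of_reg_mem [Group.IsNilpotent ↥A] (h : GL (Fin (d + 1)) F) (hA : reg G hG h ∈ A) :
    IsPGroup p ↥A := by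
  classical
  rintro ⟨a, ha⟩
  have hord : (orderOf a) ≠ 0 := (orderOf_pos a).ne'
  obtain ⟨k, m, hm, he⟩ := Nat.exists_eq_pow_mul_and_not_dvd hord p (Fact.out : p.Prime).ne_one
  set b := a ^ p ^ k with hb
  have hbm : orderOf b ∣ m := orderOf_dvd_of_pow_eq_one (by rw [hb, ← pow_mul, ← he, pow_orderOf_eq_one])
  -- the regular element has `p`-power order
  obtain ⟨j, hj⟩ : ∃ j, orderOf (reg G hG h) ∣ p ^ j := by
    obtain ⟨j, hj⟩ := pow_mem_center_of_commute (p := p) (Matrix.SpecialLinearGroup.toGL (jor F d))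
      ⟨1, by rw [one_smul]; rfl⟩
    refine ⟨j, orderOf_dvd_of_pow_eq_one (Subtype.ext ?_)⟩
    show (pr F (d + 1) (h * Matrix.SpecialLinearGroup.toGL (jor F d) * h⁻¹)) ^ p ^ j = 1
    rw [map_mul, map_mul, map_inv, conj_pow, hj, mul_one, mul_inv_cancel]
  have hco : (orderOf b).Coprime (orderOf (reg G hG h)) :=
    Nat.Coprime.coprime_dvd_left hbm (Nat.Coprime.coprime_dvd_right hj
      ((((Nat.Prime.coprime_iff_not_dvd (Fact.out : p.Prime)).2 hm).symm).pow_right j))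
  have hcomm : Commute (⟨b, A.pow_mem ha _⟩ : ↥A) ⟨reg G hG h, hA⟩ :=
    Cfsg.Agent.S3939.commute_of_coprime_orders (by rw [← Subgroup.orderOf_coe, ← Subgroup.orderOf_coe (⟨reg G hG h, hA⟩ : ↥A)]; exact hco)
  have hcomm' : b * reg G hG h = reg G hG h * b := congrArg Subtype.val hcomm
  obtain ⟨M, hM⟩ := QuotientGroup.mk'_surjective _ ((b : ↥G) : GL (Fin (d + 1)) F ⧸ Subgroup.center (GL (Fin (d + 1)) F))
  set N := h⁻¹ * M * h with hN
  set J := Matrix.SpecialLinearGroup.toGL (jor F d) with hJ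
  have h1 : pr F (d + 1) (N * J) = pr F (d + 1) (J * N) := by
    have e : pr F (d + 1) (M * (h * J * h⁻¹)) = pr F (d + 1) (h * J * h⁻¹ * M) := by
      rw [map_mul, map_mul _ (h * J * h⁻¹) M, hM]
      exact congrArg Subtype.val hcomm'
    calc pr F (d + 1) (N * J) = pr F (d + 1) (h⁻¹) * pr F (d + 1) (M * (h * J * h⁻¹)) * pr F (d + 1) h := by
          rw [hN, ← map_mul, ← map_mul]; congr 1; group
      _ = pr F (d + 1) (J * N) := by rw [e, hN, ← map_mul, ← map_mul]; congr 1; group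
  have hz : (J * N)⁻¹ * (N * J) ∈ Subgroup.center (GL (Fin (d + 1)) F) := QuotientGroup.eq.1 h1.symm
  obtain ⟨c, hc⟩ := exists_scalar hz
  obtain ⟨i, hi⟩ := pow_mem_center_of_commute (p := p) N ⟨c, by
    have := congrArg (fun X => ((J * N : GL (Fin (d + 1)) F) : Matrix (Fin (d + 1)) (Fin (d + 1)) F) * X) hc
    simp only [← Units.val_mul, mul_inv_cancel_left] at this
    rw [Matrix.mul_smul, mul_one, Units.val_mul, Units.val_mul] at this
    exact this⟩
  have hbp : b ^ p ^ i = 1 := by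
    apply Subtype.ext
    show ((b : ↥G) : GL (Fin (d + 1)) F ⧸ Subgroup.center (GL (Fin (d + 1)) F)) ^ p ^ i = 1
    have hMN : M = h * N * h⁻¹ := by rw [hN]; group
    rw [← hM, hMN]
    show (pr F (d + 1) (h * N * h⁻¹)) ^ p ^ i = 1
    rw [map_mul, map_mul, map_inv, conj_pow, hi, mul_one, mul_inv_cancel]
  have hb1 : b = 1 := by
    rw [← orderOf_eq_one_iff]
    exact Nat.eq_one_of_dvd_coprimes ((((Nat.Prime.coprime_iff_not_dvd (Fact.out : p.Prime)).2 hm).symm).pow_right i)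
      hbm (orderOf_dvd_of_pow_eq_one hbp)
  exact ⟨k, Subtype.ext hb1⟩

theorem exists_point (hA : IsPGroup p ↥A) :
    ∃ v : Fin (d + 1) → F, v ≠ 0 ∧ A ≤ St G v := by
  obtain ⟨P, hP, hPA⟩ := exists_lift (A.map G.subtype) (hA.map _)
  obtain ⟨v, hv, hfix⟩ := exists_fixed_vector (Nat.succ_pos d) P hP
  refine ⟨v, hv, fun a ha => ?_⟩
  obtain ⟨M, hM, hMa⟩ : (a : GL (Fin (d + 1)) F ⧸ Subgroup.center (GL (Fin (d + 1)) F)) ∈ P.map (pr F (d + 1)) :=
    hPA ▸ ⟨a, ha, rfl⟩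
  rw [mem_St G hMa]
  exact ⟨1, by rw [hfix M hM, Units.val_one, one_smul]⟩

/-- the fixed point of a member determines it -/
theorem point_eq [Group.IsNilpotent ↥A] {h h' : GL (Fin (d + 1)) F} (hA : reg G hG h ∈ A) (hA' : reg G hG h' ∈ A) :
    ∃ c : F, c ≠ 0 ∧ (h : Matrix (Fin (d + 1)) (Fin (d + 1)) F) *ᵥ Pi.single 0 1 =
      c • ((h' : Matrix (Fin (d + 1)) (Fin (d + 1)) F) *ᵥ Pi.single 0 1) := by
  obtain ⟨v, hv, hAv⟩ := exists_point (p := p) G hG (isPGroup_of_reg_mem (p := p) G hG h hA)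
  obtain ⟨a, ha, e1⟩ := reg_fix_unique G hG h hv (hAv hA)
  obtain ⟨b, hb, e2⟩ := reg_fix_unique G hG h' hv (hAv hA')
  refine ⟨a⁻¹ * b, mul_ne_zero (inv_ne_zero ha) hb, ?_⟩
  rw [← smul_smul, ← e2, e1, smul_smul, inv_mul_cancel₀ ha, one_smul]

theorem member_le_St [Group.IsNilpotent ↥A] (h : GL (Fin (d + 1)) F) (hA : reg G hG h ∈ A) :
    A ≤ St G ((h : Matrix (Fin (d + 1)) (Fin (d + 1)) F) *ᵥ Pi.single 0 1) := by
  obtain ⟨v, hv, hAv⟩ := exists_point (p := p) G hG (isPGroup_of_reg_mem (p := p) G hG h hA)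
  obtain ⟨a, ha, e1⟩ := reg_fix_unique G hG h hv (hAv hA)
  intro x hx
  have := hAv hx
  rwa [e1, St, lineStab_smul ha] at this

theorem St_ne_top (hd : 1 ≤ d) {v : Fin (d + 1) → F} (hv : v ≠ 0) : St G v ≠ ⊤ := by
  intro htop
  obtain ⟨h, hh⟩ := exists_move (Pi.single_ne_zero_iff.2 (one_ne_zero (α := F)) : (Pi.single (Fin.last d) 1 : Fin (d + 1) → F) ≠ 0) 0
  obtain ⟨a, ha, e1⟩ := reg_fix_unique G hG 1 hv (htop ▸ Subgroup.mem_top _)
  obtain ⟨b, hb, e2⟩ := reg_fix_unique G hG h hv (htop ▸ Subgroup.mem_top _)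
  rw [hh] at e2
  rw [Units.val_one, Matrix.one_mulVec] at e1
  have := congrFun (e1.symm.trans e2) 0
  rw [Pi.smul_apply, Pi.smul_apply, Pi.single_eq_same, Pi.single_eq_of_ne (by
    intro e
    have := congrArg Fin.val e
    simp at this
    omega), smul_zero, smul_eq_mul, mul_one] at this
  exact ha this

/-- a member for every point -/
theorem exists_member (𝓐 : Finset (Subgroup ↥G)) (hcov : ∀ g : ↥G, ∃ A ∈ 𝓐, g ∈ A)
    (hnil : ∀ A ∈ 𝓐, Group.IsNilpotent ↥A) :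
    ∃ f : ℙ F (Fin (d + 1) → F) → Subgroup ↥G, Function.Injective f ∧
      ∀ x, f x ∈ 𝓐 ∧ f x ≤ St G x.rep ∧ IsPGroup p ↥(f x) ∧
        ∃ h : GL (Fin (d + 1)) F, (h : Matrix (Fin (d + 1)) (Fin (d + 1)) F) *ᵥ Pi.single 0 1 = x.rep ∧
          reg G hG h ∈ f x := by
  choose h hh using fun x : ℙ F (Fin (d + 1) → F) => exists_move x.rep_nonzero (0 : Fin (d + 1))
  choose A hA hmem using hcov
  refine ⟨fun x => A (reg G hG (h x)), fun x y hxy => ?_, fun x => ⟨hA _, ?_, ?_, h x, hh x, hmem _⟩⟩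
  · haveI := hnil _ (hA (reg G hG (h x)))
    obtain ⟨c, hc, he⟩ := point_eq (p := p) G hG (A := A (reg G hG (h x))) (hmem _)
      (show reg G hG (h y) ∈ A (reg G hG (h x)) from (show A (reg G hG (h x)) = A (reg G hG (h y)) from hxy) ▸ hmem _)
    rw [hh, hh] at he
    rw [← x.mk_rep, ← y.mk_rep, Projectivization.mk_eq_mk_iff']
    exact ⟨c, he.symm⟩
  · haveI := hnil _ (hA (reg G hG (h x)))
    have := member_le_St (p := p) G hG (A := A (reg G hG (h x))) (h x) (hmem _)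
    rwa [hh] at this
  · haveI := hnil _ (hA (reg G hG (h x)))
    exact isPGroup_of_reg_mem G hG (h x) (hmem _)

/-- **the case `n ≥ 3`** -/
theorem three (hd : 2 ≤ d) (𝓐 : Finset (Subgroup ↥G))
    (h𝓐 : ((∀ A ∈ 𝓐, A ≠ ⊤) ∧ (∀ g : ↥G, ∃ A ∈ 𝓐, g ∈ A)) ∧ (∀ 𝓑 : Finset (Subgroup ↥G), (∀ A ∈ 𝓑, A ≠ ⊤) ∧ (∀ g : ↥G, ∃ A ∈ 𝓑, g ∈ A) → 𝓐.card ≤ 𝓑.card) ∧ (∀ A ∈ 𝓐, Group.IsNilpotent ↥A)) :
    False := by
  classical
  obtain ⟨⟨hprop, hcov⟩, hmin, hnil⟩ := h𝓐
  haveI : Fintype (ℙ F (Fin (d + 1) → F)) := Fintype.ofFinite _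
  obtain ⟨f, hf, hfx⟩ := exists_member (p := p) G hG 𝓐 hcov hnil
  let i1 : Fin (d + 1) := ⟨1, by omega⟩
  have hi : i1 ≠ Fin.last d := fun e => by
    have := congrArg Fin.val e
    simp [i1] at this
    omega
  let T : GL (Fin (d + 1)) F := GeneralLinearGroup.mkOfDetNeZero (Matrix.transvection (Fin.last d) i1 (1 : F))
    (by rw [Matrix.det_transvection_of_ne _ _ hi.symm]; exact one_ne_zero)
  set e : Fin (d + 1) → F := Pi.single 0 1 with he
  have he0 : e ≠ 0 := Pi.single_ne_zero_iff.2 one_ne_zero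
  have hTe : (T : Matrix (Fin (d + 1)) (Fin (d + 1)) F) *ᵥ e = e := by
    show (1 + Matrix.single (Fin.last d) i1 (1 : F)) *ᵥ e = e
    rw [Matrix.add_mulVec, Matrix.one_mulVec, add_eq_left]
    ext a
    simp [he, i1, Matrix.mulVec_single_one, Matrix.single_apply, Fin.ext_iff]
  set x₀ := Projectivization.mk F e he0 with hx₀
  obtain ⟨a, hax⟩ := (Projectivization.exists_smul_eq_mk_rep F e he0)
  -- `h₀` and `h₀ * T'` give the same point and different row lines
  obtain ⟨hA0, -, hP0, h₀, hh₀, hm₀⟩ := hfx x₀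
  haveI := hnil _ hA0
  set y := reg G hG (h₀ * T) with hy
  obtain ⟨B, hB, hyB⟩ := hcov y
  haveI := hnil _ hB
  have hy_ne : y ∉ f x₀ := by
    intro hmem
    obtain ⟨P, hP, hPA⟩ := exists_lift ((f x₀).map G.subtype) (hP0.map _)
    obtain ⟨w, hw, hwfix⟩ := exists_fixed_row (Nat.succ_pos d) P hP
    have row : ∀ h : GL (Fin (d + 1)) F, reg G hG h ∈ f x₀ →
        ∃ c : F, c ≠ 0 ∧ w ᵥ* (h : Matrix (Fin (d + 1)) (Fin (d + 1)) F) = c • Pi.single (Fin.last d) 1 := by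
      intro h hh
      obtain ⟨M, hM, hMe⟩ : pr F (d + 1) (h * Matrix.SpecialLinearGroup.toGL (jor F d) * h⁻¹) ∈ P.map (pr F (d + 1)) :=
        hPA ▸ ⟨_, hh, rfl⟩
      obtain ⟨c, hc⟩ := exists_scalar (QuotientGroup.eq.1 hMe)
      have h1 := congrArg (fun X => (M : Matrix (Fin (d + 1)) (Fin (d + 1)) F) * X) hc
      simp only [← Units.val_mul, mul_inv_cancel_left, Matrix.mul_smul, mul_one] at h1
      rw [Units.val_mul, Units.val_mul] at h1
      set u := w ᵥ* (h : Matrix (Fin (d + 1)) (Fin (d + 1)) F) with hu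
      have hu0 : u ≠ 0 := by
        intro e'
        have h2 := congrArg (fun z => z ᵥ* ((h⁻¹ : GL (Fin (d + 1)) F) : Matrix (Fin (d + 1)) (Fin (d + 1)) F)) e'
        simp only [hu, Matrix.vecMul_vecMul, Units.mul_inv, Matrix.vecMul_one, Matrix.zero_vecMul] at h2
        exact hw h2
      have h2 : u ᵥ* (jor F d).1 = c • u := by
        have h3 := congrArg (fun X => w ᵥ* X) h1
        rw [Matrix.vecMul_smul, hwfix M hM] at h3
        have h4 := congrArg (fun z => z ᵥ* (h : Matrix (Fin (d + 1)) (Fin (d + 1)) F)) h3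
        simp only [Matrix.vecMul_vecMul, Matrix.smul_vecMul, mul_assoc, Units.inv_mul, mul_one] at h4
        rw [hu, Matrix.vecMul_vecMul]
        exact h4
      have h3 : c = 1 := by
        refine eigen_one (N := (shiftUp F d)ᵀ) ?_ hu0 ?_
        · obtain ⟨k, hk⟩ := (shiftUp_nilpotent : IsNilpotent (shiftUp F d))
          exact ⟨k, by rw [← Matrix.transpose_pow, hk, Matrix.transpose_zero]⟩
        · rw [← Matrix.transpose_one, ← Matrix.transpose_add, Matrix.mulVec_transpose, ← jor_val, h2]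
      rw [h3, one_smul] at h2
      have h5 := jor_fixed_row h2
      exact ⟨u (Fin.last d), fun e' => hu0 (by rw [h5, e', zero_smul]), h5⟩
    obtain ⟨c, hc, e1⟩ := row h₀ hm₀
    obtain ⟨c', hc', e2⟩ := row (h₀ * T) hmem
    rw [Units.val_mul, ← Matrix.vecMul_vecMul, e1, Matrix.smul_vecMul] at e2
    have e3 := congrFun e2 i1
    change c * (Pi.single (Fin.last d) (1 : F) ᵥ* (1 + Matrix.single (Fin.last d) i1 (1 : F))) i1 =
      c' * (Pi.single (Fin.last d) (1 : F) : Fin (d + 1) → F) i1 at e3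
    rw [Matrix.vecMul_add, Matrix.vecMul_one] at e3
    simp [hi, Matrix.single_one_vecMul, Matrix.single_apply] at e3
    exact hc e3
  have hBne : ∀ x, f x ≠ B := by
    intro x hx
    haveI := hnil _ (hfx x).1
    obtain ⟨-, -, -, h, hh, hm⟩ := hfx x
    obtain ⟨c, hc, he'⟩ := point_eq (p := p) G hG (A := f x) hm (hx ▸ hyB : y ∈ f x)
    rw [hh, Units.val_mul, ← Matrix.mulVec_mulVec, ← he, hTe, he, hh₀] at he'
    have : x = x₀ := by
      rw [← x.mk_rep, ← x₀.mk_rep, Projectivization.mk_eq_mk_iff']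
      exact ⟨c, he'.symm⟩
    subst this
    exact hy_ne (hx ▸ hyB)
  refine count_contra (fun x : ℙ F (Fin (d + 1) → F) => St G x.rep) (fun x => St_ne_top (p := p) G hG (by omega) x.rep_nonzero)
    𝓐 (insert B (Finset.univ.image f)) (𝓐 \ insert B (Finset.univ.image f)) hprop hmin ?_ Finset.sdiff_subset
    Finset.disjoint_sdiff ?_ ?_
  · intro A hA
    rcases Finset.mem_insert.1 hA with rfl | hA
    · exact hB
    · obtain ⟨x, -, rfl⟩ := Finset.mem_image.1 hA
      exact (hfx x).1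
  · rw [Finset.card_insert_of_notMem (fun h => by
      obtain ⟨x, -, hx⟩ := Finset.mem_image.1 h
      exact hBne x hx), Finset.card_image_of_injective _ hf, Finset.card_univ]
    exact Nat.lt_succ_self _
  · intro g
    obtain ⟨A, hA, hg⟩ := hcov g
    by_cases hAX : A ∈ insert B (Finset.univ.image f)
    · left
      rcases Finset.mem_insert.1 hAX with rfl | hAX
      · refine ⟨x₀, ?_⟩
        have := member_le_St (p := p) G hG (A := A) (h₀ * T) hyB hg
        rwa [Units.val_mul, ← Matrix.mulVec_mulVec, ← he, hTe, he, hh₀] at this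
      · obtain ⟨x, -, rfl⟩ := Finset.mem_image.1 hAX
        exact ⟨x, (hfx x).2.1 hg⟩
    · exact Or.inr ⟨A, Finset.mem_sdiff.2 ⟨hA, hAX⟩, hg⟩

end Cfsg.Agent.Classical.PGLNilpotentCover
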