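import Cfsg.Agent.Lib.Classical.PGLNilpotentCoverMain

/-!
The case `n = 2`: the elements without fixed points lie in non-split tori, and one split-torus element needs a
member of its own.
-/

set_option autoImplicit false
set_option linter.unusedSectionVars false

namespace Cfsg.Agent.Classical.PGLNilpotentCover

open Matrix RegUnipotentSL
open scoped LinearAlgebra.Projectivization

variable {F : Type*} [Field F] [Fintype F]
variable (G : Subgroup (GL (Fin 2) F ⧸ Subgroup.center (GL (Fin 2) F)))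
variable (hG : ((Matrix.SpecialLinearGroup.toGL : Matrix.SpecialLinearGroup (Fin 2) F →* GL (Fin 2) F).range).map
      (QuotientGroup.mk' (Subgroup.center (GL (Fin 2) F))) ≤ G)

/-- `g` moves every point -/
def Moves (g : ↥G) : Prop := ∀ v : Fin 2 → F, v ≠ 0 → g ∉ St G (d := 1) v

include hG in
theorem sq_mem (N : GL (Fin 2) F) : pr F 2 N ^ 2 ∈ G := by
  have hd : (N : Matrix (Fin 2) (Fin 2) F).det ≠ 0 := (Matrix.GeneralLinearGroup.det N).ne_zero
  set a := (N : Matrix (Fin 2) (Fin 2) F).det with ha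
  let z : GL (Fin 2) F := Units.map (algebraMap F (Matrix (Fin 2) (Fin 2) F)).toMonoidHom (Units.mk0 a⁻¹ (inv_ne_zero hd))
  have hz : (z : Matrix (Fin 2) (Fin 2) F) = a⁻¹ • 1 := by simp [z, Algebra.algebraMap_eq_smul_one]
  have h := pr_mem_of_det (d := 1) G hG (M := z * (N * N)) (by
    rw [Units.val_mul, Units.val_mul, hz, Matrix.smul_mul, one_mul, Matrix.det_smul, Matrix.det_mul, ← ha,
      Fintype.card_fin, ← pow_two, ← mul_pow, inv_mul_cancel₀ hd, one_pow])
  rw [map_mul, pr_eq_one hz, one_mul, map_mul, ← pow_two] at h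
  exact h

include hG in
/-- a fixed-point-free element is a power of a torus element -/
theorem exists_torus_elem (g : ↥G) (hg : Moves G g) :
    ∃ s : ↥G, g ∈ Subgroup.zpowers s ∧ orderOf s ∣ Fintype.card F + 1 ∧
      (4 ≤ Fintype.card F → s ^ 2 ≠ 1) ∧
      (∀ r : ℕ, r.Prime → r ≠ 2 → r ∣ Fintype.card F + 1 → r ∣ orderOf s) ∧
      ∀ y ∈ Subgroup.zpowers s, y ≠ 1 → Moves G y := by
  classical
  set q := Fintype.card F with hq
  have hq2 : 2 ≤ q := Fintype.one_lt_card
  obtain ⟨M, hM⟩ := QuotientGroup.mk'_surjective _ (g : GL (Fin 2) F ⧸ Subgroup.center (GL (Fin 2) F))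
  set Mm : Matrix (Fin 2) (Fin 2) F := (M : Matrix (Fin 2) (Fin 2) F) with hMm
  have hmon := Matrix.charpoly_monic Mm
  have hdeg : Mm.charpoly.natDegree = 2 := by simp [Matrix.charpoly_natDegree_eq_dim]
  have hirr : Irreducible Mm.charpoly := by
    rw [hmon.irreducible_iff_roots_eq_zero_of_degree_le_three (by omega) (by omega)]
    refine Multiset.eq_zero_of_forall_notMem fun c hc => ?_
    rw [Polynomial.mem_roots hmon.ne_zero, Polynomial.IsRoot.def, Matrix.eval_charpoly] at hc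
    obtain ⟨v, hv, hv'⟩ := Matrix.exists_mulVec_eq_zero_iff.2 hc
    refine hg v hv ((mem_St (d := 1) G hM).2 ((mem_lineStab hv).2 ⟨c, ?_⟩))
    rw [Matrix.sub_mulVec, sub_eq_zero, Matrix.scalar_apply, ← Matrix.smul_one_eq_diagonal, Matrix.smul_mulVec,
      Matrix.one_mulVec] at hv'
    exact hv'.symm
  haveI : Fact (Irreducible Mm.charpoly) := ⟨hirr⟩
  haveI : Module.Finite F (AdjoinRoot Mm.charpoly) := (AdjoinRoot.powerBasis hirr.ne_zero).finite
  haveI : Finite (AdjoinRoot Mm.charpoly) := Module.finite_of_finite F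
  have hcardK : Nat.card (AdjoinRoot Mm.charpoly) = q ^ 2 := by
    rw [Module.natCard_eq_pow_finrank (K := F), Nat.card_eq_fintype_card,
      (AdjoinRoot.powerBasis hirr.ne_zero).finrank, AdjoinRoot.powerBasis_dim, hdeg]
  let φ : AdjoinRoot Mm.charpoly →+* Matrix (Fin 2) (Fin 2) F :=
    Ideal.Quotient.lift _ (Polynomial.aeval Mm).toRingHom (fun a ha => by
      obtain ⟨b, rfl⟩ := Ideal.mem_span_singleton'.1 ha
      simp [Matrix.aeval_self_charpoly])
  have hφc : ∀ c : F, φ (algebraMap F _ c) = c • 1 := fun c => by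
    show Polynomial.aeval Mm (Polynomial.C c) = _
    rw [Polynomial.aeval_C, Algebra.algebraMap_eq_smul_one]
  have hφr : φ (AdjoinRoot.root _) = Mm := by
    show Polynomial.aeval Mm Polynomial.X = _
    rw [Polynomial.aeval_X]
  let θ : (AdjoinRoot Mm.charpoly)ˣ →* GL (Fin 2) F ⧸ Subgroup.center (GL (Fin 2) F) :=
    (pr F 2).comp (Units.map φ.toMonoidHom)
  have hscal : ∀ (k : (AdjoinRoot Mm.charpoly)ˣ) (c : F), (k : AdjoinRoot Mm.charpoly) = algebraMap F _ c → θ k = 1 :=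
    fun k c hk => pr_eq_one (c := c) (by
      show φ (k : AdjoinRoot Mm.charpoly) = _
      rw [hk, hφc])
  have hfix : ∀ (k : (AdjoinRoot Mm.charpoly)ˣ) (v : Fin 2 → F), v ≠ 0 →
      θ k ∈ (lineStab v).map (pr F 2) → θ k = 1 := by
    intro k v hv hk
    obtain ⟨c, hc⟩ := (mem_lineStab hv).1 (pr_mem_map.1 hk)
    refine hscal k c (by_contra fun hne => ?_)
    obtain ⟨u, hu⟩ := isUnit_iff_ne_zero.2 (sub_ne_zero.2 hne)
    have h1 : φ (u : AdjoinRoot Mm.charpoly) *ᵥ v = 0 := by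
      rw [hu, map_sub, hφc, Matrix.sub_mulVec, Matrix.smul_mulVec, Matrix.one_mulVec, sub_eq_zero]
      exact hc
    have h2 := congrArg (fun w => φ ((u⁻¹ : (AdjoinRoot Mm.charpoly)ˣ) : AdjoinRoot Mm.charpoly) *ᵥ w) h1
    simp only [Matrix.mulVec_mulVec, ← map_mul, Units.inv_mul, map_one, Matrix.one_mulVec, Matrix.mulVec_zero] at h2
    exact hv h2
  have hcardU : Nat.card (AdjoinRoot Mm.charpoly)ˣ = q ^ 2 - 1 := by rw [Nat.card_units, hcardK]
  haveI : IsCyclic (AdjoinRoot Mm.charpoly)ˣ := inferInstance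
  have hkill : ∀ k : (AdjoinRoot Mm.charpoly)ˣ, θ k ^ (q + 1) = 1 := by
    intro k
    rw [← map_pow]
    have hx : (k ^ (q + 1)) ^ (q - 1) = 1 := by
      have e : (q + 1) * (q - 1) = q ^ 2 - 1 := by
        have h1 : q ^ 2 - 1 = q ^ 2 - 1 ^ 2 := by rw [one_pow]
        rw [h1, Nat.sq_sub_sq]
      rw [← pow_mul, e, ← hcardU, pow_card_eq_one']
    letI : Fintype (AdjoinRoot Mm.charpoly) := Fintype.ofFinite _
    let ι : Fˣ → (AdjoinRoot Mm.charpoly)ˣ := Units.map (algebraMap F (AdjoinRoot Mm.charpoly)).toMonoidHom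
    have hι : Function.Injective ι :=
      Units.map_injective (algebraMap F (AdjoinRoot Mm.charpoly)).injective
    have hsub : Finset.univ.image ι ⊆ Finset.univ.filter fun x : (AdjoinRoot Mm.charpoly)ˣ => x ^ (q - 1) = 1 := by
      intro x hx'
      obtain ⟨c, -, rfl⟩ := Finset.mem_image.1 hx'
      refine Finset.mem_filter.2 ⟨Finset.mem_univ _, Units.ext ?_⟩
      show (algebraMap F (AdjoinRoot Mm.charpoly) (c : F)) ^ (q - 1) = 1
      rw [← map_pow, FiniteField.pow_card_sub_one_eq_one _ c.ne_zero, map_one]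
    have heq := Finset.eq_of_subset_of_card_le hsub (by
      rw [Finset.card_image_of_injective _ hι, Finset.card_univ, Fintype.card_units]
      exact IsCyclic.card_pow_eq_one_le (by omega))
    have hmem : k ^ (q + 1) ∈ Finset.univ.image ι := heq ▸ Finset.mem_filter.2 ⟨Finset.mem_univ _, hx⟩
    obtain ⟨c, -, hc⟩ := Finset.mem_image.1 hmem
    exact hscal _ (c : F) (by rw [← hc]; rfl)
  -- the torus inside `G`
  obtain ⟨⟨z₀, hz₀⟩, hgen⟩ := (inferInstance : IsCyclic ↥(G.comap θ)).exists_generator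
  let s : ↥G := ⟨θ z₀, hz₀⟩
  have hpow : ∀ k, θ k ∈ G → ∃ i : ℤ, θ k = ((s ^ i : ↥G) : GL (Fin 2) F ⧸ Subgroup.center (GL (Fin 2) F)) := by
    intro k hk
    obtain ⟨i, hi⟩ := hgen ⟨k, hk⟩
    refine ⟨i, ?_⟩
    have : z₀ ^ i = k := congrArg Subtype.val hi
    rw [← this, map_zpow, Subgroup.coe_zpow]
  have hroot : (AdjoinRoot.root Mm.charpoly) ≠ 0 := by
    intro h0
    have h1 : Mm = 0 := by rw [← hφr, h0, map_zero]
    have h2 := (Matrix.GeneralLinearGroup.det M).ne_zero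
    exact h2 (by show Mm.det = 0; simp [h1])
  have hg' : θ (Units.mk0 _ hroot) = (g : GL (Fin 2) F ⧸ Subgroup.center (GL (Fin 2) F)) := by
    rw [← hM]
    exact congrArg (pr F 2) (Units.ext hφr)
  refine ⟨s, ?_, ?_, fun hq4 hs2 => ?_, fun r hr hr2 hrq => ?_, ?_⟩
  · obtain ⟨i, hi⟩ := hpow (Units.mk0 _ hroot) (hg' ▸ g.2)
    exact ⟨i, Subtype.ext (hi.symm.trans hg')⟩
  · refine orderOf_dvd_of_pow_eq_one (Subtype.ext ?_)
    exact hkill z₀
  · obtain ⟨z, hz⟩ := IsCyclic.exists_generator (α := (AdjoinRoot Mm.charpoly)ˣ)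
    obtain ⟨i, hi⟩ := hpow (z ^ 2) (by rw [map_pow]; exact sq_mem G hG _)
    have h4 : θ (z ^ 4) = 1 := by
      rw [show (z ^ 4) = (z ^ 2) ^ 2 by rw [← pow_mul], map_pow, hi, ← Subgroup.coe_pow, ← zpow_natCast, ← _root_.zpow_mul,
        mul_comm, _root_.zpow_mul, zpow_natCast, hs2, _root_.one_zpow, Subgroup.coe_one]
    -- an element killed by `θ` is a scalar
    obtain ⟨c, hc⟩ := exists_scalar ((QuotientGroup.eq_one_iff _).1 h4)
    have hzc : ((z ^ 4 : (AdjoinRoot Mm.charpoly)ˣ) : AdjoinRoot Mm.charpoly) = algebraMap F _ c :=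
      φ.injective (by rw [hφc]; exact hc)
    have hc0 : c ≠ 0 := by
      intro h0
      rw [h0, map_zero] at hzc
      exact Units.ne_zero _ hzc
    have h5 : z ^ (4 * (q - 1)) = 1 := by
      refine Units.ext ?_
      rw [pow_mul, Units.val_pow_eq_pow_val, hzc, ← map_pow, FiniteField.pow_card_sub_one_eq_one _ hc0, map_one,
        Units.val_one]
    have h6 := orderOf_dvd_of_pow_eq_one h5
    rw [orderOf_eq_card_of_forall_mem_zpowers hz, hcardU,
      show q ^ 2 - 1 = (q + 1) * (q - 1) by rw [← Nat.sq_sub_sq, one_pow]] at h6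
    have h7 := Nat.le_of_dvd (by norm_num) (Nat.dvd_of_mul_dvd_mul_right (show 0 < q - 1 by omega) h6)
    omega
  · haveI : Fact r.Prime := ⟨hr⟩
    obtain ⟨k, hk⟩ := exists_prime_orderOf_dvd_card' r (show r ∣ Nat.card (AdjoinRoot Mm.charpoly)ˣ by
      rw [hcardU, show q ^ 2 - 1 = (q + 1) * (q - 1) by rw [← Nat.sq_sub_sq, one_pow]]
      exact hrq.mul_right _)
    have hk1 : θ k ≠ 1 := by
      intro h1
      obtain ⟨c, hc⟩ := exists_scalar ((QuotientGroup.eq_one_iff _).1 h1)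
      have hkc : (k : AdjoinRoot Mm.charpoly) = algebraMap F _ c := φ.injective (by rw [hφc]; exact hc)
      have hc0 : c ≠ 0 := by
        intro h0
        rw [h0, map_zero] at hkc
        exact Units.ne_zero _ hkc
      have h5 : k ^ (q - 1) = 1 := by
        refine Units.ext ?_
        rw [Units.val_pow_eq_pow_val, hkc, ← map_pow, FiniteField.pow_card_sub_one_eq_one _ hc0, map_one,
          Units.val_one]
      have h6 := orderOf_dvd_of_pow_eq_one h5
      rw [hk] at h6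
      have h7 : r ∣ 2 := by
        have := Nat.dvd_sub hrq h6
        rwa [show q + 1 - (q - 1) = 2 by omega] at this
      exact hr2 ((Nat.prime_dvd_prime_iff_eq hr Nat.prime_two).1 h7)
    have hkord : orderOf (θ k) = r :=
      orderOf_eq_prime (by rw [← map_pow, ← hk, pow_orderOf_eq_one, map_one]) hk1
    obtain ⟨j, hj⟩ := hr.odd_of_ne_two hr2
    have hkG : θ k ∈ G := by
      have : θ k = θ (k ^ (j + 1)) ^ 2 := by
        rw [← map_pow, ← pow_mul, show (j + 1) * 2 = r + 1 by omega, pow_succ, ← hk, pow_orderOf_eq_one, one_mul]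
      rw [this]
      exact sq_mem G hG _
    obtain ⟨i, hi⟩ := hpow k hkG
    rw [← hkord, hi, Subgroup.orderOf_coe]
    exact orderOf_dvd_of_mem_zpowers ⟨i, rfl⟩
  · rintro _ ⟨i, rfl⟩ hy v hv hmem
    refine hy (Subtype.ext ?_)
    show ((s ^ i : ↥G) : GL (Fin 2) F ⧸ Subgroup.center (GL (Fin 2) F)) = 1
    rw [Subgroup.coe_zpow]
    have h1 := Subgroup.mem_subgroupOf.1 hmem
    rw [Subgroup.coe_zpow] at h1
    change θ z₀ ^ i = 1
    change θ z₀ ^ i ∈ _ at h1
    rw [← map_zpow] at h1 ⊢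
    exact hfix _ v hv h1

set_option maxHeartbeats 1000000 in
include hG in
/-- **the case `n = 2`** -/
theorem two {p : ℕ} [Fact p.Prime] [CharP F p] (hq : 4 ≤ Fintype.card F) (𝓐 : Finset (Subgroup ↥G))
    (h𝓐 : ((∀ A ∈ 𝓐, A ≠ ⊤) ∧ (∀ g : ↥G, ∃ A ∈ 𝓐, g ∈ A)) ∧ (∀ 𝓑 : Finset (Subgroup ↥G), (∀ A ∈ 𝓑, A ≠ ⊤) ∧ (∀ g : ↥G, ∃ A ∈ 𝓑, g ∈ A) → 𝓐.card ≤ 𝓑.card) ∧ (∀ A ∈ 𝓐, Group.IsNilpotent ↥A)) :
    False := by
  classical
  obtain ⟨⟨hprop, hcov⟩, hmin, hnil⟩ := h𝓐
  haveI : Fintype (ℙ F (Fin 2 → F)) := Fintype.ofFinite _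
  obtain ⟨f, hf, hfx⟩ := exists_member (p := p) (d := 1) G hG 𝓐 hcov hnil
  set q := Fintype.card F with hqdef
  -- an odd prime divisor
  obtain ⟨r, hr, hr2, hrq⟩ : ∃ r : ℕ, r.Prime ∧ r ≠ 2 ∧ (r ∣ q + 1 ∨ r ∣ q - 1) := by
    by_contra hcon
    push Not at hcon
    have pow2 : ∀ m : ℕ, m ≠ 0 → (∀ r : ℕ, r.Prime → r ∣ m → r = 2) → ∃ a, m = 2 ^ a := fun m hm h =>
      ⟨m.primeFactorsList.length, Nat.eq_prime_pow_of_unique_prime_dvd hm fun hd hdm => h _ hd hdm⟩
    obtain ⟨a, ha⟩ := pow2 (q + 1) (by omega) fun r hr hrd => by_contra fun h2 => (hcon r hr h2).1 hrd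
    obtain ⟨b, hb⟩ := pow2 (q - 1) (by omega) fun r hr hrd => by_contra fun h2 => (hcon r hr h2).2 hrd
    have hb2 : 2 ≤ b := by
      by_contra h
      have : 2 ^ b ≤ 2 := by
        calc 2 ^ b ≤ 2 ^ 1 := Nat.pow_le_pow_right (by norm_num) (by omega)
          _ = 2 := pow_one 2
      omega
    have hba : b < a := (Nat.pow_lt_pow_iff_right (by norm_num : 1 < 2)).1 (by omega : 2 ^ b < 2 ^ a)
    have h4a : 2 ^ 2 ∣ 2 ^ a := pow_dvd_pow 2 (by omega)
    have h4b : 2 ^ 2 ∣ 2 ^ b := pow_dvd_pow 2 hb2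
    have h4 := Nat.dvd_sub h4a h4b
    rw [← ha, ← hb, show q + 1 - (q - 1) = 2 by omega] at h4
    exact absurd (Nat.le_of_dvd (by norm_num) h4) (by norm_num)
  -- the split element
  obtain ⟨a, ha2, hao⟩ : ∃ a : Fˣ, a ^ 2 ≠ 1 ∧ (r ∣ q + 1 ∨ orderOf a = r) := by
    haveI : Fact r.Prime := ⟨hr⟩
    rcases hrq with h | h
    · obtain ⟨a, ha⟩ := IsCyclic.exists_generator (α := Fˣ)
      refine ⟨a, fun h2 => ?_, Or.inl h⟩
      have h1 := Nat.le_of_dvd (by norm_num) (orderOf_dvd_of_pow_eq_one h2)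
      rw [orderOf_eq_card_of_forall_mem_zpowers ha, Nat.card_eq_fintype_card, Fintype.card_units] at h1
      omega
    · obtain ⟨a, ha⟩ := exists_prime_orderOf_dvd_card' r (show r ∣ Nat.card Fˣ by
        rw [Nat.card_eq_fintype_card, Fintype.card_units]; exact h)
      refine ⟨a, fun h2 => hr2 ((Nat.prime_dvd_prime_iff_eq hr Nat.prime_two).1 ?_), Or.inr ha⟩
      rw [← ha]
      exact orderOf_dvd_of_pow_eq_one h2
  let T : GL (Fin 2) F := GeneralLinearGroup.mkOfDetNeZero !![(a : F), 0; 0, ((a⁻¹ : Fˣ) : F)]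
    (by simp [Matrix.det_fin_two])
  let t : ↥G := ⟨pr F 2 T, pr_mem_of_det (d := 1) G hG (by
    show (!![(a : F), 0; 0, ((a⁻¹ : Fˣ) : F)] : Matrix (Fin 2) (Fin 2) F).det = 1
    simp [Matrix.det_fin_two])⟩
  have hTv : ∀ v : Fin 2 → F, (T : Matrix (Fin 2) (Fin 2) F) *ᵥ v = ![(a : F) * v 0, ((a⁻¹ : Fˣ) : F) * v 1] := by
    intro v
    show (!![(a : F), 0; 0, ((a⁻¹ : Fˣ) : F)] : Matrix (Fin 2) (Fin 2) F) *ᵥ v = _
    ext i
    fin_cases i <;> simp [Matrix.mulVec, dotProduct]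
  have hTpow : ∀ k : ℕ, a ^ k = 1 → t ^ k = 1 := by
    intro k hk
    apply Subtype.ext
    show pr F 2 T ^ k = 1
    have hT : (T : Matrix (Fin 2) (Fin 2) F) = Matrix.diagonal ![(a : F), ((a⁻¹ : Fˣ) : F)] := by
      ext i j
      fin_cases i <;> fin_cases j <;> simp [T]
    have hTk : T ^ k = 1 := Units.ext (by
      rw [Units.val_pow_eq_pow_val, hT, Matrix.diagonal_pow, Units.val_one, ← Matrix.diagonal_one]
      congr 1
      funext i
      fin_cases i
      · simp [← Units.val_pow_eq_pow_val, hk]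
      · simp [← Units.val_pow_eq_pow_val, inv_pow, hk])
    rw [← map_pow, hTk, map_one]
  have hto : orderOf t ∣ orderOf a := orderOf_dvd_of_pow_eq_one (hTpow _ (pow_orderOf_eq_one a))
  have haq : orderOf a ∣ q - 1 := by
    rw [hqdef, ← Fintype.card_units, ← Nat.card_eq_fintype_card]
    exact orderOf_dvd_natCard a
  have hane : (a : F) ≠ ((a⁻¹ : Fˣ) : F) := fun e => ha2 (by
    rw [pow_two]; nth_rewrite 2 [Units.ext e]; exact mul_inv_cancel a)
  have ht1 : t ≠ 1 := by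
    intro h
    have h1 : pr F 2 T = 1 := congrArg Subtype.val h
    obtain ⟨c, hc⟩ := exists_scalar ((QuotientGroup.eq_one_iff _).1 h1)
    have h00 := congrFun (congrFun hc 0) 0
    have h11 := congrFun (congrFun hc 1) 1
    simp [T] at h00 h11
    exact hane (by rw [h00]; simpa using h11.symm)
  obtain ⟨At, hAt, htAt⟩ := hcov t
  -- no member contains `t` and a torus element
  have hincomp : ∀ s : ↥G, orderOf s ∣ q + 1 → s ^ 2 ≠ 1 → (r ∣ q + 1 → r ∣ orderOf s) →
      (∀ y ∈ Subgroup.zpowers s, y ≠ 1 → Moves G y) → s ∉ At := by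
    intro s hso hs2 hrs hmv hs
    obtain ⟨y, hys, hy2, hyco⟩ : ∃ y ∈ Subgroup.zpowers s, y ^ 2 ≠ 1 ∧ (orderOf y).Coprime (orderOf t) := by
      have hco2 : ∀ m : ℕ, m.Prime → m ∣ q + 1 → m ∣ q - 1 → m = 2 := by
        intro m hm h1 h2
        have := Nat.dvd_sub h1 h2
        rw [show q + 1 - (q - 1) = 2 by omega] at this
        exact (Nat.prime_dvd_prime_iff_eq hm Nat.prime_two).1 this
      by_cases hrp : r ∣ q + 1
      · refine ⟨s ^ (orderOf s / r), Subgroup.npow_mem_zpowers s _, ?_, ?_⟩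
        · intro h
          have hy : orderOf (s ^ (orderOf s / r)) = r := orderOf_pow_orderOf_div (orderOf_pos s).ne' (hrs hrp)
          have := orderOf_dvd_of_pow_eq_one h
          rw [hy] at this
          exact hr2 ((Nat.prime_dvd_prime_iff_eq hr Nat.prime_two).1 this)
        · rw [orderOf_pow_orderOf_div (orderOf_pos s).ne' (hrs hrp), hr.coprime_iff_not_dvd]
          exact fun h => hr2 (hco2 r hr hrp ((h.trans hto).trans haq))
      · refine ⟨s, Subgroup.mem_zpowers s, hs2, ?_⟩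
        have h1 : orderOf a = r := hao.resolve_left hrp
        exact ((hr.coprime_iff_not_dvd.2 fun h => hrp (h.trans hso)).coprime_dvd_left (h1 ▸ hto)).symm
    haveI := hnil At hAt
    have hyA : y ∈ At := (Subgroup.zpowers_le.2 hs) hys
    have hcomm : Commute (⟨y, hyA⟩ : ↥At) ⟨t, htAt⟩ :=
      Cfsg.Agent.S3939.commute_of_coprime_orders (by
        rw [← Subgroup.orderOf_coe, ← Subgroup.orderOf_coe (⟨t, htAt⟩ : ↥At)]; exact hyco)
    obtain ⟨Y, hY⟩ := QuotientGroup.mk'_surjective _ (y : GL (Fin 2) F ⧸ Subgroup.center (GL (Fin 2) F))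
    have h1 : pr F 2 (Y * T) = pr F 2 (T * Y) := by
      rw [map_mul, map_mul, hY]
      exact congrArg (fun x : ↥At => (((x : ↥G)) : GL (Fin 2) F ⧸ Subgroup.center (GL (Fin 2) F))) hcomm
    obtain ⟨c, hc⟩ := exists_scalar (QuotientGroup.eq.1 h1)
    have h2 := congrArg (fun X => ((Y * T : GL (Fin 2) F) : Matrix (Fin 2) (Fin 2) F) * X) hc
    simp only [← Units.val_mul, mul_inv_cancel_left, Matrix.mul_smul, mul_one] at h2
    rw [Units.val_mul, Units.val_mul] at h2
    have hy1 : y ≠ 1 := fun h => hy2 (by rw [h, one_pow])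
    have key : ∀ (i j : Fin 2), i ≠ j → ((Y : Matrix (Fin 2) (Fin 2) F) *ᵥ Pi.single i 1) i = 0 := by
      intro i j hij
      by_contra hne
      set u := (Y : Matrix (Fin 2) (Fin 2) F) *ᵥ Pi.single i 1 with hu
      obtain ⟨μ, hμ⟩ : ∃ μ : F, (T : Matrix (Fin 2) (Fin 2) F) *ᵥ u = μ • u := by
        refine ⟨c * (![(a : F), ((a⁻¹ : Fˣ) : F)] i), ?_⟩
        rw [hu, Matrix.mulVec_mulVec, h2, Matrix.smul_mulVec, ← Matrix.mulVec_mulVec, hTv, mul_smul,
          ← Matrix.mulVec_smul _ (![(a : F), ((a⁻¹ : Fˣ) : F)] i)]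
        congr 2
        ext k
        fin_cases i <;> fin_cases k <;> simp
      rw [hTv] at hμ
      have h0 := congrFun hμ 0
      have h1' := congrFun hμ 1
      simp at h0 h1'
      have huj : u j = 0 := by
        fin_cases i <;> fin_cases j
        · exact absurd rfl hij
        · rcases h0 with h0 | h0
          · rcases h1' with h1' | h1'
            · exact absurd (h0.trans (by simpa using h1'.symm)) hane
            · exact h1'
          · exact absurd h0 hne
        · rcases h1' with h1' | h1'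
          · rcases h0 with h0 | h0
            · exact absurd (h0.trans (by simpa using h1'.symm)) hane
            · exact h0
          · exact absurd h1' hne
        · exact absurd rfl hij
      have hv : (Pi.single i 1 : Fin 2 → F) ≠ 0 := Pi.single_ne_zero_iff.2 one_ne_zero
      refine hmv y hys hy1 _ hv ((mem_St (d := 1) G hY).2 ((mem_lineStab hv).2 ⟨u i, ?_⟩))
      rw [← hu]
      ext k
      fin_cases i <;> fin_cases j <;> fin_cases k <;> simp_all [-hc, -h2]
    have hy2' : y ^ 2 ≠ 1 := hy2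
    have e0 : (Pi.single (0 : Fin 2) (1 : F) : Fin 2 → F) ≠ 0 := Pi.single_ne_zero_iff.2 one_ne_zero
    refine hmv (y ^ 2) ((Subgroup.zpowers s).pow_mem hys 2) hy2' _ e0
      ((mem_St (d := 1) G (M := Y * Y) (by rw [map_mul, hY, Subgroup.coe_pow, pow_two])).2
        ((mem_lineStab e0).2 ⟨((Y : Matrix (Fin 2) (Fin 2) F) 1 0) * ((Y : Matrix (Fin 2) (Fin 2) F) 0 1), ?_⟩))
    have k0 := key 0 1 (by decide)
    have k1 := key 1 0 (by decide)
    simp [Matrix.mulVec_single_one] at k0 k1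
    rw [Units.val_mul, Matrix.mulVec_single_one]
    ext i
    fin_cases i <;> simp [Matrix.mul_apply, k0, k1, mul_comm]
  -- the members of the torus elements
  let Tor : Set ↥G := {s | orderOf s ∣ q + 1 ∧ s ^ 2 ≠ 1 ∧ (r ∣ q + 1 → r ∣ orderOf s) ∧
    ∀ y ∈ Subgroup.zpowers s, y ≠ 1 → Moves G y}
  haveI : Fintype ↥G := Fintype.ofFinite _
  choose A hA hmem using hcov
  let S := (Finset.univ.filter fun s => s ∈ Tor).image A
  refine count_contra (fun x : ℙ F (Fin 2 → F) => St G (d := 1) x.rep)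
    (fun x => St_ne_top (p := p) (d := 1) G hG le_rfl x.rep_nonzero) 𝓐 (insert At (Finset.univ.image f)) S hprop hmin
    ?_ ?_ ?_ ?_ ?_
  · intro B hB
    rcases Finset.mem_insert.1 hB with rfl | hB
    · exact hAt
    · obtain ⟨x, -, rfl⟩ := Finset.mem_image.1 hB
      exact (hfx x).1
  · intro B hB
    obtain ⟨x, -, rfl⟩ := Finset.mem_image.1 hB
    exact hA x
  · rw [Finset.disjoint_left]
    intro B hB hBS
    obtain ⟨s, hs, rfl⟩ := Finset.mem_image.1 hBS
    obtain ⟨-, hs1, hs2, hs3, hs4⟩ := Finset.mem_filter.1 hs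
    rcases Finset.mem_insert.1 hB with hB | hB
    · exact hincomp s hs1 hs2 hs3 hs4 (hB ▸ hmem s)
    · obtain ⟨x, -, hx⟩ := Finset.mem_image.1 hB
      exact hs4 s (Subgroup.mem_zpowers s) (fun h => hs2 (by rw [h, one_pow])) x.rep x.rep_nonzero
        ((hfx x).2.1 (hx.symm ▸ hmem s))
  · rw [Finset.card_insert_of_notMem (fun h => by
      obtain ⟨x, -, hx⟩ := Finset.mem_image.1 h
      obtain ⟨k, hk⟩ := (hfx x).2.2.1 ⟨t, hx.symm ▸ htAt⟩
      have h1 : orderOf t ∣ p ^ k := orderOf_dvd_of_pow_eq_one (congrArg Subtype.val hk)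
      refine ht1 (orderOf_eq_one_iff.1 (Nat.eq_one_of_dvd_coprimes ?_ (hto.trans haq) h1))
      obtain ⟨e, -, he⟩ := FiniteField.card F p
      refine Nat.Coprime.pow_right k ?_
      rw [Nat.coprime_comm, (Fact.out : p.Prime).coprime_iff_not_dvd]
      intro hd
      have hpq : p ∣ q := by rw [hqdef, he]; exact dvd_pow_self p e.pos.ne'
      have := Nat.dvd_sub hpq hd
      rw [show q - (q - 1) = 1 by omega] at this
      exact (Fact.out : p.Prime).not_dvd_one this), Finset.card_image_of_injective _ hf, Finset.card_univ]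
    exact Nat.lt_succ_self _
  · intro g
    by_cases hg : Moves G g
    · right
      obtain ⟨s, hgs, hs1, hs2, hs3, hs4⟩ := exists_torus_elem G hG g hg
      exact ⟨A s, Finset.mem_image_of_mem A (Finset.mem_filter.2 ⟨Finset.mem_univ _, hs1, hs2 hq,
        fun h => hs3 r hr hr2 h, hs4⟩), (Subgroup.zpowers_le.2 (hmem s)) hgs⟩
    · left
      obtain ⟨v, hv, hvg⟩ : ∃ v : Fin 2 → F, v ≠ 0 ∧ g ∈ St G (d := 1) v := by
        by_contra hcon
        exact hg fun v hv hmem => hcon ⟨v, hv, hmem⟩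
      refine ⟨Projectivization.mk F v hv, ?_⟩
      obtain ⟨a, ha⟩ := Projectivization.exists_smul_eq_mk_rep F v hv
      rw [← ha, show (a • v : Fin 2 → F) = (a : F) • v from rfl, St, lineStab_smul a.ne_zero]
      exact hvg

end Cfsg.Agent.Classical.PGLNilpotentCover
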