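import Mathlib
import Cfsg.Agent.Lib.Classical.PowScalarClasses

/-!
# Classes of elements of prime order `r ∣ q - 1` in `PGL n q`

Classes with a lift of order dividing `r` correspond to the orbits of the `r`-th roots of unity on
the multisets of `n` such roots. The others have a lift with `g ^ r = λ`, one for each non-trivial
coset of `r`-th powers, provided `r ∣ n`.
-/

set_option autoImplicit false

namespace Cfsg.Agent.Classical.PGLPrimeClasses

open Polynomial MulAction
open scoped Matrix

universe u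

variable {F : Type u} [Field F] [Fintype F] {n r : ℕ}

/-- translation of multisets of roots of unity -/
noncomputable scoped instance symAction {M : Type*} [Group M] :
    MulAction M (Sym M n) where
  smul a s := s.map (a * ·)
  one_smul s := by
    show s.map ((1 : M) * ·) = s
    simp
  mul_smul a b s := by
    show s.map ((a * b) * ·) = (s.map (b * ·)).map (a * ·)
    rw [Sym.map_map]
    exact Sym.map_congr fun x _ => mul_assoc a b x

theorem smul_def {M : Type*} [Group M] (a : M) (s : Sym M n) :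
    ((a • s : Sym M n) : Multiset M) = (s : Multiset M).map (a * ·) := rfl

theorem natCard_fixed {M : Type*} [Group M] [Fintype M] (hr : r.Prime) (hM : Nat.card M = r)
    {a : M} (ha : a ≠ 1) :
    Nat.card (fixedBy (Sym M n) a) = if r ∣ n then 1 else 0 := by
  classical
  haveI : Fact r.Prime := ⟨hr⟩
  have hgen : ∀ x : M, ∃ k : ℕ, a ^ k = x := fun x => by
    have h := mem_powers_of_prime_card (g' := x) hM ha
    exact Submonoid.mem_powers_iff _ _ |>.1 h
  have hcnt : ∀ s : Sym M n, a • s = s → ∀ x : M,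
      (s : Multiset M).count x = (s : Multiset M).count 1 := by
    intro s hs x
    obtain ⟨k, rfl⟩ := hgen x
    induction k with
    | zero => rw [pow_zero]
    | succ k ih =>
      have h := congrArg (fun t : Sym M n => (t : Multiset M).count (a ^ (k + 1))) hs
      simp only [smul_def] at h
      rw [pow_succ'] at h ⊢
      rw [Multiset.count_map_eq_count' _ _ (mul_right_injective a)] at h
      rw [← h, ih]
  have htot : ∀ s : Sym M n, a • s = s → r * (s : Multiset M).count 1 = n := by
    intro s hs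
    have h1 : ∑ x : M, (s : Multiset M).count x = Multiset.card (s : Multiset M) :=
      Multiset.sum_count_eq_card fun x _ => Finset.mem_univ x
    rw [Finset.sum_congr rfl fun x _ => hcnt s hs x, Finset.sum_const, Finset.card_univ,
      ← Nat.card_eq_fintype_card, hM, smul_eq_mul, Sym.card_coe] at h1
    exact h1
  split_ifs with hn
  · obtain ⟨c, rfl⟩ := hn
    rw [Nat.card_eq_one_iff_unique]
    refine ⟨⟨fun s t => Subtype.ext (Sym.coe_injective ?_)⟩, ⟨⟨⟨∑ x : M, Multiset.replicate c x, ?_⟩, ?_⟩⟩⟩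
    · ext x
      rw [hcnt s.1 s.2 x, hcnt t.1 t.2 x]
      exact Nat.eq_of_mul_eq_mul_left hr.pos ((htot s.1 s.2).trans (htot t.1 t.2).symm)
    · rw [Multiset.card_sum]
      simp only [Multiset.card_replicate, Finset.sum_const, Finset.card_univ,
        ← Nat.card_eq_fintype_card, hM, smul_eq_mul]
    · refine Sym.coe_injective ?_
      show (∑ x : M, Multiset.replicate c x).map (a * ·) = ∑ x : M, Multiset.replicate c x
      rw [← Multiset.coe_mapAddMonoidHom, map_sum]
      simp only [Multiset.coe_mapAddMonoidHom, Multiset.map_replicate]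
      exact Fintype.sum_equiv (Equiv.mulLeft a) _ _ fun x => rfl
  · rw [Nat.card_eq_zero]
    exact Or.inl ⟨fun s => hn ⟨_, (htot s.1 s.2).symm⟩⟩

theorem orbits_count {M : Type*} [Group M] [Fintype M] (hr : r.Prime) (hM : Nat.card M = r) :
    Nat.card (orbitRel.Quotient M (Sym M n)) * r =
      Nat.choose (n + r - 1) (r - 1) + (r - 1) * if r ∣ n then 1 else 0 := by
  classical
  have hcard : Fintype.card M = r := by rw [← Nat.card_eq_fintype_card, hM]
  have hS : Nat.card (Sym M n) = Nat.choose (n + r - 1) (r - 1) := by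
    rw [Nat.card_eq_fintype_card, Sym.card_sym_eq_choose, hcard, Nat.add_comm r n]
    have : r - 1 + n = n + r - 1 := by have := hr.pos; omega
    rw [← this, Nat.choose_symm_add]
  have h := sum_card_fixedBy_eq_card_orbits_mul_card_group (G := M) (X := Sym M n)
  rw [hcard, ← Finset.add_sum_erase _ _ (Finset.mem_univ (1 : M))] at h
  rw [Nat.card_eq_fintype_card]
  convert h.symm using 1
  congr 1
  · rw [← hS, ← Nat.card_eq_fintype_card]
    exact (Nat.card_congr (Equiv.subtypeUnivEquiv fun s => one_smul M s)).symm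
  · rw [Finset.sum_congr rfl fun a ha => by
      rw [← Nat.card_eq_fintype_card, natCard_fixed hr hM (Finset.ne_of_mem_erase ha)],
      Finset.sum_const, Finset.card_erase_of_mem (Finset.mem_univ _), Finset.card_univ, hcard,
      smul_eq_mul]

/-- scalar multiples differ by central elements -/
theorem mk_eq_mk_iff (g g' : GL (Fin n) F) :
    (QuotientGroup.mk g : GL (Fin n) F ⧸ Subgroup.center (GL (Fin n) F)) = QuotientGroup.mk g' ↔
      ∃ z : Fˣ, g * Matrix.GeneralLinearGroup.scalar (Fin n) z = g' := by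
  rw [← QuotientGroup.mk'_apply, ← QuotientGroup.mk'_apply, QuotientGroup.mk'_eq_mk']
  constructor
  · rintro ⟨x, hx, rfl⟩
    rw [Matrix.GeneralLinearGroup.center_eq_range_scalar] at hx
    obtain ⟨z, rfl⟩ := hx
    exact ⟨z, rfl⟩
  · rintro ⟨z, rfl⟩
    exact ⟨_, by rw [Matrix.GeneralLinearGroup.center_eq_range_scalar]; exact ⟨z, rfl⟩, rfl⟩

theorem val_scalar (z : Fˣ) :
    ((Matrix.GeneralLinearGroup.scalar (Fin n) z : GL (Fin n) F) : Matrix (Fin n) (Fin n) F) =
      (z : F) • 1 := by
  ext i j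
  simp [Matrix.GeneralLinearGroup.scalar, Matrix.one_apply, Matrix.diagonal_apply]

theorem scalar_comm (z : Fˣ) (g : GL (Fin n) F) :
    Commute (Matrix.GeneralLinearGroup.scalar (Fin n) z) g :=
  Units.ext (show (Matrix.GeneralLinearGroup.scalar (Fin n) z : Matrix (Fin n) (Fin n) F) * g = _ by
    rw [val_scalar, smul_mul_assoc, one_mul]
    show _ = (g : Matrix (Fin n) (Fin n) F) * (Matrix.GeneralLinearGroup.scalar (Fin n) z : Matrix (Fin n) (Fin n) F)
    rw [val_scalar, mul_smul_comm, mul_one])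

theorem mk_isConj_iff (g g' : GL (Fin n) F) :
    IsConj (QuotientGroup.mk g : GL (Fin n) F ⧸ Subgroup.center (GL (Fin n) F))
        (QuotientGroup.mk g') ↔
      ∃ z : Fˣ, IsConj (g * Matrix.GeneralLinearGroup.scalar (Fin n) z) g' := by
  constructor
  · intro h
    obtain ⟨x, hx⟩ := isConj_iff.1 h
    obtain ⟨c, rfl⟩ := QuotientGroup.mk_surjective x
    rw [← QuotientGroup.mk_inv, ← QuotientGroup.mk_mul, ← QuotientGroup.mk_mul, mk_eq_mk_iff] at hx
    obtain ⟨z, hz⟩ := hx
    refine ⟨z, isConj_iff.2 ⟨c, ?_⟩⟩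
    rw [← hz, mul_assoc c g, mul_assoc, mul_assoc, mul_assoc, mul_assoc, (scalar_comm z c⁻¹).eq]
  · rintro ⟨z, h⟩
    have h1 : (QuotientGroup.mk g : GL (Fin n) F ⧸ Subgroup.center (GL (Fin n) F)) =
        QuotientGroup.mk (g * Matrix.GeneralLinearGroup.scalar (Fin n) z) :=
      (mk_eq_mk_iff _ _).2 ⟨z, rfl⟩
    rw [h1]
    exact (QuotientGroup.mk' (Subgroup.center (GL (Fin n) F))).map_isConj h

theorem pow_mul_scalar (g : GL (Fin n) F) (z : Fˣ) (k : ℕ) :
    ((g * Matrix.GeneralLinearGroup.scalar (Fin n) z : GL (Fin n) F) : Matrix (Fin n) (Fin n) F) ^ k =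
      (z : F) ^ k • (g : Matrix (Fin n) (Fin n) F) ^ k := by
  rw [Units.val_mul, val_scalar, mul_smul_comm, mul_one, _root_.smul_pow]

theorem charpoly_conj {g g' : GL (Fin n) F} (h : IsConj g g') :
    (g : Matrix (Fin n) (Fin n) F).charpoly = (g' : Matrix (Fin n) (Fin n) F).charpoly := by
  obtain ⟨c, rfl⟩ := isConj_iff.1 h
  rw [Units.val_mul, Units.val_mul, Matrix.coe_units_inv, Matrix.charpoly_units_conj]

theorem eq_of_isConj [Nonempty (Fin n)] {g g' : GL (Fin n) F} {k : ℕ} {a b : F} (h : IsConj g g')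
    (hg : (g : Matrix (Fin n) (Fin n) F) ^ k = a • 1)
    (hg' : (g' : Matrix (Fin n) (Fin n) F) ^ k = b • 1) : a = b := by
  obtain ⟨c, rfl⟩ := isConj_iff.1 h
  rw [Units.val_mul, Units.val_mul, Units.conj_pow, hg, mul_smul_comm, smul_mul_assoc, mul_one,
    Units.mul_inv] at hg'
  have h2 := congrFun (congrFun hg' (Classical.arbitrary _)) (Classical.arbitrary _)
  simpa using h2

/-- **Classes of elements of order `r`.** -/
theorem natCard_classes (hn : 2 ≤ n) (hr : r.Prime) (hrq : r ∣ Fintype.card F - 1) :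
    Nat.card {C : ConjClasses (GL (Fin n) F ⧸ Subgroup.center (GL (Fin n) F)) //
        ∃ g : GL (Fin n) F ⧸ Subgroup.center (GL (Fin n) F),
          ConjClasses.mk g = C ∧ orderOf g = r} =
      (Nat.choose (n + r - 1) (r - 1) - r - (if r ∣ n then 1 else 0)) / r +
        r * (if r ∣ n then 1 else 0) := by
  classical
  haveI : Fact r.Prime := ⟨hr⟩
  haveI : NeZero r := ⟨hr.ne_zero⟩
  haveI : Nonempty (Fin n) := ⟨⟨0, by omega⟩⟩
  have hunits : Fintype.card Fˣ = Fintype.card F - 1 := Fintype.card_units F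
  obtain ⟨ζ, hζ⟩ := exists_prime_orderOf_dvd_card (G := Fˣ) r (by rw [hunits]; exact hrq)
  have hprim : IsPrimitiveRoot (ζ : F) r := by
    rw [← hζ, ← orderOf_units]
    exact IsPrimitiveRoot.orderOf _
  have hM : Nat.card (rootsOfUnity r F) = r := hprim.card_rootsOfUnity
  have hri : (r : F) ≠ 0 := by
    intro h
    obtain ⟨c, hc⟩ := hrq
    have h1 : ((Fintype.card F - 1 : ℕ) : F) = 0 := by rw [hc, Nat.cast_mul, h, zero_mul]
    rw [Nat.cast_sub Fintype.card_pos, FiniteField.cast_card_eq_zero] at h1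
    simp at h1
  haveI : Fintype (rootsOfUnity r F) := Fintype.ofFinite _
  -- diagonal representatives
  have hex : ∀ s : Sym (rootsOfUnity r F) n, ∃ v : Fin n → rootsOfUnity r F,
      Finset.univ.val.map v = (s : Multiset (rootsOfUnity r F)) := by
    intro s
    refine ⟨fun i => ((s : Multiset (rootsOfUnity r F)).toList).get
      (Fin.cast (by rw [Multiset.length_toList]; exact s.2.symm) i), ?_⟩
    rw [Fin.univ_val_map]
    conv_rhs => rw [← Multiset.coe_toList (s : Multiset (rootsOfUnity r F))]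
    congr 1
    refine List.ext_getElem (by rw [List.length_ofFn, Multiset.length_toList]; exact s.2.symm)
      fun i h1 h2 => ?_
    rw [List.getElem_ofFn]
    rfl
  choose v hv using hex
  have hdet : ∀ s, (Matrix.diagonal fun i => (((v s i : rootsOfUnity r F) : Fˣ) : F)).det ≠ 0 :=
    fun s => by
      rw [Matrix.det_diagonal]
      exact Finset.prod_ne_zero_iff.2 fun i _ => Units.ne_zero _
  let D : Sym (rootsOfUnity r F) n → GL (Fin n) F := fun s =>
    Matrix.GeneralLinearGroup.mkOfDetNeZero _ (hdet s)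
  have hDval : ∀ s, (D s : Matrix (Fin n) (Fin n) F) =
      Matrix.diagonal fun i => (((v s i : rootsOfUnity r F) : Fˣ) : F) := fun s => rfl
  have hDpow : ∀ s, (D s : Matrix (Fin n) (Fin n) F) ^ r = (1 : F) • 1 := fun s => by
    rw [hDval, Matrix.diagonal_pow, one_smul, ← Matrix.diagonal_one]
    congr 1
    funext i
    exact (mem_rootsOfUnity' r _).1 (v s i).2
  have hchar : ∀ (z : Fˣ) s, ((D s * Matrix.GeneralLinearGroup.scalar (Fin n) z : GL (Fin n) F) :
      Matrix (Fin n) (Fin n) F).charpoly =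
      (((s : Multiset (rootsOfUnity r F)).map
        fun x : rootsOfUnity r F => ((z : F) * ((x : Fˣ) : F))).map fun a => X - C a).prod := by
    intro z s
    rw [Units.val_mul, val_scalar, mul_smul_comm, mul_one, hDval, ← Matrix.diagonal_smul,
      Matrix.charpoly_diagonal, ← hv s, Multiset.map_map, Multiset.map_map]
    rfl
  have hchar1 : ∀ s, (D s : Matrix (Fin n) (Fin n) F).charpoly =
      (((s : Multiset (rootsOfUnity r F)).map
        fun x : rootsOfUnity r F => ((x : Fˣ) : F)).map fun a => X - C a).prod := fun s => by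
    have h := hchar 1 s
    rw [map_one, mul_one] at h
    simpa using h
  let Φ : Sym (rootsOfUnity r F) n → ConjClasses (GL (Fin n) F ⧸ Subgroup.center (GL (Fin n) F)) :=
    fun s => ConjClasses.mk (QuotientGroup.mk (D s))
  have hΦ : ∀ s s', Φ s = Φ s' ↔ ∃ m : rootsOfUnity r F, s' = m • s := by
    intro s s'
    show ConjClasses.mk _ = ConjClasses.mk _ ↔ _
    rw [ConjClasses.mk_eq_mk_iff_isConj, mk_isConj_iff]
    constructor
    · rintro ⟨z, h⟩
      have hz : z ∈ rootsOfUnity r F := by
        rw [mem_rootsOfUnity']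
        have h1 := eq_of_isConj h (k := r) (a := (z : F) ^ r)
          (by rw [pow_mul_scalar, hDpow, smul_smul, mul_one]) (hDpow s')
        exact h1
      refine ⟨⟨z, hz⟩, Sym.coe_injective ?_⟩
      have h1 := charpoly_conj h
      rw [hchar, hchar1] at h1
      have h2 := congrArg Polynomial.roots h1
      rw [roots_multiset_prod_X_sub_C, roots_multiset_prod_X_sub_C] at h2
      refine (Multiset.map_injective (f := fun x : rootsOfUnity r F => ((x : Fˣ) : F))
        (fun a b e => Subtype.ext (Units.ext e))) ?_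
      rw [smul_def, Multiset.map_map]
      exact h2.symm.trans (Multiset.map_congr rfl fun x _ => by simp)
    · rintro ⟨m, rfl⟩
      refine ⟨(m : Fˣ), PowScalarClasses.isConj_of_charpoly hri one_ne_zero ?_ (hDpow _) ?_⟩
      · rw [pow_mul_scalar, hDpow, smul_smul, (mem_rootsOfUnity' r _).1 m.2, one_mul]
      · rw [hchar, hchar1, smul_def]
        simp only [Multiset.map_map]
        congr 1
  have hrange : Nat.card (Set.range Φ) =
      Nat.card (orbitRel.Quotient (rootsOfUnity r F) (Sym (rootsOfUnity r F) n)) := by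
    refine (Nat.card_eq_of_bijective (fun o => Quotient.liftOn' o
      (fun s => (⟨Φ s, s, rfl⟩ : Set.range Φ)) fun a b hab => Subtype.ext ?_) ⟨?_, ?_⟩).symm
    · obtain ⟨m, hm⟩ := (orbitRel_apply.1 hab : a ∈ orbit (rootsOfUnity r F) b)
      exact ((hΦ b a).2 ⟨m, hm.symm⟩).symm
    · intro x y
      induction x using Quotient.inductionOn' with | _ a =>
      induction y using Quotient.inductionOn' with | _ b =>
      intro e
      obtain ⟨m, hm⟩ := (hΦ b a).1 (congrArg Subtype.val e).symm
      exact Quotient.sound' (orbitRel_apply.2 ⟨m, hm.symm⟩)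
    · rintro ⟨_, s, rfl⟩
      exact ⟨Quotient.mk'' s, rfl⟩
  -- every lift of exponent `r` is diagonalisable
  have hsplit : ∀ g : GL (Fin n) F, (g : Matrix (Fin n) (Fin n) F) ^ r = (1 : F) • 1 →
      ConjClasses.mk (QuotientGroup.mk g) ∈ Set.range Φ := by
    intro g hg
    obtain ⟨m, hm, hmg⟩ := PowScalarClasses.admissible_factors hri one_ne_zero hg
    have hlin : ∀ p ∈ m, ∃ x : rootsOfUnity r F, p = X - C (((x : Fˣ) : F)) := by
      intro p hp
      obtain ⟨hpm, hpi, hpd⟩ := hm.1 p hp
      rw [map_one, X_pow_sub_one_eq_prod hr.pos hprim] at hpd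
      obtain ⟨a, ha, hda⟩ := hpi.prime.exists_mem_finset_dvd hpd
      rw [Polynomial.mem_nthRootsFinset hr.pos] at ha
      exact ⟨rootsOfUnity.mkOfPowEq a ha, eq_of_monic_of_associated hpm (monic_X_sub_C a)
        (hpi.associated_of_dvd (irreducible_X_sub_C a) hda)⟩
    choose f hf using hlin
    have hcard : Multiset.card (m.attach.map fun p => f p.1 p.2) = n := by
      rw [Multiset.card_map, Multiset.card_attach, ← hm.2, Multiset.map_congr rfl fun p hp =>
        show p.natDegree = 1 by rw [hf p hp, natDegree_X_sub_C]]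
      simp
    refine ⟨Sym.mk _ hcard, ConjClasses.mk_eq_mk_iff_isConj.2
      ((QuotientGroup.mk' (Subgroup.center (GL (Fin n) F))).map_isConj
        (PowScalarClasses.isConj_of_charpoly hri one_ne_zero (hDpow _) hg ?_))⟩
    rw [hmg]
    refine (hchar1 _).trans ?_
    show (((m.attach.map fun p => f p.1 p.2).map _).map _).prod = _
    rw [Multiset.map_map, Multiset.map_map]
    conv_rhs => rw [← Multiset.attach_map_val m]
    congr 1
    refine Multiset.map_congr rfl fun p _ => ?_
    simp only [Function.comp_apply]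
    exact (hf p.1 p.2).symm
  -- the other classes
  set P := (powMonoidHom r : Fˣ →* Fˣ).range with hP
  have hQ : Nat.card (Fˣ ⧸ P) = r := by
    rw [← Subgroup.index_eq_card, hP, IsCyclic.index_powMonoidHom_range, Nat.card_eq_fintype_card,
      hunits]
    exact Nat.gcd_eq_right hrq
  have hirr : ∀ y : {y : Fˣ ⧸ P // y ≠ 1}, Irreducible (X ^ r - C ((y.1.out : Fˣ) : F)) := by
    intro y
    refine X_pow_sub_C_irreducible_of_prime hr fun b hb => y.2 ?_
    have hb0 : b ≠ 0 := fun e => (y.1.out).ne_zero (by rw [← hb, e, zero_pow hr.ne_zero])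
    rw [← y.1.out_eq']
    exact (QuotientGroup.eq_one_iff _).2 ⟨Units.mk0 b hb0, Units.ext hb⟩
  have hW : r ∣ n → ∀ y : {y : Fˣ ⧸ P // y ≠ 1}, ∃ g : GL (Fin n) F,
      (g : Matrix (Fin n) (Fin n) F) ^ r = ((y.1.out : Fˣ) : F) • 1 ∧
      (g : Matrix (Fin n) (Fin n) F).charpoly = (X ^ r - C ((y.1.out : Fˣ) : F)) ^ (n / r) := by
    intro hdvd y
    set c : F := ((y.1.out : Fˣ) : F) with hc
    obtain ⟨A, hA, hAc⟩ := PowScalarClasses.exists_matrix r c
      (Multiset.replicate (n / r) (X ^ r - C c)) (fun p hp => by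
        rw [Multiset.eq_of_mem_replicate hp]
        exact ⟨monic_X_pow_sub_C c hr.ne_zero, hirr y, dvd_refl _⟩) n (by
        rw [Multiset.map_replicate, natDegree_X_pow_sub_C, Multiset.sum_replicate, smul_eq_mul]
        exact Nat.div_mul_cancel hdvd)
    have hu : IsUnit A := by
      refine IsUnit.of_mul_eq_one (c⁻¹ • A ^ (r - 1)) ?_
      rw [mul_smul_comm, ← pow_succ', Nat.sub_add_cancel hr.one_le, hA, smul_smul,
        inv_mul_cancel₀ (Units.ne_zero _), one_smul]
    exact ⟨hu.unit, hA, hAc.trans (Multiset.prod_replicate _ _)⟩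
  let S : Set (ConjClasses (GL (Fin n) F ⧸ Subgroup.center (GL (Fin n) F))) :=
    {x | ∃ (g : GL (Fin n) F) (c : Fˣ), (g : Matrix (Fin n) (Fin n) F) ^ r = (c : F) • 1 ∧
      c ∉ P ∧ ConjClasses.mk (QuotientGroup.mk g) = x}
  have hfacts : ∀ (g : GL (Fin n) F) (c : Fˣ), (g : Matrix (Fin n) (Fin n) F) ^ r = (c : F) • 1 →
      ∀ (g' : GL (Fin n) F) (c' : Fˣ), (g' : Matrix (Fin n) (Fin n) F) ^ r = (c' : F) • 1 →
      ∀ z : Fˣ, IsConj (g * Matrix.GeneralLinearGroup.scalar (Fin n) z) g' → c' = z ^ r * c := by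
    intro g c hg g' c' hg' z h
    have h1 := eq_of_isConj h (k := r) (a := (z : F) ^ r * (c : F))
      (by rw [pow_mul_scalar, hg, smul_smul]) hg'
    exact Units.ext (by simpa using h1.symm)
  have hScard : Nat.card S = (r - 1) * if r ∣ n then 1 else 0 := by
    split_ifs with hdvd
    · choose W hW1 hW2 using hW hdvd
      rw [mul_one]
      have hQ' : Nat.card {y : Fˣ ⧸ P // y ≠ 1} = r - 1 := by
        rw [Nat.card_eq_fintype_card, Fintype.card_subtype_compl, Fintype.card_subtype_eq,
          ← Nat.card_eq_fintype_card, hQ]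
      rw [← hQ']
      refine (Nat.card_eq_of_bijective (fun y => (⟨ConjClasses.mk (QuotientGroup.mk (W y)), W y,
        y.1.out, hW1 y, fun h => y.2 (by rw [← y.1.out_eq']; exact (QuotientGroup.eq_one_iff _).2 h),
        rfl⟩ : S)) ⟨?_, ?_⟩).symm
      · intro y y' e
        obtain ⟨z, hz⟩ := (mk_isConj_iff _ _).1
          (ConjClasses.mk_eq_mk_iff_isConj.1 (congrArg Subtype.val e))
        refine Subtype.ext ?_
        rw [← QuotientGroup.out_eq' y.1, ← QuotientGroup.out_eq' y'.1, hfacts _ _ (hW1 y) _ _ (hW1 y') z hz,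
          QuotientGroup.mk_mul, (QuotientGroup.eq_one_iff _).2 (show z ^ r ∈ P from ⟨z, rfl⟩), one_mul]
      · rintro ⟨_, g, c, hg, hc, rfl⟩
        let y : {y : Fˣ ⧸ P // y ≠ 1} := ⟨QuotientGroup.mk c, fun h => hc ((QuotientGroup.eq_one_iff _).1 h)⟩
        obtain ⟨w, hw⟩ : c⁻¹ * y.1.out ∈ P := QuotientGroup.eq.1 y.1.out_eq'.symm
        refine ⟨y, Subtype.ext (ConjClasses.mk_eq_mk_iff_isConj.2 (IsConj.symm ?_))⟩
        refine (mk_isConj_iff _ _).2 ⟨w, PowScalarClasses.isConj_of_charpoly hri (Units.ne_zero _)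
          ?_ (hW1 y) ?_⟩
        · rw [pow_mul_scalar, hg, smul_smul]
          congr 1
          have hw' : w ^ r = c⁻¹ * y.1.out := hw
          rw [← Units.val_pow_eq_pow_val, ← Units.val_mul, hw', mul_comm c⁻¹, inv_mul_cancel_right]
        · have hpw : ((g * Matrix.GeneralLinearGroup.scalar (Fin n) w : GL (Fin n) F) :
              Matrix (Fin n) (Fin n) F) ^ r = ((y.1.out : Fˣ) : F) • 1 := by
            rw [pow_mul_scalar, hg, smul_smul]
            congr 1
            have hw' : w ^ r = c⁻¹ * y.1.out := hw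
            rw [← Units.val_pow_eq_pow_val, ← Units.val_mul, hw', mul_comm c⁻¹, inv_mul_cancel_right]
          obtain ⟨m, hm, hmg⟩ := PowScalarClasses.admissible_factors hri (Units.ne_zero _) hpw
          have hall : m = Multiset.replicate (n / r) (X ^ r - C ((y.1.out : Fˣ) : F)) := by
            have h1 : m = Multiset.replicate (Multiset.card m) (X ^ r - C ((y.1.out : Fˣ) : F)) :=
              Multiset.eq_replicate_card.2 fun p hp => eq_of_monic_of_associated (hm.1 p hp).1
                (monic_X_pow_sub_C _ hr.ne_zero) ((hm.1 p hp).2.1.associated_of_dvd (hirr y) (hm.1 p hp).2.2)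
            have h2 := hm.2
            rw [h1, Multiset.map_replicate, natDegree_X_pow_sub_C, Multiset.sum_replicate,
              smul_eq_mul] at h2
            rw [h1, ← h2, Nat.mul_div_cancel _ hr.pos]
          rw [hmg, hall, Multiset.prod_replicate, hW2 y]
    · rw [mul_zero, Nat.card_eq_zero]
      refine Or.inl ⟨?_⟩
      rintro ⟨_, g, c, hg, hc, rfl⟩
      obtain ⟨m, hm, -⟩ := PowScalarClasses.admissible_factors hri (Units.ne_zero c) hg
      have hic : Irreducible (X ^ r - C (c : F)) := X_pow_sub_C_irreducible_of_prime hr fun b hb => by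
        have hb0 : b ≠ 0 := fun e => c.ne_zero (by rw [← hb, e, zero_pow hr.ne_zero])
        exact hc ⟨Units.mk0 b hb0, Units.ext hb⟩
      refine hdvd ⟨Multiset.card m, ?_⟩
      rw [← hm.2, Multiset.map_congr rfl fun p hp => show p.natDegree = r by
        rw [eq_of_monic_of_associated (hm.1 p hp).1 (monic_X_pow_sub_C _ hr.ne_zero)
          ((hm.1 p hp).2.1.associated_of_dvd hic (hm.1 p hp).2.2), natDegree_X_pow_sub_C]]
      simp [mul_comm]
  -- assembling
  have hunion : Set.range Φ ∪ S =
      insert 1 {C | ∃ g : GL (Fin n) F ⧸ Subgroup.center (GL (Fin n) F),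
        ConjClasses.mk g = C ∧ orderOf g = r} := by
    ext x
    constructor
    · intro hx
      have hlift : ∃ (g : GL (Fin n) F) (c : Fˣ), (g : Matrix (Fin n) (Fin n) F) ^ r = (c : F) • 1 ∧
          ConjClasses.mk (QuotientGroup.mk g) = x := by
        rcases hx with ⟨s, rfl⟩ | ⟨g, c, hg, -, rfl⟩
        · exact ⟨D s, 1, hDpow s, rfl⟩
        · exact ⟨g, c, hg, rfl⟩
      obtain ⟨g, c, hg, rfl⟩ := hlift
      have hpw : (QuotientGroup.mk g : GL (Fin n) F ⧸ Subgroup.center (GL (Fin n) F)) ^ r = 1 := by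
        rw [← QuotientGroup.mk_pow, QuotientGroup.eq_one_iff,
          Matrix.GeneralLinearGroup.center_eq_range_scalar]
        exact ⟨c, Units.ext (by rw [val_scalar, Units.val_pow_eq_pow_val, hg])⟩
      by_cases h1 : (QuotientGroup.mk g : GL (Fin n) F ⧸ Subgroup.center (GL (Fin n) F)) = 1
      · exact Or.inl (by rw [h1]; rfl)
      · exact Or.inr ⟨_, rfl, orderOf_eq_prime hpw h1⟩
    · intro hx
      obtain ⟨g, c, hg, rfl⟩ : ∃ (g : GL (Fin n) F) (c : Fˣ),
          (g : Matrix (Fin n) (Fin n) F) ^ r = (c : F) • 1 ∧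
            ConjClasses.mk (QuotientGroup.mk g) = x := by
        rcases hx with rfl | ⟨y, rfl, hy⟩
        · exact ⟨1, 1, by simp, rfl⟩
        · obtain ⟨g, rfl⟩ := QuotientGroup.mk_surjective y
          have h := pow_orderOf_eq_one (QuotientGroup.mk g : GL (Fin n) F ⧸ Subgroup.center (GL (Fin n) F))
          rw [hy, ← QuotientGroup.mk_pow, QuotientGroup.eq_one_iff,
            Matrix.GeneralLinearGroup.center_eq_range_scalar] at h
          obtain ⟨c, hc⟩ := h
          exact ⟨g, c, by rw [← Units.val_pow_eq_pow_val, ← hc, val_scalar], rfl⟩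
      by_cases hc : c ∈ P
      · obtain ⟨w, hw⟩ := hc
        left
        have h1 : (QuotientGroup.mk g : GL (Fin n) F ⧸ Subgroup.center (GL (Fin n) F)) =
            QuotientGroup.mk (g * Matrix.GeneralLinearGroup.scalar (Fin n) w⁻¹) :=
          (mk_eq_mk_iff _ _).2 ⟨w⁻¹, rfl⟩
        rw [h1]
        refine hsplit _ ?_
        rw [pow_mul_scalar, hg, smul_smul]
        congr 1
        have hw' : w ^ r = c := hw
        rw [← Units.val_pow_eq_pow_val, ← Units.val_mul, inv_pow, hw', inv_mul_cancel, Units.val_one]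
      · exact Or.inr ⟨g, c, hg, hc, rfl⟩
  have hdisj : Disjoint (Set.range Φ) S := Set.disjoint_left.2 fun x hx hx' => by
    obtain ⟨s, rfl⟩ := hx
    obtain ⟨g, c, hg, hc, he⟩ := hx'
    obtain ⟨z, hz⟩ := (mk_isConj_iff _ _).1 (ConjClasses.mk_eq_mk_iff_isConj.1 he.symm)
    exact hc (by rw [hfacts (D s) 1 (by simpa using hDpow s) g c hg z hz, mul_one]; exact ⟨z, rfl⟩)
  have hnot : (1 : ConjClasses (GL (Fin n) F ⧸ Subgroup.center (GL (Fin n) F))) ∉
      {C | ∃ g : GL (Fin n) F ⧸ Subgroup.center (GL (Fin n) F),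
        ConjClasses.mk g = C ∧ orderOf g = r} := by
    rintro ⟨g, hg, ho⟩
    rw [ConjClasses.one_eq_mk_one, ConjClasses.mk_eq_mk_iff_isConj, isConj_one_left] at hg
    rw [hg, orderOf_one] at ho
    exact hr.one_lt.ne ho
  have hc := congrArg Set.ncard hunion
  rw [Set.ncard_union_eq hdisj, Set.ncard_insert_of_notMem hnot, ← Nat.card_coe_set_eq,
    ← Nat.card_coe_set_eq, ← Nat.card_coe_set_eq, hrange, hScard] at hc
  have ho := orbits_count (n := n) hr hM
  set o := Nat.card (orbitRel.Quotient (rootsOfUnity r F) (Sym (rootsOfUnity r F) n))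
  set N := Nat.choose (n + r - 1) (r - 1) with hN
  set f := if r ∣ n then 1 else 0 with hf
  show Nat.card {C | ∃ g : GL (Fin n) F ⧸ Subgroup.center (GL (Fin n) F),
    ConjClasses.mk g = C ∧ orderOf g = r} = _
  have ho1 : f + 1 ≤ o := by
    have hf1 : f ≤ 1 := by rw [hf]; split_ifs <;> omega
    have hNr : r + f ≤ N := by
      have h1 : Nat.choose (r + 1) (r - 1) ≤ N := Nat.choose_le_choose _ (by omega)
      have h2 : Nat.choose (r + 1) (r - 1) = Nat.choose (r + 1) 2 :=
        Nat.choose_symm_of_eq_add (by have := hr.two_le; omega)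
      have h3 : r + 1 ≤ Nat.choose (r + 1) 2 := by
        rw [Nat.choose_two_right, Nat.le_div_iff_mul_le (by omega), Nat.add_sub_cancel]
        have := hr.two_le
        nlinarith
      omega
    by_contra hlt
    have hor : o * r ≤ f * r := Nat.mul_le_mul_right r (by omega)
    rw [ho] at hor
    have : f * r = (r - 1) * f + f := by
      rw [mul_comm f, Nat.sub_mul, one_mul, Nat.sub_add_cancel (Nat.le_mul_of_pos_left _ hr.pos)]
    have := hr.two_le
    omega
  have hdiv : (N - r - f) / r = o - 1 - f := by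
    refine Nat.div_eq_of_eq_mul_left hr.pos ?_
    have e1 : (o - 1 - f) * r = o * r - r - f * r := by
      rw [Nat.sub_mul, Nat.sub_mul, one_mul]
    have e2 : f * r = (r - 1) * f + f := by
      rw [mul_comm f, Nat.sub_mul, one_mul, Nat.sub_add_cancel (Nat.le_mul_of_pos_left _ hr.pos)]
    rw [e1, ho, e2]
    omega
  rw [hdiv]
  have e3 : (r - 1) * f + f = r * f := by
    rw [Nat.sub_mul, one_mul, Nat.sub_add_cancel (Nat.le_mul_of_pos_left _ hr.pos)]
  omega

end Cfsg.Agent.Classical.PGLPrimeClasses
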