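import Mathlib

/-!
# Products of two conjugates of a semisimple element in `SL₃`

For a field with an element `t` with `t² ≠ 1`, every non-scalar matrix of determinant one is
similar to a product `L U` with `L`, `U` triangular of diagonal `(1, t, t⁻¹)` (Sourour).
-/

namespace Cfsg.Agent.Classical.SLThreeSquare

open Matrix

variable {K : Type*} [Field K]

/-- Similarity of matrices, written without inverses. -/
def Sim (A B : Matrix (Fin 3) (Fin 3) K) : Prop :=
  ∃ P : Matrix (Fin 3) (Fin 3) K, P.det ≠ 0 ∧ A * P = P * B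

theorem Sim.trans {A B C : Matrix (Fin 3) (Fin 3) K} (h : Sim A B) (h' : Sim B C) : Sim A C := by
  obtain ⟨P, hP, e⟩ := h
  obtain ⟨Q, hQ, e'⟩ := h'
  refine ⟨P * Q, by rw [det_mul]; exact mul_ne_zero hP hQ, ?_⟩
  rw [← Matrix.mul_assoc, e, Matrix.mul_assoc, e', Matrix.mul_assoc]

theorem Sim.symm {A B : Matrix (Fin 3) (Fin 3) K} (h : Sim A B) : Sim B A := by
  obtain ⟨P, hP, e⟩ := h
  have hu : IsUnit P.det := isUnit_iff_ne_zero.2 hP
  refine ⟨P⁻¹, (P.isUnit_nonsing_inv_det hu).ne_zero, ?_⟩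
  calc B * P⁻¹ = P⁻¹ * (P * B) * P⁻¹ := by rw [Matrix.nonsing_inv_mul_cancel_left P B hu]
    _ = P⁻¹ * (A * P) * P⁻¹ := by rw [e]
    _ = P⁻¹ * A := by rw [← Matrix.mul_assoc, Matrix.mul_nonsing_inv_cancel_right P _ hu]

/-- The second invariant (sum of the principal 2-minors). -/
def e2 (A : Matrix (Fin 3) (Fin 3) K) : K :=
  A 0 0 * A 1 1 - A 0 1 * A 1 0 + (A 0 0 * A 2 2 - A 0 2 * A 2 0)
    + (A 1 1 * A 2 2 - A 1 2 * A 2 1)

/-- The companion matrix of `X³ - aX² + bX - 1`. -/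
def comp (a b : K) : Matrix (Fin 3) (Fin 3) K :=
  !![0, 0, 1; 1, 0, -b; 0, 1, a]

theorem cayley_three (A : Matrix (Fin 3) (Fin 3) K) (v : Fin 3 → K) :
    A.mulVec (A.mulVec (A.mulVec v)) =
      A.trace • A.mulVec (A.mulVec v) - e2 A • A.mulVec v + A.det • v := by
  funext i
  fin_cases i <;>
  · simp [mulVec, dotProduct, Matrix.mul_apply, Fin.sum_univ_three, det_fin_three,
      trace_fin_three, e2]
    ring

/-- A matrix with a cyclic vector is similar to the companion matrix. -/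
theorem sim_comp {A : Matrix (Fin 3) (Fin 3) K} (hdet : A.det = 1) {v : Fin 3 → K}
    (hv : (Matrix.of fun i j : Fin 3 => ![v i, A.mulVec v i, A.mulVec (A.mulVec v) i] j).det ≠ 0) :
    Sim A (comp A.trace (e2 A)) := by
  refine ⟨_, hv, ?_⟩
  have h3 := cayley_three A v
  rw [hdet, one_smul] at h3
  ext i j
  fin_cases j
  · simp [Matrix.mul_apply, Fin.sum_univ_three, comp, mulVec, dotProduct]
  · simp [Matrix.mul_apply, Fin.sum_univ_three, comp, mulVec, dotProduct]
  · have := congrFun h3 i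
    simp only [Pi.add_apply, Pi.sub_apply, Pi.smul_apply, smul_eq_mul] at this
    have e : (A * Matrix.of fun i j : Fin 3 => ![v i, A.mulVec v i, A.mulVec (A.mulVec v) i] j)
        i 2 = A.mulVec (A.mulVec (A.mulVec v)) i := by
      simp [Matrix.mul_apply, Fin.sum_univ_three, mulVec, dotProduct]
    refine e.trans (this.trans ?_)
    simp [Matrix.mul_apply, Fin.sum_univ_three, comp]
    ring

/-- A scalar plus a rank-one matrix. -/
def rankOne (l : K) (c : Fin 3 → K) (r : Fin 3 → K) : Matrix (Fin 3) (Fin 3) K :=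
  Matrix.of fun i j => (if i = j then l else 0) + c i * r j

/-- Normal form of a scalar plus a rank-one matrix with trace `3l + σ`. -/
def rankOneNormal [DecidableEq K] (l σ : K) : Matrix (Fin 3) (Fin 3) K :=
  if σ = 0 then !![l, 0, 0; 1, l, 0; 0, 0, l] else !![l + σ, 0, 0; 0, l, 0; 0, 0, l]

theorem sim_rankOne [DecidableEq K] (l : K) (c r : Fin 3 → K) (hr : r 0 = 1) (hc : c ≠ 0) :
    Sim (rankOne l c r) (rankOneNormal l (r 0 * c 0 + r 1 * c 1 + r 2 * c 2)) := by
  set σ := r 0 * c 0 + r 1 * c 1 + r 2 * c 2 with hσ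
  rw [hr, one_mul] at hσ
  unfold rankOneNormal
  by_cases h0 : σ = 0
  · rw [if_pos h0]
    by_cases h1 : c 1 = 0
    · have h2 : c 2 ≠ 0 := by
        intro h2
        apply hc
        funext i
        fin_cases i
        · show c 0 = 0
          rw [h0, h1, h2] at hσ
          simpa using hσ.symm
        · exact h1
        · exact h2
      refine ⟨!![1, c 0, -r 1; 0, c 1, 1; 0, c 2, 0], ?_, ?_⟩
      · simp [det_fin_three]; exact h2
      · rw [h0] at hσ
        ext i j
        fin_cases i <;> fin_cases j <;>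
          simp [rankOne, Matrix.mul_apply, Fin.sum_univ_three, hr] <;> grind
    · refine ⟨!![1, c 0, -r 2; 0, c 1, 0; 0, c 2, 1], ?_, ?_⟩
      · simp [det_fin_three]; exact h1
      · rw [h0] at hσ
        ext i j
        fin_cases i <;> fin_cases j <;>
          simp [rankOne, Matrix.mul_apply, Fin.sum_univ_three, hr] <;> grind
  · rw [if_neg h0]
    refine ⟨!![c 0, -r 1, -r 2; c 1, 1, 0; c 2, 0, 1], ?_, ?_⟩
    · simp only [det_fin_three]
      intro h
      apply h0
      simp at h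
      linear_combination h + hσ
    · ext i j
      fin_cases i <;> fin_cases j <;>
        simp [rankOne, Matrix.mul_apply, Fin.sum_univ_three, hr] <;> grind

/-- A cyclic vector or a rank-one shape. -/
theorem cyclic_or_rankOne {A : Matrix (Fin 3) (Fin 3) K}
    (hA : ∀ a : K, A ≠ a • 1) (hc : ∃ c : K, c ≠ 0 ∧ c ≠ 1) :
    (∃ v : Fin 3 → K,
      (Matrix.of fun i j : Fin 3 => ![v i, A.mulVec v i, A.mulVec (A.mulVec v) i] j).det ≠ 0) ∨
    ∃ (l : K) (c r : Fin 3 → K), c ≠ 0 ∧ r 0 = 1 ∧ Sim A (rankOne l c r) := by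
  by_cases hcy : ∃ v : Fin 3 → K,
      (Matrix.of fun i j : Fin 3 => ![v i, A.mulVec v i, A.mulVec (A.mulVec v) i] j).det ≠ 0
  · exact Or.inl hcy
  right
  push_neg at hcy
  -- a vector with `v, Av` independent
  obtain ⟨v, z, hvz⟩ : ∃ v z : Fin 3 → K,
      (Matrix.of fun i j : Fin 3 => ![v i, A.mulVec v i, z i] j).det ≠ 0 := by
    by_contra hno
    push_neg at hno
    have key : ∀ v z : Fin 3 → K,
        (Matrix.of fun i j : Fin 3 => ![v i, A.mulVec v i, z i] j).det = 0 := hno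
    have h01 := key ![1, 0, 0] ![0, 1, 0]
    have h02 := key ![1, 0, 0] ![0, 0, 1]
    have h10 := key ![0, 1, 0] ![1, 0, 0]
    have h12 := key ![0, 1, 0] ![0, 0, 1]
    have h20 := key ![0, 0, 1] ![1, 0, 0]
    have h21 := key ![0, 0, 1] ![0, 1, 0]
    have d01 := key ![1, 1, 0] ![0, 0, 1]
    have d12 := key ![0, 1, 1] ![1, 0, 0]
    simp [det_fin_three, mulVec, dotProduct, Fin.sum_univ_three] at h01 h02 h10 h12 h20 h21 d01 d12
    apply hA (A 0 0)
    ext i j
    fin_cases i <;> fin_cases j <;> simp <;> grind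
  set P : Matrix (Fin 3) (Fin 3) K :=
    Matrix.of fun i j : Fin 3 => ![v i, A.mulVec v i, z i] j with hPdef
  have hu : IsUnit P.det := isUnit_iff_ne_zero.2 hvz
  set B := P⁻¹ * A * P with hBdef
  have hAP : A * P = P * B := by
    rw [hBdef, Matrix.mul_assoc, Matrix.mul_nonsing_inv_cancel_left P _ hu]
  have hB0 : ∀ i, B i 0 = if i = 1 then 1 else 0 := by
    intro i
    have e1 : B *ᵥ ![1, 0, 0] = ![0, 1, 0] := by
      have hP0 : P *ᵥ ![1, 0, 0] = v := by
        funext k; fin_cases k <;> simp [hPdef, mulVec, dotProduct, Fin.sum_univ_three]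
      have hP1 : P *ᵥ ![0, 1, 0] = A *ᵥ v := by
        funext k; fin_cases k <;> simp [hPdef, mulVec, dotProduct, Fin.sum_univ_three]
      rw [hBdef, ← mulVec_mulVec, hP0, ← mulVec_mulVec, ← hP1, mulVec_mulVec,
        Matrix.nonsing_inv_mul P hu, one_mulVec]
    have := congrFun e1 i
    fin_cases i <;> simpa [mulVec, dotProduct, Fin.sum_univ_three] using this
  have hdetz : ∀ w : Fin 3 → K,
      (Matrix.of fun i j : Fin 3 => ![w i, B.mulVec w i, B.mulVec (B.mulVec w) i] j).det = 0 := by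
    intro w
    have h1 := hcy (P *ᵥ w)
    have e : (Matrix.of fun i j : Fin 3 => ![(P *ᵥ w) i, A.mulVec (P *ᵥ w) i,
        A.mulVec (A.mulVec (P *ᵥ w)) i] j) =
        P * Matrix.of fun i j : Fin 3 => ![w i, B.mulVec w i, B.mulVec (B.mulVec w) i] j := by
      have a1 : A *ᵥ (P *ᵥ w) = P *ᵥ (B *ᵥ w) := by rw [mulVec_mulVec, hAP, ← mulVec_mulVec]
      have a2 : A *ᵥ (A *ᵥ (P *ᵥ w)) = P *ᵥ (B *ᵥ (B *ᵥ w)) := by
        rw [a1, mulVec_mulVec, hAP, ← mulVec_mulVec]
      rw [a2, a1]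
      ext i j
      fin_cases j <;> simp [Matrix.mul_apply, mulVec, dotProduct]
    rw [e, det_mul] at h1
    exact (mul_eq_zero.1 h1).resolve_left hvz
  have b20 : B 2 1 = 0 := by
    have := hdetz ![1, 0, 0]
    simp [det_fin_three, mulVec, dotProduct, Fin.sum_univ_three, hB0] at this
    exact this
  set b := B 0 1 with hb
  set a := B 1 1 with ha
  set p := B 0 2 with hp
  set q := B 1 2 with hq
  set d := B 2 2 with hd
  have key : ∀ s : K, s ^ 2 * (d ^ 2 - a * d - b) + s * (-a * q * d - 2 * d * p + a * p - 2 * b * q)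
      + (p ^ 2 + a * p * q - b * q ^ 2) = 0 := by
    intro s
    have := hdetz ![s, 0, 1]
    simp [det_fin_three, mulVec, dotProduct, Fin.sum_univ_three, hB0, b20, ← hb, ← ha, ← hp,
      ← hq, ← hd] at this
    linear_combination this
  obtain ⟨c, hc0, hc1⟩ := hc
  have k0 := key 0
  have k1 := key 1
  have kc := key c
  have hC : p ^ 2 + a * p * q - b * q ^ 2 = 0 := by linear_combination k0
  have hQ : d ^ 2 - a * d - b = 0 := by
    have h : c * (c - 1) * (d ^ 2 - a * d - b) = 0 := by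
      linear_combination kc - c * k1 + (c - 1) * k0
    exact (mul_eq_zero.1 h).resolve_left (mul_ne_zero hc0 (sub_ne_zero.2 hc1))
  have hL : -a * q * d - 2 * d * p + a * p - 2 * b * q = 0 := by
    linear_combination k1 - hQ - hC
  have hpd : p = -d * q := by
    have hb' : b = d ^ 2 - a * d := by linear_combination -hQ
    rw [hb'] at hL hC
    have f1 : (p + d * q) * (p + (a - d) * q) = 0 := by linear_combination hC
    have f2 : (a - 2 * d) * (p + d * q) = 0 := by linear_combination hL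
    by_contra hne
    have hne' : p + d * q ≠ 0 := fun h => hne (by linear_combination h)
    have g1 := (mul_eq_zero.1 f1).resolve_left hne'
    have g2 := (mul_eq_zero.1 f2).resolve_right hne'
    exact hne' (by linear_combination g1 - q * g2)
  refine ⟨d, ![-d, 1, 0], ![1, a - d, q], fun h => by simpa using congrFun h 1, rfl, P, hvz, ?_⟩
  rw [hAP]
  congr 1
  ext i j
  fin_cases i <;> fin_cases j <;>
    simp [rankOne, hB0, b20, ← hb, ← ha, ← hp, ← hq, ← hd] <;> grind

/-- The diagonal matrix `diag(1, t, t⁻¹)`. -/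
def dg (t : K) : Matrix (Fin 3) (Fin 3) K := !![1, 0, 0; 0, t, 0; 0, 0, t⁻¹]

theorem dg_det {t : K} (ht : t ≠ 0) : (dg t).det = 1 := by
  simp [dg, det_fin_three, mul_inv_cancel₀ ht]

/-- `M` is a product of two matrices similar to `D`, of determinant one. -/
def Splits (D M : Matrix (Fin 3) (Fin 3) K) : Prop :=
  ∃ W V, W.det = 1 ∧ V.det = 1 ∧ Sim W D ∧ Sim V D ∧ M = W * V

theorem Splits.of_sim {D M M' : Matrix (Fin 3) (Fin 3) K} (h : Splits D M) (hs : Sim M' M) :
    Splits D M' := by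
  obtain ⟨W, V, hW, hV, sW, sV, e⟩ := h
  obtain ⟨P, hP, hs⟩ := hs
  have hu : IsUnit P.det := isUnit_iff_ne_zero.2 hP
  have hsim : ∀ X, Sim (P * X * P⁻¹) X := fun X =>
    ⟨P, hP, by rw [Matrix.nonsing_inv_mul_cancel_right P _ hu]⟩
  have hdet : ∀ X : Matrix (Fin 3) (Fin 3) K, (P * X * P⁻¹).det = X.det := fun X => by
    rw [det_mul, det_mul, mul_comm P.det, mul_assoc, ← det_mul, Matrix.mul_nonsing_inv P hu,
      det_one, mul_one]
  refine ⟨P * W * P⁻¹, P * V * P⁻¹, by rw [hdet, hW], by rw [hdet, hV],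
    (hsim W).trans sW, (hsim V).trans sV, ?_⟩
  calc M' = M' * P * P⁻¹ := (Matrix.mul_nonsing_inv_cancel_right P _ hu).symm
    _ = P * (W * V) * P⁻¹ := by rw [hs, e]
    _ = P * W * P⁻¹ * (P * V * P⁻¹) := by
        simp only [Matrix.mul_assoc]
        rw [Matrix.nonsing_inv_mul_cancel_left P _ hu]

/-- A matrix with leading minors `1`, `t²`, `1` is `L U` with diagonals `(1, t, t⁻¹)`. -/
theorem splits_of_minors {t : K} (ht : t ≠ 0) (h1 : t ≠ 1) (h2 : t⁻¹ ≠ 1) (h3 : t⁻¹ ≠ t)
    (M : Matrix (Fin 3) (Fin 3) K) (m1 : M 0 0 = 1)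
    (m2 : M 0 0 * M 1 1 - M 0 1 * M 1 0 = t ^ 2) (m3 : M.det = 1) : Splits (dg t) M := by
  rw [det_fin_three] at m3
  set u := M 0 1 with hu
  set v := M 0 2 with hv
  set x := M 1 0 with hx
  set y := M 2 0 with hy
  set w := (M 1 2 - x * v) / t with hw
  set z := (M 2 1 - y * u) / t with hz
  have a12 : (1 : K) - t ≠ 0 := sub_ne_zero.2 (Ne.symm h1)
  have a13 : (1 : K) - t⁻¹ ≠ 0 := sub_ne_zero.2 (Ne.symm h2)
  have a23 : t - t⁻¹ ≠ 0 := sub_ne_zero.2 (Ne.symm h3)
  refine ⟨!![1, 0, 0; x, t, 0; y, z, t⁻¹], !![1, u, v; 0, t, w; 0, 0, t⁻¹], ?_, ?_, ?_, ?_, ?_⟩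
  · simp [det_fin_three, mul_inv_cancel₀ ht]
  · simp [det_fin_three, mul_inv_cancel₀ ht]
  · refine ⟨!![1, 0, 0; x / (1 - t), 1, 0; (y + z * (x / (1 - t))) / (1 - t⁻¹),
      z / (t - t⁻¹), 1], by simp [det_fin_three], ?_⟩
    ext i j
    fin_cases i <;> fin_cases j <;>
      simp [dg, Matrix.mul_apply, Fin.sum_univ_three] <;> grind
  · refine ⟨!![1, -u / (1 - t), -(v - u * (w / (t - t⁻¹))) / (1 - t⁻¹);
      0, 1, -w / (t - t⁻¹); 0, 0, 1], by simp [det_fin_three], ?_⟩
    ext i j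
    fin_cases i <;> fin_cases j <;>
      simp [dg, Matrix.mul_apply, Fin.sum_univ_three] <;> grind
  · have hzt : z * t = M 2 1 - y * u := div_mul_cancel₀ _ ht
    have hwt : w * t = M 1 2 - x * v := div_mul_cancel₀ _ ht
    have htt : t * t⁻¹ = 1 := mul_inv_cancel₀ ht
    ext i j
    fin_cases i <;> fin_cases j <;>
      simp [Matrix.mul_apply, Fin.sum_univ_three, ← hu, ← hv, ← hx, ← hy] <;> grind

theorem splits_of_not_scalar [DecidableEq K] {t : K} (ht : t ≠ 0) (h1 : t ≠ 1) (h2 : t⁻¹ ≠ 1)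
    (h3 : t⁻¹ ≠ t) {A : Matrix (Fin 3) (Fin 3) K} (hdet : A.det = 1)
    (hA : ∀ a : K, A ≠ a • 1) : Splits (dg t) A := by
  rcases cyclic_or_rankOne hA ⟨t, ht, h1⟩ with ⟨v, hv⟩ | ⟨l, c, r, hc, hr, hs⟩
  · set a := A.trace
    set b := e2 A
    set u := a - 1 - t ^ 2 - t⁻¹ ^ 2
    set vv := t ^ 2 + t⁻¹ ^ 2 + (u + t ^ 2) * t⁻¹ ^ 2 - b
    set M : Matrix (Fin 3) (Fin 3) K := !![1, u, vv; 1, u + t ^ 2, vv; 0, 1, t⁻¹ ^ 2] with hM
    have hMdet : M.det = 1 := by
      simp [hM, det_fin_three]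
      field_simp
      ring
    have hMt : M.trace = a := by simp [hM, trace_fin_three, u]; ring
    have hMe : e2 M = b := by
      simp [hM, e2, vv]
      field_simp
      ring
    have hM' : Sim M (comp a b) := by
      rw [← hMt, ← hMe]
      apply sim_comp hMdet (v := ![1, 0, 0])
      simp [hM, det_fin_three, mulVec, dotProduct, Fin.sum_univ_three]
    refine Splits.of_sim (splits_of_minors ht h1 h2 h3 M ?_ ?_ hMdet)
      ((sim_comp hdet hv).trans hM'.symm)
    · simp [hM]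
    · simp [hM]
  · -- the trace of the rank-one part
    set σ := r 0 * c 0 + r 1 * c 1 + r 2 * c 2 with hσ
    have hdet' : l ^ 2 * (l + σ) = 1 := by
      obtain ⟨P, hP, e⟩ := hs
      have := congrArg det e
      rw [det_mul, det_mul, hdet, one_mul] at this
      have h' : (rankOne l c r).det = 1 := by
        have h'' : P.det * 1 = P.det * (rankOne l c r).det := by rw [mul_one]; exact this
        exact (mul_left_cancel₀ hP h'').symm
      rw [← h', hσ]
      simp [rankOne, det_fin_three]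
      ring
    have hl : l ≠ 0 := fun h => by rw [h] at hdet'; simp at hdet'
    set s0 := 1 - l with hs0
    set s1 := t ^ 2 / l - 1 with hs1
    set s2 := σ - s0 - s1 with hs2
    obtain ⟨c', r', hc', hr', hσ', m0, m1⟩ : ∃ c' r' : Fin 3 → K, c' ≠ 0 ∧ r' 0 = 1 ∧
        r' 0 * c' 0 + r' 1 * c' 1 + r' 2 * c' 2 = σ ∧ c' 0 * r' 0 = s0 ∧ c' 1 * r' 1 = s1 := by
      by_cases hz : s0 = 0 ∧ s1 = 0 ∧ s2 = 0
      · obtain ⟨z0, z1, z2⟩ := hz
        refine ⟨![0, 1, 0], ![1, 0, 0], fun h => by simpa using congrFun h 1, rfl, ?_, ?_, ?_⟩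
        · simp; linear_combination -(z0 + z1) - z2 - hs2
        · simp [z0]
        · simp [z1]
      · refine ⟨![s0, s1, s2], ![1, 1, 1], fun h => hz ⟨?_, ?_, ?_⟩, rfl, ?_, ?_, ?_⟩
        · simpa using congrFun h 0
        · simpa using congrFun h 1
        · simpa using congrFun h 2
        · simp [hs2]
        · simp
        · simp
    have hsim' : Sim (rankOne l c r) (rankOne l c' r') := by
      refine (sim_rankOne l c r hr hc).trans ?_
      rw [← hσ, ← hσ']
      exact (sim_rankOne l c' r' hr' hc').symm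
    refine Splits.of_sim (splits_of_minors ht h1 h2 h3 _ ?_ ?_ ?_) (hs.trans hsim')
    · simp [rankOne, m0, hs0]
    · have hlt : s1 * l = t ^ 2 - l := by
        rw [hs1, sub_mul, div_mul_cancel₀ _ hl, one_mul]
      simp [rankOne]
      grind
    · rw [← hdet', ← hσ']
      simp [rankOne, det_fin_three]
      ring

end Cfsg.Agent.Classical.SLThreeSquare
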