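import Cfsg.Agent.Lib.Classical.PSLThreeSquareThree

/-!
# A semisimple class of `PSL₃(q)` whose square covers the non-identity elements
-/

namespace Cfsg.Agent.Classical.SLThreeSquare

open Matrix

variable {K : Type*} [Field K]

theorem orderOf_mk_not_dvd {p m : ℕ} (hm : 0 < m) (hpm : ¬ p ∣ m)
    {S : Matrix.SpecialLinearGroup (Fin 3) K} (h : S ^ m = 1) :
    ¬ p ∣ orderOf (QuotientGroup.mk S : Matrix.ProjectiveSpecialLinearGroup (Fin 3) K) := by
  intro hd
  apply hpm
  refine hd.trans (orderOf_dvd_of_pow_eq_one ?_)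
  rw [← QuotientGroup.mk_pow, h]
  rfl

theorem dg_eq_diagonal (t : K) : dg t = Matrix.diagonal ![1, t, t⁻¹] := by
  ext i j
  fin_cases i <;> fin_cases j <;> simp [dg]

theorem comp_pow_thirteen : (comp (0 : ZMod 3) (-1)) ^ 13 = 1 := by decide +kernel

theorem exists_square_class [Fintype K] (p : ℕ) [Fact p.Prime] [CharP K p]
    (h3 : 3 ≤ Fintype.card K) :
    ∃ x : Matrix.ProjectiveSpecialLinearGroup (Fin 3) K, ¬ p ∣ orderOf x ∧
      ∀ g : Matrix.ProjectiveSpecialLinearGroup (Fin 3) K, g ≠ 1 →
        ∃ u v : Matrix.ProjectiveSpecialLinearGroup (Fin 3) K,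
          g = (u * x * u⁻¹) * (v * x * v⁻¹) := by
  classical
  obtain ⟨n, hp, hn⟩ := FiniteField.card K p
  rcases eq_or_lt_of_le h3 with h | h4
  · -- three elements
    have hK : Fintype.card K = 3 := h.symm
    have hp3 : p = 3 := by
      have h1 : p ∣ 3 := by rw [← hK, hn]; exact dvd_pow_self p n.ne_zero
      exact (Nat.prime_dvd_prime_iff_eq hp Nat.prime_three).1 h1
    subst hp3
    let φ : ZMod 3 →+* K := ZMod.castHom (dvd_refl 3) K
    have hφ : φ.mapMatrix (comp 0 (-1)) = comp 0 (-1) := by
      ext i j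
      fin_cases i <;> fin_cases j <;> simp [comp]
    let S : Matrix.SpecialLinearGroup (Fin 3) K :=
      ⟨comp 0 (-1), by simp [comp, det_fin_three]⟩
    refine ⟨QuotientGroup.mk S, orderOf_mk_not_dvd (m := 13) (by norm_num) (by norm_num) ?_, ?_⟩
    · apply Subtype.ext
      rw [Matrix.SpecialLinearGroup.coe_pow, Matrix.SpecialLinearGroup.coe_one]
      show (comp (0 : K) (-1)) ^ 13 = 1
      rw [← hφ, ← map_pow, comp_pow_thirteen, map_one]
    · intro g hg
      apply psl_products S ?_ (fun A hA hA' => splits_three hK hA hA') g hg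
      intro a ha
      refine ⟨a • 1, ?_, by simp⟩
      have hq := FiniteField.pow_card_sub_one_eq_one a ha
      rw [hK] at hq
      rw [det_smul, det_one, mul_one, Fintype.card_fin]
      calc a ^ 3 = a ^ 2 * a := pow_succ a 2
        _ = a := by rw [hq, one_mul]
  · -- at least four elements
    obtain ⟨t, ht0, ht2⟩ : ∃ t : K, t ≠ 0 ∧ t ^ 2 ≠ 1 := by
      by_contra hno
      push Not at hno
      have hsub : (Finset.univ : Finset K) ⊆ {0, 1, -1} := by
        intro x _
        by_cases hx : x = 0
        · simp [hx]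
        · rcases sq_eq_one_iff.1 (hno x hx) with h | h <;> simp [h]
      have := Finset.card_le_card hsub
      rw [Finset.card_univ] at this
      have := this.trans Finset.card_le_three
      omega
    have h1 : t ≠ 1 := fun h => ht2 (by simp [h])
    have h2 : t⁻¹ ≠ 1 := fun h => h1 (inv_eq_one.1 h)
    have h3' : t⁻¹ ≠ t := fun h => ht2 (by
      rw [sq]; nth_rewrite 2 [← h]; exact mul_inv_cancel₀ ht0)
    let S : Matrix.SpecialLinearGroup (Fin 3) K := ⟨dg t, dg_det ht0⟩
    refine ⟨QuotientGroup.mk S, orderOf_mk_not_dvd (m := Fintype.card K - 1) (by omega) ?_ ?_, ?_⟩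
    · intro hd
      have hq : p ∣ Fintype.card K := by rw [hn]; exact dvd_pow_self p n.ne_zero
      have : p ∣ Fintype.card K - (Fintype.card K - 1) := Nat.dvd_sub hq hd
      rw [Nat.sub_sub_self (by omega)] at this
      exact hp.one_lt.ne' (Nat.dvd_one.1 this)
    · apply Subtype.ext
      rw [Matrix.SpecialLinearGroup.coe_pow, Matrix.SpecialLinearGroup.coe_one]
      show (dg t) ^ _ = 1
      rw [dg_eq_diagonal, Matrix.diagonal_pow, ← Matrix.diagonal_one]
      congr 1
      funext i
      fin_cases i <;>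
        simp [FiniteField.pow_card_sub_one_eq_one t ht0, inv_pow]
    · intro g hg
      apply psl_products S ?_ (fun A hA hA' => splits_of_not_scalar ht0 h1 h2 h3' hA hA') g hg
      intro a _
      refine ⟨Matrix.diagonal ![a, 1, 1], by simp [det_diagonal, Fin.prod_univ_three], ?_⟩
      show dg t * _ = _ * dg t
      rw [dg_eq_diagonal, Matrix.diagonal_mul_diagonal, Matrix.diagonal_mul_diagonal]
      simp [mul_comm]

end Cfsg.Agent.Classical.SLThreeSquare
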