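import Cfsg.Agent.Lib.Classical.PSLThreeSquare

/-!
# Products of two elements of order 13 in `SL₃(3)`, and passage to `PSL₃`
-/

namespace Cfsg.Agent.Classical.SLThreeSquare

open Matrix

variable {K : Type*} [Field K]

theorem Sim.slConj {S : Matrix.SpecialLinearGroup (Fin 3) K}
    {W : Matrix.SpecialLinearGroup (Fin 3) K}
    (hcent : ∀ a : K, a ≠ 0 → ∃ C : Matrix (Fin 3) (Fin 3) K, C.det = a ∧
      (S : Matrix (Fin 3) (Fin 3) K) * C = C * (S : Matrix (Fin 3) (Fin 3) K))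
    (h : Sim (W : Matrix (Fin 3) (Fin 3) K) S) :
    ∃ u : Matrix.SpecialLinearGroup (Fin 3) K, W = u * S * u⁻¹ := by
  obtain ⟨P, hP, e⟩ := h
  obtain ⟨C, hC, hSC⟩ := hcent P.det⁻¹ (inv_ne_zero hP)
  let u : Matrix.SpecialLinearGroup (Fin 3) K :=
    ⟨P * C, by rw [det_mul, hC, mul_inv_cancel₀ hP]⟩
  refine ⟨u, eq_mul_inv_iff_mul_eq.2 ?_⟩
  apply Subtype.ext
  show (W : Matrix (Fin 3) (Fin 3) K) * (P * C) = P * C * (S : Matrix (Fin 3) (Fin 3) K)
  rw [← Matrix.mul_assoc, e, Matrix.mul_assoc, hSC, Matrix.mul_assoc]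

theorem sim_comp_map {φ : ZMod 3 →+* K} (W : Matrix (Fin 3) (Fin 3) (ZMod 3))
    (h : W.det = 1 ∧ W.trace = 0 ∧ e2 W = -1 ∧
      (Matrix.of fun i j : Fin 3 => ![![1, 0, 0] i, W i 0, (W * W) i 0] j).det ≠ 0) :
    (φ.mapMatrix W).det = 1 ∧ Sim (φ.mapMatrix W) (comp 0 (-1)) := by
  obtain ⟨hd, ht, he, hv⟩ := h
  have hd' : (φ.mapMatrix W).det = 1 := by rw [← RingHom.map_det, hd, map_one]
  refine ⟨hd', ?_⟩
  have ht' : (φ.mapMatrix W).trace = 0 := by
    rw [← map_zero φ, ← ht]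
    simp [trace_fin_three]
  have he' : e2 (φ.mapMatrix W) = -1 := by
    have hmap : e2 (φ.mapMatrix W) = φ (e2 W) := by simp [e2]
    rw [hmap, he, map_neg, map_one]
  rw [← ht', ← he']
  apply sim_comp hd' (v := ![1, 0, 0])
  have hφ : Function.Injective φ := φ.injective
  intro h0
  apply hv
  apply hφ
  rw [map_zero, RingHom.map_det, ← h0]
  congr 1
  ext i j
  fin_cases j
  · fin_cases i <;> simp
  · simp [mulVec, dotProduct, Fin.sum_univ_three]
  · simp [mulVec, dotProduct, Matrix.mul_apply, Fin.sum_univ_three]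

theorem splits_three [DecidableEq K] [Fintype K] (hK : Fintype.card K = 3)
    {A : Matrix (Fin 3) (Fin 3) K} (hdet : A.det = 1) (hA : ∀ a : K, A ≠ a • 1) :
    Splits (comp 0 (-1)) A := by
  haveI : CharP K 3 := charP_of_card_eq_prime hK
  let φ : ZMod 3 →+* K := ZMod.castHom (dvd_refl 3) K
  have hbij : Function.Bijective φ :=
    (Fintype.bijective_iff_injective_and_card _).2 ⟨φ.injective, by rw [ZMod.card, hK]⟩
  have h2 : (-1 : K) ≠ 1 := by
    rw [← map_one φ, ← map_neg]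
    exact fun h => absurd (φ.injective h) (by decide +kernel)
  have wit : ∀ N W V : Matrix (Fin 3) (Fin 3) (ZMod 3),
      (W.det = 1 ∧ W.trace = 0 ∧ e2 W = -1 ∧
        (Matrix.of fun i j : Fin 3 => ![![1, 0, 0] i, W i 0, (W * W) i 0] j).det ≠ 0) →
      (V.det = 1 ∧ V.trace = 0 ∧ e2 V = -1 ∧
        (Matrix.of fun i j : Fin 3 => ![![1, 0, 0] i, V i 0, (V * V) i 0] j).det ≠ 0) →
      W * V = N → Splits (comp (0 : K) (-1)) (φ.mapMatrix N) := by
    intro N W V hW hV e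
    refine ⟨φ.mapMatrix W, φ.mapMatrix V, (sim_comp_map W hW).1, (sim_comp_map V hV).1,
      (sim_comp_map W hW).2,
      (sim_comp_map V hV).2, ?_⟩
    rw [← map_mul, e]
  have key : ∀ x y : ZMod 3, (rankOneNormal x y).det = 1 →
      x = 1 ∧ y = 0 ∨ x = 2 ∧ y = 2 := by decide +kernel
  rcases cyclic_or_rankOne hA ⟨-1, by simp, h2⟩ with ⟨v, hv⟩ | ⟨l, c, r, hc, hr, hs⟩
  · obtain ⟨a, ha⟩ := hbij.2 A.trace
    obtain ⟨b, hb⟩ := hbij.2 (e2 A)
    refine Splits.of_sim (M := φ.mapMatrix (comp a b)) ?_ ?_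
    · have hcases : ∀ x : ZMod 3, x = 0 ∨ x = 1 ∨ x = 2 := by decide +kernel
      rcases hcases a with rfl | rfl | rfl <;> rcases hcases b with rfl | rfl | rfl
      · exact wit _ !![0, 1, 0; 0, 0, 2; 2, 2, 0] !![0, 2, 2; 0, 0, 1; 2, 0, 0]
          (by decide +kernel) (by decide +kernel) (by decide +kernel)
      · exact wit _ !![0, 1, 0; 1, 2, 2; 1, 1, 1] !![2, 2, 1; 0, 0, 1; 1, 2, 1]
          (by decide +kernel) (by decide +kernel) (by decide +kernel)
      · exact wit _ !![0, 1, 1; 0, 0, 2; 2, 1, 0] !![1, 2, 2; 1, 0, 2; 2, 0, 2]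
          (by decide +kernel) (by decide +kernel) (by decide +kernel)
      · exact wit _ !![0, 1, 0; 0, 1, 1; 1, 0, 2] !![1, 1, 0; 0, 0, 1; 1, 0, 2]
          (by decide +kernel) (by decide +kernel) (by decide +kernel)
      · exact wit _ !![0, 1, 0; 0, 1, 2; 2, 0, 2] !![1, 2, 0; 0, 0, 1; 2, 0, 2]
          (by decide +kernel) (by decide +kernel) (by decide +kernel)
      · exact wit _ !![0, 1, 0; 0, 2, 2; 2, 0, 1] !![2, 2, 0; 0, 0, 1; 2, 0, 1]
          (by decide +kernel) (by decide +kernel) (by decide +kernel)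
      · exact wit _ !![0, 1, 0; 0, 0, 1; 1, 1, 0] !![0, 1, 1; 0, 0, 1; 1, 0, 0]
          (by decide +kernel) (by decide +kernel) (by decide +kernel)
      · exact wit _ !![0, 1, 0; 1, 0, 1; 1, 0, 0] !![0, 1, 2; 0, 0, 1; 1, 2, 0]
          (by decide +kernel) (by decide +kernel) (by decide +kernel)
      · exact wit _ !![0, 1, 0; 1, 0, 2; 2, 0, 0] !![0, 2, 1; 0, 0, 1; 2, 2, 0]
          (by decide +kernel) (by decide +kernel) (by decide +kernel)
    · have e : φ.mapMatrix (comp a b) = comp A.trace (e2 A) := by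
        rw [← ha, ← hb]
        ext i j
        fin_cases i <;> fin_cases j <;> simp [comp]
      rw [e]
      exact sim_comp hdet hv
  · set σ := r 0 * c 0 + r 1 * c 1 + r 2 * c 2 with hσ
    have hs' := hs.trans (sim_rankOne l c r hr hc)
    rw [← hσ] at hs'
    have hdet' : (rankOneNormal l σ).det = 1 := by
      obtain ⟨P, hP, e⟩ := hs'
      have := congrArg det e
      rw [det_mul, det_mul, hdet, one_mul] at this
      have h'' : P.det * 1 = P.det * (rankOneNormal l σ).det := by rw [mul_one]; exact this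
      exact (mul_left_cancel₀ hP h'').symm
    obtain ⟨l', rfl⟩ := hbij.2 l
    obtain ⟨s', hs''⟩ := hbij.2 σ
    rw [← hs''] at hs' hdet'
    refine Splits.of_sim ?_ hs'
    have hN : rankOneNormal (φ l') (φ s') = φ.mapMatrix (rankOneNormal l' s') := by
      unfold rankOneNormal
      by_cases hz : s' = 0
      · subst hz
        rw [map_zero, if_pos rfl, if_pos rfl]
        ext i j
        fin_cases i <;> fin_cases j <;> simp
      · rw [if_neg hz, if_neg (fun h => hz (φ.injective (by rw [h, map_zero])))]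
        ext i j
        fin_cases i <;> fin_cases j <;> simp
    have hl' : l' = 1 ∧ s' = 0 ∨ l' = 2 ∧ s' = 2 := by
      rw [hN, ← RingHom.map_det, ← map_one φ] at hdet'
      have := φ.injective hdet'
      exact key l' s' this
    rw [hN]
    rcases hl' with ⟨rfl, rfl⟩ | ⟨rfl, rfl⟩
    · exact wit _ !![0, 1, 0; 0, 1, 1; 1, 0, 2] !![0, 1, 1; 1, 0, 0; 0, 1, 0]
        (by decide +kernel) (by decide +kernel) (by decide +kernel)
    · exact wit _ !![1, 0, 1; 0, 0, 1; 1, 2, 2] !![1, 1, 0; 1, 2, 1; 0, 2, 0]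
        (by decide +kernel) (by decide +kernel) (by decide +kernel)

/-- From a splitting of all non-scalar matrices to the statement in `PSL₃`. -/
theorem psl_products (S : Matrix.SpecialLinearGroup (Fin 3) K)
    (hcent : ∀ a : K, a ≠ 0 → ∃ C : Matrix (Fin 3) (Fin 3) K, C.det = a ∧
      (S : Matrix (Fin 3) (Fin 3) K) * C = C * (S : Matrix (Fin 3) (Fin 3) K))
    (hsplit : ∀ A : Matrix (Fin 3) (Fin 3) K, A.det = 1 → (∀ a : K, A ≠ a • 1) →
      Splits (S : Matrix (Fin 3) (Fin 3) K) A)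
    (g : Matrix.ProjectiveSpecialLinearGroup (Fin 3) K) (hg : g ≠ 1) :
    ∃ u v : Matrix.ProjectiveSpecialLinearGroup (Fin 3) K,
      g = (u * QuotientGroup.mk S * u⁻¹) * (v * QuotientGroup.mk S * v⁻¹) := by
  obtain ⟨A, rfl⟩ := QuotientGroup.mk_surjective g
  have hA : ∀ a : K, (A : Matrix (Fin 3) (Fin 3) K) ≠ a • 1 := by
    intro a ha
    apply hg
    rw [QuotientGroup.eq_one_iff, Matrix.SpecialLinearGroup.mem_center_iff]
    refine ⟨a, ?_, by rw [ha, Matrix.smul_one_eq_diagonal]; rfl⟩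
    have := A.2
    rw [ha, det_smul, det_one, mul_one] at this
    simpa using this
  obtain ⟨W, V, hW, hV, sW, sV, e⟩ := hsplit _ A.2 hA
  obtain ⟨u, hu⟩ := Sim.slConj (W := ⟨W, hW⟩) hcent sW
  obtain ⟨v, hv⟩ := Sim.slConj (W := ⟨V, hV⟩) hcent sV
  refine ⟨QuotientGroup.mk u, QuotientGroup.mk v, ?_⟩
  have hAe : A = u * S * u⁻¹ * (v * S * v⁻¹) := by
    rw [← hu, ← hv]
    exact Subtype.ext e
  rw [hAe]
  rfl

end Cfsg.Agent.Classical.SLThreeSquare
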