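import Mathlib
import Cfsg.Agent.Lib.Classical.GL2

/-!
# Frames of the projective line
-/

namespace Cfsg.Agent.Classical.ProjLine

open Matrix
open scoped MatrixGroups LinearAlgebra.Projectivization

set_option linter.unusedSimpArgs false

variable {F : Type*} [Field F]

/-- The standard frame `[1:0], [0:1], [1:1]`. -/
def frameVec : Fin 3 → Fin 2 → F := ![![1, 0], ![0, 1], ![1, 1]]

theorem frameVec_ne_zero (i : Fin 3) : (frameVec i : Fin 2 → F) ≠ 0 := by
  intro h
  have h0 := congrFun h 0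
  have h1 := congrFun h 1
  fin_cases i <;> simp [frameVec] at h0 h1

/-- The standard frame as points. -/
def frame (i : Fin 3) : ℙ F (Fin 2 → F) := Projectivization.mk F (frameVec i) (frameVec_ne_zero i)

theorem det_ne_zero_of_ne {v w : Fin 2 → F} (hv : v ≠ 0) (hw : w ≠ 0)
    (h : Projectivization.mk F v hv ≠ Projectivization.mk F w hw) : v 0 * w 1 - w 0 * v 1 ≠ 0 := by
  intro hd
  apply h
  rw [Projectivization.mk_eq_mk_iff']
  by_cases h0 : w 0 = 0
  · have h1 : w 1 ≠ 0 := fun h1 => hw (by ext i; fin_cases i <;> assumption)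
    refine ⟨v 1 / w 1, ?_⟩
    have hv0 : v 0 = 0 := (mul_eq_zero.1 (by linear_combination hd + v 1 * h0 :
      v 0 * w 1 = 0)).resolve_right h1
    ext i; fin_cases i
    · simp [h0, hv0]
    · simp; field_simp
  · refine ⟨v 0 / w 0, ?_⟩
    ext i; fin_cases i
    · simp; field_simp
    · simp; field_simp; linear_combination hd

theorem smul_frame_eq (g : GL (Fin 2) F) (i : Fin 3) :
    (ProjGenLinGroup.mk g : PGL(Fin 2, F)) • (frame i : ℙ F (Fin 2 → F)) =
      Projectivization.mk F (g • (frameVec i : Fin 2 → F))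
        ((smul_ne_zero_iff_ne g).2 (frameVec_ne_zero i)) := rfl

/-- Three distinct points are the image of the standard frame. -/
theorem exists_smul_frame (x : Fin 3 → ℙ F (Fin 2 → F)) (hx : Function.Injective x) :
    ∃ g : GL (Fin 2) F, ∀ i, (ProjGenLinGroup.mk g : PGL(Fin 2, F)) • frame i = x i := by
  set a : Fin 3 → Fin 2 → F := fun i => (x i).rep with ha
  have hne : ∀ i j, i ≠ j → a i 0 * a j 1 - a j 0 * a i 1 ≠ 0 := by
    intro i j hij
    refine det_ne_zero_of_ne (x i).rep_nonzero (x j).rep_nonzero ?_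
    rw [Projectivization.mk_rep, Projectivization.mk_rep]
    exact hx.ne hij
  set D := a 0 0 * a 1 1 - a 1 0 * a 0 1 with hD
  set α := (a 2 0 * a 1 1 - a 1 0 * a 2 1) / D with hα
  set β := (a 0 0 * a 2 1 - a 2 0 * a 0 1) / D with hβ
  have hD0 : D ≠ 0 := hne 0 1 (by decide)
  have hα0 : α ≠ 0 := div_ne_zero (hne 2 1 (by decide)) hD0
  have hβ0 : β ≠ 0 := div_ne_zero (hne 0 2 (by decide)) hD0
  refine ⟨GeneralLinearGroup.mkOfDetNeZero
    !![α * a 0 0, β * a 1 0; α * a 0 1, β * a 1 1] ?_, fun i => ?_⟩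
  · have e : Matrix.det !![α * a 0 0, β * a 1 0; α * a 0 1, β * a 1 1] = α * β * D := by
      rw [det_fin_two_of, hD]; ring
    rw [e]; exact mul_ne_zero (mul_ne_zero hα0 hβ0) hD0
  rw [smul_frame_eq, ← Projectivization.mk_rep (x i), Projectivization.mk_eq_mk_iff']
  have key : ∀ M : GL (Fin 2) F, ∀ v : Fin 2 → F, M • v = (M : Matrix (Fin 2) (Fin 2) F) *ᵥ v :=
    fun _ _ => rfl
  simp only [key, GeneralLinearGroup.val_mkOfDetNeZero]
  fin_cases i
  · refine ⟨α, ?_⟩
    ext k; fin_cases k <;> simp [frameVec, ha, mulVec, dotProduct, Fin.sum_univ_two, mul_comm]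
  · refine ⟨β, ?_⟩
    ext k; fin_cases k <;> simp [frameVec, ha, mulVec, dotProduct, Fin.sum_univ_two, mul_comm]
  · refine ⟨1, ?_⟩
    show (1 : F) • a 2 = _
    ext k; fin_cases k <;>
      simp [frameVec, mulVec, dotProduct, Fin.sum_univ_two, hα, hβ] <;> field_simp <;>
      rw [hD] <;> ring

theorem frame_injective : Function.Injective (frame : Fin 3 → ℙ F (Fin 2 → F)) := by
  intro i j h
  rw [frame, frame, Projectivization.mk_eq_mk_iff'] at h
  obtain ⟨a, ha⟩ := h
  have h0 := congrFun ha 0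
  have h1 := congrFun ha 1
  fin_cases i <;> fin_cases j <;> simp_all [frameVec]

/-- An element fixing the standard frame is scalar. -/
theorem eq_one_of_fix_frame (g : GL (Fin 2) F)
    (h : ∀ i, (ProjGenLinGroup.mk g : PGL(Fin 2, F)) • (frame i : ℙ F (Fin 2 → F)) = frame i) :
    (ProjGenLinGroup.mk g : PGL(Fin 2, F)) = 1 := by
  have e : ∀ i, ∃ c : F, c • (frameVec i : Fin 2 → F) = (g : Matrix (Fin 2) (Fin 2) F) *ᵥ frameVec i := by
    intro i
    have := h i
    rw [smul_frame_eq, frame, Projectivization.mk_eq_mk_iff'] at this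
    obtain ⟨a, ha⟩ := this
    exact ⟨a, ha⟩
  obtain ⟨c0, hc0⟩ := e 0
  obtain ⟨c1, hc1⟩ := e 1
  obtain ⟨c2, hc2⟩ := e 2
  have a0 := congrFun hc0 0
  have b0 := congrFun hc0 1
  have a1 := congrFun hc1 0
  have b1 := congrFun hc1 1
  have a2 := congrFun hc2 0
  have b2 := congrFun hc2 1
  simp [frameVec, mulVec, dotProduct, Fin.sum_univ_two] at a0 b0 a1 b1 a2 b2
  have h10 : g 1 0 = 0 := by first | exact b0 | exact b0.symm
  have h01 : g 0 1 = 0 := by first | exact a1 | exact a1.symm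
  have hd : g 0 0 = g 1 1 := by rw [h01] at a2; rw [h10] at b2; simp at a2 b2; rw [← a2, ← b2]
  obtain ⟨h00, -⟩ := GL2.GL_apply_zero_zero_ne_zero g h10
  have hg : g = GeneralLinearGroup.scalar (Fin 2) (Units.mk0 _ h00) := by
    refine Units.ext ?_
    ext i j
    fin_cases i <;> fin_cases j <;> simp [h10, h01, hd]
  rw [hg, ProjGenLinGroup.mk_scalar]

end Cfsg.Agent.Classical.ProjLine
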