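import Mathlib
import Cfsg.Agent.Lib.Forms.HermStd
import Cfsg.Agent.Lib.Classical.UnitaryTwo

/-!
# The quadratic extension attached to an anisotropic binary form
-/

set_option autoImplicit false

namespace Cfsg.Agent.Classical.QuadExt

variable {F K : Type*} [Field F] [Fintype F] [Field K] [Fintype K] {q : ℕ}
variable (hF : Fintype.card F = q) (hK : Fintype.card K = q ^ 2)

include hF hK in
theorem exists_data {a b : F}
    (hab : ∀ z₁ z₂ : F, z₁ ^ 2 + a * z₁ * z₂ + b * z₂ ^ 2 = 0 → z₁ = 0 ∧ z₂ = 0) :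
    ∃ (i : F →+* K) (ω : K), (∀ x, i x ^ q = i x) ∧ (∀ z, z ^ q = z → ∃ x, i x = z) ∧
      ω ^ q ≠ ω ∧ ω + ω ^ q = i a ∧ ω * ω ^ q = i b := by
  have : Fact (∀ r : F, r ^ 2 ≠ -b + a * r) := ⟨fun r hr => one_ne_zero
    (hab (-r) 1 (by linear_combination hr)).2⟩
  have : Fintype (QuadraticAlgebra F (-b) a) := Fintype.ofEquiv _ (QuadraticAlgebra.equivProd (-b) a).symm
  have hL : Fintype.card (QuadraticAlgebra F (-b) a) = Fintype.card K := by
    rw [Fintype.card_congr (QuadraticAlgebra.equivProd (-b) a), Fintype.card_prod, hF, hK, sq]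
  let j : (QuadraticAlgebra F (-b) a) ≃+* K := FiniteField.ringEquivOfCardEq (K := (QuadraticAlgebra F (-b) a)) (K' := K) hL
  let i : F →+* K := j.toRingHom.comp (algebraMap F (QuadraticAlgebra F (-b) a))
  let ω : K := j (⟨0, 1⟩ : (QuadraticAlgebra F (-b) a))
  have hfix : ∀ x, i x ^ q = i x := fun x => by
    rw [← map_pow, ← hF, FiniteField.pow_card]
  have himg : ∀ z, z ^ q = z → ∃ x, i x = z := fun z hz => by
    classical
    have hsub : (Finset.univ.image i) = (Finset.univ.filter fun z : K => z ^ q = z) := by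
      refine Finset.eq_of_subset_of_card_le (fun z hz' => ?_) ?_
      · obtain ⟨x, -, rfl⟩ := Finset.mem_image.1 hz'
        exact Finset.mem_filter.2 ⟨Finset.mem_univ _, hfix x⟩
      · rw [Finset.card_image_of_injective _ i.injective, Finset.card_univ, hF]
        refine le_of_eq ?_
        rw [← Fintype.card_subtype, ← Nat.card_eq_fintype_card]
        exact Unitary.natCard_fixField hK
    have : z ∈ Finset.univ.image i := hsub ▸ Finset.mem_filter.2 ⟨Finset.mem_univ _, hz⟩
    obtain ⟨x, -, hx⟩ := Finset.mem_image.1 this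
    exact ⟨x, hx⟩
  have hL2 : ∀ x y : F, j (⟨x, y⟩ : (QuadraticAlgebra F (-b) a)) = i x + ω * i y := fun x y => by
    have h1 : (⟨x, y⟩ : (QuadraticAlgebra F (-b) a)) = algebraMap F (QuadraticAlgebra F (-b) a) x + ⟨0, 1⟩ * algebraMap F (QuadraticAlgebra F (-b) a) y := by
      ext <;> simp [QuadraticAlgebra.re_add, QuadraticAlgebra.im_add, QuadraticAlgebra.re_mul,
        QuadraticAlgebra.im_mul, QuadraticAlgebra.algebraMap_re, QuadraticAlgebra.algebraMap_im]
    rw [h1, map_add, map_mul]; rfl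
  have hroot : ω ^ 2 = i (-b) + ω * i a := by
    rw [← hL2, ← map_pow]
    congr 1
    ext <;> simp [sq, QuadraticAlgebra.re_mul, QuadraticAlgebra.im_mul]
  have hne : ω ^ q ≠ ω := fun h => by
    obtain ⟨x, hx⟩ := himg ω h
    have h' : algebraMap F (QuadraticAlgebra F (-b) a) x = ⟨0, 1⟩ := j.injective hx
    have h'' := congrArg QuadraticAlgebra.im h'
    simp [QuadraticAlgebra.algebraMap_im] at h''
  have hroot' : (ω ^ q) ^ 2 = i (-b) + ω ^ q * i a := by
    have h := congrArg (Forms.HermStd.qHom hK) hroot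
    rw [map_pow, map_add, map_mul, Forms.HermStd.qHom_apply, Forms.HermStd.qHom_apply,
      Forms.HermStd.qHom_apply, hfix, hfix] at h
    exact h
  have hsum : ω + ω ^ q = i a := by
    refine sub_eq_zero.1 ((mul_eq_zero.1 ?_).resolve_left (sub_ne_zero.2 hne))
    linear_combination hroot' - hroot
  refine ⟨i, ω, hfix, himg, hne, hsum, ?_⟩
  rw [← neg_neg b, map_neg i (-b)]
  linear_combination ω * hsum - hroot

section use

variable (i : F →+* K) (ω : K) {a b : F}

/-- The coordinate map `(z₁, z₂) ↦ z₁ + ω z₂`. -/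
def toK (z₁ z₂ : F) : K := i z₁ + ω * i z₂

include hF in
theorem conj_toK (hfix : ∀ x, i x ^ q = i x) (hK : Fintype.card K = q ^ 2) (z₁ z₂ : F) :
    toK i ω z₁ z₂ ^ q = i z₁ + ω ^ q * i z₂ := by
  rw [toK, ← Forms.HermStd.qHom_apply hK, map_add, map_mul, Forms.HermStd.qHom_apply,
    Forms.HermStd.qHom_apply, Forms.HermStd.qHom_apply, hfix, hfix]

theorem toK_mul_conj (hsum : ω + ω ^ q = i a) (hprod : ω * ω ^ q = i b) (z₁ z₂ : F) :
    toK i ω z₁ z₂ * (i z₁ + ω ^ q * i z₂) = i (z₁ ^ 2 + a * z₁ * z₂ + b * z₂ ^ 2) := by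
  simp only [toK, map_add, map_mul, map_pow]
  linear_combination (i z₁ * i z₂) * hsum + (i z₂) ^ 2 * hprod

include hF in
theorem toK_bijective (hfix : ∀ x, i x ^ q = i x) (hne : ω ^ q ≠ ω)
    (hK : Fintype.card K = q ^ 2) :
    Function.Bijective (fun z : F × F => toK i ω z.1 z.2) := by
  rw [Fintype.bijective_iff_injective_and_card, Fintype.card_prod, hF, hK, sq]
  refine ⟨fun z w h => ?_, rfl⟩
  have h1 : toK i ω z.1 z.2 = toK i ω w.1 w.2 := h
  have h2 := congrArg (fun x => x ^ q) h1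
  simp only [conj_toK hF i ω hfix hK] at h2
  simp only [toK] at h1
  have h3 : (ω ^ q - ω) * (i z.2 - i w.2) = 0 := by linear_combination h2 - h1
  have e2 : i z.2 = i w.2 := sub_eq_zero.1 ((mul_eq_zero.1 h3).resolve_left (sub_ne_zero.2 hne))
  have e1 : i z.1 = i w.1 := by linear_combination h1 - ω * e2
  exact Prod.ext (i.injective e1) (i.injective e2)

end use

end Cfsg.Agent.Classical.QuadExt
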