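import Cfsg.Agent.Lib.Classical.QuadClass
import Cfsg.Agent.Lib.Classical.QuadExt
import Cfsg.Agent.Lib.Classical.OrthIso
import Cfsg.Agent.Lib.Forms.SympStd
import Cfsg.Prelude.Def_LieClassical

/-!
# Embeddings of classical groups by restriction of scalars
-/

set_option autoImplicit false

namespace Cfsg.Agent.Classical.RestrictScalars

open Cfsg.Agent.Forms Matrix Module
open Cfsg.Agent.Classical.OrthForms Cfsg.Agent.Classical.OrthCount Cfsg.Agent.Forms.PlusStd

/-- A symplectic representation gives a homomorphism to the symplectic group. -/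
theorem exists_hom_sp {F V G : Type*} [Field F] [Group G] [AddCommGroup V] [Module F V]
    [FiniteDimensional F V] (B : LinearMap.BilinForm F V) (hA : B.IsAlt) (hB : B.Nondegenerate)
    {m : ℕ} (hm : finrank F V = 2 * m) (ρ : G →* Module.End F V)
    (hρ : ∀ g u v, B (ρ g u) (ρ g v) = B u v) (hinj : ∀ g, (∀ v, ρ g v = v) → g = 1) :
    ∃ φ : G →* ↥(Matrix.symplecticGroup (Fin m) F), Function.Injective φ := by
  classical
  obtain ⟨b, h12, h11, h22⟩ := Bases.exists_sympBasis B hA hB hm
  let b' := b.reindex (Equiv.sumComm (Fin m) (Fin m))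
  let e : V ≃ₗ[F] (Fin m ⊕ Fin m → F) := b'.equivFun
  have h21 : ∀ i j, B (b (.inr i)) (b (.inl j)) = if i = j then -1 else 0 := fun i j => by
    rw [← LinearMap.IsAlt.neg hA (b (.inl j)) (b (.inr i)), h12]
    by_cases h : i = j
    · subst h; simp
    · simp [h, Ne.symm h]
  have hval : ∀ u v, Cfsg.sympForm m F (e u) (e v) = B u v := by
    intro u v
    rw [← SympStd.sympB_apply]
    refine LinearMap.congr_fun₂ (LinearMap.ext_basis (B := (SympStd.sympB m F).compl₁₂ e.toLinearMap
      e.toLinearMap) (B' := B) b' b' fun i j => ?_) u v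
    rw [LinearMap.compl₁₂_apply]
    have hs : ∀ k : Fin m ⊕ Fin m, e (b' k) = Pi.single k 1 := fun k => funext fun j => by
      show b'.equivFun (b' k) j = _
      rw [Basis.equivFun_self, Pi.single_apply]
      exact if_congr eq_comm rfl rfl
    simp only [LinearEquiv.coe_coe]
    rw [hs, hs, SympStd.sympB_apply]
    rcases i with i | i <;> rcases j with j | j <;>
      simp only [b', Basis.reindex_apply, Equiv.sumComm_symm, Equiv.sumComm_apply, Sum.swap_inl,
        Sum.swap_inr, SympStd.sympForm_inl_inl, SympStd.sympForm_inl_inr, SympStd.sympForm_inr_inl,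
        SympStd.sympForm_inr_inr, h11, h22, h12, h21]
  let σ := OrthIso.conjRep e.symm ρ
  have hσ : ∀ g v, σ g v = e (ρ g (e.symm v)) := fun g v => rfl
  let E : G → ((Fin m ⊕ Fin m → F) ≃ₗ[F] (Fin m ⊕ Fin m → F)) := fun g => OrthIso.repEquiv σ g
  have hE : ∀ g u v, Cfsg.sympForm m F (E g u) (E g v) = Cfsg.sympForm m F u v := fun g u v => by
    show Cfsg.sympForm m F (σ g u) (σ g v) = _
    rw [hσ, hσ, hval, hρ, ← hval, e.apply_symm_apply, e.apply_symm_apply]
  refine ⟨MonoidHom.mk' (fun g => SympStd.ofEquiv (E g) (hE g)) fun g h => SympStd.sp_ext fun v => ?_,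
    (injective_iff_map_eq_one _).2 fun g hg => hinj g fun v => ?_⟩
  · rw [SympStd.mul_mulVec_sp, SympStd.ofEquiv_mulVec, SympStd.ofEquiv_mulVec, SympStd.ofEquiv_mulVec]
    show σ (g * h) v = σ g (σ h v)
    rw [map_mul]; rfl
  · have h1 : (SympStd.ofEquiv (E g) (hE g) : Matrix (Fin m ⊕ Fin m) (Fin m ⊕ Fin m) F) *ᵥ (e v) = e v := by
      rw [show SympStd.ofEquiv (E g) (hE g) = 1 from hg]
      exact one_mulVec _
    rw [SympStd.ofEquiv_mulVec] at h1
    have h2 : σ g (e v) = e v := h1
    rw [hσ, e.symm_apply_apply] at h2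
    exact e.injective h2

/-- An orthogonal representation gives a homomorphism to an isometry group. -/
theorem exists_hom_orth {F V G : Type*} [Field F] [Group G] [AddCommGroup V] [Module F V]
    {ι : Type} [Fintype ι] [DecidableEq ι] (Q : QuadraticForm F V) (P : QuadraticForm F (ι → F))
    (e : V ≃ₗ[F] (ι → F)) (he : ∀ x, P (e x) = Q x) (ρ : G →* Module.End F V)
    (hρ : ∀ g v, Q (ρ g v) = Q v) (hinj : ∀ g, (∀ v, ρ g v = v) → g = 1) :
    ∃ φ : G →* ↥(Cfsg.isometryGroup F ⇑P), Function.Injective φ := by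
  have h : ∀ g v, P (OrthIso.conjRep e.symm ρ g v) = P v := fun g v => by
    rw [OrthIso.conjRep_apply, LinearEquiv.symm_symm, he, hρ, ← he, e.apply_symm_apply]
  refine ⟨OrthIso.repHom P (OrthIso.conjRep e.symm ρ) h, (injective_iff_map_eq_one _).2 fun g hg => ?_⟩
  exact hinj g ((OrthIso.conjRep_eq_iff e.symm ρ g).1 ((OrthIso.repHom_eq_one _ _ _).1 hg))

/-- Data for the quadratic extension `K / F`. -/
theorem exists_ringHom {F K : Type*} [Field F] [Fintype F] [Field K] [Fintype K] {q : ℕ}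
    (hK : Fintype.card K = q ^ 2) (hF : Fintype.card F = q) :
    ∃ i : F →+* K, (∀ x, i x ^ q = i x) ∧ ∀ z, z ^ q = z → ∃ x, i x = z := by
  classical
  let L : Subfield K := RingHom.eqLocusField (HermStd.qHom hK) (RingHom.id K)
  have hmem : ∀ z, z ∈ L ↔ z ^ q = z := fun z => Iff.rfl
  have hL : Fintype.card F = Fintype.card L := by
    rw [hF, ← Nat.card_eq_fintype_card]
    exact (Unitary.natCard_fixField hK).symm.trans
      (Nat.card_congr (Equiv.subtypeEquivRight fun z => (hmem z).symm))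
  let j : F ≃+* L := FiniteField.ringEquivOfCardEq hL
  refine ⟨L.subtype.comp j.toRingHom, fun x => (hmem _).1 (j x).2, fun z hz => ?_⟩
  exact ⟨j.symm ⟨z, (hmem z).2 hz⟩, by simp⟩

section ext

variable {F K : Type*} [Field F] [Fintype F] [Field K] [Fintype K] [Algebra F K] {q : ℕ}
variable (hK : Fintype.card K = q ^ 2) (hF : Fintype.card F = q)
variable (hfix : ∀ x : F, algebraMap F K x ^ q = algebraMap F K x)
variable (himg : ∀ z : K, z ^ q = z → ∃ x, algebraMap F K x = z)

include hK hF in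
theorem finrank_two : finrank F K = 2 := by
  have h := Module.natCard_eq_pow_finrank (K := F) (V := K)
  rw [Nat.card_eq_fintype_card, Nat.card_eq_fintype_card, hK, hF] at h
  exact (Nat.pow_right_injective (hF ▸ Fintype.one_lt_card) h).symm

include hK hF in
theorem finrank_pi_ext (n : ℕ) : finrank F (Fin n → K) = 2 * n := by
  rw [Module.finrank_pi_fintype]
  simp [finrank_two hK hF, mul_comm]

include hK hfix himg in
/-- The trace `z ↦ z + z^q`. -/
theorem exists_tr : ∃ τ : K →ₗ[F] F, (∀ z, algebraMap F K (τ z) = z + z ^ q) ∧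
    ∀ d : K, (∀ c : K, τ (c * d) = 0) → d = 0 := by
  have h : ∀ z : K, ∃ x, algebraMap F K x = z + z ^ q := fun z =>
    himg _ (by rw [HermStd.add_pow_q hK, HermStd.pow_q_q hK, add_comm])
  choose t ht using h
  let τ : K →ₗ[F] F :=
    { toFun := t
      map_add' := fun a b => (algebraMap F K).injective (by
        rw [map_add, ht, ht, ht, HermStd.add_pow_q hK]; ring)
      map_smul' := fun c a => (algebraMap F K).injective (by
        rw [RingHom.id_apply, smul_eq_mul, map_mul, ht, ht, Algebra.smul_def, mul_pow, hfix]; ring) }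
  refine ⟨τ, ht, fun d hd => ?_⟩
  by_contra hne
  obtain ⟨z, hz⟩ := Witt.exists_trace_ne_zero (HermStd.qHom hK) (HermStd.qHom_ne_id hK)
  refine hz ?_
  have h1 : algebraMap F K (τ (z / d * d)) = 0 := by rw [hd, map_zero]
  rw [div_mul_cancel₀ _ hne] at h1
  exact (ht z).symm.trans h1

/-- Restriction of scalars of a matrix representation. -/
noncomputable def matRep {G ι : Type*} [Group G] [Fintype ι] [DecidableEq ι]
    (μ : G →* Matrix ι ι K) : G →* Module.End F (ι → K) where
  toFun g := (μ g).mulVecLin.restrictScalars F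
  map_one' := LinearMap.ext fun v => by simp
  map_mul' g h := LinearMap.ext fun v => by simp [Matrix.mulVec_mulVec]

theorem matRep_apply {G ι : Type*} [Group G] [Fintype ι] [DecidableEq ι]
    (μ : G →* Matrix ι ι K) (g : G) (v : ι → K) : matRep (F := F) μ g v = μ g *ᵥ v := rfl

theorem eq_one_of_matRep {G ι : Type*} [Group G] [Fintype ι] [DecidableEq ι]
    (μ : G →* Matrix ι ι K) (hμ : Function.Injective μ) (g : G)
    (h : ∀ v, matRep (F := F) μ g v = v) : g = 1 := by
  refine hμ ?_
  rw [map_one]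
  exact Matrix.ext_iff_mulVec.2 fun v => by rw [one_mulVec]; exact h v

include hK hfix himg in
theorem symp_embedding (a : ℕ) (hF : Fintype.card F = q) :
    ∃ φ : ↥(Matrix.symplecticGroup (Fin a) K) →* ↥(Matrix.symplecticGroup (Fin (2 * a)) F),
      Function.Injective φ := by
  obtain ⟨τ, -, hτn⟩ := exists_tr hK hfix himg
  let B : LinearMap.BilinForm F (Fin a ⊕ Fin a → K) :=
    LinearMap.mk₂ F (fun u v => τ (SympStd.sympB a K u v))
      (fun u u' v => by simp)
      (fun c u v => by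
        show τ (SympStd.sympB a K (c • u) v) = c • τ (SympStd.sympB a K u v)
        rw [← IsScalarTower.algebraMap_smul K c u, map_smul, LinearMap.smul_apply,
          IsScalarTower.algebraMap_smul, map_smul])
      (fun u v v' => by simp)
      (fun c u v => by
        show τ (SympStd.sympB a K u (c • v)) = c • τ (SympStd.sympB a K u v)
        rw [← IsScalarTower.algebraMap_smul K c v, map_smul, IsScalarTower.algebraMap_smul, map_smul])
  have hA : B.IsAlt := fun v => by
    show τ (SympStd.sympB a K v v) = 0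
    rw [SympStd.sympB_apply, SympStd.sympForm_self, map_zero]
  have hB : B.Nondegenerate := by
    have hl : ∀ u, (∀ v, B u v = 0) → u = 0 := fun u hu => by
      refine SympStd.sympB_nondegenerate.1 u fun v => hτn _ fun c => ?_
      rw [← smul_eq_mul, ← map_smul]
      exact hu (c • v)
    exact ⟨hl, fun v hv => hl v fun w => by
      rw [← LinearMap.IsAlt.neg hA w v, hv w, neg_zero]⟩
  refine exists_hom_sp B hA hB ?_ (matRep ((Matrix.symplecticGroup (Fin a) K).subtype))
    (fun g u v => ?_) (eq_one_of_matRep _ Subtype.val_injective)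
  · rw [Module.finrank_pi_fintype]
    simp [finrank_two hK hF]; ring
  · show τ (SympStd.sympB a K ((g : Matrix _ _ K) *ᵥ u) ((g : Matrix _ _ K) *ᵥ v)) = τ _
    rw [SympStd.sympB_apply, SympStd.sympB_apply, SympStd.sympForm_mulVec]

include hK hfix himg in
theorem unitary_symp (m : ℕ) (hF : Fintype.card F = q) :
    ∃ φ : ↥(Cfsg.GU m K q) →* ↥(Matrix.symplecticGroup (Fin m) F), Function.Injective φ := by
  obtain ⟨τ, hτ, hτn⟩ := exists_tr hK hfix himg
  obtain ⟨δ, hδ0, hδ⟩ := Unitary.exists_traceZero (F := K) hK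
  let H := HermStd.hermB hK m
  have hH : ∀ u v, H u v = Cfsg.hermForm m K q v u := HermStd.hermB_apply hK
  have hsm : ∀ (c : F) (u v : Fin m → K),
      Cfsg.hermForm m K q (c • u) v = algebraMap F K c * Cfsg.hermForm m K q u v ∧
      Cfsg.hermForm m K q u (c • v) = algebraMap F K c * Cfsg.hermForm m K q u v := fun c u v => by
    rw [← IsScalarTower.algebraMap_smul K c u, ← IsScalarTower.algebraMap_smul K c v]
    constructor
    · rw [← hH, map_smul, smul_eq_mul, hH]
    · rw [← hH, map_smulₛₗ, LinearMap.smul_apply, smul_eq_mul, HermStd.qHom_apply, hfix, hH]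
  let B : LinearMap.BilinForm F (Fin m → K) :=
    LinearMap.mk₂ F (fun u v => τ (δ * Cfsg.hermForm m K q u v))
      (fun u u' v => by simp [← hH, mul_add])
      (fun c u v => by
        rw [(hsm c u v).1, mul_left_comm, ← Algebra.smul_def, map_smul])
      (fun u v v' => by simp [← hH, mul_add])
      (fun c u v => by
        rw [(hsm c u v).2, mul_left_comm, ← Algebra.smul_def, map_smul])
  have hA : B.IsAlt := fun v => (algebraMap F K).injective (by
    show algebraMap F K (τ (δ * Cfsg.hermForm m K q v v)) = algebraMap F K 0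
    rw [map_zero, hτ, mul_pow, HermStd.hermForm_conj hK]
    linear_combination Cfsg.hermForm m K q v v * hδ)
  have hB : B.Nondegenerate := by
    have hl : ∀ u, (∀ v, B u v = 0) → u = 0 := fun u hu => by
      refine Unitary.eq_zero_of_H hK fun v => ?_
      refine (mul_eq_zero.1 (hτn _ fun c => ?_)).resolve_left hδ0
      have := hu (c ^ q • v)
      change τ (δ * Cfsg.hermForm m K q u (c ^ q • v)) = 0 at this
      rwa [← hH, map_smulₛₗ, LinearMap.smul_apply, smul_eq_mul, HermStd.qHom_apply,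
        HermStd.pow_q_q hK, hH, mul_left_comm] at this
    exact ⟨hl, fun v hv => hl v fun w => by rw [← LinearMap.IsAlt.neg hA w v, hv w, neg_zero]⟩
  refine exists_hom_sp B hA hB (finrank_pi_ext hK hF m)
    (matRep ((Units.coeHom _).comp (Cfsg.GU m K q).subtype)) (fun g u v => ?_)
    (eq_one_of_matRep _ (Units.val_injective.comp Subtype.val_injective))
  show τ (δ * Cfsg.hermForm m K q (((g : GL (Fin m) K) : Matrix _ _ K) *ᵥ u)
    (((g : GL (Fin m) K) : Matrix _ _ K) *ᵥ v)) = τ (δ * Cfsg.hermForm m K q u v)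
  exact congrArg (fun x => τ (δ * x)) (g.2 u v)

/-! ### The trace form of a hermitian form -/

include hK hfix himg in
/-- The quadratic form `v ↦ h(v, v)` and its type. -/
theorem exists_normForm (m : ℕ) (hF : Fintype.card F = q) :
    ∃ Q : QuadraticForm F (Fin m → K), (QuadraticMap.polarBilin Q).Nondegenerate ∧
      (∀ (g : ↥(Cfsg.GU m K q)) v, Q (((g : GL (Fin m) K) : Matrix (Fin m) (Fin m) K) *ᵥ v) = Q v) ∧
      (∀ (c : K) v, Q v = 0 → Q (c • v) = 0) := by
  obtain ⟨τ, hτ, hτn⟩ := exists_tr hK hfix himg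
  let H := HermStd.hermB hK m
  have hH : ∀ u v, H u v = Cfsg.hermForm m K q v u := HermStd.hermB_apply hK
  have hr : ∀ v : Fin m → K, ∃ x, algebraMap F K x = Cfsg.hermForm m K q v v := fun v =>
    himg _ (HermStd.hermForm_conj hK v v)
  choose r hr using hr
  have hsm : ∀ (c : F) (u v : Fin m → K),
      Cfsg.hermForm m K q (c • u) v = algebraMap F K c * Cfsg.hermForm m K q u v ∧
      Cfsg.hermForm m K q u (c • v) = algebraMap F K c * Cfsg.hermForm m K q u v := fun c u v => by
    rw [← IsScalarTower.algebraMap_smul K c u, ← IsScalarTower.algebraMap_smul K c v]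
    constructor
    · rw [← hH, map_smul, smul_eq_mul, hH]
    · rw [← hH, map_smulₛₗ, LinearMap.smul_apply, smul_eq_mul, HermStd.qHom_apply, hfix, hH]
  let P : LinearMap.BilinForm F (Fin m → K) :=
    LinearMap.mk₂ F (fun u v => τ (Cfsg.hermForm m K q u v))
      (fun u u' v => by simp [← hH])
      (fun c u v => by rw [(hsm c u v).1, ← Algebra.smul_def, map_smul])
      (fun u v v' => by simp [← hH])
      (fun c u v => by rw [(hsm c u v).2, ← Algebra.smul_def, map_smul])
  let Q : QuadraticForm F (Fin m → K) :=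
    { toFun := r
      toFun_smul := fun c v => (algebraMap F K).injective (by
        rw [hr, smul_eq_mul, map_mul, map_mul, hr, (hsm c v _).1, (hsm c v v).2]; ring)
      exists_companion' := ⟨P, fun u v => (algebraMap F K).injective (by
        show algebraMap F K (r (u + v)) = algebraMap F K (r u + r v + τ (Cfsg.hermForm m K q u v))
        rw [map_add, map_add, hr, hr, hr, hτ, HermStd.hermForm_conj hK]
        simp only [← hH, map_add, LinearMap.add_apply]
        ring)⟩ }
  have hQ : ∀ v, algebraMap F K (Q v) = Cfsg.hermForm m K q v v := hr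
  refine ⟨Q, ?_, fun g v => (algebraMap F K).injective (by rw [hQ, hQ]; exact g.2 v v),
    fun c v hv => (algebraMap F K).injective (by
      rw [hQ, ← hH]; simp only [map_smulₛₗ, LinearMap.smul_apply, hH, ← hQ, hv, map_zero, smul_zero])⟩
  have hpol : ∀ u v, QuadraticMap.polar ⇑Q u v = P u v := fun u v =>
    (algebraMap F K).injective (by
      show algebraMap F K (Q (u + v) - Q u - Q v) = algebraMap F K (τ (Cfsg.hermForm m K q u v))
      rw [map_sub, map_sub, hQ, hQ, hQ, hτ, HermStd.hermForm_conj hK]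
      simp only [← hH, map_add, LinearMap.add_apply]
      ring)
  have hl : ∀ u, (∀ v, QuadraticMap.polar ⇑Q u v = 0) → u = 0 := fun u hu => by
    refine Unitary.eq_zero_of_H hK fun v => hτn _ fun c => ?_
    have := hu (c ^ q • v)
    rw [hpol] at this
    change τ (Cfsg.hermForm m K q u (c ^ q • v)) = 0 at this
    rwa [← hH, map_smulₛₗ, LinearMap.smul_apply, smul_eq_mul, HermStd.qHom_apply,
      HermStd.pow_q_q hK, hH] at this
  exact ⟨hl, fun v hv => hl v fun w => (QuadraticMap.polar_comm _ v w).trans (hv w)⟩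

include hK in
/-- The singular vectors of a form stable under `K`-scalars come in `K`-lines. -/
theorem dvd_zeros {m : ℕ} (Q : QuadraticForm F (Fin m → K))
    (hQ : ∀ (c : K) v, Q v = 0 → Q (c • v) = 0) :
    q ^ 2 - 1 ∣ Nat.card {v : Fin m → K // Q v = 0} - 1 := by
  classical
  have hne : Nat.card {v : Fin m → K // Q v = 0} - 1 =
      Nat.card {v : {v : Fin m → K // Q v = 0} // v.1 ≠ 0} := by
    rw [Nat.card_eq_fintype_card, Nat.card_eq_fintype_card, Fintype.card_subtype_compl,
      Fintype.card_congr (Equiv.subtypeEquivRight (q := fun v => v = (⟨0, QuadraticMap.map_zero Q⟩ :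
        {v : Fin m → K // Q v = 0})) fun v => by simp [Subtype.ext_iff]),
      Fintype.card_subtype_eq]
  let P := {p : Projectivization K (Fin m → K) // Q p.rep = 0}
  have hex : ∀ v : {v : {v : Fin m → K // Q v = 0} // v.1 ≠ 0},
      ∃ c : Kˣ, c • (Projectivization.mk K v.1.1 v.2).rep = v.1.1 := fun v => by
    obtain ⟨c, hc⟩ := Projectivization.exists_smul_eq_mk_rep K v.1.1 v.2
    exact ⟨c⁻¹, by rw [← hc, inv_smul_smul]⟩
  choose c hc using hex
  let f : {v : {v : Fin m → K // Q v = 0} // v.1 ≠ 0} → P × Kˣ := fun v =>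
    (⟨Projectivization.mk K v.1.1 v.2, by
      obtain ⟨d, hd⟩ := Projectivization.exists_smul_eq_mk_rep K v.1.1 v.2
      rw [← hd, Units.smul_def]
      exact hQ _ _ v.1.2⟩, c v)
  have hf : Function.Bijective f := by
    refine ⟨fun v w h => ?_, fun p => ?_⟩
    · refine Subtype.ext (Subtype.ext ?_)
      rw [← hc v, ← hc w, show c v = c w from congrArg Prod.snd h,
        show Projectivization.mk K v.1.1 v.2 = Projectivization.mk K w.1.1 w.2 from
          congrArg (fun p => p.1.1) h]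
    · have h0 : (p.2 : K) • p.1.1.rep ≠ 0 := smul_ne_zero p.2.ne_zero p.1.1.rep_nonzero
      let v : {v : {v : Fin m → K // Q v = 0} // v.1 ≠ 0} := ⟨⟨_, hQ _ _ p.1.2⟩, h0⟩
      have hp : Projectivization.mk K v.1.1 v.2 = p.1.1 := by
        conv_rhs => rw [← p.1.1.mk_rep]
        exact (Projectivization.mk_eq_mk_iff' K _ _ _ _).2 ⟨_, rfl⟩
      refine ⟨v, Prod.ext (Subtype.ext hp) (Units.ext ?_)⟩
      have h1 := hc v
      rw [hp, Units.smul_def] at h1
      exact smul_left_injective K p.1.1.rep_nonzero h1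
  rw [hne, Nat.card_eq_of_bijective f hf, Nat.card_prod, Nat.card_units,
    Nat.card_eq_fintype_card (α := K), hK]
  exact dvd_mul_left _ _

end ext

theorem not_plus_odd {q k : ℕ} (hq : 2 ≤ q) {Z : ℕ}
    (hZ : (q : ℤ) * Z = (q : ℤ) ^ (2 * (2 * k + 1)) + (q : ℤ) ^ (2 * k + 1 + 1) - (q : ℤ) ^ (2 * k + 1))
    (h1 : 1 ≤ Z) (hd : q ^ 2 - 1 ∣ Z - 1) : False := by
  have hd' : ((q : ℤ) ^ 2 - 1) ∣ (Z : ℤ) - 1 := by
    have := Int.natCast_dvd_natCast.2 hd
    rwa [Nat.cast_sub h1, Nat.cast_sub (Nat.one_le_pow _ _ (by omega)), Nat.cast_pow, Nat.cast_one]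
      at this
  have hq0 : (q : ℤ) ≠ 0 := by omega
  have hZ1 : (Z : ℤ) - 1 = ((q : ℤ) * q ^ (2 * k) - 1) * ((q : ℤ) ^ (2 * k) + 1) := by
    refine mul_left_cancel₀ hq0 ?_
    rw [mul_sub, hZ]; ring
  obtain ⟨c, hc⟩ : ((q : ℤ) ^ 2 - 1) ∣ (q : ℤ) ^ (2 * k) - 1 := by
    rw [pow_mul]; exact sub_one_dvd_pow_sub_one _ _
  have h2 : ((q : ℤ) ^ 2 - 1) ∣ 2 * ((q : ℤ) - 1) := by
    obtain ⟨d, hd'⟩ := hd'
    refine ⟨d - c * (3 * q - 1 + q * ((q : ℤ) ^ 2 - 1) * c), ?_⟩
    have he : (q : ℤ) ^ (2 * k) = ((q : ℤ) ^ 2 - 1) * c + 1 := by linear_combination hc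
    rw [hZ1, he] at hd'
    linear_combination hd'
  obtain ⟨d, hd2⟩ := h2
  have h3 : ((q : ℤ) - 1) * 2 = ((q : ℤ) - 1) * ((q + 1) * d) := by linear_combination hd2
  have h4 := Int.le_of_dvd (by norm_num) (Dvd.intro d (mul_left_cancel₀ (by omega) h3).symm)
  omega

theorem not_minus_even {q k : ℕ} (hq : 2 ≤ q) {Z : ℕ}
    (hZ : (q : ℤ) * Z = (q : ℤ) ^ (2 * (2 * k + 1) + 2) + (q : ℤ) ^ (2 * k + 1 + 1) -
      (q : ℤ) ^ (2 * k + 1 + 2))
    (h1 : 1 ≤ Z) (hd : q ^ 2 - 1 ∣ Z - 1) : False := by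
  have hd' : ((q : ℤ) ^ 2 - 1) ∣ (Z : ℤ) - 1 := by
    have := Int.natCast_dvd_natCast.2 hd
    rwa [Nat.cast_sub h1, Nat.cast_sub (Nat.one_le_pow _ _ (by omega)), Nat.cast_pow, Nat.cast_one]
      at this
  have hq0 : (q : ℤ) ≠ 0 := by omega
  have hZ1 : (Z : ℤ) - 1 = ((q : ℤ) ^ 2 * q ^ (2 * k) + 1) * ((q : ℤ) * q ^ (2 * k) - 1) := by
    refine mul_left_cancel₀ hq0 ?_
    rw [mul_sub, hZ]; ring
  obtain ⟨c, hc⟩ : ((q : ℤ) ^ 2 - 1) ∣ (q : ℤ) ^ (2 * k) - 1 := by
    rw [pow_mul]; exact sub_one_dvd_pow_sub_one _ _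
  have h2 : ((q : ℤ) ^ 2 - 1) ∣ 2 * ((q : ℤ) - 1) := by
    obtain ⟨d, hd'⟩ := hd'
    refine ⟨d - ((1 + (q : ℤ) ^ 2 * c) * ((q : ℤ) * ((q : ℤ) ^ 2 - 1) * c + q - 1) + 2 * q * c), ?_⟩
    have he : (q : ℤ) ^ (2 * k) = ((q : ℤ) ^ 2 - 1) * c + 1 := by linear_combination hc
    rw [hZ1, he] at hd'
    linear_combination hd'
  obtain ⟨d, hd2⟩ := h2
  have h3 : ((q : ℤ) - 1) * 2 = ((q : ℤ) - 1) * ((q + 1) * d) := by linear_combination hd2
  have h4 := Int.le_of_dvd (by norm_num) (Dvd.intro d (mul_left_cancel₀ (by omega) h3).symm)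
  omega

end Cfsg.Agent.Classical.RestrictScalars
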