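import Mathlib
import Cfsg.Agent.Lib.Classical.TransvectionSpread

/-!
# Two conjugate regular unipotents of `SL₃` generating it, away from two and four elements
-/

set_option autoImplicit false
set_option linter.unusedSimpArgs false

namespace Cfsg.Agent.Classical.SL3TwoGen

open Matrix
open Cfsg.Agent.Classical.TransvectionSpread

variable {F : Type*} [Field F]

local notation "SL3" => SpecialLinearGroup (Fin 3) F

theorem Mem.addφ {H : Subgroup (SpecialLinearGroup (Fin 3) F)} {v φ ψ : Fin 3 → F} (h : Mem H v φ)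
    (h' : Mem H v ψ) : Mem H v (φ + ψ) := by
  have hd := h.dot
  obtain ⟨g, hg, hge⟩ := h
  obtain ⟨g', hg', hge'⟩ := h'
  refine ⟨g' * g, mul_mem hg' hg, ?_⟩
  rw [val_mul, hge, hge', add_mul, one_mul, mul_add, mul_one, vecMulVec_mul_vecMulVec, vecMulVec_add]
  have hψ : ψ ⬝ᵥ v = 0 := Mem.dot ⟨g', hg', hge'⟩
  rw [hψ, zero_smul, vecMulVec_zero, add_zero]
  abel

/-- powers of the cube of a generator span additively -/
theorem addSpan [Fintype F] {c : F} (hq : Fintype.card F = 3 ∨ 4 < Fintype.card F)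
    (hgen : ∀ x : F, x ≠ 0 → ∃ k : ℕ, c ^ k = x) {Y : Set F} (h0 : (0 : F) ∈ Y) (h1 : (1 : F) ∈ Y)
    (hadd : ∀ a ∈ Y, ∀ b ∈ Y, a + b ∈ Y) (hneg : ∀ a ∈ Y, -a ∈ Y)
    (hmul : ∀ a ∈ Y, c ^ 3 * a ∈ Y) : ∀ x, x ∈ Y := by
  classical
  let A : AddSubgroup F := { carrier := Y, zero_mem' := h0,
                             add_mem' := fun ha hb => hadd _ ha _ hb, neg_mem' := fun ha => hneg _ ha }
  set S := Subring.closure ({c ^ 3} : Set F) with hS
  have hpow : ∀ k : ℕ, (c ^ 3) ^ k ∈ A := fun k => by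
    induction k with
    | zero => rw [pow_zero]; exact h1
    | succ k ih => rw [pow_succ']; exact hmul _ ih
  have hSA : ∀ x ∈ S, x ∈ A := fun x hx => by
    rw [hS, Subring.mem_closure_iff] at hx
    have hle : AddSubgroup.closure ↑(Submonoid.closure ({c ^ 3} : Set F)) ≤ A := by
      rw [AddSubgroup.closure_le]
      intro y hy
      obtain ⟨k, rfl⟩ := Submonoid.mem_closure_singleton.1 hy
      exact hpow k
    exact hle hx
  intro x
  refine hSA x ?_
  have hc : c ≠ 0 := by
    rintro rfl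
    obtain ⟨a, ha, ha1⟩ : ∃ a : F, a ≠ 0 ∧ a ≠ 1 := by
      by_contra h
      push Not at h
      have hu : (Finset.univ : Finset F) ⊆ {0, 1} := fun a _ => by
        by_cases ha : a = 0
        · simp [ha]
        · simp [h a ha]
      have := Finset.card_le_card hu
      rw [Finset.card_univ] at this
      have h2 : Finset.card ({0, 1} : Finset F) ≤ 2 := Finset.card_le_two
      omega
    obtain ⟨k, hk⟩ := hgen a ha
    rcases k with _ | k
    · exact ha1 (by simpa using hk.symm)
    · exact ha (by simpa using hk.symm)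
  letI : Field S := (Finite.isDomain_to_isField S).toField
  haveI : Fintype S := Fintype.ofFinite S
  have hcard : Fintype.card F = Fintype.card S ^ Module.finrank S F := Module.card_eq_pow_finrank
  set s := Fintype.card S with hs
  have hs2 : 2 ≤ s := Fintype.one_lt_card
  by_contra hx
  have hd : 2 ≤ Module.finrank S F := by
    by_contra hd
    have hFS : Fintype.card F ≤ s := by
      rw [hcard]
      calc s ^ Module.finrank S F ≤ s ^ 1 := Nat.pow_le_pow_right (by omega) (by omega)
        _ = s := pow_one s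
    have hsur : Function.Surjective (Subtype.val : S → F) :=
      ((Fintype.bijective_iff_injective_and_card _).2
        ⟨Subtype.val_injective, le_antisymm (Fintype.card_le_of_injective _ Subtype.val_injective) hFS⟩).2
    obtain ⟨y, hy⟩ := hsur x
    exact hx (hy ▸ y.2)
  have hcS : c ^ 3 ∈ S := Subring.subset_closure rfl
  have hne : (⟨c ^ 3, hcS⟩ : S) ≠ 0 := fun h => pow_ne_zero 3 hc (congrArg Subtype.val h)
  have hp : (c ^ 3) ^ (s - 1) = 1 := congrArg Subtype.val (FiniteField.pow_card_sub_one_eq_one _ hne)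
  have hord : ∀ k : ℕ, c ^ k = 1 → Fintype.card F - 1 ∣ k := fun k hk => by
    have hu : ∀ u : Fˣ, u ∈ Submonoid.powers (Units.mk0 c hc) := fun u => by
      obtain ⟨j, hj⟩ := hgen u u.ne_zero
      exact ⟨j, Units.ext (by simpa using hj)⟩
    have h := orderOf_eq_card_of_forall_mem_powers hu
    rw [Nat.card_eq_fintype_card, Fintype.card_units] at h
    rw [← h, orderOf_dvd_iff_pow_eq_one]
    exact Units.ext (by simpa using hk)
  have hdvd := hord (3 * (s - 1)) (by rw [pow_mul]; exact hp)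
  have hle := Nat.le_of_dvd (by omega) hdvd
  have hsq : s * s ≤ Fintype.card F := by
    rw [hcard, ← pow_two]; exact Nat.pow_le_pow_right (by omega) hd
  have : s ≤ 2 := by
    by_contra h
    have : 3 * s ≤ s * s := Nat.mul_le_mul_right s (by omega)
    omega
  have hs22 : s = 2 := by omega
  rw [hs22] at hle hsq
  omega

variable (l : F)

/-- the auxiliary scalars -/
def mu : F := (l * l)⁻¹

/-- the auxiliary scalars -/
def na : F := -(l - 1) ^ 3 / (l * l)

/-- the auxiliary scalars -/
def nb : F := -((l - 1) * (l + 2)) / (l * l + l + 1)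

/-- first regular unipotent -/
def uMat : Matrix (Fin 3) (Fin 3) F :=
  !![1, 0, 0; 0, 1 - nb l, na l; 1, -(nb l * nb l / na l), 1 + nb l]

/-- the product of the two -/
def wMat : Matrix (Fin 3) (Fin 3) F :=
  !![l, 1, 0; 0, l, 0; 0, 0, mu l]

/-- second regular unipotent -/
def vMat : Matrix (Fin 3) (Fin 3) F :=
  !![l, 1, 0; l * na l, na l + (1 + nb l) * l, -(na l * mu l);
    l * (nb l - 1), nb l - 1 + nb l * nb l * l / na l, (1 - nb l) * mu l]

/-- the conjugating matrix -/
def gMat : Matrix (Fin 3) (Fin 3) F :=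
  let M := vMat l - 1
  let x : Fin 3 → F := Pi.single 0 1
  (-l⁻¹) • ((Matrix.of fun i j => ![x i, (M *ᵥ x) i, (M *ᵥ (M *ᵥ x)) i] j) *
    !![1, 0, 0; 0, -(nb l / na l), 1; 0, (na l)⁻¹, 0])

variable {l}

theorem na_ne_zero (h0 : l ≠ 0) (h1 : l ≠ 1) : na l ≠ 0 :=
  div_ne_zero (neg_ne_zero.2 (pow_ne_zero 3 (sub_ne_zero.2 h1))) (mul_ne_zero h0 h0)

theorem det_u (hn : na l ≠ 0) : (uMat l).det = 1 := by
  simp [uMat, Matrix.det_fin_three]; field_simp; ring

theorem u_nilpotent (hn : na l ≠ 0) : (uMat l - 1) ^ 3 = 0 ∧ (uMat l - 1) ^ 2 ≠ 0 := by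
  have e : (uMat l - 1) ^ 2 = !![0, 0, 0; na l, 0, 0; nb l, 0, 0] := by
    rw [pow_two]; ext i j
    fin_cases i <;> fin_cases j <;>
      simp [uMat, Matrix.mul_apply, Fin.sum_univ_three] <;> field_simp <;> ring
  refine ⟨?_, fun h => ?_⟩
  · rw [pow_succ, e]; ext i j
    fin_cases i <;> fin_cases j <;>
      simp [uMat, Matrix.mul_apply, Fin.sum_univ_three]
  · rw [e] at h
    exact hn (by simpa using congrFun (congrFun h 1) 0)

theorem uv (hn : na l ≠ 0) : uMat l * vMat l = wMat l := by
  ext i j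
  fin_cases i <;> fin_cases j <;>
    simp [uMat, vMat, wMat, Matrix.mul_apply, Fin.sum_univ_three] <;> field_simp <;> ring

theorem det_g (h0 : l ≠ 0) (h1 : l ≠ 1) (hs : l * l + l + 1 ≠ 0) : (gMat l).det = 1 := by
  have hn : l - 1 ≠ 0 := sub_ne_zero.2 h1
  obtain ⟨s, hs0⟩ : ∃ s, s = l * l + l + 1 := ⟨_, rfl⟩
  have hsn : s ≠ 0 := hs0 ▸ hs
  have e : nb l = -((l - 1) * (l + 2)) / s := by rw [hs0, nb]
  simp [gMat, vMat, mu, na, e, Matrix.det_fin_three, Matrix.mul_apply, Fin.sum_univ_three,
    Matrix.mulVec, dotProduct, Pi.single_apply]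
  field_simp
  subst hs0
  ring

theorem gu (h0 : l ≠ 0) (h1 : l ≠ 1) (hs : l * l + l + 1 ≠ 0) : gMat l * uMat l = vMat l * gMat l := by
  have hn : l - 1 ≠ 0 := sub_ne_zero.2 h1
  obtain ⟨s, hs0⟩ : ∃ s, s = l * l + l + 1 := ⟨_, rfl⟩
  have hsn : s ≠ 0 := hs0 ▸ hs
  have e : nb l = -((l - 1) * (l + 2)) / s := by rw [hs0, nb]
  ext i j
  fin_cases i <;> fin_cases j <;>
    simp [gMat, vMat, uMat, mu, na, e, Matrix.mul_apply, Fin.sum_univ_three, Matrix.mulVec,
      dotProduct, Pi.single_apply] <;> field_simp <;> subst hs0 <;> ring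

theorem w_pow (h0 : l ≠ 0) (k : ℕ) :
    wMat l ^ k = !![l ^ k, (k : F) * l ^ k / l, 0; 0, l ^ k, 0; 0, 0, (mu l) ^ k] := by
  induction k with
  | zero => ext i j; fin_cases i <;> fin_cases j <;> simp
  | succ k ih =>
    rw [pow_succ, ih]
    ext i j
    fin_cases i <;> fin_cases j <;>
      simp [wMat, Matrix.mul_apply, Fin.sum_univ_three] <;> field_simp <;> ring

theorem main [Fintype F] (h0 : l ≠ 0) (hq : Fintype.card F = 3 ∨ 4 < Fintype.card F)
    (hgen : ∀ x : F, x ≠ 0 → ∃ k : ℕ, l ^ k = x) (hl3 : l ^ 3 ≠ 1) :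
    ∃ u g : SpecialLinearGroup (Fin 3) F, IsNilpotent (u.1 - 1) ∧ (u.1 - 1) ^ 2 ≠ 0 ∧
      Subgroup.closure ({u, g * u * g⁻¹} : Set (SpecialLinearGroup (Fin 3) F)) = ⊤ := by
  classical
  have h1 : l ≠ 1 := fun h => hl3 (by rw [h, one_pow])
  have hs : l * l + l + 1 ≠ 0 := fun h => hl3 (by linear_combination (l - 1) * h)
  have hn := na_ne_zero h0 h1
  have hm : mu l ≠ 0 := inv_ne_zero (mul_ne_zero h0 h0)
  let u : SpecialLinearGroup (Fin 3) F := ⟨uMat l, det_u hn⟩
  let g : SpecialLinearGroup (Fin 3) F := ⟨gMat l, det_g h0 h1 hs⟩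
  refine ⟨u, g, ⟨3, (u_nilpotent hn).1⟩, (u_nilpotent hn).2, ?_⟩
  set H := Subgroup.closure ({u, g * u * g⁻¹} : Set (SpecialLinearGroup (Fin 3) F))
  have hU : u ∈ H := Subgroup.subset_closure (by simp)
  have hV : g * u * g⁻¹ ∈ H := Subgroup.subset_closure (by simp)
  have hv : (g * u * g⁻¹).1 = vMat l := by
    show (g * u).1 * (g⁻¹).1 = _
    rw [val_mul, show g.1 * u.1 = vMat l * g.1 from gu h0 h1 hs, Matrix.mul_assoc, val_mul_inv,
      Matrix.mul_one]
  set W := u * (g * u * g⁻¹)
  have hW : W ∈ H := mul_mem hU hV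
  have hWv : W.1 = wMat l := by rw [val_mul, hv]; exact uv hn
  -- coordinates
  set ui : Matrix (Fin 3) (Fin 3) F :=
    !![1, 0, 0; na l, 1 + nb l, -na l; nb l - 1, nb l * nb l / na l, 1 - nb l] with hui
  have huinv : (u⁻¹).1 = ui := by
    refine (left_inv_eq_right_inv (a := u.1) (val_inv_mul u) ?_)
    ext i j
    fin_cases i <;> fin_cases j <;>
      simp [u, ui, uMat, Matrix.mul_apply, Fin.sum_univ_three] <;> field_simp <;> ring
  set wi : Matrix (Fin 3) (Fin 3) F := !![l⁻¹, -(l * l)⁻¹, 0; 0, l⁻¹, 0; 0, 0, (mu l)⁻¹] with hwi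
  have hWinv : (W⁻¹).1 = wi := by
    refine (left_inv_eq_right_inv (a := W.1) (val_inv_mul W) ?_)
    rw [hWv]
    ext i j
    fin_cases i <;> fin_cases j <;>
      simp [wi, wMat, Matrix.mul_apply, Fin.sum_univ_three, h0, hm] <;> field_simp <;> ring
  -- the transvection
  set a : F := -l⁻¹ with ha
  have ha0 : a ≠ 0 := neg_ne_zero.2 (inv_ne_zero h0)
  have hT : Mem H ![a, 0, 0] ![0, 1, 0] := by
    refine ⟨W ^ (Fintype.card F - 1), pow_mem hW _, ?_⟩
    have hpw : ∀ k : ℕ, (W ^ k).1 = W.1 ^ k := fun k => by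
      induction k with
      | zero => rfl
      | succ k ih => rw [pow_succ, pow_succ, val_mul, ih]
    rw [hpw, hWv, w_pow h0, FiniteField.pow_card_sub_one_eq_one l h0,
      FiniteField.pow_card_sub_one_eq_one _ hm, Nat.cast_sub (by omega), FiniteField.cast_card_eq_zero]
    ext i j
    fin_cases i <;> fin_cases j <;> simp [vecMulVec_apply, ha, neg_div]
  set b : F := a * (a * na l) with hb
  have hb0 : b ≠ 0 := mul_ne_zero ha0 (mul_ne_zero ha0 hn)
  have hl3' : l⁻¹ ^ 3 ≠ 1 := fun h => hl3 (by rw [inv_pow, inv_eq_one] at h; exact h)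
  have hgen' : ∀ x : F, x ≠ 0 → ∃ k : ℕ, (l⁻¹) ^ k = x := fun x hx => by
    obtain ⟨k, hk⟩ := hgen x⁻¹ (inv_ne_zero hx)
    exact ⟨k, by rw [inv_pow, hk, inv_inv]⟩
  -- along `φ`
  have hy : ∀ t : F, Mem H ![0, 0, t] ![0, 1, 0] := by
    have e1 := hT.conj hU
    have e2 := hT.comm e1 (by
      simp [u, uMat, Matrix.mulVec, dotProduct, Fin.sum_univ_three])
    rw [huinv] at e2
    have h2 : Mem H ![b, 0, b] ![0, 1, 0] := by
      convert e2 using 1
      ext i
      fin_cases i <;>
        simp [u, hb, huinv, ui, uMat, Matrix.mulVec, Matrix.vecMul, dotProduct, Fin.sum_univ_three] <;> ring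
    have h3 : Mem H ![b, 0, b * l⁻¹ ^ 3] ![0, 1, 0] := by
      have e3 := h2.conj hW
      have e4 : Mem H (l⁻¹ • (W.1 *ᵥ ![b, 0, b])) ![0, 1, 0] := by
        rw [mem_smul_iff]
        convert e3 using 1
        ext i
        fin_cases i <;> simp [hWinv, wi, Matrix.vecMul, dotProduct, Fin.sum_univ_three]
      convert e4 using 1
      ext i
      fin_cases i <;>
        simp [hWv, wMat, mu, Matrix.mulVec, dotProduct, Fin.sum_univ_three] <;> field_simp
    set d := b - b * l⁻¹ ^ 3 with hd
    have hd0 : d ≠ 0 := by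
      rw [hd, ← mul_one_sub]; exact mul_ne_zero hb0 (sub_ne_zero.2 (Ne.symm hl3'))
    have h4 : Mem H ![0, 0, d] ![0, 1, 0] := by
      convert h2.sub h3 using 1
      ext i; fin_cases i <;> simp [hd]
    have hall := addSpan hq hgen' (Y := {s | Mem H ![0, 0, s * d] ![0, 1, 0]})
      (by
        show Mem H ![0, 0, 0 * d] ![0, 1, 0]
        convert mem_zero (H := H) ![0, 1, 0] using 1
        ext i; fin_cases i <;> simp)
      (by show Mem H ![0, 0, 1 * d] ![0, 1, 0]; rwa [one_mul])
      (fun s hs' t ht => by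
        show Mem H ![0, 0, (s + t) * d] ![0, 1, 0]
        convert Mem.add hs' ht using 1
        ext i; fin_cases i <;> simp [add_mul])
      (fun s hs' => by
        show Mem H ![0, 0, -s * d] ![0, 1, 0]
        convert Mem.neg hs' using 1
        ext i; fin_cases i <;> simp)
      (fun s hs' => by
        show Mem H ![0, 0, l⁻¹ ^ 3 * s * d] ![0, 1, 0]
        have e3 := Mem.conj hs' hW
        have e4 : Mem H (l⁻¹ • (W.1 *ᵥ ![0, 0, s * d])) ![0, 1, 0] := by
          rw [mem_smul_iff]
          convert e3 using 1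
          ext i
          fin_cases i <;> simp [hWinv, wi, Matrix.vecMul, dotProduct, Fin.sum_univ_three]
        convert e4 using 1
        ext i
        fin_cases i <;>
          simp [hWv, wMat, mu, Matrix.mulVec, dotProduct, Fin.sum_univ_three] <;> field_simp)
    intro t
    have := hall (t / d)
    simpa [div_mul_cancel₀ _ hd0] using this
  -- along `e0` and the last functional
  have hx : ∀ t : F, Mem H ![t, 0, 0] ![0, 0, 1] := by
    have e1 := hT.conj (inv_mem hU)
    rw [inv_inv] at e1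
    have hdot : (![0, 1, 0] ᵥ* u.1) ⬝ᵥ ![a, 0, 0] = 0 := by
      simp [u, uMat, Matrix.vecMul, dotProduct, Fin.sum_univ_three]
    have e2 := e1.comm hT hdot
    have h2 : Mem H ![b, 0, 0] ![0, 1 - nb l, na l] := by
      convert e2 using 1
      · ext i
        fin_cases i <;> simp [hb, huinv, ui, Matrix.mulVec, dotProduct, Fin.sum_univ_three] <;> ring
      · ext i
        fin_cases i <;> simp [u, uMat, Matrix.vecMul, dotProduct, Fin.sum_univ_three]
    have h3 : Mem H ![b, 0, 0] ![0, 1 - nb l, l ^ 3 * na l] := by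
      have e3 := h2.conj hW
      have e4 : Mem H ![b, 0, 0] (l • (![0, 1 - nb l, na l] ᵥ* (W⁻¹).1)) := by
        rw [← mem_smul_iff]
        convert e3 using 1
        ext i
        fin_cases i <;> simp [hWv, wMat, Matrix.mulVec, dotProduct, Fin.sum_univ_three]
      convert e4 using 1
      ext i
      fin_cases i <;>
        simp [hWinv, wi, mu, Matrix.vecMul, dotProduct, Fin.sum_univ_three] <;> field_simp
    set d := b * ((l ^ 3 - 1) * na l) with hd
    have hd0 : d ≠ 0 := mul_ne_zero hb0 (mul_ne_zero (sub_ne_zero.2 hl3) hn)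
    have h2' : Mem H ![b, 0, 0] ((-1 : F) • ![0, 1 - nb l, na l]) := by
      rw [← mem_smul_iff]
      convert h2.neg using 1
      simp
    have h4 : Mem H ![d, 0, 0] ![0, 0, 1] := by
      have e5 : Mem H ![b, 0, 0] (((l ^ 3 - 1) * na l) • ![0, 0, 1]) := by
        convert Mem.addφ h3 h2' using 1
        ext i; fin_cases i <;> simp <;> ring
      rw [← mem_smul_iff] at e5
      convert e5 using 1
      ext i; fin_cases i <;> simp [hd]; ring
    have hall := addSpan hq hgen (Y := {s | Mem H ![s * d, 0, 0] ![0, 0, 1]})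
      (by
        show Mem H ![0 * d, 0, 0] ![0, 0, 1]
        convert mem_zero (H := H) ![0, 0, 1] using 1
        ext i; fin_cases i <;> simp)
      (by show Mem H ![1 * d, 0, 0] ![0, 0, 1]; rwa [one_mul])
      (fun s hs' t ht => by
        show Mem H ![(s + t) * d, 0, 0] ![0, 0, 1]
        convert Mem.add hs' ht using 1
        ext i; fin_cases i <;> simp [add_mul])
      (fun s hs' => by
        show Mem H ![-s * d, 0, 0] ![0, 0, 1]
        convert Mem.neg hs' using 1
        ext i; fin_cases i <;> simp)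
      (fun s hs' => by
        show Mem H ![l ^ 3 * s * d, 0, 0] ![0, 0, 1]
        have e3 := Mem.conj hs' hW
        have e4 : Mem H ((mu l)⁻¹ • (W.1 *ᵥ ![s * d, 0, 0])) ![0, 0, 1] := by
          rw [mem_smul_iff]
          convert e3 using 1
          ext i
          fin_cases i <;> simp [hWinv, wi, Matrix.vecMul, dotProduct, Fin.sum_univ_three]
        convert e4 using 1
        ext i
        fin_cases i <;>
          simp [hWv, wMat, mu, Matrix.mulVec, dotProduct, Fin.sum_univ_three] <;> ring)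
    intro t
    have := hall (t / d)
    simpa [div_mul_cancel₀ _ hd0] using this
  have hφ : Full H ![0, 1, 0] := by
    intro v hv
    simp [dotProduct, Fin.sum_univ_three] at hv
    have e1 := (hy 1).comm (hx (v 0)) (by simp [dotProduct, Fin.sum_univ_three])
    convert e1.add (hy (v 2)) using 1
    ext i; fin_cases i <;> simp [hv, dotProduct, Fin.sum_univ_three]
  have hψ : Full H ![0, 0, 1] := by
    have e := ((hφ.conj hU).add (hφ.smul (-(1 - nb l)))).smul (na l)⁻¹
    convert e using 1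
    ext i
    fin_cases i <;> simp [u, uMat, Matrix.vecMul, dotProduct, Fin.sum_univ_three, hn]
  have hξ : Full H ![1, 0, 0] := by
    have e := ((hψ.conj hU).add (hψ.smul (-(1 + nb l)))).add (hφ.smul (nb l * nb l / na l))
    convert e using 1
    ext i
    fin_cases i <;> simp [u, uMat, Matrix.vecMul, dotProduct, Fin.sum_univ_three]
  refine eq_top_of_full fun i => ?_
  fin_cases i
  · convert hξ using 1; ext i; fin_cases i <;> simp
  · convert hφ using 1; ext i; fin_cases i <;> simp
  · convert hψ using 1; ext i; fin_cases i <;> simp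

end Cfsg.Agent.Classical.SL3TwoGen
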