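import Mathlib
import Cfsg.Agent.Lib.Classical.RegUnipotentSL

/-!
# Two conjugate regular unipotents generating `SL₃` over two or four elements
-/

set_option autoImplicit false
set_option linter.unusedSimpArgs false

namespace Cfsg.Agent.Classical.SL3TwoGenSmall

open Matrix
open Cfsg.Agent.Classical.TransvectionSpread
open Cfsg.Agent.Classical.RegUnipotentSL

variable {F : Type*} [Field F]

theorem jor_val : (jor F 2).1 = !![1, 1, 0; 0, 1, 1; 0, 0, 1] := by
  ext i j
  fin_cases i <;> fin_cases j <;> simp [jor, shiftUp, Matrix.one_apply]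

/-- lower unipotent with a corner -/
def low (w : F) : SpecialLinearGroup (Fin 3) F :=
  ⟨!![1, 0, 0; 1, 1, 0; w, 1, 1], by simp [Matrix.det_fin_three]⟩

theorem main (w : F) (h2 : (2 : F) = 0) (hw : w = 0 ∨ w * w = w + 1)
    (hall : ∀ t : F, t = 0 ∨ t = 1 ∨ t = w ∨ t = w + 1) :
    ∃ g : SpecialLinearGroup (Fin 3) F,
      Subgroup.closure ({jor F 2, g * jor F 2 * g⁻¹} : Set (SpecialLinearGroup (Fin 3) F)) = ⊤ := by
  classical
  have hn1 : (-1 : F) = 1 := by linear_combination (-1 : F) * h2
  let g : SpecialLinearGroup (Fin 3) F := ⟨!![0, 0, 1; 0, 1, w; 1, 0, 0], by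
    simp [Matrix.det_fin_three, hn1]⟩
  refine ⟨g, ?_⟩
  set H := Subgroup.closure ({jor F 2, g * jor F 2 * g⁻¹} : Set (SpecialLinearGroup (Fin 3) F))
  have hv : g * jor F 2 * g⁻¹ = low w := by
    rw [mul_inv_eq_iff_eq_mul]
    apply Subtype.ext
    show g.1 * (jor F 2).1 = (low w).1 * g.1
    rw [jor_val]
    ext i j
    fin_cases i <;> fin_cases j <;>
      simp [g, low, Matrix.mul_apply, Fin.sum_univ_three] <;>
      first | ring1 | linear_combination h2 | linear_combination (-1 : F) * h2 |
        linear_combination w * h2 | linear_combination (-w) * h2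
  have hJ : jor F 2 ∈ H := Subgroup.subset_closure (by simp)
  have hV : low w ∈ H := hv ▸ Subgroup.subset_closure (by simp)
  set J2 := jor F 2 * jor F 2
  set V2 := low w * low w
  have eJ2 : J2.1 = !![1, 0, 1; 0, 1, 0; 0, 0, 1] := by
    show (jor F 2).1 * (jor F 2).1 = _
    rw [jor_val]
    ext i j
    fin_cases i <;> fin_cases j <;>
      simp [Matrix.mul_apply, Fin.sum_univ_three] <;> linear_combination h2
  have eV2 : V2.1 = !![1, 0, 0; 0, 1, 0; 1, 0, 1] := by
    show (low w).1 * (low w).1 = _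
    ext i j
    fin_cases i <;> fin_cases j <;>
      simp [low, Matrix.mul_apply, Fin.sum_univ_three] <;>
      first | linear_combination h2 | linear_combination w * h2
  have hT1 : Mem H ![1, 0, 0] ![0, 0, 1] := by
    refine ⟨J2, mul_mem hJ hJ, ?_⟩
    rw [eJ2]; ext i j; fin_cases i <;> fin_cases j <;> simp [vecMulVec_apply]
  have hT1' : Mem H ![0, 0, 1] ![1, 0, 0] := by
    refine ⟨V2, mul_mem hV hV, ?_⟩
    rw [eV2]; ext i j; fin_cases i <;> fin_cases j <;> simp [vecMulVec_apply]
  have hTw : Mem H ![w, 0, 0] ![0, 0, 1] := by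
    rcases hw with rfl | hw
    · convert mem_zero (H := H) ![0, 0, 1] using 1
      ext i; fin_cases i <;> simp
    set Vi : SpecialLinearGroup (Fin 3) F := low (w + 1)
    have hVi : Vi = (low w)⁻¹ := by
      rw [eq_inv_iff_mul_eq_one]
      apply Subtype.ext
      show (low (w + 1)).1 * (low w).1 = 1
      ext i j
      fin_cases i <;> fin_cases j <;>
        simp [low, Matrix.mul_apply, Fin.sum_univ_three] <;>
        first | linear_combination h2 | linear_combination (w + 1) * h2 | linear_combination w * h2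
    refine ⟨jor F 2 * V2 * J2 * Vi * J2 * V2,
      mul_mem (mul_mem (mul_mem (mul_mem (mul_mem hJ (mul_mem hV hV)) (mul_mem hJ hJ))
        (hVi ▸ inv_mem hV)) (mul_mem hJ hJ)) (mul_mem hV hV), ?_⟩
    rw [val_mul, val_mul, val_mul, val_mul, val_mul, jor_val, eJ2, eV2]
    have e1 : (!![1, 1, 0; 0, 1, 1; 0, 0, 1] : Matrix (Fin 3) (Fin 3) F) * !![1, 0, 0; 0, 1, 0; 1, 0, 1]
        = !![1, 1, 0; 1, 1, 1; 1, 0, 1] := by
      ext i j; fin_cases i <;> fin_cases j <;> simp [Matrix.mul_apply, Fin.sum_univ_three]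
    have e2 : (!![1, 1, 0; 1, 1, 1; 1, 0, 1] : Matrix (Fin 3) (Fin 3) F) * !![1, 0, 1; 0, 1, 0; 0, 0, 1]
        = !![1, 1, 1; 1, 1, 0; 1, 0, 0] := by
      ext i j
      fin_cases i <;> fin_cases j <;>
        simp [Matrix.mul_apply, Fin.sum_univ_three] <;> linear_combination h2
    have e3 : (!![1, 1, 1; 1, 1, 0; 1, 0, 0] : Matrix (Fin 3) (Fin 3) F) * (low (w + 1)).1
        = !![w + 1, 0, 1; 0, 1, 0; 1, 0, 0] := by
      ext i j
      fin_cases i <;> fin_cases j <;>
        simp [low, Matrix.mul_apply, Fin.sum_univ_three] <;>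
        first | ring1 | linear_combination h2
    have e4 : (!![w + 1, 0, 1; 0, 1, 0; 1, 0, 0] : Matrix (Fin 3) (Fin 3) F) * !![1, 0, 1; 0, 1, 0; 0, 0, 1]
        = !![w + 1, 0, w; 0, 1, 0; 1, 0, 1] := by
      ext i j
      fin_cases i <;> fin_cases j <;>
        simp [Matrix.mul_apply, Fin.sum_univ_three] <;>
        first | ring1 | linear_combination h2
    rw [e1, e2, e3, e4]
    ext i j
    fin_cases i <;> fin_cases j <;>
      simp [Matrix.mul_apply, Fin.sum_univ_three, vecMulVec_apply] <;>
      first | ring1 | linear_combination h2 | linear_combination w * h2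
  have hTall : ∀ t : F, Mem H ![t, 0, 0] ![0, 0, 1] := by
    intro t
    rcases hall t with rfl | rfl | rfl | rfl
    · convert mem_zero (H := H) ![0, 0, 1] using 1
      ext i; fin_cases i <;> simp
    · exact hT1
    · exact hTw
    · convert hTw.add hT1 using 1
      ext i; fin_cases i <;> simp
  set S := J2 * V2 * J2
  have eS : S.1 = !![0, 0, 1; 0, 1, 0; 1, 0, 0] := by
    rw [val_mul, val_mul, eJ2, eV2]
    ext i j
    fin_cases i <;> fin_cases j <;>
      simp [Matrix.mul_apply, Fin.sum_univ_three] <;> linear_combination h2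
  have eSi : (S⁻¹).1 = !![0, 0, 1; 0, 1, 0; 1, 0, 0] := by
    refine (left_inv_eq_right_inv (a := S.1) (val_inv_mul S) ?_)
    rw [eS]
    ext i j
    fin_cases i <;> fin_cases j <;> simp [Matrix.mul_apply, Fin.sum_univ_three]
  have hCw : Mem H ![0, 0, w] ![1, 0, 0] := by
    have h := (hTall w).conj (x := S) (mul_mem (mul_mem (mul_mem hJ hJ) (mul_mem hV hV)) (mul_mem hJ hJ))
    rw [eS, eSi] at h
    convert h using 1 <;>
      (ext i; fin_cases i <;> simp [Matrix.mulVec, Matrix.vecMul, dotProduct, Fin.sum_univ_three])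
  obtain ⟨C, hC, hCe⟩ := hCw
  have hW0 : low 0 ∈ H := by
    have e : low w * C = low 0 := by
      apply Subtype.ext
      show (low w).1 * C.1 = (low 0).1
      rw [hCe]
      ext i j
      fin_cases i <;> fin_cases j <;>
        simp [low, Matrix.mul_apply, Fin.sum_univ_three, vecMulVec_apply] <;>
        first | ring1 | linear_combination w * h2
    exact e ▸ mul_mem hV hC
  refine eq_top_of_line (m := 0) hW0 (c := fun _ => 1) (fun _ => one_ne_zero) ?_ (fun k => ?_) fun t => ?_
  · ext i; fin_cases i <;> simp [low, Matrix.mulVec, dotProduct, Fin.sum_univ_three]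
  · fin_cases k <;>
      (ext i; fin_cases i <;> simp [low, Matrix.mulVec, dotProduct, Fin.sum_univ_three])
  · convert hTall t using 1 <;> (ext i; fin_cases i <;> simp)

end Cfsg.Agent.Classical.SL3TwoGenSmall
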