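import Mathlib
import Cfsg.Agent.Lib.Classical.RegUnipotentSL

/-!
# A regular unipotent of `SL`, a corner transvection, and the coordinates of their translates
-/

set_option autoImplicit false
set_option linter.unusedSectionVars false

namespace Cfsg.Agent.Classical.SLTwoGen

open Matrix
open Cfsg.Agent.Classical.TransvectionSpread
open Cfsg.Agent.Classical.RegUnipotentSL

variable {F : Type*} [Field F] {L : ℕ}

variable (F L) in
/-- translates of the last coordinate vector -/
def xv (k : ℕ) : Fin (L + 1) → F := (jor F L ^ k).1 *ᵥ Pi.single (Fin.last L) 1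

variable (F L) in
/-- translates of the first coordinate functional -/
def fv (j : ℕ) : Fin (L + 1) → F := Pi.single 0 1 ᵥ* ((jor F L ^ j)⁻¹).1

variable (F L) in
/-- closed form for `xv` -/
def pv (k : ℕ) : Fin (L + 1) → F := fun i => ((Nat.choose k (L - i) : ℕ) : F)

variable (F L) in
/-- closed form for the negative translates -/
def nv (m : ℕ) : Fin (L + 1) → F :=
  fun i => (-1 : F) ^ (L - i : ℕ) * ((Nat.choose (m + (L - i) - 1) (L - i) : ℕ) : F)

theorem jor_mulVec_castSucc (v : Fin (L + 1) → F) (i : Fin L) :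
    ((jor F L).1 *ᵥ v) i.castSucc = v i.castSucc + v i.succ := by
  show ((1 + shiftUp F L) *ᵥ v) i.castSucc = _
  rw [Matrix.add_mulVec, Matrix.one_mulVec, Pi.add_apply]
  congr 1
  rw [Matrix.mulVec, dotProduct, Finset.sum_eq_single i.succ]
  · simp [shiftUp]
  · intro b _ hb
    rw [shiftUp, Matrix.of_apply, if_neg, zero_mul]
    intro e; exact hb (Fin.ext (by simpa using e))
  · simp

theorem jor_mulVec_last (v : Fin (L + 1) → F) :
    ((jor F L).1 *ᵥ v) (Fin.last L) = v (Fin.last L) := by
  show ((1 + shiftUp F L) *ᵥ v) (Fin.last L) = _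
  rw [Matrix.add_mulVec, Matrix.one_mulVec, Pi.add_apply, add_eq_left, Matrix.mulVec, dotProduct]
  refine Finset.sum_eq_zero fun b _ => ?_
  rw [shiftUp, Matrix.of_apply, if_neg (by have := b.isLt; rw [Fin.val_last]; omega), zero_mul]

theorem jor_pv (k : ℕ) : (jor F L).1 *ᵥ pv F L k = pv F L (k + 1) := by
  funext i
  induction i using Fin.lastCases with
  | cast i =>
    rw [jor_mulVec_castSucc]
    simp only [pv, Fin.val_castSucc, Fin.val_succ]
    rw [show L - (i : ℕ) = L - ((i : ℕ) + 1) + 1 by omega, Nat.choose_succ_succ', Nat.cast_add]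
    ring
  | last => rw [jor_mulVec_last]; simp [pv]

theorem jor_nv (m : ℕ) : (jor F L).1 *ᵥ nv F L (m + 1) = nv F L m := by
  funext i
  induction i using Fin.lastCases with
  | cast i =>
    rw [jor_mulVec_castSucc]
    simp only [nv, Fin.val_castSucc, Fin.val_succ]
    obtain ⟨j, hj⟩ : ∃ j, L - ((i : ℕ) + 1) = j := ⟨_, rfl⟩
    rw [hj, show L - (i : ℕ) = j + 1 by omega, show m + 1 + (j + 1) - 1 = m + j + 1 by omega,
      show m + 1 + j - 1 = m + j by omega, show m + (j + 1) - 1 = m + j by omega, Nat.choose_succ_succ',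
      Nat.cast_add, pow_succ]
    ring
  | last => rw [jor_mulVec_last]; simp [nv]

theorem pv_zero : pv F L 0 = Pi.single (Fin.last L) 1 := by
  funext i
  induction i using Fin.lastCases with
  | cast i =>
    rw [pv, Nat.choose_eq_zero_of_lt (by simp), Nat.cast_zero,
      Pi.single_eq_of_ne (Fin.castSucc_lt_last i).ne]
  | last => simp [pv]

theorem nv_zero : nv F L 0 = Pi.single (Fin.last L) 1 := by
  funext i
  induction i using Fin.lastCases with
  | cast i =>
    rw [nv, Nat.choose_eq_zero_of_lt (by simp), Nat.cast_zero, mul_zero,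
      Pi.single_eq_of_ne (Fin.castSucc_lt_last i).ne]
  | last => simp [nv]

theorem xv_eq_pv (k : ℕ) : xv F L k = pv F L k := by
  induction k with
  | zero => rw [xv, pow_zero, pv_zero]; exact Matrix.one_mulVec _
  | succ k ih => rw [xv, pow_succ', val_mul, ← Matrix.mulVec_mulVec, ← jor_pv, ← ih, xv]

theorem inv_pow_mulVec (m : ℕ) :
    ((jor F L ^ m)⁻¹).1 *ᵥ Pi.single (Fin.last L) 1 = nv F L m := by
  have h : (jor F L ^ m).1 *ᵥ nv F L m = Pi.single (Fin.last L) 1 := by
    induction m with
    | zero => rw [pow_zero, ← nv_zero]; exact Matrix.one_mulVec _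
    | succ m ih => rw [pow_succ, val_mul, ← Matrix.mulVec_mulVec, jor_nv, ih]
  rw [← h, Matrix.mulVec_mulVec, val_inv_mul, Matrix.one_mulVec]

theorem conj_xv (j k : ℕ) : (jor F L ^ j).1 *ᵥ xv F L k = xv F L (j + k) := by
  rw [xv, xv, Matrix.mulVec_mulVec, ← val_mul, ← pow_add]

theorem conj_fv (j k : ℕ) : fv F L k ᵥ* ((jor F L ^ j)⁻¹).1 = fv F L (j + k) := by
  rw [fv, fv, Matrix.vecMul_vecMul, ← val_mul, ← _root_.mul_inv_rev, ← pow_add]

theorem fv_xv_ge {j k : ℕ} (h : j ≤ k) :
    fv F L j ⬝ᵥ xv F L k = ((Nat.choose (k - j) L : ℕ) : F) := by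
  rw [fv, xv, ← Matrix.dotProduct_mulVec, Matrix.mulVec_mulVec, ← val_mul,
    show (jor F L ^ j)⁻¹ * jor F L ^ k = jor F L ^ (k - j) by
      rw [inv_mul_eq_iff_eq_mul, ← pow_add]; congr 1; omega,
    single_one_dotProduct, ← xv, xv_eq_pv]
  simp [pv]

theorem fv_xv_lt {j k : ℕ} (h : k < j) :
    fv F L j ⬝ᵥ xv F L k = (-1 : F) ^ L * ((Nat.choose (j - k + L - 1) L : ℕ) : F) := by
  rw [fv, xv, ← Matrix.dotProduct_mulVec, Matrix.mulVec_mulVec, ← val_mul,
    show (jor F L ^ j)⁻¹ * jor F L ^ k = (jor F L ^ (j - k))⁻¹ by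
      rw [eq_comm, eq_inv_mul_iff_mul_eq, mul_inv_eq_iff_eq_mul, ← pow_add]; congr 1; omega,
    single_one_dotProduct, inv_pow_mulVec]
  simp [nv]

theorem fv_xv_zero {j k : ℕ} (h : j ≤ k) (h' : k < j + L) : fv F L j ⬝ᵥ xv F L k = 0 := by
  rw [fv_xv_ge h, Nat.choose_eq_zero_of_lt (by omega), Nat.cast_zero]

theorem fv_xv_one (j : ℕ) : fv F L j ⬝ᵥ xv F L (j + L) = 1 := by
  rw [fv_xv_ge (by omega), Nat.add_sub_cancel_left, Nat.choose_self, Nat.cast_one]

theorem fv_xv_succ (k : ℕ) : fv F L (k + 1) ⬝ᵥ xv F L k = (-1 : F) ^ L := by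
  rw [fv_xv_lt (by omega), show k + 1 - k + L - 1 = L by omega, Nat.choose_self, Nat.cast_one, mul_one]

/-- binomial coefficients modulo the characteristic -/
theorem choose_cast {p : ℕ} [Fact p.Prime] [CharP F p] (v c r a : ℕ) (hr : r < p ^ v) (ha : a ≤ p ^ v) :
    ((Nat.choose (c * p ^ v + r) a : ℕ) : F) =
      if a = p ^ v then (c : F) else ((Nat.choose r a : ℕ) : F) := by
  have hP : 0 < p ^ v := pow_pos (Fact.out : p.Prime).pos v
  have e : (Polynomial.X + 1 : Polynomial F) ^ (c * p ^ v + r) =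
      Polynomial.expand F (p ^ v) ((Polynomial.X + 1) ^ c) * (Polynomial.X + 1) ^ r := by
    rw [pow_add, mul_comm c, pow_mul, add_pow_char_pow, one_pow, map_pow, map_add, map_one,
      Polynomial.expand_X]
  rw [← Polynomial.coeff_X_add_one_pow F, e, Polynomial.coeff_mul]
  by_cases hA : a = p ^ v
  · rw [if_pos hA, Finset.sum_eq_single (a, 0)]
    · rw [Polynomial.coeff_X_add_one_pow, Polynomial.coeff_expand hP, if_pos (by rw [hA]),
        Polynomial.coeff_X_add_one_pow, hA, Nat.div_self hP, Nat.choose_one_right, Nat.choose_zero_right,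
        Nat.cast_one, mul_one]
    · rintro ⟨x, y⟩ hxy hne
      rw [Finset.HasAntidiagonal.mem_antidiagonal] at hxy
      have hxy' : x + y = a := hxy
      rw [Polynomial.coeff_expand hP]
      split_ifs with hd
      · obtain ⟨z, hz⟩ := hd
        rcases z with _ | _ | z
        · rw [Polynomial.coeff_X_add_one_pow F r, Nat.choose_eq_zero_of_lt (by simp at hz; omega), Nat.cast_zero,
            mul_zero]
        · exact absurd (Prod.ext (by simp at hz; omega) (by simp at hz; omega)) hne
        · have : 2 * p ^ v ≤ x := by rw [show x = p ^ v * (z + 1 + 1) from hz, mul_comm]; exact Nat.mul_le_mul_left _ (by omega)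
          omega
      · rw [zero_mul]
    · intro h; exact absurd (Finset.HasAntidiagonal.mem_antidiagonal.2 (add_zero a)) h
  · rw [if_neg hA, Finset.sum_eq_single (0, a)]
    · rw [Polynomial.coeff_X_add_one_pow, Polynomial.coeff_expand hP, if_pos (dvd_zero _),
        Polynomial.coeff_X_add_one_pow, Nat.zero_div, Nat.choose_zero_right, Nat.cast_one, one_mul]
    · rintro ⟨x, y⟩ hxy hne
      rw [Finset.HasAntidiagonal.mem_antidiagonal] at hxy
      have hxy' : x + y = a := hxy
      rw [Polynomial.coeff_expand hP, if_neg, zero_mul]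
      intro hd
      rcases Nat.eq_zero_or_pos x with hx | hx
      · exact hne (Prod.ext hx (by simp only; omega))
      · have := Nat.le_of_dvd hx hd; omega
    · intro h; exact absurd (Finset.HasAntidiagonal.mem_antidiagonal.2 (zero_add a)) h

/-- the translates before the top span the kernel of the first coordinate -/
theorem mem_span_xv (v : Fin (L + 1) → F) (hv : v 0 = 0) :
    v ∈ Submodule.span F (Set.range fun k : Fin L => xv F L k) := by
  have key : ∀ c, c ≤ L → ∀ v : Fin (L + 1) → F, (∀ i : Fin (L + 1), (i : ℕ) + c ≤ L → v i = 0) →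
      v ∈ Submodule.span F (Set.range fun k : Fin L => xv F L k) := by
    intro c
    induction c with
    | zero =>
      intro _ v hv
      rw [show v = 0 from funext fun i => hv i (by have := i.isLt; omega)]
      exact zero_mem _
    | succ c ih =>
      intro hc v hv
      have h := ih (by omega) (v - v ⟨L - c, by omega⟩ • xv F L c) (fun i hi => by
        rw [Pi.sub_apply, Pi.smul_apply, smul_eq_mul, xv_eq_pv, pv]
        by_cases e : (i : ℕ) + c = L
        · have hi' : v i = v ⟨L - c, by omega⟩ := congrArg v (Fin.ext (by simp only; omega))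
          rw [hi', show L - (i : ℕ) = c by omega, Nat.choose_self, Nat.cast_one, mul_one, sub_self]
        · rw [hv i (by omega), Nat.choose_eq_zero_of_lt (by omega), Nat.cast_zero, mul_zero, sub_zero])
      have h2 := Submodule.add_mem _ h (Submodule.smul_mem _ (v ⟨L - c, by omega⟩)
        (Submodule.subset_span (⟨⟨c, by omega⟩, rfl⟩ : xv F L c ∈ Set.range fun k : Fin L => xv F L k)))
      rwa [sub_add_cancel] at h2
  refine key L le_rfl v fun i hi => ?_
  have : i = 0 := Fin.ext (by simp only [Fin.val_zero]; omega)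
  rw [this, hv]

end Cfsg.Agent.Classical.SLTwoGen
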