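import Mathlib
import Cfsg.Agent.Lib.Classical.SLTwoGenBase

/-!
# Two conjugate regular unipotents generating `SL`, four dimensions and more
-/

set_option autoImplicit false
set_option linter.unusedSectionVars false
set_option linter.unusedSimpArgs false

namespace Cfsg.Agent.Classical.SLTwoGen

open Matrix
open Cfsg.Agent.Classical.TransvectionSpread
open Cfsg.Agent.Classical.RegUnipotentSL

variable {F : Type*} [Field F] {L : ℕ}

variable (L) in
/-- the corner transvection -/
def corner (hL : 0 < L) (t : F) : SpecialLinearGroup (Fin (L + 1)) F :=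
  SpecialLinearGroup.transvection (i := Fin.last L) (j := 0)
    (fun e => by have := congrArg Fin.val e; simp at this; omega) t

variable (hL : 0 < L) (t : F)

/-- translates of the corner transvection -/
def tr (j : ℕ) : SpecialLinearGroup (Fin (L + 1)) F :=
  jor F L ^ j * corner L hL t * (jor F L ^ j)⁻¹

/-- quotient of two successive translates -/
def qu (j : ℕ) : SpecialLinearGroup (Fin (L + 1)) F := tr hL t (j + 1) * (tr hL t j)⁻¹

theorem corner_val : (corner L hL t).1 = 1 + t • vecMulVec (xv F L 0) (fv F L 0) := by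
  rw [corner, SpecialLinearGroup.transvection_coe]
  congr 1
  ext a b
  rw [xv_eq_pv, pv_zero, fv, pow_zero, inv_one, show (1 : SpecialLinearGroup (Fin (L + 1)) F).1 = 1 from rfl,
    Matrix.vecMul_one]
  by_cases ha : a = Fin.last L <;> by_cases hb : b = 0 <;>
    simp [vecMulVec_apply, Matrix.single, ha, hb, eq_comm]

theorem tr_val (j : ℕ) : (tr hL t j).1 = 1 + t • vecMulVec (xv F L j) (fv F L j) := by
  rw [tr, val_mul, val_mul, corner_val, mul_add, mul_one, add_mul, val_mul_inv, Matrix.mul_smul,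
    Matrix.smul_mul, mul_vecMulVec, vecMulVec_mul, conj_xv, conj_fv, add_zero]

theorem tr_mulVec (j : ℕ) (v : Fin (L + 1) → F) :
    (tr hL t j).1 *ᵥ v = v + (t * fv F L j ⬝ᵥ v) • xv F L j := by
  rw [tr_val, Matrix.add_mulVec, Matrix.one_mulVec, Matrix.smul_mulVec, vecMulVec_mulVec,
    op_smul_eq_smul, smul_smul]

theorem tr_inv_mulVec (j : ℕ) (v : Fin (L + 1) → F) :
    ((tr hL t j)⁻¹).1 *ᵥ v = v - (t * fv F L j ⬝ᵥ v) • xv F L j := by
  have h : (tr hL t j).1 *ᵥ (v - (t * fv F L j ⬝ᵥ v) • xv F L j) = v := by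
    rw [tr_mulVec, dotProduct_sub, dotProduct_smul, fv_xv_zero le_rfl (by omega), smul_zero, sub_zero,
      sub_add_cancel]
  conv_lhs => rw [← h]
  rw [Matrix.mulVec_mulVec, val_inv_mul, Matrix.one_mulVec]

theorem vecMul_tr (j : ℕ) {ψ : Fin (L + 1) → F} (h : ψ ⬝ᵥ xv F L j = 0) :
    ψ ᵥ* (tr hL t j).1 = ψ := by
  rw [tr_val, Matrix.vecMul_add, Matrix.vecMul_one, Matrix.vecMul_smul, vecMul_vecMulVec, h,
    zero_smul, smul_zero, add_zero]

theorem vecMul_qu_inv (j : ℕ) {ψ : Fin (L + 1) → F} (h : ψ ⬝ᵥ xv F L j = 0)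
    (h' : ψ ⬝ᵥ xv F L (j + 1) = 0) : ψ ᵥ* ((qu hL t j)⁻¹).1 = ψ := by
  have e : ∀ i, ψ ⬝ᵥ xv F L i = 0 → ψ ᵥ* ((tr hL t i)⁻¹).1 = ψ := fun i hi => by
    conv_lhs => rw [← vecMul_tr hL t i hi]
    rw [Matrix.vecMul_vecMul, val_mul_inv, Matrix.vecMul_one]
  rw [qu, _root_.mul_inv_rev, inv_inv, val_mul, ← Matrix.vecMul_vecMul, vecMul_tr hL t j h, e _ h']

theorem qu_eq (j : ℕ) : qu hL t j = jor F L ^ j * (jor F L * (corner L hL t * jor F L * (corner L hL t)⁻¹)⁻¹) *
    (jor F L ^ j)⁻¹ := by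
  rw [qu, tr, tr, pow_succ]
  group

/-! ### Sums of rank one maps -/

variable (F L) in
/-- three translates as columns -/
def colX : Matrix (Fin (L + 1)) (Fin 3) F := Matrix.of fun a j => xv F L j a

variable (F L) in
/-- three translates as rows -/
def rowY : Matrix (Fin 3) (Fin (L + 1)) F := Matrix.of fun j b => fv F L j b

theorem sum_single (i j : Fin 3) (c : F) :
    colX F L * Matrix.single i j c * rowY F L = c • vecMulVec (xv F L i) (fv F L j) := by
  ext a b
  rw [Matrix.mul_apply, Finset.sum_eq_single j]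
  · simp [colX, rowY, Matrix.mul_apply, Matrix.single, vecMulVec_apply, mul_comm, mul_left_comm]
  · intro k _ hk
    simp [colX, Matrix.mul_apply, Matrix.single, Ne.symm hk]
  · simp

/-- `g = 1 + X M Y` -/
def Rep (g : SpecialLinearGroup (Fin (L + 1)) F) (M : Matrix (Fin 3) (Fin 3) F) : Prop :=
  g.1 = 1 + colX F L * M * rowY F L

theorem gram (h3 : 3 ≤ L) : rowY F L * colX F L =
    !![0, 0, 0; (-1 : F) ^ L, 0, 0; fv F L 2 ⬝ᵥ xv F L 0, (-1 : F) ^ L, 0] := by
  have e : ∀ i j : Fin 3, (rowY F L * colX F L) i j = fv F L i ⬝ᵥ xv F L j := fun i j => rfl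
  ext i j
  rw [e]
  fin_cases i <;> fin_cases j
  · exact fv_xv_zero (j := 0) (k := 0) (by omega) (by omega)
  · exact fv_xv_zero (j := 0) (k := 1) (by omega) (by omega)
  · exact fv_xv_zero (j := 0) (k := 2) (by omega) (by omega)
  · exact fv_xv_succ 0
  · exact fv_xv_zero (j := 1) (k := 1) (by omega) (by omega)
  · exact fv_xv_zero (j := 1) (k := 2) (by omega) (by omega)
  · rfl
  · exact fv_xv_succ 1
  · exact fv_xv_zero (j := 2) (k := 2) (by omega) (by omega)

theorem Rep.congr {g : SpecialLinearGroup (Fin (L + 1)) F} {M N : Matrix (Fin 3) (Fin 3) F} (h : Rep g M)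
    (e : M = N) : Rep g N := e ▸ h

theorem Rep.mul (h3 : 3 ≤ L) {g g' : SpecialLinearGroup (Fin (L + 1)) F} {M M' : Matrix (Fin 3) (Fin 3) F}
    (h : Rep g M) (h' : Rep g' M') : Rep (g * g')
      (M + M' + M * !![0, 0, 0; (-1 : F) ^ L, 0, 0; fv F L 2 ⬝ᵥ xv F L 0, (-1 : F) ^ L, 0] * M') := by
  rw [Rep, val_mul, h, h', ← gram h3]
  simp only [add_mul, mul_add, Matrix.add_mul, Matrix.mul_add, one_mul, mul_one, ← Matrix.mul_assoc]
  abel

theorem Rep.inv (h3 : 3 ≤ L) {g : SpecialLinearGroup (Fin (L + 1)) F} {M M' : Matrix (Fin 3) (Fin 3) F}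
    (h : Rep g M)
    (e : M + M' + M * !![0, 0, 0; (-1 : F) ^ L, 0, 0; fv F L 2 ⬝ᵥ xv F L 0, (-1 : F) ^ L, 0] * M' = 0) :
    Rep g⁻¹ M' := by
  refine left_inv_eq_right_inv (a := g.1) (val_inv_mul g) ?_
  rw [← gram h3] at e
  have e2 := congrArg (fun N => colX F L * N * rowY F L) e
  simp only [Matrix.add_mul, Matrix.mul_add, Matrix.mul_zero, Matrix.zero_mul, ← Matrix.mul_assoc] at e2
  rw [show g.1 = _ from h]
  simp only [add_mul, mul_add, one_mul, mul_one, ← Matrix.mul_assoc]
  conv_rhs => rw [← add_zero (1 : Matrix (Fin (L + 1)) (Fin (L + 1)) F), ← e2]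
  abel

theorem rep_tr (j : Fin 3) : Rep (tr hL t j) (Matrix.single j j t) := by
  rw [Rep, sum_single, tr_val]

theorem fv_xv_one' : fv F L 0 ⬝ᵥ xv F L L = 1 := by
  have h := fv_xv_one (F := F) (L := L) 0
  rwa [Nat.zero_add] at h

set_option maxHeartbeats 2000000 in
theorem first_mem (h3 : 3 ≤ L) {H : Subgroup (SpecialLinearGroup (Fin (L + 1)) F)}
    (hq : ∀ j, qu hL t j ∈ H) : Mem H ((t ^ 3) • xv F L 2) (fv F L 0) := by
  set α : F := (-1 : F) ^ L with hα
  set β : F := fv F L 2 ⬝ᵥ xv F L 0 with hβ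
  have hαα : α * α = 1 := by rw [hα, ← mul_pow, neg_one_mul, neg_neg, one_pow]
  set G : Matrix (Fin 3) (Fin 3) F := !![0, 0, 0; α, 0, 0; β, α, 0] with hG
  have hT : ∀ j : Fin 3, Rep (tr hL t j)⁻¹ (Matrix.single j j (-t)) := fun j => by
    refine (rep_tr hL t j).inv h3 ?_
    ext a b
    fin_cases j <;> fin_cases a <;> fin_cases b <;>
      simp [Matrix.mul_apply, Fin.sum_univ_three, Matrix.single]
  have ha : Rep (qu hL t 0) !![-t, 0, 0; -(t * t * α), t, 0; 0, 0, 0] := by
    have h := (rep_tr hL t 1).mul h3 (hT 0)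
    refine h.congr ?_
    ext a b
    fin_cases a <;> fin_cases b <;>
      simp [Matrix.mul_apply, Fin.sum_univ_three, Matrix.single, G, hα] <;> ring
  have hb : Rep (qu hL t 1) !![0, 0, 0; 0, -t, 0; 0, -(t * t * α), t] := by
    have h := (rep_tr hL t 2).mul h3 (hT 1)
    refine h.congr ?_
    ext a b
    fin_cases a <;> fin_cases b <;>
      simp [Matrix.mul_apply, Fin.sum_univ_three, Matrix.single, G, hα] <;> ring
  have hai : Rep (qu hL t 0)⁻¹ !![t, 0, 0; 0, -t, 0; 0, 0, 0] := by
    refine ha.inv h3 ?_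
    ext a b
    fin_cases a <;> fin_cases b <;>
      simp [Matrix.mul_apply, Fin.sum_univ_three, Matrix.vecHead, Matrix.vecTail, hα] <;> ring
  have hbi : Rep (qu hL t 1)⁻¹ !![0, 0, 0; 0, t, 0; 0, 0, -t] := by
    refine hb.inv h3 ?_
    ext a b
    fin_cases a <;> fin_cases b <;>
      simp [Matrix.mul_apply, Fin.sum_univ_three, Matrix.vecHead, Matrix.vecTail, hα] <;> ring
  have hab : Rep (qu hL t 0 * qu hL t 1 * (qu hL t 0)⁻¹ * (qu hL t 1)⁻¹)
      !![0, 0, 0; -(t * t * α), 0, 0; β * t * t - α * α * t * t * t, -(t * t * α), 0] := by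
    refine (((ha.mul h3 hb).mul h3 hai).mul h3 hbi).congr ?_
    ext a b
    fin_cases a <;> fin_cases b <;>
      simp [Matrix.mul_apply, Fin.sum_univ_three, Matrix.vecHead, Matrix.vecTail, ← hα, ← hβ] <;> ring
  have hba : Rep (qu hL t 1 * qu hL t 0 * (qu hL t 1)⁻¹ * (qu hL t 0)⁻¹)
      !![0, 0, 0; t * t * α, 0, 0; α * α * t * t * t - β * t * t, t * t * α, 0] := by
    refine (((hb.mul h3 ha).mul h3 hbi).mul h3 hai).congr ?_
    ext a b
    fin_cases a <;> fin_cases b <;>
      simp [Matrix.mul_apply, Fin.sum_univ_three, Matrix.vecHead, Matrix.vecTail, ← hα, ← hβ] <;> ring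
  set C := qu hL t 0 * qu hL t 1 * (qu hL t 0)⁻¹ * (qu hL t 1)⁻¹ with hC
  have hCi : C⁻¹ = qu hL t 1 * qu hL t 0 * (qu hL t 1)⁻¹ * (qu hL t 0)⁻¹ := by rw [hC]; group
  rw [← hCi] at hba
  have hfin := ((hab.mul h3 ha).mul h3 hba).mul h3 hai
  refine ⟨C * qu hL t 0 * C⁻¹ * (qu hL t 0)⁻¹, ?_, ?_⟩
  · have hCH : C ∈ H := mul_mem (mul_mem (mul_mem (hq 0) (hq 1)) (inv_mem (hq 0))) (inv_mem (hq 1))
    exact mul_mem (mul_mem (mul_mem hCH (hq 0)) (inv_mem hCH)) (inv_mem (hq 0))
  · rw [show _ = _ from hfin, Matrix.smul_vecMulVec]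
    congr 1
    rw [show (t ^ 3) • vecMulVec (xv F L 2) (fv F L 0) =
      colX F L * Matrix.single (2 : Fin 3) (0 : Fin 3) (t ^ 3) * rowY F L from (sum_single (F := F) (L := L) 2 0 _).symm]
    congr 2
    ext a b
    fin_cases a <;> fin_cases b <;>
      simp [Matrix.mul_apply, Fin.sum_univ_three, Matrix.single, Matrix.vecHead, Matrix.vecTail, ← hα] <;>
      first | ring1 | linear_combination (t ^ 3) * hαα | linear_combination (-(t ^ 3)) * hαα

/-! ### The scalars -/

section scalars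

variable {H : Subgroup (SpecialLinearGroup (Fin (L + 1)) F)} (hJ : jor F L ∈ H) (hq : ∀ j, qu hL t j ∈ H)

include hJ in
theorem shift_back {i k : ℕ} {s : F} (h : Mem H (s • xv F L (i + k)) (fv F L i)) :
    Mem H (s • xv F L k) (fv F L 0) := by
  have h1 := h.conj (inv_mem (pow_mem hJ i))
  rw [inv_inv, Matrix.mulVec_smul, ← conj_xv, Matrix.mulVec_mulVec, val_inv_mul, Matrix.one_mulVec,
    show i = i + 0 from rfl, ← conj_fv, Matrix.vecMul_vecMul, add_zero, val_inv_mul,
    Matrix.vecMul_one] at h1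
  exact h1

include hJ in
theorem shift {i k : ℕ} {s : F} (h : Mem H (s • xv F L k) (fv F L 0)) :
    Mem H (s • xv F L (i + k)) (fv F L i) := by
  have h1 := h.conj (pow_mem hJ i)
  rwa [Matrix.mulVec_smul, conj_xv, conj_fv, add_zero] at h1

include hq in
theorem qu_act {k j : ℕ} (hj : j + 1 < L) {s : F} (h : Mem H (s • xv F L k) (fv F L 0)) :
    Mem H ((s * t * (fv F L (j + 1) ⬝ᵥ xv F L k - t * (fv F L j ⬝ᵥ xv F L k) * (-1) ^ L)) • xv F L (j + 1)
      - (s * t * (fv F L j ⬝ᵥ xv F L k)) • xv F L j) (fv F L 0) := by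
  have h1 := h.conj (hq j)
  rw [vecMul_qu_inv hL t j (fv_xv_zero (Nat.zero_le _) (by omega))
    (fv_xv_zero (Nat.zero_le _) (by omega))] at h1
  have h2 := h1.sub h
  convert h2 using 1
  rw [qu, val_mul, ← Matrix.mulVec_mulVec, tr_inv_mulVec, tr_mulVec]
  simp only [dotProduct_sub, dotProduct_smul, fv_xv_succ, smul_eq_mul]
  module

include hq in
theorem step {k : ℕ} (hk : k + 1 < L) {s : F} (h : Mem H (s • xv F L k) (fv F L 0)) :
    Mem H ((s * (t * (-1) ^ L)) • xv F L (k + 1)) (fv F L 0) := by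
  have h1 := qu_act hL t hq (j := k) hk h
  rw [fv_xv_succ, fv_xv_zero le_rfl (by omega)] at h1
  convert h1 using 1
  module

include hq in
theorem step_iter {k d : ℕ} (hd : k + d < L) {s : F} (h : Mem H (s • xv F L k) (fv F L 0)) :
    Mem H ((s * (t * (-1) ^ L) ^ d) • xv F L (k + d)) (fv F L 0) := by
  induction d with
  | zero => simpa using h
  | succ d ih =>
    have h1 := step hL t hq (by omega) (ih (by omega))
    rwa [mul_assoc, ← pow_succ, add_assoc] at h1

include hJ hq in
theorem combine {D E : ℕ} (hDE : D + E = L) (hE : 1 ≤ E) {s s' : F}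
    (h : Mem H (s • xv F L D) (fv F L 0)) (h' : Mem H (s' • xv F L E) (fv F L 0)) :
    Mem H ((s' * s) • xv F L 0) (fv F L 0) := by
  have h1 := shift hJ (i := D) h'
  have h2 := h1.comm h (by rw [dotProduct_smul, fv_xv_zero le_rfl (by omega), smul_zero])
  rw [dotProduct_smul, hDE, fv_xv_one', smul_eq_mul, mul_one, smul_smul] at h2
  exact shift_back hJ (i := D) (k := 0) h2

include hJ hq in
theorem low_one (h3 : 3 ≤ L) {s s' : F} (h : Mem H (s • xv F L 2) (fv F L 0))
    (h' : Mem H (s' • xv F L (L - 1)) (fv F L 0)) : Mem H ((s' * s) • xv F L 1) (fv F L 0) := by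
  have h1 := shift hJ (i := 1) h'
  rw [show 1 + (L - 1) = L by omega] at h1
  have h2 := h1.comm h (by rw [dotProduct_smul, fv_xv_zero (by omega) (by omega), smul_zero])
  rw [dotProduct_smul, fv_xv_one', smul_eq_mul, mul_one, smul_smul] at h2
  exact shift_back hJ (i := 1) (k := 1) h2

include hq in
theorem jump {k i : ℕ} (hi : 1 ≤ i) (hki : k + i + 1 < L)
    (hz : ∀ m, 2 ≤ m → m ≤ i → fv F L (k + m) ⬝ᵥ xv F L k = 0) {s : F}
    (h : Mem H (s • xv F L k) (fv F L 0)) :
    Mem H ((s * (t * (fv F L (k + i + 1) ⬝ᵥ xv F L k))) • xv F L (k + i + 1)) (fv F L 0) := by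
  have h1 := qu_act hL t hq (j := k + i) hki h
  rcases Nat.eq_or_lt_of_le hi with e | e
  · subst e
    rw [fv_xv_succ k] at h1
    have h2 := step_iter hL t hq (d := 1) (by omega) h
    have h3 := step_iter hL t hq (d := 2) (by omega) h
    convert (h1.add h2).add h3 using 1
    simp only [pow_one, show k + 1 + 1 = k + 2 from rfl]
    module
  · rw [hz i e le_rfl] at h1
    convert h1 using 1
    module

end scalars

theorem natural {F : Type*} [Field F] [Fintype F] {A : Subring F} {x y : F} (hx : x ∈ A) (hx0 : x ≠ 0)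
    (hxy : x * y ∈ A) : y ∈ A := by
  have e : y = x ^ (Fintype.card F - 2) * (x * y) := by
    rw [← mul_assoc, ← pow_succ, show Fintype.card F - 2 + 1 = Fintype.card F - 1 by
      have := Fintype.one_lt_card (α := F); omega, FiniteField.pow_card_sub_one_eq_one x hx0, one_mul]
  rw [e]
  exact mul_mem (pow_mem hx _) hxy

theorem scalars_top [Fintype F] (h3 : 3 ≤ L) (ht : t ≠ 0) (hgen : ∀ x : F, x ≠ 0 → ∃ k : ℕ, t ^ k = x)
    {H : Subgroup (SpecialLinearGroup (Fin (L + 1)) F)} (hJ : jor F L ∈ H)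
    (hq : ∀ j, qu hL t j ∈ H) : ∀ s : F, Mem H (s • xv F L 0) (fv F L 0) := by
  classical
  set τ : F := t * (-1) ^ L with hτ
  have hτ0 : τ ≠ 0 := mul_ne_zero ht (pow_ne_zero _ (neg_ne_zero.2 one_ne_zero))
  have h2 := first_mem hL t h3 hq
  have hL1 := step_iter hL t hq (d := L - 3) (by omega) h2
  rw [show 2 + (L - 3) = L - 1 by omega] at hL1
  have h1 := low_one hL t hJ hq h3 h2 hL1
  set s0 : F := t ^ 3 * τ ^ (L - 3) * (t ^ 3 * τ ^ (L - 3) * t ^ 3) with hs0
  have hs00 : s0 ≠ 0 := by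
    have := pow_ne_zero 3 ht
    have := pow_ne_zero (L - 3) hτ0
    positivity
  have h0 : Mem H (s0 • xv F L 0) (fv F L 0) :=
    combine hL t hJ hq (D := 1) (E := L - 1) (by omega) (by omega) h1 hL1
  have hk : ∀ k, k < L → Mem H ((s0 * τ ^ k) • xv F L k) (fv F L 0) := fun k hk => by
    have := step_iter hL t hq (k := 0) (d := k) (by omega) h0
    rwa [Nat.zero_add] at this
  let A : Subring F :=
  { carrier := {c | ∀ s, Mem H (s • xv F L 0) (fv F L 0) → Mem H ((c * s) • xv F L 0) (fv F L 0)}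
    one_mem' := fun s hs => by rwa [one_mul]
    zero_mem' := fun s _ => by rw [zero_mul, zero_smul]; exact mem_zero _
    add_mem' := fun ha hb s hs => by rw [add_mul, add_smul]; exact (ha s hs).add (hb s hs)
    mul_mem' := fun ha hb s hs => by rw [mul_assoc]; exact ha _ (hb s hs)
    neg_mem' := fun ha s hs => by rw [neg_mul, neg_smul]; exact (ha s hs).neg }
  have hAmem : ∀ c, (∀ s, Mem H (s • xv F L 0) (fv F L 0) → Mem H ((c * s) • xv F L 0) (fv F L 0)) → c ∈ A :=
    fun c hc => hc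
  have hnF : ∀ v c : ℕ, L + 1 = c * ringChar F ^ v → ¬ ringChar F ∣ c →
      t ^ (ringChar F ^ v) ∈ A := by
    intro v c hn hc
    haveI : Fact (ringChar F).Prime := ⟨CharP.char_is_prime F _⟩
    have hP : 1 ≤ ringChar F ^ v := Nat.one_le_pow _ _ (Fact.out : (ringChar F).Prime).pos
    -- a full turn
    have hfull : τ ^ (L - 2) * t ^ 3 ∈ A := hAmem _ fun s hs => by
      have e := step_iter hL t hq (k := 0) (d := L - 2) (by omega) hs
      rw [Nat.zero_add] at e
      have := combine hL t hJ hq (D := L - 2) (E := 2) (by omega) (by omega) e h2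
      convert this using 2
      ring
    have hneg : ((-1 : F) ^ L) ∈ A := pow_mem (neg_mem (one_mem A)) _
    rcases Nat.eq_or_lt_of_le (show 1 ≤ c from Nat.pos_of_ne_zero (by rintro rfl; exact hc (dvd_zero _))) with e | e
    · subst e
      rw [one_mul] at hn
      have h := mul_mem hfull (pow_mem hneg (L - 2))
      convert h using 1
      rw [hτ, mul_pow, ← hn, show L + 1 = L - 2 + 3 by omega, pow_add]
      have hee : ((-1 : F) ^ L) * (-1) ^ L = 1 := by rw [← mul_pow, neg_one_mul, neg_neg, one_pow]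
      rw [show t ^ (L - 2) * ((-1 : F) ^ L) ^ (L - 2) * t ^ 3 * ((-1 : F) ^ L) ^ (L - 2) =
        t ^ (L - 2) * t ^ 3 * (((-1 : F) ^ L) * (-1) ^ L) ^ (L - 2) by ring, hee, one_pow, mul_one]
    · set i := ringChar F ^ v with hi
      have hiL : i + 1 ≤ L - 1 := by
        have : 2 * i ≤ c * i := Nat.mul_le_mul_right i e
        by_contra hcon
        have hL5 : L + 1 ≤ 5 := by omega
        have hii : 2 ≤ i := by omega
        have : i = 2 := by omega
        have hdv : ringChar F = 2 := by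
          have hv : v ≠ 0 := fun hv => by rw [hv, pow_zero] at hi; omega
          have := dvd_pow_self (ringChar F) hv
          rw [← hi, ‹i = 2›] at this
          exact ((Nat.prime_dvd_prime_iff_eq (Fact.out) Nat.prime_two).1 this)
        have : c = 2 := by
          have : c * 2 ≤ 5 := by rw [← ‹i = 2›]; omega
          omega
        exact hc (by rw [hdv, this])
      have hz : ∀ k m, 2 ≤ m → m ≤ i → fv F L (k + m) ⬝ᵥ xv F L k = 0 := fun k m hm hmi => by
        rw [fv_xv_lt (by omega), show k + m - k + L - 1 = c * i + (m - 2) by omega,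
          show L = c * i + (m - 2) - (m - 1) by omega, Nat.choose_symm (by omega), hi,
          choose_cast v c (m - 2) (m - 1) (by rw [← hi]; omega) (by rw [← hi]; omega),
          if_neg (by rw [← hi]; omega), Nat.choose_eq_zero_of_lt (by omega), Nat.cast_zero, mul_zero]
      have hb : fv F L (0 + i + 1) ⬝ᵥ xv F L 0 ≠ 0 := by
        rw [fv_xv_lt (by omega), show 0 + i + 1 - 0 + L - 1 = c * i + (i - 1) by omega,
          show L = c * i + (i - 1) - i by omega, Nat.choose_symm (by omega), hi,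
          choose_cast v c _ _ (by rw [← hi]; omega) le_rfl, if_pos rfl]
        exact mul_ne_zero (pow_ne_zero _ (neg_ne_zero.2 one_ne_zero))
          (fun h => hc ((ringChar.spec F c).1 h))
      set b := fv F L (0 + i + 1) ⬝ᵥ xv F L 0 with hbdef
      set cE := s0 * τ ^ (L - (i + 1)) with hcE
      have hE := hk (L - (i + 1)) (by omega)
      have hA1 : cE * (t * b) ∈ A := hAmem _ fun s hs => by
        have e := jump hL t hq hP (by omega) (fun m => hz 0 m) hs
        rw [Nat.zero_add] at e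
        have := combine hL t hJ hq (D := i + 1) (E := L - (i + 1)) (by omega) (by omega) e hE
        convert this using 2
        rw [hbdef, hcE, Nat.zero_add]; ring
      have hA2 : cE * τ ^ (i + 1) ∈ A := hAmem _ fun s hs => by
        have e := step_iter hL t hq (k := 0) (d := i + 1) (by omega) hs
        rw [Nat.zero_add] at e
        have := combine hL t hJ hq (D := i + 1) (E := L - (i + 1)) (by omega) (by omega) e hE
        convert this using 2
        rw [hcE]; ring
      have hne : cE * (t * b) ≠ 0 :=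
        mul_ne_zero (mul_ne_zero hs00 (pow_ne_zero _ hτ0)) (mul_ne_zero ht hb)
      obtain ⟨e0, he0⟩ : ∃ e0 : F, e0 = ((-1 : F) ^ L) ^ (i + 1) / b := ⟨_, rfl⟩
      have hy : t ^ i * e0 ∈ A := natural hA1 hne (by
        convert hA2 using 1
        rw [he0, hτ, mul_pow]; field_simp; ring)
      -- `b` is a prime field element
      have hb' : b ∈ A := by
        rw [hbdef, fv_xv_lt (by omega)]
        exact mul_mem hneg (natCast_mem A _)
      have := mul_mem (mul_mem hy hb') (pow_mem hneg (i + 1))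
      convert this using 1
      rw [he0]
      field_simp
      rw [← pow_mul, ← pow_mul, mul_comm, pow_mul, pow_mul', neg_one_sq, one_pow, one_pow]
  obtain ⟨v, c, hc, hn⟩ := Nat.exists_eq_pow_mul_and_not_dvd (show L + 1 ≠ 0 by omega) (ringChar F)
    (CharP.char_is_prime F _).ne_one
  have hP := hnF v c (by rw [hn, mul_comm]) hc
  haveI : Fact (ringChar F).Prime := ⟨CharP.char_is_prime F _⟩
  intro s
  have hA : s / s0 ∈ A := by
    obtain ⟨y, hy⟩ := (bijective_iterateFrobenius F (ringChar F) v).2 (s / s0)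
    rw [iterateFrobenius_def] at hy
    rw [← hy]
    by_cases hy0 : y = 0
    · rw [hy0, zero_pow (pow_ne_zero _ (Fact.out : (ringChar F).Prime).ne_zero)]; exact zero_mem A
    · obtain ⟨k, rfl⟩ := hgen y hy0
      rw [← pow_mul, mul_comm, pow_mul]; exact pow_mem hP k
  have := hA s0 h0
  rwa [div_mul_cancel₀ _ hs00] at this

theorem generate [Fintype F] (h3 : 3 ≤ L) {t : F} (ht : t ≠ 0)
    (hgen : ∀ x : F, x ≠ 0 → ∃ k : ℕ, t ^ k = x) :
    Subgroup.closure ({jor F L, corner L hL t * jor F L * (corner L hL t)⁻¹} :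
      Set (SpecialLinearGroup (Fin (L + 1)) F)) = ⊤ := by
  classical
  set H := Subgroup.closure ({jor F L, corner L hL t * jor F L * (corner L hL t)⁻¹} :
      Set (SpecialLinearGroup (Fin (L + 1)) F)) with hH
  have hJ : jor F L ∈ H := Subgroup.subset_closure (by simp)
  have hq : ∀ j, qu hL t j ∈ H := fun j => by
    rw [qu_eq]
    exact mul_mem (mul_mem (pow_mem hJ j)
      (mul_mem hJ (inv_mem (Subgroup.subset_closure (by simp))))) (inv_mem (pow_mem hJ j))
  have h0 := scalars_top hL t h3 ht hgen hJ hq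
  have hall : ∀ k, k < L → xv F L k ∈ good H (fv F L 0) := fun k hk s => by
    have hne : (t * (-1 : F) ^ L) ^ k ≠ 0 :=
      pow_ne_zero _ (mul_ne_zero ht (pow_ne_zero _ (neg_ne_zero.2 one_ne_zero)))
    have := step_iter hL t hq (k := 0) (d := k) (by omega) (h0 (s / (t * (-1) ^ L) ^ k))
    rwa [div_mul_cancel₀ _ hne, Nat.zero_add] at this
  have hfull : Full H (fv F L 0) := fun w hw => by
    have hw0 : w 0 = 0 := by
      rw [fv, pow_zero, inv_one, show (1 : SpecialLinearGroup (Fin (L + 1)) F).1 = 1 from rfl,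
        Matrix.vecMul_one, single_one_dotProduct] at hw
      exact hw
    have hle : Submodule.span F (Set.range fun k : Fin L => xv F L k) ≤ good H (fv F L 0) := by
      rw [Submodule.span_le]
      rintro _ ⟨k, rfl⟩
      exact hall k k.isLt
    have := hle (mem_span_xv w hw0) 1
    rwa [one_smul] at this
  refine eq_top_of_full ?_
  refine Fin.induction ?_ fun k hk => ?_
  · rwa [fv, pow_zero, inv_one, show (1 : SpecialLinearGroup (Fin (L + 1)) F).1 = 1 from rfl,
      Matrix.vecMul_one] at hfull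
  · have h := (hk.conj hJ).add (hk.smul (-1))
    convert h using 1
    funext b
    simp [jor, shiftUp, Matrix.one_apply, Pi.single_apply, eq_comm, Fin.ext_iff]

end Cfsg.Agent.Classical.SLTwoGen
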