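import Mathlib

/-!
# Orders of matrices with self-reciprocal characteristic polynomial
-/

set_option autoImplicit false
set_option linter.style.haveILetI false

namespace Cfsg.Agent.Classical.SelfRecipOrder

open Polynomial

/-! ## Arithmetic -/

/-- The number `q ^ d + 1` or `q ^ d - 1`. -/
def w (q : ℕ) (x : ℕ × Bool) : ℕ := if x.2 then q ^ x.1 + 1 else q ^ x.1 - 1

theorem geom_two (N : ℕ) : ∑ v ∈ Finset.range N, 2 ^ v + 1 = 2 ^ N := by
  induction N with
  | zero => simp
  | succ N ih => rw [Finset.sum_range_succ, pow_succ]; omega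

theorem prod_range (q : ℕ) (hq : 1 ≤ q) (N : ℕ) :
    (q - 1) * ∏ v ∈ Finset.range N, (q ^ 2 ^ v + 1) + 1 = q ^ 2 ^ N := by
  obtain ⟨u, rfl⟩ : ∃ u, q = u + 1 := ⟨q - 1, by omega⟩
  induction N with
  | zero => simp
  | succ N ih =>
    rw [Finset.prod_range_succ, pow_succ, pow_mul]
    simp only [Nat.add_sub_cancel] at ih ⊢
    rw [← ih]
    ring

theorem prod_le (q : ℕ) (hq : 2 ≤ q) (S : Finset (ℕ × Bool)) (hd : ∀ x ∈ S, 1 ≤ x.1) (hplus : ∀ x ∈ S, x.2 = true)
    (hinj : Set.InjOn (fun x : ℕ × Bool => padicValNat 2 x.1) S) :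
    (q - 1) * ∏ x ∈ S, w q x ≤ q ^ (∑ x ∈ S, x.1 + 1) := by
  classical
  set V := S.image fun x : ℕ × Bool => padicValNat 2 x.1 with hV
  set N := V.sup id + 1 with hN
  have hVN : V ⊆ Finset.range N := fun v hv => Finset.mem_range.2 (Nat.lt_succ_of_le (Finset.le_sup (f := id) hv))
  have hle : ∀ x ∈ S, 2 ^ padicValNat 2 x.1 ≤ x.1 := fun x hx =>
    Nat.le_of_dvd (hd x hx) pow_padicValNat_dvd
  have h1 : (∏ x ∈ S, w q x) * ∏ v ∈ V, q ^ 2 ^ v ≤ (∏ v ∈ V, (q ^ 2 ^ v + 1)) * q ^ ∑ x ∈ S, x.1 := by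
    rw [hV, Finset.prod_image hinj, Finset.prod_image hinj, ← Finset.prod_pow_eq_pow_sum, ← Finset.prod_mul_distrib,
      ← Finset.prod_mul_distrib]
    refine Finset.prod_le_prod' fun x hx => ?_
    rw [w, hplus x hx, if_pos rfl]
    have := Nat.pow_le_pow_right (show 0 < q by omega) (hle x hx)
    nlinarith
  have h2 : (∏ v ∈ V, (q ^ 2 ^ v + 1)) * ∏ v ∈ Finset.range N \ V, q ^ 2 ^ v ≤
      ∏ v ∈ Finset.range N, (q ^ 2 ^ v + 1) := by
    rw [← Finset.prod_sdiff hVN, mul_comm]
    exact Nat.mul_le_mul_right _ (Finset.prod_le_prod' fun v _ => Nat.le_succ _)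
  have h3 : (∏ v ∈ Finset.range N \ V, q ^ 2 ^ v) * ∏ v ∈ V, q ^ 2 ^ v = q ^ (2 ^ N - 1) := by
    rw [Finset.prod_sdiff hVN, Finset.prod_pow_eq_pow_sum]
    congr 1
    have := geom_two N
    omega
  have h4 : (q - 1) * ∏ v ∈ Finset.range N, (q ^ 2 ^ v + 1) ≤ q ^ (2 ^ N - 1) * q := by
    have := prod_range q (by omega) N
    have hN2 : 1 ≤ 2 ^ N := Nat.one_le_two_pow
    rw [← pow_succ, Nat.sub_add_cancel hN2]
    omega
  refine Nat.le_of_mul_le_mul_right (c := q ^ (2 ^ N - 1)) ?_ (pow_pos (show 0 < q by omega) _)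
  calc (q - 1) * (∏ x ∈ S, w q x) * q ^ (2 ^ N - 1)
      = (q - 1) * ((∏ x ∈ S, w q x) * ∏ v ∈ V, q ^ 2 ^ v) * ∏ v ∈ Finset.range N \ V, q ^ 2 ^ v := by
        rw [← h3]; ring
    _ ≤ (q - 1) * ((∏ v ∈ V, (q ^ 2 ^ v + 1)) * q ^ ∑ x ∈ S, x.1) * ∏ v ∈ Finset.range N \ V, q ^ 2 ^ v := by
        gcongr
    _ = (q - 1) * ((∏ v ∈ V, (q ^ 2 ^ v + 1)) * ∏ v ∈ Finset.range N \ V, q ^ 2 ^ v) * q ^ ∑ x ∈ S, x.1 := by ring
    _ ≤ (q - 1) * (∏ v ∈ Finset.range N, (q ^ 2 ^ v + 1)) * q ^ ∑ x ∈ S, x.1 := by gcongr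
    _ ≤ q ^ (2 ^ N - 1) * q * q ^ ∑ x ∈ S, x.1 := by gcongr
    _ = q ^ (∑ x ∈ S, x.1 + 1) * q ^ (2 ^ N - 1) := by rw [pow_succ]; ring

theorem lcm_pair_le (q : ℕ) (hq : 2 ≤ q) (a b : ℕ) (ha : 1 ≤ a) (hb : 1 ≤ b)
    (hv : padicValNat 2 a = padicValNat 2 b) : Nat.lcm (q ^ a + 1) (q ^ b + 1) ≤ q ^ (a + b) := by
  have key : ∀ a, 1 ≤ a → q ^ 2 ^ padicValNat 2 a + 1 ∣ q ^ a + 1 := by
    intro a ha
    obtain ⟨t, ht⟩ : 2 ^ padicValNat 2 a ∣ a := pow_padicValNat_dvd
    have hto : Odd t := by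
      rw [← Nat.not_even_iff_odd]
      rintro ⟨r, hr⟩
      refine pow_succ_padicValNat_not_dvd (p := 2) (n := a) (by omega) ⟨r, ?_⟩
      rw [hr, ← two_mul] at ht
      rw [pow_succ, mul_assoc]
      exact ht
    conv_rhs => rw [ht, pow_mul]
    simpa using hto.nat_add_dvd_pow_add_pow (q ^ 2 ^ padicValNat 2 a) 1
  have hg : q + 1 ≤ Nat.gcd (q ^ a + 1) (q ^ b + 1) := by
    refine le_trans ?_ (Nat.le_of_dvd (Nat.gcd_pos_of_pos_left _ (Nat.succ_pos _))
      (Nat.dvd_gcd (key a ha) (hv ▸ key b hb)))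
    have : q ^ 1 ≤ q ^ 2 ^ padicValNat 2 a := Nat.pow_le_pow_right (by omega) Nat.one_le_two_pow
    rw [pow_one] at this
    omega
  refine Nat.le_of_mul_le_mul_right (c := q + 1) ?_ (Nat.succ_pos _)
  calc Nat.lcm (q ^ a + 1) (q ^ b + 1) * (q + 1)
      ≤ Nat.lcm (q ^ a + 1) (q ^ b + 1) * Nat.gcd (q ^ a + 1) (q ^ b + 1) := Nat.mul_le_mul_left _ hg
    _ = (q ^ a + 1) * (q ^ b + 1) := by rw [mul_comm, Nat.gcd_mul_lcm]
    _ ≤ q ^ (a + b) * (q + 1) := by
      have h1 : q ^ a * q ≤ q ^ (a + b) := by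
        rw [← pow_succ]; exact Nat.pow_le_pow_right (by omega) (by omega)
      have h2 : q ^ b * q ≤ q ^ (a + b) := by
        rw [← pow_succ]; exact Nat.pow_le_pow_right (by omega) (by omega)
      have h3 : 1 ≤ q ^ a := Nat.one_le_pow _ _ (by omega)
      have h4 : 1 ≤ q ^ b := Nat.one_le_pow _ _ (by omega)
      have h5 : q ^ (a + b) * 2 ≤ q ^ (a + b) * q := Nat.mul_le_mul_left _ hq
      have h6 : q ^ a * 2 ≤ q ^ a * q := Nat.mul_le_mul_left _ hq
      have h7 : q ^ b * 2 ≤ q ^ b * q := Nat.mul_le_mul_left _ hq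
      rw [pow_add] at h1 h2 h5 ⊢
      nlinarith

theorem lcm_le (q : ℕ) (hq : 2 ≤ q) (S : Finset (ℕ × Bool)) (hd : ∀ x ∈ S, 1 ≤ x.1) :
    (q - 1) * S.lcm (w q) ≤ q ^ (∑ x ∈ S, x.1 + 1) := by
  classical
  induction S using Finset.strongInduction with
  | H S ih =>
    by_cases hm : ∃ x ∈ S, x.2 = false
    · obtain ⟨x, hx, hxf⟩ := hm
      have h := ih (S.erase x) (Finset.erase_ssubset hx) fun y hy => hd y (Finset.mem_of_mem_erase hy)
      rw [← Finset.insert_erase hx, Finset.lcm_insert, Finset.sum_insert (Finset.notMem_erase _ _)]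
      have hpos : 0 < w q x := by
        have := Nat.pow_le_pow_right (show 0 < q by omega) (hd x hx)
        rw [pow_one] at this
        simp only [w, hxf, Bool.false_eq_true, if_false]
        omega
      calc (q - 1) * GCDMonoid.lcm (w q x) ((S.erase x).lcm (w q))
          ≤ (q - 1) * (w q x * (S.erase x).lcm (w q)) := by
            refine Nat.mul_le_mul_left _ ?_
            show Nat.lcm _ _ ≤ _
            rcases Nat.eq_zero_or_pos ((S.erase x).lcm (w q)) with h0 | h0
            · rw [h0]; simp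
            · exact Nat.le_of_dvd (Nat.mul_pos hpos h0) (Nat.lcm_dvd_mul _ _)
        _ = w q x * ((q - 1) * (S.erase x).lcm (w q)) := by ring
        _ ≤ q ^ x.1 * q ^ (∑ y ∈ S.erase x, y.1 + 1) := by
            refine Nat.mul_le_mul ?_ h
            simp [w, hxf]
        _ = _ := by rw [← pow_add, add_assoc]
    simp only [not_exists, not_and, Bool.not_eq_false] at hm
    by_cases hinj : Set.InjOn (fun x : ℕ × Bool => padicValNat 2 x.1) S
    · refine le_trans (Nat.mul_le_mul_left _ (Nat.le_of_dvd ?_ ?_)) (prod_le q hq S hd hm hinj)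
      · exact Finset.prod_pos fun x hx => by rw [w, hm x hx, if_pos rfl]; omega
      · exact Finset.lcm_dvd fun x hx => Finset.dvd_prod_of_mem _ hx
    simp only [Set.InjOn, not_forall] at hinj
    obtain ⟨x, hx, y, hy, hxy, hne⟩ := hinj
    have hy' : y ∈ S.erase x := Finset.mem_erase.2 ⟨Ne.symm hne, hy⟩
    have h := ih ((S.erase x).erase y) (lt_trans (Finset.erase_ssubset hy') (Finset.erase_ssubset hx))
      fun z hz => hd z (Finset.mem_of_mem_erase (Finset.mem_of_mem_erase hz))
    rw [← Finset.insert_erase hx, Finset.lcm_insert, Finset.sum_insert (Finset.notMem_erase _ _),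
      ← Finset.insert_erase hy', Finset.lcm_insert, Finset.sum_insert (Finset.notMem_erase _ _), ← lcm_assoc]
    calc (q - 1) * GCDMonoid.lcm (GCDMonoid.lcm (w q x) (w q y)) (((S.erase x).erase y).lcm (w q))
        ≤ (q - 1) * (GCDMonoid.lcm (w q x) (w q y) * ((S.erase x).erase y).lcm (w q)) := by
          refine Nat.mul_le_mul_left _ ?_
          show Nat.lcm _ _ ≤ _
          rcases Nat.eq_zero_or_pos (((S.erase x).erase y).lcm (w q)) with h0 | h0
          · rw [h0]; simp
          · refine Nat.le_of_dvd (Nat.mul_pos (Nat.pos_of_ne_zero ?_) h0) (Nat.lcm_dvd_mul _ _)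
            exact Nat.lcm_ne_zero (by rw [w, hm x hx, if_pos rfl]; omega) (by rw [w, hm y hy, if_pos rfl]; omega)
      _ = GCDMonoid.lcm (w q x) (w q y) * ((q - 1) * ((S.erase x).erase y).lcm (w q)) := by ring
      _ ≤ q ^ (x.1 + y.1) * q ^ (∑ z ∈ (S.erase x).erase y, z.1 + 1) := by
          refine Nat.mul_le_mul ?_ h
          show Nat.lcm _ _ ≤ _
          rw [w, w, hm x hx, hm y hy, if_pos rfl, if_pos rfl]
          exact lcm_pair_le q hq _ _ (hd x hx) (hd y hy) hxy
      _ = _ := by rw [← pow_add]; congr 1; omega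

theorem two_mul_le_pow_add_two {p : ℕ} (hp : 2 ≤ p) (k : ℕ) (hk : 1 ≤ k) :
    2 * k ≤ p ^ (k - 1) + 2 ∧ (3 ≤ p → 2 * k ≤ p ^ (k - 1) + 1) := by
  obtain ⟨j, rfl⟩ : ∃ j, k = j + 1 := ⟨k - 1, by omega⟩
  have h2 : ∀ j, 2 * (j + 1) ≤ 2 ^ j + 2 := by
    intro j
    induction j with
    | zero => norm_num
    | succ j ih =>
      rcases j with _ | j
      · norm_num
      rw [pow_succ]
      have := Nat.one_le_two_pow (n := j)
      rw [pow_succ] at ih ⊢
      omega
  have h3 : ∀ j, 2 * (j + 1) ≤ 3 ^ j + 1 := by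
    intro j
    induction j with
    | zero => norm_num
    | succ j ih =>
      rw [pow_succ]
      omega
  rw [Nat.add_sub_cancel]
  exact ⟨(h2 j).trans (Nat.add_le_add_right (Nat.pow_le_pow_left hp j) 2),
    fun hp3 => (h3 j).trans (Nat.add_le_add_right (Nat.pow_le_pow_left hp3 j) 1)⟩

theorem le_pow_pred {p : ℕ} (hp : 2 ≤ p) (k : ℕ) : k ≤ p ^ (k - 1) := by
  rcases k with _ | k
  · simp
  rw [Nat.add_sub_cancel]
  exact Nat.succ_le_of_lt ((Nat.lt_two_pow_self (n := k)).trans_le (Nat.pow_le_pow_left hp k))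

/-! ## Polynomials -/

universe u

variable {F : Type u} [Field F]

/-- The monic reciprocal polynomial. -/
noncomputable def star [DecidableEq F] (f : F[X]) : F[X] := normalize f.reverse

/-- `Polynomial.reverse` as a monoid homomorphism. -/
noncomputable def revHom : F[X] →* F[X] where
  toFun := Polynomial.reverse
  map_one' := by rw [← C_1, reverse_C]
  map_mul' := reverse_mul_of_domain

theorem natTrailingDegree_eq_zero' {f : F[X]} (h0 : f.coeff 0 ≠ 0) : f.natTrailingDegree = 0 :=
  natTrailingDegree_eq_zero.2 (Or.inr h0)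

theorem natDegree_reverse_eq {f : F[X]} (h0 : f.coeff 0 ≠ 0) : f.reverse.natDegree = f.natDegree := by
  rw [reverse_natDegree, natTrailingDegree_eq_zero' h0, Nat.sub_zero]

theorem reverse_reverse' {f : F[X]} (h0 : f.coeff 0 ≠ 0) : f.reverse.reverse = f := by
  rw [reverse, natDegree_reverse_eq h0, reverse, reflect_reflect]

theorem coeff_zero_reverse_ne {f : F[X]} (hf : f ≠ 0) : f.reverse.coeff 0 ≠ 0 := by
  rw [coeff_zero_reverse]
  exact leadingCoeff_ne_zero.2 hf

theorem irreducible_reverse {f : F[X]} (hf : Irreducible f) (h0 : f.coeff 0 ≠ 0) : Irreducible f.reverse := by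
  have hne : f.reverse ≠ 0 := fun h => hf.ne_zero (by rwa [reverse_eq_zero] at h)
  refine irreducible_iff.2 ⟨fun h => ?_, fun a b hab => ?_⟩
  · have := natDegree_eq_zero_of_isUnit h
    rw [natDegree_reverse_eq h0] at this
    have := hf.natDegree_pos
    omega
  · have hc := coeff_zero_reverse_ne hf.ne_zero
    rw [hab, mul_coeff_zero] at hc
    have h := congrArg Polynomial.reverse hab
    rw [reverse_reverse' h0, reverse_mul_of_domain] at h
    rcases hf.isUnit_or_isUnit h with ha | hb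
    · left
      have ha' := natDegree_eq_zero_of_isUnit ha
      rw [natDegree_reverse_eq (fun e => hc (by rw [e, zero_mul]))] at ha'
      rw [eq_C_of_natDegree_eq_zero ha']
      exact isUnit_C.2 (isUnit_iff_ne_zero.2 fun e => hc (by rw [e, zero_mul]))
    · right
      have hb' := natDegree_eq_zero_of_isUnit hb
      rw [natDegree_reverse_eq (fun e => hc (by rw [e, mul_zero]))] at hb'
      rw [eq_C_of_natDegree_eq_zero hb']
      exact isUnit_C.2 (isUnit_iff_ne_zero.2 fun e => hc (by rw [e, mul_zero]))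

theorem aeval_reverse_inv {K : Type*} [Field K] [Algebra F K] {f : F[X]} {x : K} (hx : x ≠ 0)
    (h : aeval x f = 0) : aeval x⁻¹ f.reverse = 0 := by
  haveI := invertibleOfNonzero hx
  have := (eval₂_reverse_eq_zero_iff (algebraMap F K) x f).2 h
  rwa [invOf_eq_inv] at this

theorem dvd_iff_aeval_root {f P : F[X]} : f ∣ P ↔ aeval (AdjoinRoot.root f) P = 0 := by
  rw [AdjoinRoot.aeval_eq, AdjoinRoot.mk_eq_zero]

variable [Fintype F]

/-- An irreducible factor other than `X ± 1` divides `X ^ N - 1` with `N = q ^ d ± 1`. -/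
theorem irreducible_dvd [DecidableEq F] {f : F[X]} (hf : Irreducible f) (hm : f.Monic) (h0 : f.coeff 0 ≠ 0) :
    f ∣ X ^ (Fintype.card F ^ f.natDegree - 1) - 1 ∧
    (star f = f → f ≠ X - 1 → f ≠ X + 1 →
      ∃ d, f.natDegree = 2 * d ∧ 1 ≤ d ∧ f ∣ X ^ (Fintype.card F ^ d + 1) - 1) := by
  haveI : Fact (Irreducible f) := ⟨hf⟩
  haveI : Module.Finite F (AdjoinRoot f) := (AdjoinRoot.powerBasis hf.ne_zero).finite
  haveI : Finite (AdjoinRoot f) := Module.finite_of_finite F
  letI : Fintype (AdjoinRoot f) := Fintype.ofFinite _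
  set α := AdjoinRoot.root f with hα
  have hcard : Fintype.card (AdjoinRoot f) = Fintype.card F ^ f.natDegree := by
    rw [← Nat.card_eq_fintype_card, ← Nat.card_eq_fintype_card, Module.natCard_eq_pow_finrank (K := F),
      (AdjoinRoot.powerBasis hf.ne_zero).finrank, AdjoinRoot.powerBasis_dim]
  have hfα : aeval α f = 0 := dvd_iff_aeval_root.1 dvd_rfl
  have hα0 : α ≠ 0 := by
    intro h
    rw [h, ← coeff_zero_eq_aeval_zero'] at hfα
    exact h0 ((map_eq_zero _).1 hfα)
  constructor
  · rw [dvd_iff_aeval_root, map_sub, map_pow, aeval_X, map_one, sub_eq_zero, ← hcard]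
    exact FiniteField.pow_card_sub_one_eq_one α hα0
  intro hs h1 h2
  have hinv : aeval α⁻¹ f = 0 := by
    have h' : aeval α⁻¹ (star f) = 0 := by
      rw [star, normalize_apply, map_mul, aeval_reverse_inv hα0 hfα, zero_mul]
    exact (congrArg (aeval α⁻¹) hs).symm.trans h'
  let φ : AdjoinRoot f →ₐ[F] AdjoinRoot f := AdjoinRoot.liftAlgHom f (Algebra.ofId F _) α⁻¹ hinv
  have hφ : φ α = α⁻¹ := AdjoinRoot.liftAlgHom_root _ _ _ _
  obtain ⟨⟨j, hj⟩, he⟩ := (FiniteField.bijective_frobeniusAlgEquivOfAlgebraic_pow F (AdjoinRoot f)).2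
    (AlgEquiv.ofBijective φ (Finite.injective_iff_bijective.1 φ.toRingHom.injective))
  have h3 := congrArg (fun e : AdjoinRoot f ≃ₐ[F] AdjoinRoot f => e α) he
  simp only [AlgEquiv.coe_pow, FiniteField.coe_frobeniusAlgEquivOfAlgebraic_iterate] at h3
  have h4 : α ^ Fintype.card F ^ j = α⁻¹ := h3.trans hφ
  rw [(AdjoinRoot.powerBasis hf.ne_zero).finrank, AdjoinRoot.powerBasis_dim] at hj
  rcases Nat.eq_zero_or_pos j with rfl | hj0
  · exfalso
    rw [pow_zero, pow_one] at h4
    have h5 : α * α = 1 := by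
      conv_lhs => arg 2; rw [h4]
      exact mul_inv_cancel₀ hα0
    rcases mul_self_eq_one_iff.1 h5 with h6 | h6
    · refine h1 (eq_of_monic_of_associated hm (monic_X_sub_C 1) (hf.associated_of_dvd ?_ ?_) |>.trans (by rw [C_1]))
      · exact irreducible_X_sub_C 1
      · rw [dvd_iff_aeval_root]; simp [h6, ← hα]
    · refine h2 (eq_of_monic_of_associated hm (monic_X_add_C 1) (hf.associated_of_dvd ?_ ?_) |>.trans (by rw [C_1]))
      · exact irreducible_of_degree_eq_one (degree_X_add_C 1)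
      · rw [dvd_iff_aeval_root]; simp [h6, ← hα]
  · have h5 : α ^ Fintype.card F ^ (2 * j) = α := by
      rw [two_mul, pow_add, pow_mul, h4, inv_pow, h4, inv_inv]
    have h6 : f.natDegree ∣ 2 * j := by
      refine hf.natDegree_dvd_of_dvd_X_pow_card_pow_sub_X ?_
      rw [dvd_iff_aeval_root, map_sub, map_pow, aeval_X, Nat.card_eq_fintype_card, ← hα, h5, sub_self]
    have h7 : f.natDegree = 2 * j := by
      obtain ⟨t, ht⟩ := h6
      rcases t with _ | _ | t
      · omega
      · omega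
      · rw [Nat.mul_add, Nat.mul_add] at ht
        omega
    refine ⟨j, h7, hj0, ?_⟩
    rw [dvd_iff_aeval_root, map_sub, map_pow, aeval_X, map_one, ← hα, pow_succ, h4, inv_mul_cancel₀ hα0, sub_self]

theorem exists_exponent {ι : Type*} [Fintype ι] [DecidableEq ι] (A : Matrix ι ι F) (hA : IsUnit A)
    (hinv : A⁻¹.charpoly = A.charpoly) (m : ℕ) (hm : 2 ≤ m) (hn : Fintype.card ι ≤ 2 * m + 1)
    (hodd : Fintype.card ι = 2 * m + 1 → (2 : F) ≠ 0 ∧ 3 ≤ m) :
    ∃ N, 0 < N ∧ (Fintype.card F - 1) * N ≤ Fintype.card F ^ (m + 1) ∧ (A ^ N = 1 ∨ A ^ N = -1) := by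
  classical
  set q := Fintype.card F with hq
  have hq2 : 2 ≤ q := Fintype.one_lt_card
  obtain ⟨p, hchar⟩ := CharP.exists F
  obtain ⟨a, hp, hqp⟩ := FiniteField.card F p
  haveI : Fact p.Prime := ⟨hp⟩
  have hpq : p ≤ q := by
    rw [hq, hqp]
    exact Nat.le_self_pow a.ne_zero p
  have hcp : ∀ k, p ^ k ≤ q ^ k := fun k => Nat.pow_le_pow_left hpq k
  set χ := A.charpoly with hχ
  have hmon : χ.Monic := Matrix.charpoly_monic A
  have hχ0 : χ.coeff 0 ≠ 0 := by
    intro h
    have hdet := (Matrix.isUnit_iff_isUnit_det A).1 hA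
    rw [Matrix.det_eq_sign_charpoly_coeff, ← hχ, h, mul_zero] at hdet
    exact not_isUnit_zero hdet
  set s := UniqueFactorizationMonoid.normalizedFactors χ with hs
  have hsprod : s.prod = χ := by
    rw [hs, UniqueFactorizationMonoid.prod_normalizedFactors_eq hmon.ne_zero, hmon.normalize_eq_self]
  have hirr : ∀ f ∈ s, Irreducible f := fun f => UniqueFactorizationMonoid.irreducible_of_normalized_factor f
  have hnorm : ∀ f ∈ s, normalize f = f := fun f => UniqueFactorizationMonoid.normalize_normalized_factor f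
  have hmo : ∀ f ∈ s, f.Monic := fun f hf => hnorm f hf ▸ monic_normalize (hirr f hf).ne_zero
  have h0 : ∀ f ∈ s, f.coeff 0 ≠ 0 := by
    intro f hf h
    obtain ⟨g, hg⟩ := Multiset.dvd_prod hf
    rw [hsprod] at hg
    exact hχ0 (by rw [hg, mul_coeff_zero, h, zero_mul])
  -- symmetry
  have hstar : s.map star = s := by
    have h1 : Associated ((s.map Polynomial.reverse).prod) χ := by
      rw [show (s.map Polynomial.reverse).prod = χ.reverse by
        rw [← hsprod]; exact (map_multiset_prod revHom s).symm]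
      have h2 := Matrix.charpoly_inv A hA
      rw [hinv, ← Matrix.reverse_charpoly, ← hχ] at h2
      conv_rhs => rw [h2]
      refine associated_unit_mul_right _ _ (IsUnit.mul ((isUnit_one.neg).pow _) (isUnit_C.2 ?_))
      rw [Ring.inverse_eq_inv', isUnit_iff_ne_zero, ne_eq, inv_eq_zero]
      exact ((Matrix.isUnit_iff_isUnit_det A).1 hA).ne_zero
    have h3 : UniqueFactorizationMonoid.normalizedFactors ((s.map Polynomial.reverse).prod) = s := by
      rw [hs]
      exact (UniqueFactorizationMonoid.associated_iff_normalizedFactors_eq_normalizedFactors ((h1.ne_zero_iff).2 hmon.ne_zero) hmon.ne_zero).1 h1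
    rw [UniqueFactorizationMonoid.normalizedFactors_prod_eq _ (fun g hg => by
      obtain ⟨f, hf, rfl⟩ := Multiset.mem_map.1 hg
      exact irreducible_reverse (hirr f hf) (h0 f hf)), Multiset.map_map] at h3
    exact h3
  have hstar_mem : ∀ f ∈ s, star f ∈ s := fun f hf => hstar ▸ Multiset.mem_map_of_mem star hf
  have hss : ∀ f ∈ s, star (star f) = f := by
    intro f hf
    have hne : f.reverse ≠ 0 := fun h => (hirr f hf).ne_zero (by rwa [reverse_eq_zero] at h)
    have h1 : Associated (star f).reverse f := by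
      obtain ⟨u, hu⟩ : ∃ u : F, normalize f.reverse = f.reverse * C u :=
        ⟨_, by rw [normalize_apply, coe_normUnit]⟩
      have hu0 : u ≠ 0 := fun h => hne (normalize_eq_zero.1 (by rw [hu, h, C_0, mul_zero]))
      rw [star, hu, reverse_mul_of_domain, reverse_reverse' (h0 f hf), reverse_C]
      exact associated_mul_unit_left _ _ (isUnit_C.2 (isUnit_iff_ne_zero.2 hu0))
    rw [star, normalize_eq_normalize h1.dvd h1.symm.dvd, hnorm f hf]
  have hcount : ∀ f ∈ s, s.count (star f) = s.count f := by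
    intro f hf
    conv_lhs => rw [← hstar]
    exact Multiset.count_map_eq_count star s (fun x hx y hy h => by rw [← hss x hx, ← hss y hy, h]) f hf
  set T := s.toFinset with hT
  have hdeg : ∑ f ∈ T, s.count f * f.natDegree = Fintype.card ι := by
    rw [← Matrix.charpoly_natDegree_eq_dim A, ← hχ, ← hsprod,
      Polynomial.natDegree_multiset_prod_of_monic _ (fun f hf => hmo f hf), Finset.sum_multiset_map_count]
    simp [hT]
  have hpos : ∀ f ∈ T, 1 ≤ s.count f := fun f hf => Multiset.one_le_count_iff_mem.2 (Multiset.mem_toFinset.1 hf)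
  set O := T.filter fun f => f ≠ X - 1 ∧ f ≠ X + 1 with hO
  let φ : F[X] → ℕ × Bool := fun f => if star f = f then (f.natDegree / 2, true) else (f.natDegree, false)
  set S := O.image φ with hS
  have hOfac : ∀ f ∈ O, f ∈ s ∧ 1 ≤ (φ f).1 ∧ f ∣ X ^ w q (φ f) - 1 ∧ φ (star f) = φ f ∧ star f ∈ O ∧
      (star f = f → f.natDegree = 2 * (φ f).1) ∧ (star f ≠ f → f.natDegree = (φ f).1 ∧ (star f).natDegree = (φ f).1) := by
    intro f hf
    obtain ⟨hfT, h1, h2⟩ := Finset.mem_filter.1 hf
    have hfs : f ∈ s := Multiset.mem_toFinset.1 hfT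
    obtain ⟨hd1, hd2⟩ := irreducible_dvd (hirr f hfs) (hmo f hfs) (h0 f hfs)
    have hdstar : (star f).natDegree = f.natDegree := by
      rw [star, natDegree_eq_of_degree_eq degree_normalize, natDegree_reverse_eq (h0 f hfs)]
    have hmemO : star f ∈ O := by
      refine Finset.mem_filter.2 ⟨Multiset.mem_toFinset.2 (hstar_mem f hfs), fun h => h1 ?_, fun h => h2 ?_⟩
      · rw [← hss f hfs, h, star]
        have : (X - 1 : F[X]).reverse = C (-1) * (X - 1) := by
          rw [← C_1, sub_eq_add_neg, ← C_neg, reverse, natDegree_X_add_C]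
          ext i
          rcases i with _ | _ | i <;> simp [coeff_reflect, revAt, coeff_C, coeff_X]
        rw [this, normalize_mul, (show normalize (C (-1) : F[X]) = 1 from normalize_eq_one.2 (isUnit_C.2 (by simp))),
          one_mul, (by simpa using monic_X_sub_C (1 : F) : (X - 1 : F[X]).Monic).normalize_eq_self]
      · rw [← hss f hfs, h, star]
        have : (X + 1 : F[X]).reverse = (X + 1) := by
          rw [← C_1, reverse, natDegree_X_add_C]
          ext i
          rcases i with _ | _ | i <;> simp [coeff_reflect, revAt, coeff_C, coeff_X, coeff_one, add_comm]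
        rw [this, (by simpa using monic_X_add_C (1 : F) : (X + 1 : F[X]).Monic).normalize_eq_self]
    by_cases hsf : star f = f
    · obtain ⟨d, hd, hd0, hdvd⟩ := hd2 hsf h1 h2
      have he : φ f = (d, true) := by
        simp only [φ, if_pos hsf, hd, Nat.mul_div_cancel_left d two_pos]
      exact ⟨hfs, by rw [he]; exact hd0, by rw [he]; exact hdvd, by rw [hsf], hmemO, fun _ => by rw [he]; exact hd,
        fun h => absurd hsf h⟩
    · have he : φ f = (f.natDegree, false) := by simp only [φ, if_neg hsf]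
      have he' : φ (star f) = (f.natDegree, false) := by
        simp only [φ, hdstar, if_neg (fun h : star (star f) = star f => hsf ((h.symm.trans (hss f hfs)))) ]
      exact ⟨hfs, by rw [he]; exact (hirr f hfs).natDegree_pos, by rw [he]; exact hd1, by rw [he, he'], hmemO,
        fun h => absurd h hsf, fun _ => by rw [he]; exact ⟨rfl, hdstar⟩⟩
  -- fibres
  have hfib : ∀ f ∈ O, 2 * (φ f).1 * s.count f ≤ ∑ g ∈ O.filter (fun g => φ g = φ f), s.count g * g.natDegree := by
    intro f hf
    obtain ⟨hfs, -, -, hφ, hmem, he, hne⟩ := hOfac f hf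
    by_cases hsf : star f = f
    · refine le_trans (le_of_eq ?_) (Finset.single_le_sum (fun g _ => Nat.zero_le _)
        (Finset.mem_filter.2 ⟨hf, rfl⟩ : f ∈ O.filter (fun g => φ g = φ f)))
      rw [he hsf, mul_comm]
    · refine le_trans (le_of_eq ?_) (Finset.sum_le_sum_of_subset (f := fun g => s.count g * g.natDegree)
        (Finset.insert_subset (Finset.mem_filter.2 ⟨hf, rfl⟩)
          (Finset.singleton_subset_iff.2 (Finset.mem_filter.2 ⟨hmem, hφ⟩))))
      rw [Finset.sum_pair (Ne.symm hsf), hcount f hfs, (hne hsf).1, (hne hsf).2]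
      ring
  have hfib' : ∀ x ∈ S, 2 * x.1 ≤ ∑ g ∈ O.filter (fun g => φ g = x), s.count g * g.natDegree := by
    intro x hx
    obtain ⟨f, hf, rfl⟩ := Finset.mem_image.1 hx
    refine le_trans ?_ (hfib f hf)
    exact Nat.le_mul_of_pos_right _ (hpos f (Finset.mem_filter.1 hf).1)
  have hOsum : 2 * ∑ x ∈ S, x.1 ≤ ∑ f ∈ O, s.count f * f.natDegree := by
    rw [Finset.mul_sum, ← Finset.sum_fiberwise_of_maps_to (g := φ) (fun f hf => Finset.mem_image_of_mem φ hf)]
    exact Finset.sum_le_sum hfib'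
  have hOsum' : ∀ f ∈ O, 2 * ∑ x ∈ S, x.1 + 2 * (φ f).1 * (s.count f - 1) ≤ ∑ f ∈ O, s.count f * f.natDegree := by
    intro f hf
    rw [Finset.mul_sum, ← Finset.sum_fiberwise_of_maps_to (g := φ) (fun f hf => Finset.mem_image_of_mem φ hf),
      ← Finset.add_sum_erase _ _ (Finset.mem_image_of_mem φ hf), ← Finset.add_sum_erase _ _ (Finset.mem_image_of_mem φ hf)]
    have h1 := hfib f hf
    have h2 : ∑ x ∈ S.erase (φ f), 2 * x.1 ≤ _ := Finset.sum_le_sum fun x hx => hfib' x (Finset.mem_of_mem_erase hx)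
    have h3 : 2 * (φ f).1 + 2 * (φ f).1 * (s.count f - 1) = 2 * (φ f).1 * s.count f := by
      conv_rhs => rw [← Nat.sub_add_cancel (hpos f (Finset.mem_filter.1 hf).1)]
      ring
    simp only [← hS] at h1 h2 ⊢
    omega
  have hOT : ∑ f ∈ O, s.count f * f.natDegree ≤ Fintype.card ι := by
    rw [← hdeg]; exact Finset.sum_le_sum_of_subset (Finset.filter_subset _ _)
  -- the exponent of the unipotent part
  set c := T.sup fun f => s.count f with hc
  set k := Nat.clog p c with hk
  have hck : ∀ f ∈ T, s.count f ≤ p ^ k := fun f hf =>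
    (Finset.le_sup (f := fun f => s.count f) hf).trans (Nat.le_pow_clog hp.one_lt c)
  have hpow : ∀ L, (∀ f ∈ T, f ∣ X ^ L - 1) → A ^ (L * p ^ k) = 1 := by
    intro L hL
    have h1 : χ ∣ (X ^ L - 1) ^ p ^ k := by
      rw [← hsprod, Finset.prod_multiset_count]
      refine Finset.prod_dvd_of_coprime (fun f hf g hg hfg => IsCoprime.pow ?_) fun f hf => ?_
      · have hfs := Multiset.mem_toFinset.1 hf
        have hgs := Multiset.mem_toFinset.1 hg
        refine ((hirr f hfs).coprime_iff_not_dvd).2 fun hd => hfg ?_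
        exact eq_of_monic_of_associated (hmo f hfs) (hmo g hgs) ((hirr f hfs).associated_of_dvd (hirr g hgs) hd)
      · exact (pow_dvd_pow _ (hck f hf)).trans (pow_dvd_pow_of_dvd (hL f hf) _)
    have h2 := aeval_eq_zero_of_dvd_aeval_eq_zero h1 (Matrix.aeval_self_charpoly A)
    rw [sub_pow_char_pow, one_pow, ← pow_mul] at h2
    simpa [sub_eq_zero] using h2
  have hatt : 1 ≤ k → ∃ f ∈ T, p ^ (k - 1) + 1 ≤ s.count f := by
    intro hk1
    have hlt : p ^ (k - 1) < c := by
      by_contra h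
      have := (Nat.clog_le_iff_le_pow hp.one_lt).2 (le_of_not_gt h)
      omega
    obtain ⟨f, hf, hf'⟩ := Finset.lt_sup_iff.1 hlt
    exact ⟨f, hf, hf'⟩
  have hp3 : (2 : F) ≠ 0 → 3 ≤ p := by
    intro h2
    have := hp.two_le
    by_contra h
    obtain rfl : p = 2 := by omega
    exact h2 (by exact_mod_cast CharP.cast_eq_zero F 2)
  have hX1 : ∀ L, (X - 1 : F[X]) ∣ X ^ L - 1 := fun L => by simpa using sub_dvd_pow_sub_pow (X : F[X]) 1 L
  rcases S.eq_empty_or_nonempty with hSe | hSne
  · have hTsub : ∀ f ∈ T, f = X - 1 ∨ f = X + 1 := by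
      intro f hf
      by_contra h
      rw [not_or] at h
      have : φ f ∈ S := Finset.mem_image_of_mem φ (Finset.mem_filter.2 ⟨hf, h⟩)
      rw [hSe] at this
      simp at this
    have hkm : k ≤ m := by
      rcases Nat.eq_zero_or_pos k with hk0 | hk1
      · omega
      obtain ⟨f, hf, hcf⟩ := hatt hk1
      have h1 : s.count f ≤ Fintype.card ι := by
        rw [← hdeg]
        refine le_trans ?_ (Finset.single_le_sum (fun g _ => Nat.zero_le _) hf)
        exact Nat.le_mul_of_pos_right _ (hirr f (Multiset.mem_toFinset.1 hf)).natDegree_pos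
      obtain ⟨h2, h3⟩ := two_mul_le_pow_add_two hp.two_le k hk1
      by_cases hn' : Fintype.card ι = 2 * m + 1
      · have := h3 (hp3 (hodd hn').1); omega
      · omega
    have hb : (q - 1) * p ^ k ≤ q ^ (m + 1) := by
      calc (q - 1) * p ^ k ≤ q * q ^ k := Nat.mul_le_mul (Nat.sub_le _ _) (hcp k)
        _ ≤ q * q ^ m := Nat.mul_le_mul_left _ (Nat.pow_le_pow_right (by omega) hkm)
        _ = q ^ (m + 1) := by rw [pow_succ, mul_comm]
    have hkpos : 0 < p ^ k := pow_pos hp.pos k
    by_cases hall : ∀ f ∈ T, f = X - 1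
    · refine ⟨p ^ k, hkpos, hb, Or.inl ?_⟩
      simpa using hpow 1 fun f hf => by rw [hall f hf, pow_one]
    by_cases hall' : ∀ f ∈ T, f = X + 1
    · refine ⟨p ^ k, hkpos, hb, Or.inr ?_⟩
      have h1 : χ ∣ (X + 1) ^ p ^ k := by
        rw [← hsprod, Finset.prod_multiset_count]
        have hcard : T.card ≤ 1 := Finset.card_le_one.2 fun x hx y hy => by rw [hall' x hx, hall' y hy]
        rcases T.eq_empty_or_nonempty with hTe | ⟨f, hf⟩
        · rw [show s.toFinset = ∅ from hTe]; simp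
        · rw [show s.toFinset = {f} from Finset.eq_singleton_iff_unique_mem.2 ⟨hf, fun y hy =>
            Finset.card_le_one.1 hcard y hy f hf⟩, Finset.prod_singleton]
          conv_lhs => arg 1; rw [hall' f hf]
          exact pow_dvd_pow _ (hck f hf)
      have h2 := aeval_eq_zero_of_dvd_aeval_eq_zero h1 (Matrix.aeval_self_charpoly A)
      rw [add_pow_char_pow, one_pow] at h2
      simpa [eq_neg_iff_add_eq_zero] using h2
    simp only [not_forall] at hall hall'
    obtain ⟨f1, hf1, hne1⟩ := hall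
    obtain ⟨f2, hf2, hne2⟩ := hall'
    have e1 := (hTsub f1 hf1).resolve_left hne1
    have e2 := (hTsub f2 hf2).resolve_right hne2
    have hne : f1 ≠ f2 := fun h => hne1 (h.trans e2)
    have h2F : (2 : F) ≠ 0 := by
      intro h
      refine hne ?_
      rw [e1, e2, eq_sub_iff_add_eq, add_assoc, show (1 : F[X]) + 1 = C ((2 : F)) by
        rw [show (2 : F) = 1 + 1 by norm_num, map_add, map_one], h, map_zero, add_zero]
    have hp3' := hp3 h2F
    have hkm1 : k + 1 ≤ m := by
      by_contra hlt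
      obtain ⟨f, hf, hcf⟩ := hatt (by omega)
      have h1 : s.count f + 1 ≤ Fintype.card ι := by
        obtain ⟨g, hg, hgne⟩ : ∃ g ∈ T, g ≠ f := by
          by_cases h : f1 = f
          · exact ⟨f2, hf2, fun e => hne (h.trans e.symm)⟩
          · exact ⟨f1, hf1, h⟩
        rw [← hdeg]
        refine le_trans ?_ (Finset.sum_le_sum_of_subset (f := fun f => s.count f * f.natDegree)
          (Finset.insert_subset hf (Finset.singleton_subset_iff.2 hg)))
        rw [Finset.sum_pair (Ne.symm hgne)]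
        have ha := Nat.le_mul_of_pos_right (s.count f) (hirr f (Multiset.mem_toFinset.1 hf)).natDegree_pos
        have hb := Nat.le_mul_of_pos_right (s.count g) (hirr g (Multiset.mem_toFinset.1 hg)).natDegree_pos
        have hc := hpos g hg
        omega
      have h3m : 3 ^ (m - 1) ≤ p ^ (k - 1) :=
        (Nat.pow_le_pow_left hp3' _).trans (Nat.pow_le_pow_right hp.pos (by omega))
      obtain ⟨-, h3⟩ := two_mul_le_pow_add_two (p := 3) (by norm_num) m (by omega)
      have h3' := h3 le_rfl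
      by_cases hn' : Fintype.card ι = 2 * m + 1
      · have hm3 := (hodd hn').2
        obtain ⟨j, rfl⟩ : ∃ j, m = j + 3 := ⟨m - 3, by omega⟩
        obtain ⟨-, h4⟩ := two_mul_le_pow_add_two (p := 3) (by norm_num) (j + 2) (by omega)
        have h4' := h4 le_rfl
        rw [show j + 3 - 1 = (j + 2 - 1) + 1 by omega, pow_succ] at h3m
        omega
      · omega
    refine ⟨2 * p ^ k, by positivity, ?_, Or.inl (hpow 2 fun f hf => ?_)⟩
    · calc (q - 1) * (2 * p ^ k) ≤ q * (q * q ^ k) := Nat.mul_le_mul (Nat.sub_le _ _) (Nat.mul_le_mul hq2 (hcp k))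
        _ = q ^ (k + 2) := by ring
        _ ≤ q ^ (m + 1) := Nat.pow_le_pow_right (by omega) (by omega)
    · rcases hTsub f hf with rfl | rfl
      · exact hX1 2
      · exact ⟨X - 1, by ring⟩
  · set L := S.lcm (w q) with hL
    have hSd : ∀ x ∈ S, 1 ≤ x.1 := fun x hx => by
      obtain ⟨f, hf, rfl⟩ := Finset.mem_image.1 hx
      exact (hOfac f hf).2.1
    have hwpos : ∀ x ∈ S, 0 < w q x := fun x hx => by
      have := Nat.pow_le_pow_right (show 0 < q by omega) (hSd x hx)
      rw [pow_one] at this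
      unfold w; split <;> omega
    have hLpos : 0 < L := Nat.pos_of_ne_zero fun h => by
      rw [hL, Finset.lcm_eq_zero_iff] at h
      obtain ⟨x, hx, hx0⟩ := h
      exact (hwpos x hx).ne' hx0
    have hdvd : ∀ f ∈ T, f ∣ X ^ L - 1 := by
      intro f hf
      by_cases hfO : f ∈ O
      · refine (hOfac f hfO).2.2.1.trans ?_
        obtain ⟨t, ht⟩ : w q (φ f) ∣ L := Finset.dvd_lcm (Finset.mem_image_of_mem φ hfO)
        rw [ht, pow_mul]
        simpa using sub_dvd_pow_sub_pow ((X : F[X]) ^ w q (φ f)) 1 t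
      · rcases (show f = X - 1 ∨ f = X + 1 by
          by_contra h; rw [not_or] at h; exact hfO (Finset.mem_filter.2 ⟨hf, h⟩)) with rfl | rfl
        · exact hX1 L
        by_cases h2 : (2 : F) = 0
        · have : (X + 1 : F[X]) = X - 1 := by
            rw [eq_sub_iff_add_eq, add_assoc, show (1 : F[X]) + 1 = C ((2 : F)) by
              rw [show (2 : F) = 1 + 1 by norm_num, map_add, map_one], h2, map_zero, add_zero]
          rw [this]; exact hX1 L
        · have hev : 2 ∣ L := by
            obtain ⟨x, hx⟩ := hSne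
            refine dvd_trans ?_ (Finset.dvd_lcm hx)
            have hqo : Odd q := by
              rw [hq, hqp]
              exact (hp.odd_of_ne_two (by have := hp3 h2; omega)).pow
            have h' : Odd (q ^ x.1) := hqo.pow
            obtain ⟨t, ht⟩ := h'
            unfold w; split <;> omega
          obtain ⟨t, ht⟩ := hev
          rw [ht, pow_mul]
          have h12 : (X + 1 : F[X]) ∣ X ^ 2 - 1 := ⟨X - 1, by ring⟩
          exact h12.trans (by simpa using sub_dvd_pow_sub_pow ((X : F[X]) ^ 2) 1 t)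
    have hkm : ∑ x ∈ S, x.1 + k ≤ m := by
      rcases Nat.eq_zero_or_pos k with hk0 | hk1
      · omega
      obtain ⟨f, hf, hcf⟩ := hatt hk1
      by_cases hfO : f ∈ O
      · have h1 := hOsum' f hfO
        have h2 : k ≤ (φ f).1 * (s.count f - 1) := le_trans (le_pow_pred hp.two_le k)
          (le_trans (by omega) (Nat.le_mul_of_pos_left _ (hOfac f hfO).2.1))
        rw [mul_assoc] at h1
        omega
      · have h1 : ∑ f ∈ O, s.count f * f.natDegree + s.count f ≤ Fintype.card ι := by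
          rw [← hdeg]
          refine le_trans ?_ (Finset.sum_le_sum_of_subset (f := fun f => s.count f * f.natDegree)
            (Finset.insert_subset hf (Finset.filter_subset _ _ : O ⊆ T)))
          rw [Finset.sum_insert hfO]
          have := Nat.le_mul_of_pos_right (s.count f) (hirr f (Multiset.mem_toFinset.1 hf)).natDegree_pos
          omega
        obtain ⟨h2, h3⟩ := two_mul_le_pow_add_two hp.two_le k hk1
        by_cases hn' : Fintype.card ι = 2 * m + 1
        · have := h3 (hp3 (hodd hn').1); omega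
        · omega
    refine ⟨L * p ^ k, Nat.mul_pos hLpos (pow_pos hp.pos k), ?_, Or.inl (hpow L hdvd)⟩
    calc (q - 1) * (L * p ^ k) = (q - 1) * L * p ^ k := (mul_assoc _ _ _).symm
      _ ≤ q ^ (∑ x ∈ S, x.1 + 1) * q ^ k := Nat.mul_le_mul (lcm_le q hq2 S hSd) (hcp k)
      _ = q ^ (∑ x ∈ S, x.1 + k + 1) := by rw [← pow_add]; congr 1; omega
      _ ≤ q ^ (m + 1) := Nat.pow_le_pow_right (by omega) (by omega)

end Cfsg.Agent.Classical.SelfRecipOrder
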