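import Mathlib
import Cfsg.Agent.Lib.Classical.SylowWreathEmbed
import Cfsg.Agent.Lib.Classical.GL2
import Cfsg.Agent.Lib.Perm.Basic

/-!
# A Sylow two-subgroup of `GL(2)` adapted to the determinant
-/

set_option autoImplicit false
set_option linter.unusedSectionVars false

namespace Cfsg.Agent.Classical.WreathSq

open Matrix

variable {F : Type*} [Field F] [Fintype F]

/-- the matrix `diag(u,1)` -/
def diagHom (F : Type*) [Field F] : Fˣ →* GL (Fin 2) F :=
  MonoidHom.toHomUnits
    { toFun := fun u => Matrix.diagonal ![(u : F), 1]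
      map_one' := by
        rw [← Matrix.diagonal_one]
        congr 1
        funext i
        fin_cases i <;> simp
      map_mul' := fun u v => by
        rw [Matrix.diagonal_mul_diagonal]
        congr 1
        funext i
        fin_cases i <;> simp }

theorem det_diagHom (u : Fˣ) : Matrix.GeneralLinearGroup.det (diagHom F u) = u := by
  refine Units.ext ?_
  show (Matrix.diagonal ![(u : F), 1]).det = (u : F)
  simp [Matrix.det_diagonal, Fin.prod_univ_two]

theorem two_dvd_card_odd (hF : Odd (Fintype.card F)) : 2 ∣ Fintype.card F - 1 := by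
  obtain ⟨k, hk⟩ := hF
  exact ⟨k, by omega⟩

/-- A two-group `R`, mapping onto the two-part `A` of the multiplicative group by the determinant. -/
theorem exists_block (hF : Odd (Fintype.card F)) :
    ∃ (A : Subgroup Fˣ) (R : Subgroup (GL (Fin 2) F)) (χ : R →* A) (c : A →* R),
      (∀ a, χ (c a) = a) ∧ (∀ r, ((χ r : A) : Fˣ) = Matrix.GeneralLinearGroup.det (r : GL (Fin 2) F)) ∧
      Nat.card A = 2 ^ (Fintype.card F - 1).factorization 2 ∧
      Nat.card R = 2 ^ ((Fintype.card F - 1).factorization 2 + (Fintype.card F ^ 2 - 1).factorization 2) ∧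
      SqComm χ.ker := by
  classical
  have hq1 := Fintype.one_lt_card (α := F)
  obtain ⟨A⟩ : Nonempty (Sylow 2 Fˣ) := inferInstance
  haveI := Sylow.unique_of_normal A inferInstance
  obtain ⟨R, hR⟩ := (A.2.map (diagHom F)).exists_le_sylow
  have hdet : ∀ r : (R : Subgroup (GL (Fin 2) F)),
      Matrix.GeneralLinearGroup.det (r : GL (Fin 2) F) ∈ (A : Subgroup Fˣ) := by
    intro r
    obtain ⟨A', hA'⟩ := (R.2.map Matrix.GeneralLinearGroup.det).exists_le_sylow
    rw [Subsingleton.elim A A']
    exact hA' ⟨r, r.2, rfl⟩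
  let χ : (R : Subgroup (GL (Fin 2) F)) →* (A : Subgroup Fˣ) :=
    MonoidHom.codRestrict (Matrix.GeneralLinearGroup.det.comp (R : Subgroup (GL (Fin 2) F)).subtype)
      _ hdet
  let c : (A : Subgroup Fˣ) →* (R : Subgroup (GL (Fin 2) F)) :=
    MonoidHom.codRestrict ((diagHom F).comp (A : Subgroup Fˣ).subtype) _
      fun a => hR ⟨a, a.2, rfl⟩
  have hc : ∀ a, χ (c a) = a := fun a => Subtype.ext (det_diagHom (a : Fˣ))
  have hA : Nat.card (A : Subgroup Fˣ) = 2 ^ (Fintype.card F - 1).factorization 2 := by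
    rw [A.card_eq_multiplicity, Linear.natCard_units_eq]
  have hGL : (Nat.card (GL (Fin 2) F)).factorization 2 =
      (Fintype.card F - 1).factorization 2 + (Fintype.card F ^ 2 - 1).factorization 2 := by
    rw [Linear.natCard_GL_fin]
    have := (fac_GL hF hq1 1).1
    simpa using this
  refine ⟨A, R, χ, c, hc, fun r => rfl, hA, by rw [R.card_eq_multiplicity, hGL], ?_⟩
  have hcard : Nat.card χ.ker = 2 ^ (Fintype.card F ^ 2 - 1).factorization 2 := by
    have h := χ.ker.card_mul_index
    rw [Subgroup.index_ker, MonoidHom.range_eq_top.2 fun a => ⟨c a, hc a⟩, Subgroup.card_top, hA,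
      R.card_eq_multiplicity, hGL, add_comm, pow_add] at h
    exact Nat.eq_of_mul_eq_mul_right (pow_pos two_pos _) h
  let f : χ.ker →* Matrix.SpecialLinearGroup (Fin 2) F :=
    { toFun := fun x => ⟨((x : (R : Subgroup (GL (Fin 2) F))) : GL (Fin 2) F).1,
        congrArg (fun a : (A : Subgroup Fˣ) => ((a : Fˣ) : F)) x.2⟩
      map_one' := rfl
      map_mul' := fun x y => rfl }
  have hf : Function.Injective f := fun x y h =>
    Subtype.ext (Subtype.ext (Units.ext (congrArg Subtype.val h)))
  obtain ⟨P⟩ : Nonempty (Sylow 2 (Matrix.SpecialLinearGroup (Fin 2) F)) := inferInstance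
  obtain ⟨e⟩ := equiv_sylow f hf (by
    rw [hcard, GL2.natCard_SL_two, fac_SL_two hF hq1]) P
  exact sqComm_congr e.symm (sqComm_SL2_sylow hF P)

/-- the inclusion into matrices of a subgroup of `GL(2)` -/
def blockRep (R : Subgroup (GL (Fin 2) F)) : R →* Matrix (Fin 2) (Fin 2) F :=
  (Units.coeHom _).comp R.subtype

theorem blockRep_injective (R : Subgroup (GL (Fin 2) F)) : Function.Injective (blockRep R) :=
  fun _ _ h => Subtype.ext (Units.ext h)

end Cfsg.Agent.Classical.WreathSq
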