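import Mathlib
import Cfsg.Agent.Lib.Classical.SylowWreathEmbed
import Cfsg.Agent.Lib.Classical.GL2
import Cfsg.Agent.Lib.Classical.Symplectic
import Cfsg.Agent.GStructB.PermPGroup

/-!
# The wreath product `Syl₂ SL(2) wr T` inside the symplectic group, and derived series of wreath products
-/

set_option autoImplicit false
set_option linter.unusedSectionVars false

namespace Cfsg.Agent.Classical.WreathSq

open Matrix

variable {F : Type*} [Field F] {n : ℕ}

/-- the reindexing from blocks to the symplectic index type -/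
def spIndex (n : ℕ) : Fin 2 × Fin n ≃ Fin n ⊕ Fin n :=
  (finTwoEquiv.prodCongr (Equiv.refl _)).trans (Equiv.boolProdEquivSum _)

variable {R : Subgroup (SpecialLinearGroup (Fin 2) F)} {T : Subgroup (Equiv.Perm (Fin n))}

/-- the inclusion into matrices of a subgroup of `SL(2)` -/
def slRep (R : Subgroup (SpecialLinearGroup (Fin 2) F)) : R →* Matrix (Fin 2) (Fin 2) F where
  toFun r := r.1.1
  map_one' := rfl
  map_mul' _ _ := rfl

theorem spMono_mem (w : Wr R (Fin n) T) :
    Matrix.reindexAlgEquiv F F (spIndex n) (wrMono (slRep R) w) ∈ symplecticGroup (Fin n) F := by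
  have hJ : Matrix.reindexAlgEquiv F F (spIndex n) (blockMono (fun _ => !![0, -1; 1, 0]) 1) =
      Matrix.J (Fin n) F := by
    ext x y
    rcases x with i | i <;> rcases y with j | j <;>
      simp [spIndex, blockMono, Matrix.J, Matrix.one_apply, finTwoEquiv, eq_comm]
    split_ifs <;> simp
  rw [SymplecticGroup.mem_iff, ← hJ, Matrix.coe_reindexAlgEquiv, Matrix.transpose_reindex,
    ← Matrix.coe_reindexAlgEquiv F F (spIndex n), ← map_mul, ← map_mul]
  congr 1
  rw [wrMono_apply, blockMono_transpose, blockMono_mul, blockMono_mul, mul_one, mul_inv_cancel]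
  congr 1
  funext i
  simp only [Equiv.Perm.coe_inv, Equiv.apply_symm_apply]
  have hdet : (slRep R (w.left i)).det = 1 := (w.left i).1.2
  rw [Matrix.det_fin_two] at hdet
  ext a b
  fin_cases a <;> fin_cases b <;>
    simp [Matrix.mul_apply, Fin.sum_univ_two] <;>
    first | ring1 | linear_combination hdet | linear_combination (-1 : F) * hdet

/-- the embedding of `R wr T` into `Sp(2n)` -/
def spMono : Wr R (Fin n) T →* symplecticGroup (Fin n) F :=
  MonoidHom.codRestrict ((Matrix.reindexAlgEquiv F F (spIndex n)).toRingEquiv.toMonoidHom.comp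
    (wrMono (slRep R))) _ spMono_mem

theorem spMono_injective : Function.Injective (spMono (R := R) (T := T)) := fun _ _ h =>
  wrMono_injective (slRep R) (fun _ _ h' => Subtype.ext (Subtype.ext h'))
    ((Matrix.reindexAlgEquiv F F (spIndex n)).injective (congrArg Subtype.val h))

theorem spMono_card [Fintype F] (hF : Odd (Fintype.card F))
    (R₀ : Sylow 2 (SpecialLinearGroup (Fin 2) F)) (T₀ : Sylow 2 (Equiv.Perm (Fin n))) :
    Nat.card (Wr (R₀ : Subgroup (SpecialLinearGroup (Fin 2) F)) (Fin n)
        (T₀ : Subgroup (Equiv.Perm (Fin n)))) =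
      2 ^ (Nat.card (symplecticGroup (Fin n) F)).factorization 2 := by
  have hq1 := Fintype.one_lt_card (α := F)
  rw [SemidirectProduct.card, Nat.card_fun, Nat.card_eq_fintype_card (α := Fin n),
    Fintype.card_fin, R₀.card_eq_multiplicity, T₀.card_eq_multiplicity, ← pow_mul, ← pow_add,
    Classical.GL2.natCard_SL_two, fac_SL_two hF hq1, Classical.Symplectic.natCard_sp,
    fac_sp hF hq1, Nat.card_perm, Nat.card_eq_fintype_card, Fintype.card_fin, mul_comm]

universe u

/-! ### Iterated wreath products inside `R wr Sym` -/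

section iterate
variable {D K : Type*} [Group D] [Group K] {ι Q : Type*} [Group Q]

/-- the permutation of `Q × ι` belonging to an element of the two-step wreath product -/
def stepPerm (φ : D →* Wr K ι (Equiv.Perm ι)) (w : RegularWreathProduct D Q) :
    Equiv.Perm (Q × ι) :=
  (Equiv.prodCongr (Equiv.mulLeft w.right) (Equiv.refl ι)).trans
    (Equiv.prodCongrRight fun a => (φ (w.left a)).right)

theorem stepPerm_apply (φ : D →* Wr K ι (Equiv.Perm ι)) (w : RegularWreathProduct D Q) (x : Q × ι) :
    stepPerm φ w x = (w.right * x.1, (φ (w.left (w.right * x.1))).right x.2) := rfl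

/-- a regular wreath product over a group embedded in `K wr Sym ι` embeds in `K wr Sym (Q × ι)` -/
def step (φ : D →* Wr K ι (Equiv.Perm ι)) :
    RegularWreathProduct D Q →* Wr K (Q × ι) (Equiv.Perm (Q × ι)) :=
  MonoidHom.mk' (fun w => ⟨fun x => (φ (w.left x.1)).left x.2, stepPerm φ w⟩) fun v w => by
    have hperm : stepPerm φ (v * w) = stepPerm φ v * stepPerm φ w := by
      refine Equiv.ext fun x => ?_
      rw [Equiv.Perm.mul_apply, stepPerm_apply, stepPerm_apply, stepPerm_apply]
      simp [map_mul, mul_assoc]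
    refine SemidirectProduct.ext ?_ hperm
    funext x
    rw [SemidirectProduct.mul_left, Pi.mul_apply]
    have hinv : (stepPerm φ v)⁻¹ x = (v.right⁻¹ * x.1, (φ (v.left x.1)).right⁻¹ x.2) := by
      rw [Equiv.Perm.inv_eq_iff_eq, stepPerm_apply]
      simp
    show _ = _ * (φ (w.left ((stepPerm φ v)⁻¹ x).1)).left ((stepPerm φ v)⁻¹ x).2
    rw [hinv]
    simp [map_mul]
    rfl

theorem step_injective {φ : D →* Wr K ι (Equiv.Perm ι)} (hφ : Function.Injective φ) [Nonempty ι] :
    Function.Injective (step (Q := Q) φ) := by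
  intro v w h
  have hl : ∀ a i, (φ (v.left a)).left i = (φ (w.left a)).left i := fun a i =>
    congrFun (congrArg SemidirectProduct.left h) (a, i)
  have hp : ∀ x, stepPerm φ v x = stepPerm φ w x := fun x =>
    Equiv.congr_fun (congrArg SemidirectProduct.right h) x
  have hr : v.right = w.right := by
    have := congrArg Prod.fst (hp (1, Classical.arbitrary ι))
    simpa [stepPerm_apply] using this
  refine RegularWreathProduct.ext (funext fun a => hφ ?_) hr
  refine SemidirectProduct.ext (funext (hl a)) (Equiv.ext fun i => ?_)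
  have := congrArg Prod.snd (hp (v.right⁻¹ * a, i))
  simpa [stepPerm_apply, hr] using this

variable {κ : Type*} [Fintype ι] [DecidableEq κ]

/-- enlarge the set of coordinates -/
noncomputable def pad (f : ι ↪ κ) : Wr K ι (Equiv.Perm ι) →* Wr K κ (Equiv.Perm κ) :=
  SemidirectProduct.map
    { toFun := fun g => Function.extend f g 1
      map_one' := funext fun k => by
        by_cases hk : ∃ i, f i = k
        · obtain ⟨i, rfl⟩ := hk
          simp [f.injective.extend_apply]
        · simp [Function.extend_apply' _ _ _ hk]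
      map_mul' := fun g g' => funext fun k => by
        by_cases hk : ∃ i, f i = k
        · obtain ⟨i, rfl⟩ := hk
          simp [f.injective.extend_apply]
        · simp [Function.extend_apply' _ _ _ hk] }
    (Equiv.Perm.viaEmbeddingHom f) fun σ => MonoidHom.ext fun g => funext fun k => by
      show Function.extend f (fun i => g (σ⁻¹ i)) 1 k =
        Function.extend f g 1 ((Equiv.Perm.viaEmbeddingHom f σ)⁻¹ k)
      rw [← map_inv]
      by_cases hk : ∃ i, f i = k
      · obtain ⟨i, rfl⟩ := hk
        rw [Equiv.Perm.viaEmbeddingHom_apply, Equiv.Perm.viaEmbedding_apply,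
          f.injective.extend_apply, f.injective.extend_apply]
      · rw [Equiv.Perm.viaEmbeddingHom_apply,
          Equiv.Perm.viaEmbedding_apply_of_notMem _ _ _ (fun ⟨i, hi⟩ => hk ⟨i, hi⟩),
          Function.extend_apply' _ _ _ hk, Function.extend_apply' _ _ _ hk]

theorem pad_injective (f : ι ↪ κ) : Function.Injective (pad (K := K) f) := by
  intro v w h
  refine SemidirectProduct.ext (funext fun i => ?_)
    (Equiv.Perm.viaEmbeddingHom_injective f (congrArg SemidirectProduct.right h))
  have := congrFun (congrArg SemidirectProduct.left h) (f i)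
  simpa [pad, f.injective.extend_apply] using this

end iterate

theorem exists_derived {R : Type u} [Group R] (k : ℕ) (h : derivedSeries R 1 ≠ ⊥) :
    ∀ c, Nat.card R = 2 ^ c → ∃ (D : Type u) (_ : Group D) (d : ℕ)
      (φ : D →* Wr R (Fin (2 ^ k)) (Equiv.Perm (Fin (2 ^ k)))),
      Nat.card D = 2 ^ d ∧ derivedSeries D (k + 1) ≠ ⊥ ∧ Function.Injective φ := by
  intro c hc
  induction k with
  | zero =>
    refine ⟨R, inferInstance, c, copy 0, hc, h, fun x y hxy => ?_⟩
    have := congrFun (congrArg SemidirectProduct.left hxy) 0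
    simpa [copy] using this
  | succ k ih =>
    obtain ⟨D, _, d, φ, hd, hder, hφ⟩ := ih
    let e : Multiplicative (ZMod 2) × Fin (2 ^ k) ≃ Fin (2 ^ (k + 1)) :=
      Fintype.equivFinOfCardEq (by simp [pow_succ']) 
    refine ⟨RegularWreathProduct D (Multiplicative (ZMod 2)), inferInstance, d * 2 + 1,
      (pad e.toEmbedding).comp (step φ), ?_, GStructB.PermPGroup.wreath_step hder,
      (pad_injective _).comp (step_injective hφ)⟩
    rw [RegularWreathProduct.card, hd, ← pow_mul, pow_succ]
    simp

theorem exists_derived_perm {R : Type u} [Group R] {m : ℕ} (hm : 1 ≤ m) (h : derivedSeries R 1 ≠ ⊥)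
    {c : ℕ} (hc : Nat.card R = 2 ^ c) : ∃ (D : Type u) (_ : Group D) (d : ℕ)
      (φ : D →* Wr R (Fin m) (⊤ : Subgroup (Equiv.Perm (Fin m)))),
      Nat.card D = 2 ^ d ∧ derivedSeries D (Nat.log 2 m + 1) ≠ ⊥ ∧ Function.Injective φ := by
  obtain ⟨D, _, d, φ, hd, hder, hφ⟩ := exists_derived (Nat.log 2 m) h c hc
  let μ : Wr R (Fin m) (Equiv.Perm (Fin m)) →* Wr R (Fin m) (⊤ : Subgroup (Equiv.Perm (Fin m))) :=
    SemidirectProduct.map (MonoidHom.id _) (Subgroup.topEquiv.symm.toMonoidHom) fun _ => rfl
  have hμ : Function.Injective μ := fun v w h => SemidirectProduct.ext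
    (congrArg SemidirectProduct.left h :)
    (Subgroup.topEquiv.symm.injective (congrArg SemidirectProduct.right h :))
  exact ⟨D, inferInstance, d, (μ.comp (pad (Fin.castLEEmb (Nat.pow_log_le_self 2 (by omega))))).comp φ,
    hd, hder, (hμ.comp (pad_injective _)).comp hφ⟩

end Cfsg.Agent.Classical.WreathSq
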