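import Mathlib
import Cfsg.Agent.Lib.Forms.SympStab
import Cfsg.Agent.Lib.Classical.SymmTwo

/-!
# Involutions of symplectic groups in characteristic two
-/

set_option autoImplicit false
set_option linter.unusedSectionVars false

namespace Cfsg.Agent.Classical.SympInvolution

open Matrix Module Cfsg.Agent.Forms.SympStd Cfsg.Agent.Forms.SympStab
open Cfsg.Agent.Classical.Symplectic Cfsg.Agent.Classical.SymmTwo

variable {F : Type*} [Field F] {m s : ℕ}

local notation "Vec" => (Fin m ⊕ Fin m → F)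
local notation "Mat" => Matrix (Fin m ⊕ Fin m) (Fin m ⊕ Fin m) F
local notation "Sp" => symplecticGroup (Fin m) F
local notation "f" => Cfsg.sympForm m F

/-- the pairings with a tuple -/
noncomputable def coords (w : Fin s → Vec) : Vec →ₗ[F] (Fin s → F) :=
  LinearMap.pi fun j => sympB m F (w j)

@[simp] theorem coords_apply (w : Fin s → Vec) (v : Vec) (j : Fin s) :
    coords w v j = f (w j) v := sympB_apply _ _

/-- linear combinations of a tuple -/
noncomputable abbrev lc (w : Fin s → Vec) : (Fin s → F) →ₗ[F] Vec :=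
  Fintype.linearCombination F w

theorem f_lc (w : Fin s → Vec) (c : Fin s → F) (v : Vec) : f (lc w c) v = c ⬝ᵥ coords w v := by
  rw [← sympB_apply, Fintype.linearCombination_apply, map_sum, LinearMap.sum_apply]
  simp [dotProduct, sympB_apply]

theorem lc_injective {w : Fin s → Vec} (hw : LinearIndependent F w) :
    Function.Injective (lc w) := by
  rw [← LinearMap.ker_eq_bot, LinearMap.ker_eq_bot']
  intro c hc
  rw [Fintype.linearCombination_apply] at hc
  exact funext (Fintype.linearIndependent_iff.1 hw c hc)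

theorem coords_surjective {w : Fin s → Vec} (hw : LinearIndependent F w) :
    Function.Surjective (coords w) := by
  rw [← LinearMap.range_eq_top]
  by_contra h
  obtain ⟨φ, hφ, hφr⟩ := Submodule.exists_dual_map_eq_bot_of_lt_top (lt_top_iff_ne_top.2 h)
    inferInstance
  set c : Fin s → F := fun j => φ (Pi.single j 1) with hc
  have hφc : ∀ x, φ x = c ⬝ᵥ x := by
    intro x
    conv_lhs => rw [pi_eq_sum_univ' x]
    simp [dotProduct, hc, mul_comm]
  have h0 : lc w c = 0 := sympB_nondegenerate.1 _ fun v => by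
    have hv : φ (coords w v) ∈ (⊥ : Submodule F F) :=
      hφr ▸ Submodule.mem_map_of_mem (LinearMap.mem_range_self (coords w) v)
    rw [sympB_apply, f_lc, ← hφc]
    simpa using hv
  have hc0 : c = 0 := lc_injective hw (by rw [h0, map_zero])
  exact hφ (LinearMap.ext fun x => by simp [hφc, hc0])

theorem coords_eq_zero {w : Fin s → Vec} (h : ∀ i j, f (w i) (w j) = 0) (c : Fin s → F) :
    coords w (lc w c) = 0 := by
  ext j
  rw [coords_apply]
  refine span_iso h _ (Submodule.subset_span (Set.mem_range_self j)) _ ?_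
  rw [Fintype.linearCombination_apply]
  exact Submodule.sum_mem _ fun i _ =>
    Submodule.smul_mem _ _ (Submodule.subset_span (Set.mem_range_self i))

theorem le_of_li_iso {w : Fin s → Vec} (hw : LinearIndependent F w)
    (h : ∀ i j, f (w i) (w j) = 0) : s ≤ m := by
  have h1 := (coords w).finrank_range_add_finrank_ker
  rw [LinearMap.range_eq_top.2 (coords_surjective hw), finrank_top, finrank_vec,
    Module.finrank_pi, Fintype.card_fin] at h1
  have h2 : LinearMap.range (lc w) ≤ LinearMap.ker (coords w) := by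
    rintro _ ⟨c, rfl⟩; exact coords_eq_zero h c
  have h3 := Submodule.finrank_mono h2
  rw [LinearMap.finrank_range_of_inj (lc_injective hw), Module.finrank_pi, Fintype.card_fin] at h3
  omega

/-- a tuple and coefficient matrix describing `t - 1` -/
structure Datum (t : Sp) (w : Fin s → Vec) (C : Matrix (Fin s) (Fin s) F) : Prop where
  li : LinearIndependent F w
  iso : ∀ i j, f (w i) (w j) = 0
  symm : Cᵀ = C
  det : IsUnit C.det
  act : ∀ v, (t : Mat) *ᵥ v = v + lc w (C *ᵥ coords w v)

/-- change of tuple -/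
def comb (w : Fin s → Vec) (P : Matrix (Fin s) (Fin s) F) : Fin s → Vec :=
  fun j => ∑ i, P i j • w i

theorem lc_comb (w : Fin s → Vec) (P : Matrix (Fin s) (Fin s) F) (c : Fin s → F) :
    lc (comb w P) c = lc w (P *ᵥ c) := by
  simp only [Fintype.linearCombination_apply, comb, Finset.smul_sum, smul_smul, Matrix.mulVec,
    dotProduct, Finset.sum_smul]
  rw [Finset.sum_comm]
  simp [mul_comm]

theorem coords_comb (w : Fin s → Vec) (P : Matrix (Fin s) (Fin s) F) (v : Vec) :
    coords (comb w P) v = Pᵀ *ᵥ coords w v := by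
  ext j
  rw [coords_apply, ← sympB_apply]
  simp [comb, Matrix.mulVec, dotProduct, sympB_apply]

theorem comb_iso {w : Fin s → Vec} (h : ∀ i j, f (w i) (w j) = 0) (P : Matrix (Fin s) (Fin s) F)
    (i j : Fin s) : f (comb w P i) (comb w P j) = 0 := by
  refine span_iso h _ ?_ _ ?_ <;>
    exact Submodule.sum_mem _ fun i _ =>
      Submodule.smul_mem _ _ (Submodule.subset_span (Set.mem_range_self i))

theorem comb_li {w : Fin s → Vec} (hw : LinearIndependent F w) {P : Matrix (Fin s) (Fin s) F}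
    (hP : IsUnit P.det) : LinearIndependent F (comb w P) := by
  rw [Fintype.linearIndependent_iff]
  intro c hc i
  have h : lc w (P *ᵥ c) = lc w 0 := by
    rw [← lc_comb, map_zero, Fintype.linearCombination_apply, hc]
  have h2 := Matrix.mulVec_injective_iff_isUnit.2 ((Matrix.isUnit_iff_isUnit_det _).2 hP)
    ((lc_injective hw h).trans (Matrix.mulVec_zero P).symm)
  exact congrFun h2 i

theorem comb_injective {w : Fin s → Vec} (hw : LinearIndependent F w) :
    Function.Injective (comb w) := by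
  intro P Q h
  ext i j
  have hj : lc w (fun i => P i j) = lc w (fun i => Q i j) := by
    simp only [Fintype.linearCombination_apply]
    exact congrFun h j
  exact congrFun (lc_injective hw hj) i

theorem Datum.eq {t t' : Sp} {w : Fin s → Vec} {C : Matrix (Fin s) (Fin s) F}
    (h : Datum t w C) (h' : Datum t' w C) : t = t' :=
  sp_ext fun v => by rw [h.act, h'.act]

theorem coords_conj (g : Sp) (w : Fin s → Vec) (v : Vec) :
    coords (fun i => (g : Mat) *ᵥ w i) v = coords w ((↑(g⁻¹ : Sp) : Mat) *ᵥ v) := by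
  ext j
  rw [coords_apply, coords_apply, ← sympForm_mulVec g (w j), ← mul_mulVec_sp, mul_inv_cancel]
  show f _ v = f _ ((1 : Mat) *ᵥ v)
  rw [one_mulVec]

theorem Datum.conj {t : Sp} {w : Fin s → Vec} {C : Matrix (Fin s) (Fin s) F} (h : Datum t w C)
    (g : Sp) : Datum (g * t * g⁻¹) (fun i => (g : Mat) *ᵥ w i) C where
  li := h.li.map' (Matrix.mulVecLin (g : Mat)) (LinearMap.ker_eq_bot.2 (sp_injective g))
  iso i j := by rw [sympForm_mulVec]; exact h.iso i j
  symm := h.symm
  det := h.det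
  act v := by
    rw [mul_mulVec_sp, mul_mulVec_sp, h.act, mulVec_add, ← mul_mulVec_sp, mul_inv_cancel,
      coords_conj]
    show (1 : Mat) *ᵥ v + _ = _
    rw [one_mulVec, Fintype.linearCombination_apply, Fintype.linearCombination_apply]
    simp [mulVec_sum, mulVec_smul]

theorem isUnit_det_of_congr {P C C' : Matrix (Fin s) (Fin s) F} (hC : IsUnit C.det)
    (h : P * C' * Pᵀ = C) : IsUnit P.det := by
  rw [← h, det_mul, det_mul] at hC
  exact isUnit_of_mul_isUnit_left (isUnit_of_mul_isUnit_left hC)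

theorem Datum.change {t : Sp} {w : Fin s → Vec} {C : Matrix (Fin s) (Fin s) F} (h : Datum t w C)
    {P C' : Matrix (Fin s) (Fin s) F} (hP : P * C' * Pᵀ = C) : Datum t (comb w P) C' := by
  have hPd : IsUnit P.det := isUnit_det_of_congr h.det hP
  refine ⟨comb_li h.li hPd, comb_iso h.iso P, ?_, ?_, fun v => ?_⟩
  · have e : C' = P⁻¹ * C * P⁻¹ᵀ := by
      rw [← hP, transpose_nonsing_inv, Matrix.mul_assoc, Matrix.mul_assoc,
        Matrix.mul_nonsing_inv _ (by rwa [det_transpose]), Matrix.mul_one, ← Matrix.mul_assoc,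
        Matrix.nonsing_inv_mul _ hPd, Matrix.one_mul]
    rw [e]
    simp only [transpose_mul, transpose_transpose, h.symm, Matrix.mul_assoc]
  · have := h.det
    rw [← hP, det_mul, det_mul] at this
    exact isUnit_of_mul_isUnit_right (isUnit_of_mul_isUnit_left this)
  · rw [h.act, lc_comb, coords_comb, mulVec_mulVec, mulVec_mulVec, ← hP, Matrix.mul_assoc]

theorem Datum.rigid {t : Sp} {w w' : Fin s → Vec} {C C' : Matrix (Fin s) (Fin s) F}
    (h : Datum t w C) (h' : Datum t w' C') : ∃ P, comb w P = w' ∧ P * C' * Pᵀ = C := by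
  have hw : ∀ j, ∃ c, lc w c = w' j := by
    intro j
    obtain ⟨x, hx⟩ := (Matrix.mulVec_surjective_iff_isUnit.2
      ((Matrix.isUnit_iff_isUnit_det _).2 h'.det)) (Pi.single j 1)
    obtain ⟨v, hv⟩ := coords_surjective h'.li x
    refine ⟨C *ᵥ coords w v, ?_⟩
    have e := (h.act v).symm.trans (h'.act v)
    rw [hv, hx, add_right_inj] at e
    rw [e]; simp [Fintype.linearCombination_apply_single]
  choose c hc using hw
  set P : Matrix (Fin s) (Fin s) F := Matrix.of fun i j => c j i with hP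
  have hcomb : comb w P = w' := funext fun j => by
    rw [← hc j, Fintype.linearCombination_apply]; rfl
  refine ⟨P, hcomb, Matrix.ext_iff_mulVec.2 fun x => ?_⟩
  obtain ⟨v, rfl⟩ := coords_surjective h.li x
  have e := (h.act v).symm.trans (h'.act v)
  rw [add_right_inj, ← hcomb, lc_comb, coords_comb, mulVec_mulVec, mulVec_mulVec] at e
  exact (lc_injective h.li e).symm

theorem Datum.rank_eq {t : Sp} {w : Fin s → Vec} {C : Matrix (Fin s) (Fin s) F}
    (h : Datum t w C) : ((t : Mat) - 1).rank = s := by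
  have e : ((t : Mat) - 1).mulVecLin = lc w ∘ₗ (C.mulVecLin ∘ₗ coords w) := LinearMap.ext fun v => by
    simp [Matrix.sub_mulVec, h.act v]
  have hs : LinearMap.range (C.mulVecLin ∘ₗ coords w) = ⊤ :=
    LinearMap.range_eq_top.2 ((Matrix.mulVec_surjective_iff_isUnit.2
      ((Matrix.isUnit_iff_isUnit_det _).2 h.det)).comp (coords_surjective h.li))
  rw [Matrix.rank, e, LinearMap.range_comp_of_range_eq_top _ hs,
    LinearMap.finrank_range_of_inj (lc_injective h.li)]
  simp

variable [CharP F 2]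

theorem f_comm (u v : Vec) : f u v = f v u := by
  rw [sympForm_swap v u, CharTwo.neg_eq]

theorem Datum.quad {t : Sp} {w : Fin s → Vec} {C : Matrix (Fin s) (Fin s) F} (h : Datum t w C)
    (v : Vec) : f v ((t : Mat) *ᵥ v) = ∑ i, C i i * coords w v i ^ 2 := by
  rw [h.act, f_add_right, sympForm_self, zero_add, f_comm, f_lc, ← quad_pi C h.symm,
    Matrix.toBilin'_apply', dotProduct_comm]

theorem Datum.alt_iff {t : Sp} {w : Fin s → Vec} {C : Matrix (Fin s) (Fin s) F} (h : Datum t w C) :
    (∀ v, f v ((t : Mat) *ᵥ v) = 0) ↔ ∀ i, C i i = 0 := by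
  refine ⟨fun hv i => ?_, fun hC v => by simp [h.quad, hC]⟩
  obtain ⟨v, hv'⟩ := coords_surjective h.li (Pi.single i 1)
  have h1 := hv v
  rw [h.quad, hv', Finset.sum_eq_single i (fun j _ hj => by simp [hj]) (by simp)] at h1
  simpa using h1

theorem exists_range_tuple (N : Mat) (hs : N.rank = s) :
    ∃ (w : Fin s → Vec) (x : Fin s → Vec), LinearIndependent F w ∧ (∀ i, N *ᵥ x i = w i) ∧
      ∀ v, ∃ c, lc w c = N *ᵥ v := by
  obtain ⟨W, hW⟩ : ∃ W : Submodule F Vec, W = LinearMap.range N.mulVecLin := ⟨_, rfl⟩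
  have hWs : finrank F W = s := by rw [hW]; exact hs
  obtain ⟨b⟩ : Nonempty (Basis (Fin s) F W) := ⟨Module.finBasisOfFinrankEq F W hWs⟩
  have hmem : ∀ u, u ∈ W → ∃ v, N *ᵥ v = u := fun u hu => by
    rw [hW, LinearMap.mem_range] at hu
    exact hu
  have hpre : ∀ i, ∃ v, N *ᵥ v = (b i : Vec) := fun i => hmem _ (b i).2
  choose x hx using hpre
  refine ⟨fun i => (b i : Vec), x, b.linearIndependent.map' W.subtype W.ker_subtype, hx,
    fun v => ?_⟩
  have hv : N *ᵥ v ∈ W := by rw [hW, LinearMap.mem_range]; exact ⟨v, rfl⟩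
  refine ⟨fun i => b.repr ⟨_, hv⟩ i, ?_⟩
  have := congrArg Subtype.val (b.sum_repr ⟨_, hv⟩)
  rw [Submodule.coe_sum] at this
  rw [Fintype.linearCombination_apply]
  exact this

theorem exists_datum (t : Sp) (ht : t ^ 2 = 1) (hs : ((t : Mat) - 1).rank = s) :
    ∃ w C, Datum (s := s) t w C := by
  obtain ⟨N, hN⟩ : ∃ N : Mat, N = (t : Mat) - 1 := ⟨_, rfl⟩
  rw [← hN] at hs
  have htt : ∀ v, (t : Mat) *ᵥ ((t : Mat) *ᵥ v) = v := fun v => by
    rw [← mul_mulVec_sp, ← sq, ht]; exact one_mulVec v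
  have hNv : ∀ v, N *ᵥ v = (t : Mat) *ᵥ v + v := fun v => by
    rw [hN, Matrix.sub_mulVec, one_mulVec]
    ext i
    simp [CharTwo.sub_eq_add]
  have hadj : ∀ u v, f (N *ᵥ u) v = f u (N *ᵥ v) := fun u v => by
    rw [hNv, hNv, f_add_left, f_add_right, ← sympForm_mulVec t ((t : Mat) *ᵥ u) v, htt]
  have hNN : ∀ v, N *ᵥ (N *ᵥ v) = 0 := fun v => by
    rw [hNv (N *ᵥ v), hNv v, mulVec_add, htt]
    rw [add_comm v, ← add_assoc, add_assoc ((t : Mat) *ᵥ v), add_comm v, ← add_assoc]
    ext i
    simp [CharTwo.add_self_eq_zero]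
  obtain ⟨w, x, hw, hx, hspan⟩ := exists_range_tuple N hs
  let A : Matrix (Fin s) (Fin s) F := Matrix.of fun i j => f (w i) (x j)
  have hAs : Aᵀ = A := by
    ext i j
    simp only [A, transpose_apply, of_apply]
    rw [← hx j, hadj, hx, f_comm]
  have hiso : ∀ i j, f (w i) (w j) = 0 := fun i j => by
    rw [← hx i, hadj, ← hx j, hNN]
    simpa using f_smul_right (0 : F) (x i) (0 : Vec)
  have hcoords : ∀ v c, lc w c = N *ᵥ v → coords w v = A *ᵥ c := by
    intro v c hc
    ext j
    rw [coords_apply, ← hx j, hadj, ← hc, f_comm, f_lc, Matrix.mulVec]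
    refine Finset.sum_congr rfl fun i _ => ?_
    rw [coords_apply, mul_comm]
    congr 1
    rw [← hAs]; rfl
  have hA : IsUnit A := by
    rw [← Matrix.mulVec_injective_iff_isUnit]
    intro c c' hcc
    obtain ⟨v, hv, hv'⟩ : ∃ v, lc w (c - c') = N *ᵥ v ∧ coords w v = 0 := by
      refine ⟨∑ i, (c - c') i • x i, ?_, ?_⟩
      · simp [Fintype.linearCombination_apply, mulVec_sum, mulVec_smul, hx]
      · rw [hcoords _ (c - c') (by simp [Fintype.linearCombination_apply, mulVec_sum, mulVec_smul, hx]),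
          mulVec_sub]
        exact sub_eq_zero.2 hcc
    have h0 : N *ᵥ v = 0 := sympB_nondegenerate.1 _ fun u => by
      obtain ⟨d, hd⟩ := hspan u
      rw [sympB_apply, hadj, f_comm, ← hd, f_lc, hv', dotProduct_zero]
    exact sub_eq_zero.1 (lc_injective hw (by rw [hv, h0, map_zero]))
  have hAd := (Matrix.isUnit_iff_isUnit_det A).1 hA
  refine ⟨w, A⁻¹, hw, hiso, by rw [transpose_nonsing_inv, hAs],
    Matrix.isUnit_nonsing_inv_det A hAd, fun v => ?_⟩
  obtain ⟨c, hc⟩ := hspan v
  rw [hcoords v c hc, mulVec_mulVec, Matrix.nonsing_inv_mul _ hAd, one_mulVec, hc, hN,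
    Matrix.sub_mulVec, one_mulVec, add_sub_cancel]

theorem exists_element (w : Fin s → Vec) (C : Matrix (Fin s) (Fin s) F)
    (hw : LinearIndependent F w) (hiso : ∀ i j, f (w i) (w j) = 0) (hC : Cᵀ = C)
    (hd : IsUnit C.det) : ∃ t : Sp, t ^ 2 = 1 ∧ Datum t w C := by
  let L : Vec →ₗ[F] Vec := lc w ∘ₗ (C.mulVecLin ∘ₗ coords w)
  let T : Mat := LinearMap.toMatrix' (LinearMap.id + L)
  have hT : ∀ v, T *ᵥ v = v + lc w (C *ᵥ coords w v) := fun v => by
    rw [← Matrix.toLin'_apply, Matrix.toLin'_toMatrix']; rfl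
  have hmem : T ∈ symplecticGroup (Fin m) F := mem_sp_iff.2 fun u v => by
    rw [hT, hT, f_add_left, f_add_right, f_add_right, f_lc w _ v,
      f_lc w _ (lc w _), coords_eq_zero hiso, dotProduct_zero, add_zero, f_comm u (lc w _), f_lc,
      add_assoc]
    rw [dotProduct_comm (C *ᵥ coords w v), dotProduct_mulVec, ← mulVec_transpose, hC,
      CharTwo.add_self_eq_zero, add_zero]
  refine ⟨⟨T, hmem⟩, ?_, hw, hiso, hC, hd, hT⟩
  refine sp_ext fun v => ?_
  rw [sq, mul_mulVec_sp]
  show T *ᵥ (T *ᵥ v) = (1 : Mat) *ᵥ v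
  rw [hT (T *ᵥ v), hT v, map_add, coords_eq_zero hiso, add_zero, one_mulVec, add_assoc]
  ext i
  simp [CharTwo.add_self_eq_zero]

theorem Datum.isConj {t t' : Sp} {w w' : Fin s → Vec} {C C' : Matrix (Fin s) (Fin s) F}
    (h : Datum t w C) (h' : Datum t' w' C') (hc : Cong C C') : IsConj t t' := by
  obtain ⟨Y, -, -, -, hY⟩ := hc.symm
  have h2 := h.change hY
  obtain ⟨g, hg⟩ := exists_move_tuple h2.li h'.li h2.iso h'.iso
  refine isConj_iff.2 ⟨g, ?_⟩
  have h3 := h2.conj g
  have e : (fun i => (g : Mat) *ᵥ comb w Y i) = w' := funext hg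
  rw [e] at h3
  exact h3.eq h'

theorem natCard_centralizer [Fintype F] {t : Sp} {w : Fin s → Vec}
    {C : Matrix (Fin s) (Fin s) F} (h : Datum t w C) :
    Nat.card (Subgroup.centralizer ({t} : Set Sp)) *
        Fintype.card F ^ (∑ j ∈ Finset.range s, j) =
      Nat.card (Iso C) * (Fintype.card F ^ (m ^ 2) *
        ∏ i ∈ Finset.range (m - s), (Fintype.card F ^ (2 * (i + 1)) - 1)) := by
  have hs : s ≤ m := le_of_li_iso h.li h.iso
  have hH := natCard_subgroup_orbit (Subgroup.centralizer ({t} : Set Sp)) ⟨w, h.li, h.iso⟩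
    (Set.range fun P : Iso C => comb w P.1) ?_ ?_ ?_
  · have hinj : Function.Injective fun P : Iso C => comb w P.1 :=
      (comb_injective h.li).comp Subtype.val_injective
    rw [Nat.card_range_of_injective hinj, natCard_IT hs, natCard_sp] at hH
    have hP := prod_tuples (Fintype.card F) m s hs
    have hq : 2 ≤ Fintype.card F := Fintype.one_lt_card
    have hpos : 0 < ∏ i ∈ Finset.range m, (Fintype.card F ^ (2 * (i + 1)) - 1) :=
      Finset.prod_pos fun i _ => Nat.sub_pos_of_lt (Nat.one_lt_pow (by omega) hq)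
    refine Nat.eq_of_mul_eq_mul_right hpos ?_
    rw [mul_assoc (Nat.card (Subgroup.centralizer ({t} : Set Sp))), ← hP, ← mul_assoc, hH]
    ring
  · intro g hg
    rw [Subgroup.mem_centralizer_singleton_iff]
    have h3 := h.conj g
    have e : (fun i => (g : Mat) *ᵥ w i) = w := funext fun i => congrFun hg i
    rw [e] at h3
    have := h3.eq h
    exact mul_inv_eq_iff_eq_mul.1 this
  · intro g hg
    rw [Subgroup.mem_centralizer_singleton_iff] at hg
    have h3 := h.conj g
    rw [mul_inv_eq_iff_eq_mul.2 hg] at h3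
    obtain ⟨P, hP, hPC⟩ := h.rigid h3
    exact ⟨⟨P, hPC⟩, hP⟩
  · rintro _ ⟨P, rfl⟩
    have h2 := h.change P.2
    obtain ⟨g, hg⟩ := exists_move_tuple h.li h2.li h.iso h2.iso
    refine ⟨g, ?_, funext hg⟩
    rw [Subgroup.mem_centralizer_singleton_iff]
    have h3 := h.conj g
    have e : (fun i => (g : Mat) *ᵥ w i) = comb w P.1 := funext hg
    rw [e] at h3
    exact mul_inv_eq_iff_eq_mul.1 (h3.eq h2)

end Cfsg.Agent.Classical.SympInvolution
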