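import Mathlib
import Cfsg.Agent.Lib.Classical.FormConj
import Cfsg.Agent.Lib.Classical.UnitaryBasic
import Cfsg.Agent.Lib.Classical.RestrictScalars
import Cfsg.Agent.Lib.Classical.UnitaryFrames
import Cfsg.Agent.Lib.Forms.SympStd

/-!
# Fixed point free elements of order three in symplectic groups, `q ≡ 2 (mod 3)`
-/

set_option autoImplicit false
set_option linter.unusedSectionVars false

namespace Cfsg.Agent.Classical.SympOrderThree

open Matrix Module
open Cfsg.Agent.Classical.FormConj (adj)
open Cfsg.Agent.Forms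

variable {F : Type*} [Field F] [Fintype F] {m : ℕ}

local notation "M2" => Matrix (Fin m ⊕ Fin m) (Fin m ⊕ Fin m) F
local notation "Vec" => (Fin m ⊕ Fin m → F)

theorem three_ne_zero (hq : Fintype.card F % 3 = 2) : (3 : F) ≠ 0 := by
  intro h
  obtain ⟨p, hp⟩ := CharP.exists F
  obtain ⟨n, hpp, hn⟩ := FiniteField.card F p
  have h3 : p ∣ 3 := (CharP.cast_eq_zero_iff F p 3).1 (by exact_mod_cast h)
  have h3' : p = 3 := (Nat.prime_dvd_prime_iff_eq hpp Nat.prime_three).1 h3
  rw [hn, h3', Nat.pow_mod, Nat.mod_self, zero_pow n.ne_zero] at hq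
  simp at hq

theorem eq_one_of_cube (hq : Fintype.card F % 3 = 2) {t : F} (ht : t ^ 3 = 1) : t = 1 := by
  have ht0 : t ≠ 0 := fun h => by rw [h] at ht; simp at ht
  have h1 := FiniteField.pow_card_sub_one_eq_one t ht0
  obtain ⟨k, hk⟩ : ∃ k, Fintype.card F - 1 = 3 * k + 1 :=
    ⟨Fintype.card F / 3, by omega⟩
  rwa [hk, pow_succ, pow_mul, ht, one_pow, one_mul] at h1

theorem norm_ne_zero (hq : Fintype.card F % 3 = 2) {a b : F} (h : a * a - a * b + b * b = 0) :
    a = 0 ∧ b = 0 := by
  by_cases hb : b = 0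
  · refine ⟨?_, hb⟩
    rw [hb] at h
    simpa using h
  · exfalso
    set s := -(a / b) with hs
    have h1 : s * s + s + 1 = 0 := by
      rw [hs]; field_simp; linear_combination h
    have h2 := eq_one_of_cube hq (t := s) (by linear_combination (s - 1) * h1)
    rw [h2] at h1
    exact three_ne_zero hq (by linear_combination h1)

theorem sq_add_self {x : M2} (h3 : x ^ 3 = 1) (hfpf : IsUnit (x - 1)) : x * x + x + 1 = 0 :=
  hfpf.mul_right_eq_zero.1 (by
    rw [show (x - 1) * (x * x + x + 1) = x ^ 3 - 1 by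
      simp only [pow_succ, pow_zero, sub_mul, mul_add, one_mul, mul_one, mul_assoc]; abel, h3,
      sub_self])

theorem exists_basis (hq : Fintype.card F % 3 = 2) {x : M2} (hx : x * x + x + 1 = 0) :
    ∃ (w : Fin m → Vec) (b : Basis (Fin m ⊕ Fin m) F Vec),
      ∀ i, b i = Sum.elim w (fun j => x *ᵥ w j) i := by
  classical
  have hxx : ∀ v : Vec, x *ᵥ (x *ᵥ v) = -v - x *ᵥ v := fun v => by
    have := congrArg (fun M : M2 => M *ᵥ v) hx
    simp only [Matrix.add_mulVec, Matrix.one_mulVec, Matrix.zero_mulVec, ← Matrix.mulVec_mulVec] at this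
    linear_combination (norm := abel) this
  have key : ∀ k, k ≤ m → ∃ w : Fin k → Vec,
      LinearIndependent F (Sum.elim w (fun j => x *ᵥ w j)) := by
    intro k
    induction k with
    | zero => exact fun _ => ⟨Fin.elim0, linearIndependent_empty_type⟩
    | succ k ih =>
      intro hk
      obtain ⟨w, hw⟩ := ih (by omega)
      set W := Submodule.span F (Set.range (Sum.elim w (fun j => x *ᵥ w j))) with hW
      have hinv : ∀ v ∈ W, x *ᵥ v ∈ W := by
        intro v hv
        induction hv using Submodule.span_induction with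
        | mem u hu =>
          obtain ⟨i | i, rfl⟩ := hu
          · exact Submodule.subset_span ⟨Sum.inr i, rfl⟩
          · show x *ᵥ (x *ᵥ w i) ∈ W
            rw [hxx]
            exact sub_mem (neg_mem (Submodule.subset_span ⟨Sum.inl i, rfl⟩))
              (Submodule.subset_span ⟨Sum.inr i, rfl⟩)
        | zero => rw [Matrix.mulVec_zero]; exact zero_mem W
        | add a b _ _ ha hb => rw [Matrix.mulVec_add]; exact add_mem ha hb
        | smul c a _ ha => rw [Matrix.mulVec_smul]; exact W.smul_mem c ha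
      have hne : W ≠ ⊤ := fun h => by
        have h1 := finrank_span_eq_card hw
        rw [← hW, h, finrank_top, Module.finrank_pi, Fintype.card_sum, Fintype.card_sum,
          Fintype.card_fin, Fintype.card_fin] at h1
        omega
      obtain ⟨v, -, hv⟩ := SetLike.exists_of_lt (lt_top_iff_ne_top.2 hne)
      have hv2 : ∀ a b : F, a • v + b • (x *ᵥ v) ∈ W → a = 0 ∧ b = 0 := by
        intro a b hab
        by_contra hne'
        have hn : a * a - a * b + b * b ≠ 0 := fun h => hne' (norm_ne_zero hq h)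
        apply hv
        have h2 : (a * a - a * b + b * b) • v ∈ W := by
          have e : (a * a - a * b + b * b) • v =
              (a - b) • (a • v + b • (x *ᵥ v)) - b • (x *ᵥ (a • v + b • (x *ᵥ v))) := by
            rw [Matrix.mulVec_add, Matrix.mulVec_smul, Matrix.mulVec_smul, hxx]
            module
          rw [e]
          exact sub_mem (W.smul_mem _ hab) (W.smul_mem _ (hinv _ hab))
        have := W.smul_mem (a * a - a * b + b * b)⁻¹ h2
        rwa [inv_smul_smul₀ hn] at this
      refine ⟨Fin.snoc w v, Fintype.linearIndependent_iff.2 fun g hg => ?_⟩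
      rw [Fintype.sum_sum_type, Fin.sum_univ_castSucc, Fin.sum_univ_castSucc] at hg
      simp only [Sum.elim_inl, Sum.elim_inr, Fin.snoc_castSucc, Fin.snoc_last] at hg
      have hmem : g (Sum.inl (Fin.last k)) • v + g (Sum.inr (Fin.last k)) • (x *ᵥ v) ∈ W := by
        have e : g (Sum.inl (Fin.last k)) • v + g (Sum.inr (Fin.last k)) • (x *ᵥ v) =
            -((∑ i : Fin k, g (Sum.inl i.castSucc) • w i) +
              ∑ i : Fin k, g (Sum.inr i.castSucc) • (x *ᵥ w i)) := by
          linear_combination (norm := abel) hg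
        rw [e]
        exact neg_mem (add_mem
          (sum_mem fun i _ => W.smul_mem _ (Submodule.subset_span ⟨Sum.inl i, rfl⟩))
          (sum_mem fun i _ => W.smul_mem _ (Submodule.subset_span ⟨Sum.inr i, rfl⟩)))
      obtain ⟨ha, hb⟩ := hv2 _ _ hmem
      rw [ha, hb, zero_smul, zero_smul, add_zero, add_zero] at hg
      have h0 := Fintype.linearIndependent_iff.1 hw
        (Sum.elim (fun i => g (Sum.inl i.castSucc)) (fun i => g (Sum.inr i.castSucc)))
        (by rw [Fintype.sum_sum_type]; simpa using hg)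
      rintro (i | i) <;> refine Fin.lastCases ?_ (fun j => ?_) i
      · exact ha
      · exact h0 (Sum.inl j)
      · exact hb
      · exact h0 (Sum.inr j)
  obtain ⟨w, hw⟩ := key m le_rfl
  rcases Nat.eq_zero_or_pos m with rfl | hm
  · exact ⟨w, Pi.basisFun F _, fun i => i.elim Fin.elim0 Fin.elim0⟩
  have : Nonempty (Fin m ⊕ Fin m) := ⟨Sum.inl ⟨0, hm⟩⟩
  exact ⟨w, basisOfLinearIndependentOfCardEqFinrank hw (by simp),
    fun i => by rw [coe_basisOfLinearIndependentOfCardEqFinrank]⟩

theorem exists_similar (hq : Fintype.card F % 3 = 2) {x y : M2} (hx : x * x + x + 1 = 0)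
    (hy : y * y + y + 1 = 0) : ∃ X : M2ˣ, (↑X : M2) * x = y * (↑X : M2) := by
  classical
  obtain ⟨w, b, hb⟩ := exists_basis hq hx
  obtain ⟨w', b', hb'⟩ := exists_basis hq hy
  let e : Vec ≃ₗ[F] Vec := b.equiv b' (Equiv.refl _)
  have he : ∀ i, e (b i) = b' i := fun i => by simp [e]
  have hrel : ∀ (z : M2), z * z + z + 1 = 0 → ∀ v : Vec, z *ᵥ (z *ᵥ v) = -v - z *ᵥ v :=
    fun z hz v => by
      have := congrArg (fun M : M2 => M *ᵥ v) hz
      simp only [Matrix.add_mulVec, Matrix.one_mulVec, Matrix.zero_mulVec, ← Matrix.mulVec_mulVec] at this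
      linear_combination (norm := abel) this
  have hcomm : ∀ v, e (x *ᵥ v) = y *ᵥ e v := by
    intro v
    have h : e.toLinearMap ∘ₗ x.mulVecLin = y.mulVecLin ∘ₗ e.toLinearMap := by
      refine b.ext fun i => ?_
      simp only [LinearMap.comp_apply, LinearEquiv.coe_coe, Matrix.mulVecLin_apply, he]
      rcases i with j | j
      · rw [hb, hb']
        simp only [Sum.elim_inl]
        have h1 := he (Sum.inr j)
        rwa [hb, hb'] at h1
      · rw [hb, hb']
        simp only [Sum.elim_inr]
        have h0 := he (Sum.inl j)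
        have h1 := he (Sum.inr j)
        rw [hb, hb'] at h0 h1
        simp only [Sum.elim_inl, Sum.elim_inr] at h0 h1
        rw [hrel x hx, hrel y hy, map_sub, map_neg, h0, h1]
    exact LinearMap.congr_fun h v
  refine ⟨Matrix.GeneralLinearGroup.mkOfDetNeZero (LinearMap.toMatrix' e.toLinearMap) ?_, ?_⟩
  · rw [LinearMap.det_toMatrix']
    exact (LinearEquiv.isUnit_det' e).ne_zero
  · show LinearMap.toMatrix' e.toLinearMap * x = y * LinearMap.toMatrix' e.toLinearMap
    apply Matrix.toLin'.injective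
    rw [Matrix.toLin'_mul, Matrix.toLin'_mul, Matrix.toLin'_toMatrix', Matrix.toLin'_apply',
      Matrix.toLin'_apply']
    exact LinearMap.ext hcomm

/-- The Gram matrix. -/
def gram (F : Type*) [Field F] (m : ℕ) : (Matrix (Fin m ⊕ Fin m) (Fin m ⊕ Fin m) F)ˣ :=
  ⟨Matrix.J (Fin m) F, -Matrix.J (Fin m) F, by rw [mul_neg, Matrix.J_squared, neg_neg],
    by rw [neg_mul, Matrix.J_squared, neg_neg]⟩

theorem gram_alt : (↑(gram F m) : M2)ᵀ = (-1 : F) • (↑(gram F m) : M2) := by
  show (Matrix.J (Fin m) F)ᵀ = _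
  rw [Matrix.J_transpose, neg_one_smul]
  rfl

theorem mem_iff (A : M2) :
    A ∈ Matrix.symplecticGroup (Fin m) F ↔ adj (gram F m) A * A = 1 := by
  rw [SymplecticGroup.mem_iff', ← FormConj.preserves_iff]
  rfl

/-- All fixed point free elements of order three are conjugate. -/
theorem exists_conj (hq : Fintype.card F % 3 = 2) (x y : Matrix.symplecticGroup (Fin m) F)
    (hx3 : (x : M2) ^ 3 = 1) (hxf : IsUnit ((x : M2) - 1)) (hy : (y : M2) * y + y + 1 = 0) :
    IsConj x y := by
  classical
  have hx := sq_add_self hx3 hxf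
  obtain ⟨X, hX⟩ := exists_similar hq hx hy
  obtain ⟨G, hG, hGr⟩ := FormConj.exists_partial (gram F m) (c := -1) gram_alt (by ring) (x : M2) y
    ((mem_iff _).1 x.2) ((mem_iff _).1 y.2) (s := 3) (by exact_mod_cast three_ne_zero hq) hx3 X hX
  have hrest : FormConj.rest F 3 (x : M2) = 1 := by
    have h1 : FormConj.avg F 3 (x : M2) = 0 := by
      rw [FormConj.avg, show (∑ i ∈ Finset.range 3, (x : M2) ^ i) = (x : M2) * x + x + 1 by
        simp [Finset.sum_range_succ, pow_two]; abel, hx, mul_zero]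
    have h2 : FormConj.negAvg F 3 (x : M2) = 0 := by
      rw [FormConj.negAvg, if_neg]
      rintro ⟨hn, h20⟩
      exact h20 (by linear_combination -hn)
    rw [FormConj.rest, h1, h2, sub_zero, sub_zero]
  rw [hrest, mul_one] at hGr
  refine isConj_iff.2 ⟨⟨(↑G : M2), (mem_iff _).2 hGr⟩, mul_inv_eq_iff_eq_mul.2 (Subtype.ext ?_)⟩
  exact hG

/-! ### The model -/

/-- The model element: multiplication by a cube root of unity. -/
def model (F : Type*) [Field F] (m : ℕ) : Matrix (Fin m ⊕ Fin m) (Fin m ⊕ Fin m) F :=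
  Matrix.fromBlocks 0 (-1) 1 (-1)

theorem model_rel : model F m * model F m + model F m + 1 = 0 := by
  rw [model, Matrix.fromBlocks_multiply, ← Matrix.fromBlocks_one, Matrix.fromBlocks_add,
    Matrix.fromBlocks_add, ← Matrix.fromBlocks_zero]
  congr 1 <;> simp

theorem model_mem : model F m ∈ Matrix.symplecticGroup (Fin m) F := by
  rw [SymplecticGroup.mem_iff', model, Matrix.J, Matrix.fromBlocks_transpose]
  simp [Matrix.fromBlocks_multiply]

variable {K : Type*} [Field K] [Fintype K]

/-- Coordinates over the quadratic extension. -/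
def toK (i : F →+* K) (ω : K) (v : Vec) : Fin m → K := fun j => i (v (.inl j)) + ω * i (v (.inr j))

theorem natCard_cent_model (hq : Fintype.card F % 3 = 2) {q : ℕ} (hK : Fintype.card K = q ^ 2)
    (hF : Fintype.card F = q) (i : F →+* K) (hfix : ∀ t, i t ^ q = i t) (ω : K) (hω : ω * ω + ω + 1 = 0) :
    Nat.card {g : M2 // g ∈ Matrix.symplecticGroup (Fin m) F ∧ g * model F m = model F m * g} =
      Nat.card (Cfsg.GU m K q) := by
  classical
  have h3K : (3 : K) ≠ 0 := fun h => three_ne_zero hq (i.injective (by rw [map_ofNat, map_zero, h]))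
  have hω3 : ω ^ 3 = 1 := by linear_combination (ω - 1) * hω
  have hωq : ω ^ q = ω * ω := by
    obtain ⟨k, hk⟩ : ∃ k, q = 3 * k + 2 := ⟨q / 3, by rw [hF] at hq; omega⟩
    rw [hk, pow_add, pow_mul, hω3, one_pow, one_mul, pow_two]
  have hωne : ω * ω - ω ≠ 0 := fun h => h3K (by
    have h1 : 2 * ω + 1 = 0 := by linear_combination hω - h
    linear_combination 4 * hω - (2 * ω + 1) * h1)
  have hind : ∀ a b : F, i a + ω * i b = 0 → a = 0 ∧ b = 0 := by
    intro a b h
    have h' : i a + ω * ω * i b = 0 := by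
      have h0 := congrArg (fun z => HermStd.qHom hK z) h
      simp only [map_add, map_mul, map_zero, HermStd.qHom_apply, hfix, hωq] at h0
      exact h0
    have hb : b = 0 := (map_eq_zero i).1 ((mul_eq_zero.1
      (show (ω * ω - ω) * i b = 0 by linear_combination h' - h)).resolve_left hωne)
    refine ⟨?_, hb⟩
    rw [hb, map_zero, mul_zero, add_zero] at h
    exact (map_eq_zero i).1 h
  let dec : F × F → K := fun p => i p.1 + ω * i p.2
  have hdinj : Function.Injective dec := fun p p' h => by
    have h0 := hind (p.1 - p'.1) (p.2 - p'.2) (by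
      rw [map_sub, map_sub]; linear_combination h)
    exact Prod.ext (sub_eq_zero.1 h0.1) (sub_eq_zero.1 h0.2)
  have hdec : Function.Bijective dec := (Fintype.bijective_iff_injective_and_card dec).2
    ⟨hdinj, by rw [Fintype.card_prod, hK, hF, sq]⟩
  have htoKs : Function.Surjective (toK (m := m) i ω) := fun v => by
    choose p hp using fun j => hdec.2 (v j)
    exact ⟨Sum.elim (fun j => (p j).1) (fun j => (p j).2), funext hp⟩
  set H := Cfsg.hermForm m K q
  have hdiff : ∀ u v : Vec, H (toK i ω u) (toK i ω v) - H (toK i ω v) (toK i ω u) =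
      (ω - ω * ω) * i (Cfsg.sympForm m F u v) := by
    intro u v
    have e : ∀ a b : F, (i a + ω * i b) ^ q = i a + ω * ω * i b := fun a b => by
      rw [HermStd.add_pow_q hK, mul_pow, hfix, hfix, hωq]
    simp only [H, Cfsg.hermForm, toK, e, SympStd.sympForm_eq, map_sum, Finset.mul_sum,
      ← Finset.sum_sub_distrib, map_sub, map_mul]
    exact Finset.sum_congr rfl fun j _ => by ring
  have hωmul : ∀ v : Vec, ω • toK i ω v = toK i ω (model F m *ᵥ v) := fun v => by
    funext j
    simp only [Pi.smul_apply, smul_eq_mul, toK, model, Matrix.fromBlocks_mulVec, Sum.elim_inl,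
      Sum.elim_inr, Matrix.zero_mulVec, Matrix.one_mulVec, Matrix.neg_mulVec, Pi.add_apply,
      Pi.zero_apply, Pi.neg_apply, zero_add, Function.comp_apply, map_add, map_neg]
    linear_combination i (v (.inr j)) * hω
  -- the bijection
  have hmat : ∀ g : M2, g * model F m = model F m * g →
      ∀ v, ((g.toBlocks₁₁.map i + ω • g.toBlocks₂₁.map i) *ᵥ toK i ω v) = toK i ω (g *ᵥ v) := by
    intro g hg v
    obtain ⟨A, B, C, D, rfl⟩ : ∃ A B C D, g = Matrix.fromBlocks A B C D :=
      ⟨_, _, _, _, (Matrix.fromBlocks_toBlocks g).symm⟩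
    simp only [Matrix.toBlocks_fromBlocks₁₁, Matrix.toBlocks_fromBlocks₂₁]
    rw [model, Matrix.fromBlocks_multiply, Matrix.fromBlocks_multiply, Matrix.fromBlocks_inj] at hg
    simp only [mul_zero, zero_mul, zero_add, mul_one, one_mul, mul_neg, neg_mul] at hg
    obtain ⟨hB, -, hD, -⟩ := hg
    have hB' : B = -C := by simpa using hB
    have hD' : D = A - C := by rw [hD]; abel
    subst hB'
    subst hD'
    funext j
    rw [Matrix.fromBlocks_mulVec]
    simp only [toK, Sum.elim_inl, Sum.elim_inr, Pi.add_apply,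
      Matrix.mulVec, dotProduct, Matrix.add_apply, Matrix.smul_apply, Matrix.map_apply, smul_eq_mul,
      Function.comp_apply, map_add, map_sum, map_mul, Matrix.neg_apply, Matrix.sub_apply, map_neg,
      map_sub, Finset.mul_sum, ← Finset.sum_add_distrib]
    refine Finset.sum_congr rfl fun k _ => ?_
    linear_combination (i (C j k) * i (v (.inr k))) * hω
  have hpres : ∀ g : M2, g ∈ Matrix.symplecticGroup (Fin m) F ∧ g * model F m = model F m * g →
      ∀ u v, H ((g.toBlocks₁₁.map i + ω • g.toBlocks₂₁.map i) *ᵥ u)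
        ((g.toBlocks₁₁.map i + ω • g.toBlocks₂₁.map i) *ᵥ v) = H u v := by
    intro g hg u v
    set M := g.toBlocks₁₁.map i + ω • g.toBlocks₂₁.map i with hM
    have hd : ∀ u v : Fin m → K, H (M *ᵥ u) (M *ᵥ v) - H (M *ᵥ v) (M *ᵥ u) = H u v - H v u := by
      intro u v
      obtain ⟨a, rfl⟩ := htoKs u
      obtain ⟨b, rfl⟩ := htoKs v
      rw [hM, hmat g hg.2, hmat g hg.2, hdiff, hdiff, SympStd.mem_sp_iff.1 hg.1]
    have h1 := hd u v
    have h2 := hd (ω • u) v
    simp only [H] at h1 h2 ⊢
    rw [Matrix.mulVec_smul, UnitaryCount.hermForm_smul_left, UnitaryCount.hermForm_smul_left,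
      UnitaryCount.hermForm_smul_right, UnitaryCount.hermForm_smul_right, hωq] at h2
    refine sub_eq_zero.1 ((mul_eq_zero.1 (show (ω * ω - ω) * (H (M *ᵥ u) (M *ᵥ v) - H u v) = 0 from
      ?_)).resolve_left hωne)
    simp only [H] at h1 h2 ⊢
    linear_combination (ω * ω) * h1 - h2
  refine Nat.card_eq_of_bijective (fun g => Unitary.guMk hK _ (hpres g.1 g.2)) ⟨?_, ?_⟩
  · intro g g' h
    have hM : g.1.toBlocks₁₁.map i + ω • g.1.toBlocks₂₁.map i =
        g'.1.toBlocks₁₁.map i + ω • g'.1.toBlocks₂₁.map i :=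
      congrArg (fun z : ↥(Cfsg.GU m K q) => Unitary.gmat z) h
    have hinj : Function.Injective (toK (m := m) i ω) := fun a b hab => funext fun s => by
      rcases s with j | j
      · exact (Prod.ext_iff.1 (hdinj (a₁ := (a (.inl j), a (.inr j))) (a₂ := (b (.inl j), b (.inr j)))
          (congrFun hab j))).1
      · exact (Prod.ext_iff.1 (hdinj (a₁ := (a (.inl j), a (.inr j))) (a₂ := (b (.inl j), b (.inr j)))
          (congrFun hab j))).2
    refine Subtype.ext (Matrix.ext_iff_mulVec.2 fun v => hinj ?_)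
    rw [← hmat g.1 g.2.2, ← hmat g'.1 g'.2.2, hM]
  · intro z
    choose p hp using fun jk : Fin m × Fin m => hdec.2 (Unitary.gmat z jk.1 jk.2)
    let A : Matrix (Fin m) (Fin m) F := Matrix.of fun j k => (p (j, k)).1
    let C : Matrix (Fin m) (Fin m) F := Matrix.of fun j k => (p (j, k)).2
    set g : M2 := Matrix.fromBlocks A (-C) C (A - C) with hg
    have hc : g * model F m = model F m * g := by
      rw [hg, model, Matrix.fromBlocks_multiply, Matrix.fromBlocks_multiply]
      simp only [mul_zero, zero_mul, zero_add, mul_one, one_mul, mul_neg, neg_mul]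
      congr 1 <;> abel
    have hM : g.toBlocks₁₁.map i + ω • g.toBlocks₂₁.map i = Unitary.gmat z := by
      rw [hg, Matrix.toBlocks_fromBlocks₁₁, Matrix.toBlocks_fromBlocks₂₁]
      exact Matrix.ext fun j k => hp (j, k)
    have hmem : g ∈ Matrix.symplecticGroup (Fin m) F := SympStd.mem_sp_iff.2 fun u v => by
      apply i.injective
      refine mul_left_cancel₀ (show ω - ω * ω ≠ 0 from fun h => hωne (by linear_combination -h)) ?_
      rw [← hdiff, ← hdiff, ← hmat g hc, ← hmat g hc, hM]
      show H (Unitary.gmat z *ᵥ _) _ - H (Unitary.gmat z *ᵥ _) _ = _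
      simp only [H]
      rw [Unitary.GU_H, Unitary.GU_H]
    refine ⟨⟨g, hmem, hc⟩, Unitary.GU_ext fun v => ?_⟩
    show (g.toBlocks₁₁.map i + ω • g.toBlocks₂₁.map i) *ᵥ v = _
    rw [hM]

theorem natCard_centralizer (hq : Fintype.card F % 3 = 2) (hm : 1 ≤ m)
    (x : Matrix.symplecticGroup (Fin m) F) (hx3 : x ^ 3 = 1) (hxf : IsUnit ((x : M2) - 1)) :
    Nat.card ↥(Subgroup.centralizer ({x} : Set ↥(Matrix.symplecticGroup (Fin m) F))) =
      Fintype.card F ^ (m * (m - 1) / 2) * ∏ i ∈ Finset.range m,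
        (if Even i then Fintype.card F ^ (i + 1) + 1 else Fintype.card F ^ (i + 1) - 1) := by
  classical
  obtain ⟨p, hp⟩ := CharP.exists F
  obtain ⟨k, hpp, hk⟩ := FiniteField.card F p
  have : Fact p.Prime := ⟨hpp⟩
  have : Fintype (GaloisField p (2 * (k : ℕ))) := Fintype.ofFinite _
  have hK : Fintype.card (GaloisField p (2 * (k : ℕ))) = Fintype.card F ^ 2 := by
    rw [← Nat.card_eq_fintype_card, GaloisField.card p _ (by have := k.pos; omega), hk, ← pow_mul,
      mul_comm]
  obtain ⟨i, hfix, -⟩ := RestrictScalars.exists_ringHom hK rfl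
  obtain ⟨ω, hω⟩ : ∃ ω : GaloisField p (2 * (k : ℕ)), ω * ω + ω + 1 = 0 := by
    have : Fact (Nat.Prime 3) := ⟨Nat.prime_three⟩
    obtain ⟨u, hu⟩ := exists_prime_orderOf_dvd_card' (G := (GaloisField p (2 * (k : ℕ)))ˣ) 3 (by
      rw [Nat.card_units, Nat.card_eq_fintype_card, hK]
      obtain ⟨j, hj⟩ : ∃ j, Fintype.card F = 3 * j + 2 := ⟨Fintype.card F / 3, by omega⟩
      exact ⟨3 * j * j + 4 * j + 1, by rw [hj]; ring_nf; omega⟩)
    refine ⟨(u : GaloisField p (2 * (k : ℕ))), ?_⟩
    have h3 : (u : GaloisField p (2 * (k : ℕ))) ^ 3 = 1 := by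
      rw [← Units.val_pow_eq_pow_val, ← hu, pow_orderOf_eq_one, Units.val_one]
    have h1 : (u : GaloisField p (2 * (k : ℕ))) - 1 ≠ 0 := fun h => by
      rw [show u = 1 from Units.ext (sub_eq_zero.1 h), orderOf_one] at hu; omega
    refine (mul_eq_zero.1 (show ((u : GaloisField p (2 * (k : ℕ))) - 1) * _ = 0 from ?_)).resolve_left h1
    linear_combination h3
  rw [← Unitary.natCard_GU hK (n := m), ← natCard_cent_model hq hK rfl i hfix ω hω]
  let x₀ : Matrix.symplecticGroup (Fin m) F := ⟨model F m, model_mem⟩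
  have hx3' : (x : M2) ^ 3 = 1 := by rw [← SubmonoidClass.coe_pow, hx3]; rfl
  obtain ⟨c, hc⟩ := isConj_iff.1 (exists_conj hq x x₀ hx3' hxf model_rel)
  refine (Nat.card_congr ((MulAut.conj c).toEquiv.subtypeEquiv
    (q := fun g : Matrix.symplecticGroup (Fin m) F => (g : M2) * model F m = model F m * g)
    fun g => ?_)).trans (Nat.card_congr (Equiv.subtypeSubtypeEquivSubtypeInter (fun g : M2 => g ∈ Matrix.symplecticGroup (Fin m) F) (fun g : M2 => g * model F m = model F m * g)))
  rw [Subgroup.mem_centralizer_singleton_iff]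
  show _ ↔ ((c * g * c⁻¹ : Matrix.symplecticGroup (Fin m) F) : M2) * model F m =
    model F m * ((c * g * c⁻¹ : Matrix.symplecticGroup (Fin m) F) : M2)
  rw [show model F m = (x₀ : M2) from rfl, ← hc, ← Submonoid.coe_mul, ← Submonoid.coe_mul,
    ← Subtype.ext_iff]
  constructor
  · intro h
    calc c * g * c⁻¹ * (c * x * c⁻¹) = c * (g * x) * c⁻¹ := by group
      _ = c * x * c⁻¹ * (c * g * c⁻¹) := by rw [h]; group
  · intro h
    calc g * x = c⁻¹ * (c * g * c⁻¹ * (c * x * c⁻¹)) * c := by group
      _ = x * g := by rw [h]; group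

end Cfsg.Agent.Classical.SympOrderThree
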