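import Mathlib
import Cfsg.Agent.Lib.Classical.Symplectic

/-!
# Spreading symplectic transvections inside a subgroup
-/

set_option autoImplicit false
set_option linter.unusedSectionVars false

namespace Cfsg.Agent.Classical.SympThreeGen

open Matrix
open Cfsg.Agent.Forms.SympStd
open Cfsg.Agent.Classical.Symplectic

variable {F : Type*} [Field F] {m : ℕ}

local notation "Vec" => (Fin m ⊕ Fin m → F)
local notation "Mat" => Matrix (Fin m ⊕ Fin m) (Fin m ⊕ Fin m) F
local notation "Sp" => symplecticGroup (Fin m) F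
local notation "f" => Cfsg.sympForm m F

theorem f_neg_left (x y : Vec) : f (-x) y = - f x y := by
  rw [← sympB_apply, ← sympB_apply, map_neg, LinearMap.neg_apply]

theorem f_neg_right (x y : Vec) : f x (-y) = - f x y := by
  rw [← sympB_apply, ← sympB_apply, map_neg]

theorem f_sub_left (x y z : Vec) : f (x - y) z = f x z - f y z := by
  rw [sub_eq_add_neg, f_add_left, f_neg_left, sub_eq_add_neg]

theorem f_sub_right (x y z : Vec) : f x (y - z) = f x y - f x z := by
  rw [sub_eq_add_neg, f_add_right, f_neg_right, sub_eq_add_neg]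

theorem f_zero_left (y : Vec) : f 0 y = 0 := by rw [← sympB_apply, map_zero, LinearMap.zero_apply]

theorem f_zero_right (y : Vec) : f y 0 = 0 := by rw [← sympB_apply, map_zero]

theorem tv_inv (v : Vec) (c : F) : (tv v c)⁻¹ = tv v (-c) :=
  inv_eq_of_mul_eq_one_right (by rw [tv_mul, add_neg_cancel, tv_zero])

theorem tv_zero_vec (c : F) : tv (0 : Vec) c = 1 := by
  refine sp_ext fun x => ?_
  rw [tv_mulVec]; simp

theorem conj_mem {H : Subgroup Sp} {A : Sp} (hA : A ∈ H) {v : Vec} {c : F} (h : tv v c ∈ H) :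
    tv ((A : Mat) *ᵥ v) c ∈ H := by
  rw [← tv_conj]; exact mul_mem (mul_mem hA h) (inv_mem hA)

/-! ### Vectors with a full root group -/

/-- all transvections at `v` lie in `H` -/
def Root (H : Subgroup Sp) (v : Vec) : Prop := ∀ c : F, tv v c ∈ H

variable {H : Subgroup (Matrix.symplecticGroup (Fin m) F)}

theorem Root.map {v : Vec} (h : Root H v) {A : Sp} (hA : A ∈ H) : Root H ((A : Mat) *ᵥ v) :=
  fun c => conj_mem hA (h c)

theorem Root.smul {v : Vec} (h : Root H v) (a : F) : Root H (a • v) :=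
  fun c => by rw [tv_smul]; exact h _

theorem root_zero : Root H (0 : Vec) := fun c => by rw [tv_zero_vec]; exact H.one_mem

theorem Root.plane {x y : Vec} (hx : Root H x) (hy : Root H y) (hxy : f x y ≠ 0) (α β : F) :
    Root H (α • x + β • y) := by
  have key : ∀ γ : F, Root H (x + γ • y) := fun γ => by
    have h := hx.map (hy (γ / f x y))
    rwa [tv_mulVec, div_mul_cancel₀ _ hxy] at h
  by_cases hα : α = 0
  · rw [hα, zero_smul, zero_add]; exact hy.smul β
  · have h := (key (β / α)).smul α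
    rwa [smul_add, smul_smul, mul_div_cancel₀ _ hα] at h

theorem Root.add {x y : Vec} (hx : Root H x) (hy : Root H y) (hxy : f x y ≠ 0) : Root H (x + y) := by
  have h := hx.plane hy hxy 1 1
  rwa [one_smul, one_smul] at h

/-- extending a full subspace by one vector -/
theorem extend {M : Submodule F Vec} (hM : ∀ v ∈ M, Root H v)
    (hnd : ∀ v ∈ M, v ≠ 0 → ∃ w ∈ M, f v w ≠ 0)
    {a z : Vec} (ha : a ∈ M) (ha0 : a ≠ 0) (hz : ∀ v ∈ M, f z v = 0) (hx : Root H (a + z))
    {v : Vec} (hv : v ∈ M) (hv0 : v ≠ 0) (c : F) : Root H (v + c • z) := by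
  obtain ⟨w1, hw1, hw1'⟩ := hnd a ha ha0
  obtain ⟨w2, hw2, hw2'⟩ := hnd v hv hv0
  obtain ⟨w, hw, hwa, hwv⟩ : ∃ w ∈ M, f a w ≠ 0 ∧ f v w ≠ 0 := by
    by_cases h1 : f v w1 = 0
    · by_cases h2 : f a w2 = 0
      · exact ⟨w1 + w2, M.add_mem hw1 hw2, by rwa [f_add_right, h2, add_zero],
          by rwa [f_add_right, h1, zero_add]⟩
      · exact ⟨w2, hw2, h2, hw2'⟩
    · exact ⟨w1, hw1, hw1', h1⟩
  have hwz : ∀ u ∈ M, f u z = 0 := fun u hu => by rw [sympForm_swap, hz u hu, neg_zero]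
  have hxw : f (a + z) w ≠ 0 := by rwa [f_add_left, hz w hw, add_zero]
  obtain ⟨d, hd⟩ : ∃ d : F, f (c • (a + z) + d • w) (v + c • z) ≠ 0 := by
    by_cases h : f (c • (a + z)) (v + c • z) = 0
    · refine ⟨1, ?_⟩
      rw [one_smul, f_add_left, h, zero_add, f_add_right, f_smul_right, hwz w hw, mul_zero, add_zero,
        sympForm_swap]
      exact neg_ne_zero.2 hwv
    · exact ⟨0, by rwa [zero_smul, add_zero]⟩
  have hy : Root H (c • (a + z) + d • w) := hx.plane (hM w hw) hxw c d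
  have hr : v + c • z - (c • (a + z) + d • w) ∈ M := by
    have e : v + c • z - (c • (a + z) + d • w) = v - c • a - d • w := by module
    rw [e]
    exact M.sub_mem (M.sub_mem hv (M.smul_mem c ha)) (M.smul_mem d hw)
  have h := hy.add (hM _ hr) (by rwa [f_sub_right, sympForm_self, sub_zero])
  rwa [add_sub_cancel] at h

/-- vectors of a plane orthogonal to a full subspace -/
theorem pure {M : Submodule F Vec} {z z' a : Vec} (ha : a ∈ M) (ha0 : a ≠ 0)
    (hz : ∀ v ∈ M, f z v = 0) (hz' : ∀ v ∈ M, f z' v = 0) (hzz : f z z' ≠ 0)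
    (hall : ∀ v ∈ M, v ≠ 0 → ∀ α β : F, Root H (v + (α • z + β • z'))) (α β : F) :
    Root H (α • z + β • z') := by
  by_cases h0 : α = 0 ∧ β = 0
  · obtain ⟨rfl, rfl⟩ := h0
    rw [zero_smul, zero_smul, add_zero]; exact root_zero
  obtain ⟨γ, δ, hγ⟩ : ∃ γ δ : F, α * δ - β * γ ≠ 0 := by
    by_cases hα : α = 0
    · exact ⟨1, 0, by simp only [hα, true_and] at h0; simpa [hα] using h0⟩
    · exact ⟨0, 1, by simpa using hα⟩
  have h1 := hall a ha ha0 (α - γ) (β - δ)
  have h2 := hall (-a) (M.neg_mem ha) (neg_ne_zero.2 ha0) γ δ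
  have e1 : f a z = 0 := by rw [sympForm_swap, hz a ha, neg_zero]
  have e2 : f a z' = 0 := by rw [sympForm_swap, hz' a ha, neg_zero]
  have h := h1.add h2 (by
    simp only [f_add_left, f_add_right, f_neg_right, f_smul_left, f_smul_right, sympForm_self, e1,
      e2, hz a ha, hz' a ha]
    rw [sympForm_swap z z']
    have : (α - γ) * δ * f z z' + (β - δ) * γ * -f z z' ≠ 0 := by
      rw [show (α - γ) * δ * f z z' + (β - δ) * γ * -f z z' = (α * δ - β * γ) * f z z' by ring]
      exact mul_ne_zero hγ hzz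
    intro hh; exact this (by linear_combination hh))
  rwa [show a + ((α - γ) • z + (β - δ) • z') + (-a + (γ • z + δ • z')) = α • z + β • z' by module] at h

/-- growing a full subspace of dimension at least four by a hyperbolic plane -/
theorem grow {M : Submodule F Vec} (hM : ∀ v ∈ M, Root H v)
    (hnd : ∀ v ∈ M, v ≠ 0 → ∃ w ∈ M, f v w ≠ 0)
    (hfour : ∀ v ∈ M, ∃ w ∈ M, w ≠ 0 ∧ w ≠ v ∧ f v w = 0)
    {a a' z z' : Vec} (ha : a ∈ M) (ha0 : a ≠ 0) (ha' : a' ∈ M) (ha0' : a' ≠ 0)
    (hz : ∀ v ∈ M, f z v = 0) (hz' : ∀ v ∈ M, f z' v = 0) (hzz : f z z' ≠ 0)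
    (hx : Root H (a + z)) (hx' : Root H (a' + z'))
    {v : Vec} (hv : v ∈ M) (α β : F) : Root H (v + (α • z + β • z')) := by
  have hall : ∀ u ∈ M, u ≠ 0 → ∀ α β : F, Root H (u + (α • z + β • z')) := by
    intro u hu hu0 α β
    by_cases hα : α = 0
    · rw [hα, zero_smul, zero_add]; exact extend hM hnd ha' ha0' hz' hx' hu hu0 β
    by_cases hβ : β = 0
    · rw [hβ, zero_smul, add_zero]; exact extend hM hnd ha ha0 hz hx hu hu0 α
    obtain ⟨w, hw, hw0, hwu, huw⟩ := hfour u hu
    have hd : u - w ∈ M := M.sub_mem hu hw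
    have h1 := extend hM hnd ha ha0 hz hx hd (sub_ne_zero.2 (Ne.symm hwu)) α
    have h2 := extend hM hnd ha' ha0' hz' hx' hw hw0 β
    have h := h1.add h2 (by
      rw [f_add_left, f_add_right, f_add_right, f_smul_left, f_smul_right, f_smul_left, f_smul_right,
        hz w hw, sympForm_swap z' (u - w), hz' _ hd, neg_zero, f_sub_left, huw, sympForm_self, sub_zero, mul_zero, mul_zero,
        zero_add, zero_add, zero_add]
      exact mul_ne_zero hα (mul_ne_zero hβ hzz))
    rwa [show u - w + α • z + (w + β • z') = u + (α • z + β • z') by module] at h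
  by_cases hv0 : v = 0
  · rw [hv0, zero_add]; exact pure ha ha0 hz hz' hzz hall α β
  · exact hall v hv hv0 α β

/-! ### Elements of the radical of a stabiliser -/

/-- the element `x ↦ x + f(x,z) r + (f(x,r) + θ f(x,z)) z` lies in `H` -/
def Eich (H : Subgroup Sp) (z r : Vec) (θ : F) : Prop :=
  ∃ g ∈ H, ∀ x : Vec, (g : Mat) *ᵥ x = x + f x z • r + (f x r + θ * f x z) • z

theorem Eich.mk {z p : Vec} (hpz : f p z = 0) {a k : F} (h1 : tv p a ∈ H)
    (h2 : tv (p + k • z) a ∈ H) : Eich H z ((a * k) • p) (a * k ^ 2) := by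
  refine ⟨tv (p + k • z) a * tv p (-a), mul_mem h2 (by rw [← tv_inv]; exact inv_mem h1), fun x => ?_⟩
  rw [mul_mulVec_sp, tv_mulVec, tv_mulVec]
  simp only [f_add_left, f_add_right, f_smul_left, f_smul_right, sympForm_self, hpz]
  module

theorem Eich.mul {z r r' : Vec} {θ θ' : F} (hr0 : f r z = 0) (hr : f r' z = 0) (h : Eich H z r θ) (h' : Eich H z r' θ') :
    Eich H z (r + r') (θ + θ' + f r' r) := by
  obtain ⟨g, hg, hge⟩ := h
  obtain ⟨g', hg', hge'⟩ := h'
  refine ⟨g * g', mul_mem hg hg', fun x => ?_⟩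
  rw [mul_mulVec_sp, hge', hge]
  have hr1 : f z r = 0 := by rw [sympForm_swap, hr0, neg_zero]
  simp only [f_add_left, f_add_right, f_smul_left, sympForm_self, hr, hr1]
  module

theorem Eich.neg {z r : Vec} {θ : F} (hr : f r z = 0) (h : Eich H z r θ) : Eich H z (-r) (-θ) := by
  obtain ⟨g, hg, hge⟩ := h
  refine ⟨g⁻¹, inv_mem hg, fun x => inv_mulVec_of_eq ?_⟩
  rw [hge]
  have hr' : f z r = 0 := by rw [sympForm_swap, hr, neg_zero]
  simp only [f_add_left, f_smul_left, f_neg_left, f_neg_right, sympForm_self, hr, hr']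
  module

theorem Eich.conj {z r : Vec} {θ : F} (h : Eich H z r θ) {A : Sp} (hA : A ∈ H)
    (hz : (A : Mat) *ᵥ z = z) : Eich H z ((A : Mat) *ᵥ r) θ := by
  obtain ⟨g, hg, hge⟩ := h
  refine ⟨A * g * A⁻¹, mul_mem (mul_mem hA hg) (inv_mem hA), fun x => ?_⟩
  set y := ((A⁻¹ : Sp) : Mat) *ᵥ x with hy
  have hAy : (A : Mat) *ᵥ y = x := by rw [hy, ← mul_mulVec_sp, mul_inv_cancel]; exact one_mulVec x
  rw [mul_mulVec_sp, mul_mulVec_sp, hge]
  simp only [Matrix.mulVec_add, Matrix.mulVec_smul]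
  rw [← sympForm_mulVec A y z, ← sympForm_mulVec A y r, hz, hAy]

theorem Eich.diff {z r : Vec} {θ θ' : F} (hr : f r z = 0) (h : Eich H z r θ) (h' : Eich H z r θ') :
    tv z (θ - θ') ∈ H := by
  obtain ⟨g, hg, hge⟩ := h.mul hr (by rw [f_neg_left, hr, neg_zero]) (h'.neg hr)
  have : g = tv z (θ - θ') := sp_ext fun x => by
    rw [hge, tv_mulVec, f_neg_left, sympForm_self, add_neg_cancel, neg_zero, add_zero, smul_zero,
      add_zero, f_zero_right, zero_add, sub_eq_add_neg]
  exact this ▸ hg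

theorem Eich.comm {z r r' : Vec} {θ θ' : F} (hr : f r z = 0) (hr' : f r' z = 0) (h : Eich H z r θ)
    (h' : Eich H z r' θ') : tv z (2 * f r' r) ∈ H := by
  have h1 := h.mul hr hr' h'
  have h2 := h'.mul hr' hr h
  rw [add_comm r' r] at h2
  have := h1.diff (by rw [f_add_left, hr, hr', add_zero]) h2
  rwa [sympForm_swap r' r, show θ + θ' + f r' r - (θ' + θ + -f r' r) = 2 * f r' r by ring] at this

theorem Eich.move {z r : Vec} {θ : F} (h : Eich H z r θ) {x : Vec} {c : F} (hx : tv x c ∈ H) :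
    tv (x + f x z • r + (f x r + θ * f x z) • z) c ∈ H := by
  obtain ⟨g, hg, hge⟩ := h
  rw [← hge]; exact conj_mem hg hx

theorem Eich.root {z r : Vec} {θ : F} (h : Eich H z r θ) {x : Vec} (hx : Root H x) :
    Root H (x + f x z • r + (f x r + θ * f x z) • z) :=
  fun c => h.move (hx c)

/-- passing from the line of `y` to the line of `p` -/
theorem Eich.swap {z p y : Vec} {a l ν θ : F} (hpz : f p z = 0) (hyz : f y z = 0) (hl : f y p = l)
    (hp : tv p a ∈ H) (h : Eich H z (ν • y) θ) :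
    Eich H z ((a * l * ν) • p) (-(a * l ^ 2 * ν ^ 2)) := by
  have h1 := h.conj hp (by rw [tv_mulVec, sympForm_swap p z, hpz]; simp)
  have hpy : f p y = -l := by rw [sympForm_swap, hl]
  rw [tv_mulVec, f_smul_left, hl] at h1
  have h2 := h1.mul (r' := -(ν • y)) (by rw [f_add_left, f_smul_left, f_smul_left, hpz, hyz]; ring) (by rw [f_neg_left, f_smul_left, hyz, mul_zero, neg_zero])
    (h.neg (by rw [f_smul_left, hyz, mul_zero]))
  rw [f_add_right, f_neg_left, sympForm_self, f_smul_right, f_neg_left, f_smul_left, hl] at h2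
  rw [show ν • y + (a * (ν * l)) • p + -(ν • y) = (a * l * ν) • p by module,
    show θ + -θ + (-0 + a * (ν * l) * -(ν * l)) = -(a * l ^ 2 * ν ^ 2) by ring] at h2
  exact h2

end Cfsg.Agent.Classical.SympThreeGen
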