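import Mathlib
import Cfsg.Agent.Lib.Classical.SympThreeGenCore

/-!
# Two hyperbolic planes full of root groups from a few elements
-/

set_option autoImplicit false
set_option linter.unusedSectionVars false

namespace Cfsg.Agent.Classical.SympThreeGen

open Matrix
open Cfsg.Agent.Forms.SympStd
open Cfsg.Agent.Classical.Symplectic

variable {F : Type*} [Field F] {m : ℕ}

local notation "Vec" => (Fin m ⊕ Fin m → F)
local notation "Mat" => Matrix (Fin m ⊕ Fin m) (Fin m ⊕ Fin m) F
local notation "Sp" => symplecticGroup (Fin m) F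
local notation "f" => Cfsg.sympForm m F

variable {H : Subgroup (Matrix.symplecticGroup (Fin m) F)}

theorem Eich.zero (z : Vec) : Eich H z 0 0 :=
  ⟨1, H.one_mem, fun x => by rw [f_zero_right]; simp⟩

theorem spread [Fintype F] {z p y : Vec} {a l k0 θ0 : F} (hpz : f p z = 0) (hyz : f y z = 0)
    (hl : f y p = l) (hgen : ∀ x : F, x ≠ 0 → ∃ k : ℕ, (a * l) ^ k = x)
    (hp : tv p a ∈ H) (hy : tv y a ∈ H) (hk : k0 ≠ 0) (h0 : Eich H z (k0 • y) θ0) (ν : F) :
    ∃ θ, Eich H z (ν • y) θ := by
  set S : Set F := {s | ∃ θ, Eich H z ((k0 * s) • y) θ} with hS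
  have hr : ∀ s : F, f (s • y) z = 0 := fun s => by rw [f_smul_left, hyz, mul_zero]
  have hneg : ∀ s ∈ S, -s ∈ S := fun s ⟨θ, h⟩ => ⟨-θ, by
    rw [mul_neg, neg_smul]; exact h.neg (hr _)⟩
  have hadd : ∀ s ∈ S, ∀ t ∈ S, s + t ∈ S := by
    rintro s ⟨θ, h⟩ t ⟨θ', h'⟩
    have h3 := h.mul (hr _) (hr _) h'
    rw [← add_smul, ← mul_add] at h3
    exact ⟨_, h3⟩
  have hstep : ∀ s ∈ S, (a * l) * (a * l) * s ∈ S := by
    rintro s ⟨θ, h⟩
    have h1 := h.swap hpz hyz hl hp
    have h2 := h1.swap hyz hpz (l := -l) (by rw [sympForm_swap, hl]) hy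
    have h3 : -(a * l * (a * l) * s) ∈ S := by
      rw [show a * -l * (a * l * (k0 * s)) = k0 * -(a * l * (a * l) * s) by ring] at h2
      exact ⟨_, h2⟩
    simpa only [neg_neg] using hneg _ h3
  have hpow : ∀ k : ℕ, ((a * l) ^ k) * ((a * l) ^ k) ∈ S := by
    intro k
    induction k with
    | zero => exact ⟨θ0, by rwa [pow_zero, mul_one, mul_one]⟩
    | succ k ih =>
      rw [show (a * l) ^ (k + 1) * (a * l) ^ (k + 1) = a * l * (a * l) * ((a * l) ^ k * (a * l) ^ k) by ring]
      exact hstep _ ih
  have hsq : ∀ x : F, x * x ∈ S := fun x => by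
    by_cases hx : x = 0
    · exact ⟨0, by rw [hx, mul_zero, mul_zero, zero_smul]; exact Eich.zero z⟩
    · obtain ⟨k, rfl⟩ := hgen x hx; exact hpow k
  have hall : ∀ x : F, x ∈ S := fun x => by
    by_cases h2 : (2 : F) = 0
    · haveI : CharP F 2 := CharTwo.of_one_ne_zero_of_two_eq_zero one_ne_zero h2
      have hc : ringChar F = 2 := ringChar.eq F 2
      obtain ⟨y, rfl⟩ := FiniteField.isSquare_of_char_two hc x
      exact hsq y
    · have e : x = (x + 1) / 2 * ((x + 1) / 2) + -((x - 1) / 2 * ((x - 1) / 2)) := by field_simp; ring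
      rw [e]; exact hadd _ (hsq _) _ (hneg _ (hsq _))
  obtain ⟨θ, h⟩ := hall (ν / k0)
  exact ⟨θ, by rwa [mul_div_cancel₀ _ hk] at h⟩

theorem line {z p y : Vec} {a l : F} (hpz : f p z = 0) (hyz : f y z = 0)
    (hl : f y p = l) (ha : a ≠ 0) (hl0 : l ≠ 0) (hp : tv p a ∈ H)
    (hY : ∀ ν : F, ∃ θ, Eich H z (ν • y) θ) (t : F) : Eich H z (t • p) (-(t ^ 2 / a)) := by
  obtain ⟨θ, h⟩ := hY (t / (a * l))
  have h1 := h.swap hpz hyz hl hp
  have hne : a * l ≠ 0 := mul_ne_zero ha hl0
  rwa [mul_div_cancel₀ _ hne,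
    show a * l ^ 2 * (t / (a * l)) ^ 2 = t ^ 2 / a by field_simp] at h1

theorem base [Fintype F] {p q e z : Vec} (hqp : f q p = 1) (hze : f z e = 1)
    (hpz : f p z = 0) (hpe : f p e = 0) (hqz : f q z = 0) (hqe : f q e = 0)
    {U W : Matrix.symplecticGroup (Fin m) F} (hU : U ∈ H) (hW : W ∈ H)
    (hUp : (U : Mat) *ᵥ p = p) (hUq : (U : Mat) *ᵥ q = q + z) (hUe : (U : Mat) *ᵥ e = e - p)
    {a l μ : F} (hWp : (W : Mat) *ᵥ p = p + l • q)
    (hWq : ((W⁻¹ : Matrix.symplecticGroup (Fin m) F) : Mat) *ᵥ q = q + μ • e)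
    (ha : a ≠ 0) (hl : l ≠ 0) (hμ : μ ≠ 0) (hT : tv p a ∈ H)
    (hgen : ∀ x : F, x ≠ 0 → ∃ k : ℕ, (a * l) ^ k = x)
    (hc2 : (2 : F) = 0 → l * μ = 1 → ∀ x : F, x = 0 ∨ x = 1) (α β γ δ : F) :
    Root H (α • p + β • q + (γ • e + δ • z)) := by
  set y := p + l • q with hy
  set c := l * μ with hc
  have hc0 : c ≠ 0 := mul_ne_zero hl hμ
  have hpq : f p q = -1 := by rw [sympForm_swap, hqp]
  have hez : f e z = -1 := by rw [sympForm_swap, hze]
  have hzp : f z p = 0 := by rw [sympForm_swap, hpz, neg_zero]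
  have hep : f e p = 0 := by rw [sympForm_swap, hpe, neg_zero]
  have hzq : f z q = 0 := by rw [sympForm_swap, hqz, neg_zero]
  have heq : f e q = 0 := by rw [sympForm_swap, hqe, neg_zero]
  have hyp : f y p = l := by simp [hy, f_add_left, f_smul_left, sympForm_self, hqp]
  have hpy : f p y = -l := by rw [sympForm_swap, hyp]
  have hyz : f y z = 0 := by simp [hy, f_add_left, f_smul_left, hpz, hqz]
  have hye : f y e = 0 := by simp [hy, f_add_left, f_smul_left, hpe, hqe]
  have hTy : tv y a ∈ H := by have h := conj_mem hW hT; rwa [hWp] at h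
  have hTy' : tv (y + l • z) a ∈ H := by
    have h := conj_mem hU hTy
    rwa [hy, Matrix.mulVec_add, Matrix.mulVec_smul, hUp, hUq, smul_add, ← add_assoc] at h
  have hY := spread hpz hyz hyp hgen hT hTy (mul_ne_zero ha hl) (Eich.mk hyz hTy hTy')
  have hP := line hpz hyz hyp ha hl hT hY
  have hR : ∀ s t : F, ∃ θ, Eich H z (s • p + t • q) θ := fun s t => by
    obtain ⟨θ, h⟩ := hY (t / l)
    refine ⟨_, Eq.subst (motive := fun r => Eich H z r _) ?_
      ((hP (s - t / l)).mul (by rw [f_smul_left, hpz, mul_zero]) (by rw [f_smul_left, hyz, mul_zero]) h)⟩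
    rw [hy, smul_add, smul_smul, div_mul_cancel₀ _ hl]; module
  set x1 := p - l • q - c • e with hx1
  have hWe : ((W⁻¹ : Matrix.symplecticGroup (Fin m) F) : Mat) *ᵥ p = x1 := by
    have h := inv_mulVec_of_eq hWp
    rw [Matrix.mulVec_add, Matrix.mulVec_smul, hWq] at h
    rw [eq_sub_of_add_eq h, hx1, hc]
    module
  have hT1 : tv x1 a ∈ H := by rw [← hWe]; exact conj_mem (inv_mem hW) hT
  -- the root group at `z`
  have hz : Root H z := by
    by_cases h2 : (2 : F) = 0
    · have hneg : ∀ s : F, -s = s := fun s => by linear_combination (-s) * h2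
      have hx1' : x1 = y + c • e := by
        rw [hx1, hy, sub_eq_add_neg, sub_eq_add_neg, ← neg_smul, ← neg_smul, hneg, hneg]
      have hYe := spread hpe hye hyp hgen hT hTy (mul_ne_zero ha hc0)
        (Eich.mk hye hTy (hx1' ▸ hT1))
      have hPe := line hpe hye hyp ha hl hT hYe
      have hye' := line hye hpe hpy ha (neg_ne_zero.2 hl) hTy
        (fun ν => ⟨_, hPe ν⟩) (1 / l)
      have hq : Eich H e q (1 / l) := by
        have h := hye'.mul (by rw [f_smul_left, hye, mul_zero]) (by rw [f_smul_left, hpe, mul_zero])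
          (hPe (-(1 / l)))
        rw [f_smul_left, f_smul_right, hpy] at h
        have e1 : (1 / l) • y + -(1 / l) • p = q := by
          rw [hy, smul_add, smul_smul, one_div_mul_cancel hl, one_smul]; module
        rw [e1] at h
        convert h using 1
        field_simp
        linear_combination h2
      set ρ := 1 + c with hρ
      have hUx : tv (ρ • p + l • q + c • e + l • z) a ∈ H := by
        have h := conj_mem hU hT1
        rw [hx1', hy, Matrix.mulVec_add, Matrix.mulVec_add, Matrix.mulVec_smul, Matrix.mulVec_smul,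
          hUp, hUq, hUe] at h
        convert h using 2
        rw [hρ, sub_eq_add_neg, smul_add c, ← neg_one_smul F p, smul_smul, mul_neg_one, hneg]
        module
      have hx' : tv (ρ • p + l • z) a ∈ H := by
        have h := hq.move hUx
        convert h using 2
        simp only [f_add_left, f_smul_left, sympForm_self, hpe, hqe, hze, hpq, heq, hzq,
          mul_zero, zero_add, add_zero, mul_one, one_div_mul_cancel hl, hρ]
        match_scalars <;>
          first
            | ring1
            | linear_combination l * h2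
            | linear_combination (-l) * h2
            | linear_combination (0 : F) * h2
      by_cases hρ0 : ρ = 0
      · intro γ
        rw [hρ0, zero_smul, zero_add, tv_smul] at hx'
        have h01 := hc2 h2 (by linear_combination hρ0 - h2)
        rcases h01 γ with rfl | rfl
        · rw [tv_zero]; exact H.one_mem
        · rwa [(h01 (l * l * a)).resolve_left (mul_ne_zero (mul_ne_zero hl hl) ha)] at hx'
      · obtain ⟨θ, hθ⟩ := hR 0 (l / ρ)
        rw [zero_smul, zero_add] at hθ
        have h := hθ.move hx'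
        simp only [f_add_left, f_smul_left, f_smul_right, sympForm_self, hpz, hzq, hpq, mul_zero,
          add_zero, zero_smul] at h
        rw [show l / ρ * (ρ * -1) = -l by field_simp, neg_smul, add_neg_cancel_right, tv_smul] at h
        have hP' := line hpz hyz hyp (mul_ne_zero (mul_ne_zero hρ0 hρ0) ha) hl h hY
        have hne : -(1 / a) + 1 / (ρ * ρ * a) ≠ 0 := by
          intro h0
          field_simp at h0
          apply hc0
          have : c * c = 0 := by
            rw [hρ] at h0; linear_combination (-1) * h0 - c * h2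
          exact mul_self_eq_zero.1 this
        intro γ
        haveI : CharP F 2 := CharTwo.of_one_ne_zero_of_two_eq_zero one_ne_zero h2
        obtain ⟨s, hs⟩ := FiniteField.isSquare_of_char_two (ringChar.eq F 2)
          (γ / (-(1 / a) + 1 / (ρ * ρ * a)))
        have h3 := (hP s).diff (by rw [f_smul_left, hpz, mul_zero]) (hP' s)
        convert h3 using 2
        rw [← div_mul_cancel₀ γ hne, hs]
        ring
    · intro γ
      obtain ⟨θ, h⟩ := hY (γ / (-(2 * l)))
      obtain ⟨θ', h'⟩ := hR 1 0
      rw [one_smul, zero_smul, add_zero] at h'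
      have h3 := h.comm (by rw [f_smul_left, hyz, mul_zero]) hpz h'
      rw [f_smul_right, hpy] at h3
      convert h3 using 2
      field_simp
  -- the plane of `x1` and `z`
  have hX : ∀ s t : F, Root H (s • z + t • x1) := fun s t => by
    have hfz : f z x1 = -c := by
      simp [hx1, f_sub_right, f_smul_right, hzp, hzq, hze]
    have h2 := hz.map hT1
    rw [tv_mulVec, hfz] at h2
    have hne : a * -c ≠ 0 := mul_ne_zero ha (neg_ne_zero.2 hc0)
    have hne' : f z (z + (a * -c) • x1) ≠ 0 := by
      rw [f_add_right, sympForm_self, zero_add, f_smul_right, hfz]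
      exact mul_ne_zero hne (neg_ne_zero.2 hc0)
    have h := hz.plane h2 hne' (s - t / (a * -c)) (t / (a * -c))
    rwa [show (s - t / (a * -c)) • z + (t / (a * -c)) • (z + (a * -c) • x1)
        = s • z + (t / (a * -c) * (a * -c)) • x1 by module, div_mul_cancel₀ _ hne] at h
  have hM : ∀ γ δ : F, Root H (γ • e + δ • z) := fun γ δ => by
    obtain ⟨θ, hθ⟩ := hR (-(1 / c)) (l / c)
    set r := (-(1 / c)) • p + (l / c) • q with hr
    set t := -(γ / c) with ht
    set s := δ - t * f x1 r - θ * (t * c) with hs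
    have h := hθ.root (hX s t)
    have h1 : f (s • z + t • x1) z = t * c := by
      simp [hx1, f_add_left, f_sub_left, f_smul_left, sympForm_self, hpz, hqz, hez]
    have h2 : f (s • z + t • x1) r = t * f x1 r := by
      rw [f_add_left, f_smul_left, f_smul_left, hr, f_add_right, f_smul_right, f_smul_right, hzp, hzq]
      ring
    rw [h1, h2] at h
    convert h using 1
    rw [hr, hx1, hs, ht]
    match_scalars <;> field_simp <;> ring
  have hM' : ∀ v ∈ Submodule.span F ({e, z} : Set Vec), Root H v := fun v hv => by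
    obtain ⟨γ, δ, rfl⟩ := Submodule.mem_span_pair.1 hv; exact hM γ δ
  have hnd : ∀ v ∈ Submodule.span F ({e, z} : Set Vec), v ≠ 0 →
      ∃ w ∈ Submodule.span F ({e, z} : Set Vec), f v w ≠ 0 := fun v hv hv0 => by
    obtain ⟨γ, δ, rfl⟩ := Submodule.mem_span_pair.1 hv
    by_cases hγ : γ = 0
    · refine ⟨e, Submodule.subset_span (Set.mem_insert _ _), ?_⟩
      have hδ : δ ≠ 0 := fun hd => hv0 (by simp [hγ, hd])
      simpa [hγ, f_add_left, f_smul_left, sympForm_self, hze, f_zero_left] using hδ
    · refine ⟨z, Submodule.subset_span (Set.mem_insert_of_mem _ rfl), ?_⟩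
      simpa [f_add_left, f_smul_left, sympForm_self, hez] using hγ
  have horth : ∀ s t : F, ∀ v ∈ Submodule.span F ({e, z} : Set Vec), f (s • p + t • q) v = 0 :=
    fun s t v hv => by
      obtain ⟨γ, δ, rfl⟩ := Submodule.mem_span_pair.1 hv
      simp [f_add_left, f_add_right, f_smul_left, f_smul_right, hpe, hqe, hpz, hqz]
  have hall : ∀ v ∈ Submodule.span F ({e, z} : Set Vec), v ≠ 0 → ∀ s t : F,
      Root H (v + (s • p + t • q)) := by
    intro v hv hv0 s t
    obtain ⟨θ, hθ⟩ := hR (-s) (-t)
    have h := hθ.root (hM 1 0)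
    rw [one_smul, zero_smul, add_zero, hez, f_add_right, f_smul_right, f_smul_right, hep, heq,
      mul_zero, mul_zero, zero_add, zero_add, mul_neg_one] at h
    rw [show e + (-1 : F) • (-s • p + -t • q) + -θ • z = (e + -θ • z) + (s • p + t • q) by module] at h
    have ha0 : e + -θ • z ≠ 0 := fun h0 => by
      have h1 := congrArg (fun w => f z w) h0
      simp [f_add_right, f_smul_right, f_neg_right, sympForm_self, hze, f_zero_right] at h1
    have hd := extend hM' hnd (Submodule.mem_span_pair.2 ⟨1, -θ, by rw [one_smul]⟩) ha0 (horth s t)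
      h hv hv0 1
    rwa [one_smul] at hd
  set v := γ • e + δ • z with hv
  have hvm : v ∈ Submodule.span F ({e, z} : Set Vec) := Submodule.mem_span_pair.2 ⟨γ, δ, rfl⟩
  rw [add_comm (α • p + β • q) v]
  by_cases hv0 : v = 0
  · rw [hv0, zero_add]
    refine pure (M := Submodule.span F ({e, z} : Set Vec)) (a := e)
      (Submodule.subset_span (Set.mem_insert _ _)) (fun h0 => ?_)
      (fun w hw => by simpa using horth 1 0 w hw) (fun w hw => by simpa using horth 0 1 w hw)
      (by rw [hpq]; exact neg_ne_zero.2 one_ne_zero) hall α β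
    rw [h0, f_zero_right] at hze; exact zero_ne_one hze
  · exact hall v hvm hv0 α β

end Cfsg.Agent.Classical.SympThreeGen
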