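import Mathlib
import Cfsg.Agent.Lib.Classical.SympThreeGenBase

/-!
# Three conjugate regular unipotents generate the symplectic group
-/

set_option autoImplicit false
set_option linter.unusedSectionVars false

namespace Cfsg.Agent.Classical.SympThreeGen

open Matrix
open Cfsg.Agent.Forms.SympStd
open Cfsg.Agent.Classical.Symplectic

variable {F : Type*} [Field F] {n : ℕ}

local notation "Vec" => (Fin n ⊕ Fin n → F)
local notation "Mat" => Matrix (Fin n ⊕ Fin n) (Fin n ⊕ Fin n) F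
local notation "Sp" => symplecticGroup (Fin n) F
local notation "f" => Cfsg.sympForm n F

/-! ### Coordinate vectors indexed by naturals -/

variable (F n) in
/-- the `i`-th coordinate vector, zero for `i ≥ n` -/
def d (i : ℕ) : Fin n → F := fun k => if (k : ℕ) = i then 1 else 0

variable (F n) in
/-- first Lagrangian -/
def eL (i : ℕ) : Fin n ⊕ Fin n → F := Sum.elim (d F n i) 0

variable (F n) in
/-- second Lagrangian -/
def eR (i : ℕ) : Fin n ⊕ Fin n → F := Sum.elim 0 (d F n i)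

theorem d_of_le {i : ℕ} (h : n ≤ i) : d F n i = 0 := by
  funext k; have := k.isLt; simp [d, show (k : ℕ) ≠ i by omega]

theorem eR_of_le {i : ℕ} (h : n ≤ i) : eR F n i = 0 := by
  rw [eR, d_of_le h]; funext s; cases s <;> rfl

theorem d_eq_single {i : ℕ} (h : i < n) : d F n i = Pi.single (⟨i, h⟩ : Fin n) 1 := by
  funext k; simp [d, Pi.single_apply, Fin.ext_iff]

theorem eL_eq_single (k : Fin n) : eL F n k = Pi.single (Sum.inl k) 1 := by
  funext s; cases s <;> simp [eL, d, Pi.single_apply, Fin.ext_iff]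

theorem eR_eq_single (k : Fin n) : eR F n k = Pi.single (Sum.inr k) 1 := by
  funext s; cases s <;> simp [eR, d, Pi.single_apply, Fin.ext_iff]

theorem f_eR {i : ℕ} (h : i < n) (v : Vec) : f (eR F n i) v = v (.inl ⟨i, h⟩) := by
  rw [sympForm_eq, Finset.sum_eq_single (⟨i, h⟩ : Fin n)]
  · simp [eR, d]
  · intro b _ hb; simp [eR, d, show (b : ℕ) ≠ i from fun e => hb (Fin.ext e)]
  · simp

theorem f_eL {i : ℕ} (h : i < n) (v : Vec) : f (eL F n i) v = - v (.inr ⟨i, h⟩) := by
  rw [sympForm_eq, Finset.sum_eq_single (⟨i, h⟩ : Fin n)]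
  · simp [eL, d]
  · intro b _ hb; simp [eL, d, show (b : ℕ) ≠ i from fun e => hb (Fin.ext e)]
  · simp

theorem f_eR' {i : ℕ} (h : i < n) (v : Vec) : f v (eR F n i) = - v (.inl ⟨i, h⟩) := by
  rw [sympForm_swap, f_eR h]

theorem f_eL' {i : ℕ} (h : i < n) (v : Vec) : f v (eL F n i) = v (.inr ⟨i, h⟩) := by
  rw [sympForm_swap, f_eL h, neg_neg]

@[simp] theorem eL_inl (i : ℕ) (k : Fin n) : eL F n i (.inl k) = if (k : ℕ) = i then 1 else 0 := rfl
@[simp] theorem eL_inr (i : ℕ) (k : Fin n) : eL F n i (.inr k) = 0 := rfl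
@[simp] theorem eR_inl (i : ℕ) (k : Fin n) : eR F n i (.inl k) = 0 := rfl
@[simp] theorem eR_inr (i : ℕ) (k : Fin n) : eR F n i (.inr k) = if (k : ℕ) = i then 1 else 0 := rfl

/-! ### The regular unipotent -/

variable (F n) in
/-- `1 +` shift -/
def Lm : Matrix (Fin n) (Fin n) F :=
  Matrix.of fun i j => if (i : ℕ) = j ∨ (i : ℕ) + 1 = j then 1 else 0

variable (F n) in
/-- the last diagonal matrix unit -/
def Em : Matrix (Fin n) (Fin n) F :=
  Matrix.of fun i j => if (i : ℕ) + 1 = n ∧ (j : ℕ) + 1 = n then 1 else 0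

theorem det_Lm : (Lm F n).det = 1 := by
  rw [Matrix.det_of_isUpperTriangular]
  · simp [Lm]
  · intro i j hij
    have : (j : ℕ) < i := hij
    rw [Lm, Matrix.of_apply, if_neg (by omega)]

theorem Em_transpose : (Em F n)ᵀ = Em F n := by
  ext i j; simp [Em, and_comm]

theorem Lm_d_zero : Lm F n *ᵥ d F n 0 = d F n 0 := by
  by_cases h : 0 < n
  · rw [d_eq_single h, Matrix.mulVec_single_one]
    funext k; simp [Lm, Pi.single_apply, Fin.ext_iff]
  · rw [d_of_le (by omega), Matrix.mulVec_zero]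

theorem Lm_d_succ {i : ℕ} (h : i + 1 < n) :
    Lm F n *ᵥ d F n (i + 1) = d F n (i + 1) + d F n i := by
  rw [d_eq_single h, Matrix.mulVec_single_one, ← d_eq_single h]
  funext k
  simp only [Lm, Matrix.col_apply, Matrix.of_apply, Pi.add_apply, d, Nat.add_right_cancel_iff]
  split_ifs <;> first | (exfalso; omega) | simp

theorem LmT_d {i : ℕ} (h : i < n) : (Lm F n)ᵀ *ᵥ d F n i = d F n i + d F n (i + 1) := by
  rw [d_eq_single h, Matrix.mulVec_single_one, ← d_eq_single h]
  funext k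
  simp only [Lm, Matrix.col_apply, Matrix.transpose_apply, Matrix.of_apply, Pi.add_apply, d]
  split_ifs <;> first | (exfalso; omega) | simp

theorem Em_d (i : ℕ) : Em F n *ᵥ d F n i = if i + 1 = n then d F n (n - 1) else 0 := by
  by_cases h : i < n
  · rw [d_eq_single h, Matrix.mulVec_single_one]
    funext k
    simp only [Em, Matrix.col_apply, Matrix.of_apply]
    split_ifs <;> simp_all [d] <;> omega
  · rw [d_of_le (by omega), Matrix.mulVec_zero, if_neg (by omega)]

variable (F n) in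
/-- the regular unipotent -/
noncomputable def uEl : Matrix.symplecticGroup (Fin n) F :=
  ⟨Matrix.fromBlocks (Lm F n)⁻¹ (Em F n * (Lm F n)ᵀ) 0 (Lm F n)ᵀ, by
    have hd : IsUnit (Lm F n).det := by rw [det_Lm]; exact isUnit_one
    have h1 : ((Lm F n)⁻¹)ᵀ * (Lm F n)ᵀ = 1 := by
      rw [← transpose_mul, Matrix.mul_nonsing_inv _ hd, transpose_one]
    have h2 : Lm F n * (Lm F n)⁻¹ = 1 := Matrix.mul_nonsing_inv _ hd
    rw [SymplecticGroup.mem_iff', Matrix.J, Matrix.fromBlocks_transpose]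
    simp only [Matrix.fromBlocks_multiply, transpose_zero, zero_mul, mul_zero, add_zero, zero_add,
      mul_one, mul_neg, neg_mul, transpose_transpose, transpose_mul, Em_transpose, h1, h2]
    simp [mul_assoc]⟩

local notation "u" => uEl F n

theorem u_elim (x y : Fin n → F) : (u : Mat) *ᵥ Sum.elim x y
    = Sum.elim ((Lm F n)⁻¹ *ᵥ x + Em F n *ᵥ ((Lm F n)ᵀ *ᵥ y)) ((Lm F n)ᵀ *ᵥ y) := by
  simp [uEl, Matrix.fromBlocks_mulVec, Matrix.mulVec_mulVec]

theorem u_Lm (x : Fin n → F) : (u : Mat) *ᵥ Sum.elim (Lm F n *ᵥ x) 0 = Sum.elim x 0 := by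
  rw [u_elim, Matrix.mulVec_mulVec, Matrix.nonsing_inv_mul _ (by rw [det_Lm]; exact isUnit_one),
    Matrix.one_mulVec, Matrix.mulVec_zero, Matrix.mulVec_zero, add_zero]

theorem u_eL_zero : (u : Mat) *ᵥ eL F n 0 = eL F n 0 := by
  have h := u_Lm (F := F) (d F n 0)
  rwa [Lm_d_zero] at h

theorem u_eL_pair {i : ℕ} (h : i + 1 < n) :
    (u : Mat) *ᵥ (eL F n (i + 1) + eL F n i) = eL F n (i + 1) := by
  have h' := u_Lm (F := F) (d F n (i + 1))
  rw [Lm_d_succ h] at h'
  rw [show eL F n (i + 1) + eL F n i = Sum.elim (d F n (i + 1) + d F n i) 0 by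
    funext s; cases s <;> simp [eL]]
  exact h'

theorem u_eL_succ {i : ℕ} (h : i + 1 < n) :
    (u : Mat) *ᵥ eL F n (i + 1) = eL F n (i + 1) - (u : Mat) *ᵥ eL F n i := by
  rw [eq_sub_iff_add_eq, ← Matrix.mulVec_add, u_eL_pair h]

theorem uinv_eL {i : ℕ} (h : i + 1 < n) :
    ((u⁻¹ : Matrix.symplecticGroup (Fin n) F) : Mat) *ᵥ eL F n (i + 1) = eL F n (i + 1) + eL F n i :=
  inv_mulVec_of_eq (u_eL_pair h)

theorem u_eR {i : ℕ} (h : i < n) : (u : Mat) *ᵥ eR F n i
    = eR F n i + eR F n (i + 1) + (if n ≤ i + 2 then eL F n (n - 1) else 0) := by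
  rw [eR, u_elim, Matrix.mulVec_zero, zero_add, LmT_d h, Matrix.mulVec_add, Em_d, Em_d]
  split_ifs <;> (try (exfalso; omega)) <;>
    (funext s; cases s <;> simp [eR, eL, d_of_le, *]) <;> (try omega)

/-! ### Nilpotency -/

local notation "N" => ((uEl F n : Mat) - 1)

theorem N_mulVec (v : Vec) : N *ᵥ v = (u : Mat) *ᵥ v - v := by
  rw [Matrix.sub_mulVec, Matrix.one_mulVec]

theorem N_succ (k : ℕ) (v : Vec) : N ^ (k + 1) *ᵥ v = N ^ k *ᵥ ((u : Mat) *ᵥ v - v) := by
  rw [pow_succ, ← Matrix.mulVec_mulVec, N_mulVec]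

theorem N_add (k l : ℕ) (v : Vec) : N ^ (k + l) *ᵥ v = N ^ k *ᵥ (N ^ l *ᵥ v) := by
  rw [pow_add, Matrix.mulVec_mulVec]

theorem N_eL : ∀ i, i < n →
    N ^ i *ᵥ eL F n i = (-1 : F) ^ i • eL F n 0 ∧ N ^ (i + 1) *ᵥ eL F n i = 0 := by
  intro i
  induction i with
  | zero => exact fun _ => ⟨by simp, by rw [zero_add, pow_one, N_mulVec, u_eL_zero, sub_self]⟩
  | succ i ih =>
    intro h
    obtain ⟨h1, h2⟩ := ih (by omega)
    have e : (u : Mat) *ᵥ eL F n (i + 1) - eL F n (i + 1) = -(eL F n i + N *ᵥ eL F n i) := by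
      rw [u_eL_succ h, N_mulVec]; abel
    refine ⟨?_, ?_⟩
    · rw [N_succ, e, Matrix.mulVec_neg, Matrix.mulVec_add, h1, Matrix.mulVec_mulVec, ← pow_succ, h2,
        add_zero, pow_succ, mul_neg_one, neg_smul]
    · rw [N_succ, e, Matrix.mulVec_neg, Matrix.mulVec_add, h2, Matrix.mulVec_mulVec, ← pow_succ,
        pow_succ', ← Matrix.mulVec_mulVec, h2, Matrix.mulVec_zero, add_zero, neg_zero]

theorem N_eL_zero {i k : ℕ} (hi : i < n) (hk : i < k) : N ^ k *ᵥ eL F n i = 0 := by
  rw [show k = (k - (i + 1)) + (i + 1) by omega, N_add, (N_eL i hi).2, Matrix.mulVec_zero]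

theorem N_eR : ∀ j i, i + j + 1 = n →
    N ^ (n + j) *ᵥ eR F n i = (-1 : F) ^ (n - 1) • eL F n 0 ∧ N ^ (n + j + 1) *ᵥ eR F n i = 0 := by
  intro j
  induction j with
  | zero =>
    intro i h
    have e : (u : Mat) *ᵥ eR F n i - eR F n i = eL F n (n - 1) := by
      rw [u_eR (by omega), eR_of_le (i := i + 1) (by omega), if_pos (by omega)]; abel
    refine ⟨?_, ?_⟩
    · rw [show n + 0 = n - 1 + 1 by omega, N_succ, e, (N_eL (n - 1) (by omega)).1]
    · rw [N_succ, e, N_eL_zero (by omega) (by omega)]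
  | succ j ih =>
    intro i h
    obtain ⟨h1, h2⟩ := ih (i + 1) (by omega)
    have e : (u : Mat) *ᵥ eR F n i - eR F n i
        = eR F n (i + 1) + (if n ≤ i + 2 then eL F n (n - 1) else 0) := by
      rw [u_eR (by omega)]; abel
    have hz : ∀ k, n ≤ k → N ^ k *ᵥ (if n ≤ i + 2 then eL F n (n - 1) else (0 : Vec)) = 0 := fun k hk => by
      split_ifs
      · exact N_eL_zero (by omega) (by omega)
      · exact Matrix.mulVec_zero _
    refine ⟨?_, ?_⟩
    · rw [show n + (j + 1) = n + j + 1 by omega, N_succ, e, Matrix.mulVec_add, h1, hz _ (by omega),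
        add_zero]
    · rw [show n + (j + 1) + 1 = n + j + 1 + 1 by omega, N_succ, e, Matrix.mulVec_add, h2,
        hz _ (by omega), add_zero]

theorem N_nilpotent : IsNilpotent N := by
  refine ⟨2 * n, Matrix.ext fun a b => ?_⟩
  rcases b with k | k
  · have h : N ^ (2 * n) *ᵥ eL F n k = 0 := N_eL_zero k.isLt (by have := k.isLt; omega)
    rw [eL_eq_single, Matrix.mulVec_single_one] at h
    exact congrFun h a
  · have h1 := (N_eR (F := F) (n := n) (n - 1 - k) k (by have := k.isLt; omega)).2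
    have h : N ^ (2 * n) *ᵥ eR F n k = 0 := by
      rw [show 2 * n = (2 * n - (n + (n - 1 - k) + 1)) + (n + (n - 1 - k) + 1) by omega, N_add, h1,
        Matrix.mulVec_zero]
    rw [eR_eq_single, Matrix.mulVec_single_one] at h
    exact congrFun h a

theorem N_pow_ne_zero (hn : 1 ≤ n) : N ^ (2 * n - 1) ≠ 0 := by
  intro h
  have h1 := (N_eR (F := F) (n := n) (n - 1) 0 (by omega)).1
  rw [show n + (n - 1) = 2 * n - 1 by omega, h, Matrix.zero_mulVec] at h1
  have h2 := congrFun h1 (.inl ⟨0, hn⟩)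
  simp at h2
  exact pow_ne_zero _ (neg_ne_zero.2 one_ne_zero) h2.symm

/-! ### The monomial element -/

variable (n) in
/-- a monomial map exchanging the middle of the chain with the first plane -/
def hLin (t : F) : (Fin n ⊕ Fin n → F) →ₗ[F] (Fin n ⊕ Fin n → F) where
  toFun v := Sum.elim
    (fun k => if (k : ℕ) = 0 then t * v (.inr k.rev) else v (.inl k.rev))
    (fun k => if (k : ℕ) = 0 then -t⁻¹ * v (.inl k.rev) else v (.inr k.rev))
  map_add' v w := by funext s; cases s <;> simp <;> split_ifs <;> ring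
  map_smul' c v := by funext s; cases s <;> simp <;> split_ifs <;> ring

theorem hLin_form {t : F} (ht : t ≠ 0) (v w : Vec) : f (hLin n t v) (hLin n t w) = f v w := by
  rw [sympForm_eq, sympForm_eq]
  refine Fintype.sum_equiv Fin.revPerm _ _ fun k => ?_
  simp only [hLin, LinearMap.coe_mk, AddHom.coe_mk, Sum.elim_inl, Sum.elim_inr, Fin.revPerm_apply]
  split_ifs
  · field_simp; ring
  · rfl

variable (n) in
/-- the monomial element -/
noncomputable def hEl (t : F) (ht : t ≠ 0) : Matrix.symplecticGroup (Fin n) F :=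
  ⟨LinearMap.toMatrix' (hLin n t), mem_sp_iff.2 fun v w => by
    simp only [← Matrix.toLin'_apply, Matrix.toLin'_toMatrix']
    exact hLin_form ht v w⟩

theorem hEl_mulVec {t : F} (ht : t ≠ 0) (v : Vec) : (hEl n t ht : Mat) *ᵥ v = hLin n t v := by
  simp [hEl, ← Matrix.toLin'_apply]

theorem h_eR_last {t : F} (ht : t ≠ 0) (hn : 1 ≤ n) :
    (hEl n t ht : Mat) *ᵥ eR F n (n - 1) = t • eL F n 0 := by
  rw [hEl_mulVec]; funext s
  rcases s with k | k <;> have := k.isLt <;> by_cases hk : (k : ℕ) = 0 <;>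
    simp [hLin, Fin.val_rev, hk] <;> omega

theorem h_eL_last {t : F} (ht : t ≠ 0) (hn : 1 ≤ n) :
    (hEl n t ht : Mat) *ᵥ eL F n (n - 1) = -t⁻¹ • eR F n 0 := by
  rw [hEl_mulVec]; funext s
  rcases s with k | k <;> have := k.isLt <;> by_cases hk : (k : ℕ) = 0 <;>
    simp [hLin, Fin.val_rev, hk] <;> omega

theorem h_eL {t : F} (ht : t ≠ 0) {i : ℕ} (hi : 1 ≤ i) (hin : i < n) :
    (hEl n t ht : Mat) *ᵥ eL F n (n - 1 - i) = eL F n i := by
  rw [hEl_mulVec]; funext s
  rcases s with k | k <;> have := k.isLt <;> by_cases hk : (k : ℕ) = 0 <;>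
    simp [hLin, Fin.val_rev, hk] <;> (try split_ifs) <;> first | (exfalso; omega) | rfl | omega

section W

variable {t : F} (ht : t ≠ 0)

local notation "h" => hEl n t ht

theorem W_h (x : Vec) : ((h * u * h⁻¹ : Matrix.symplecticGroup (Fin n) F) : Mat) *ᵥ ((h : Mat) *ᵥ x)
    = (h : Mat) *ᵥ ((u : Mat) *ᵥ x) := by
  rw [← mul_mulVec_sp, ← mul_mulVec_sp, inv_mul_cancel_right]

theorem Winv_h (x : Vec) : (((h * u * h⁻¹)⁻¹ : Matrix.symplecticGroup (Fin n) F) : Mat) *ᵥ ((h : Mat) *ᵥ x)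
    = (h : Mat) *ᵥ (((u⁻¹ : Matrix.symplecticGroup (Fin n) F) : Mat) *ᵥ x) := by
  rw [← mul_mulVec_sp, ← mul_mulVec_sp]
  congr 2
  group

theorem W_eL_zero (hn : 2 ≤ n) :
    ((h * u * h⁻¹ : Matrix.symplecticGroup (Fin n) F) : Mat) *ᵥ eL F n 0
      = eL F n 0 + (-(t⁻¹ * t⁻¹)) • eR F n 0 := by
  have e := W_h (F := F) ht (eR F n (n - 1))
  rw [u_eR (by omega), eR_of_le (i := n - 1 + 1) (by omega), add_zero, if_pos (by omega),
    Matrix.mulVec_add, h_eR_last ht (by omega), h_eL_last ht (by omega), Matrix.mulVec_smul] at e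
  refine smul_right_injective _ ht ?_
  dsimp only
  rw [e, smul_add, smul_smul]
  congr 2
  field_simp

theorem Winv_eR_zero (hn : 2 ≤ n) :
    (((h * u * h⁻¹)⁻¹ : Matrix.symplecticGroup (Fin n) F) : Mat) *ᵥ eR F n 0
      = eR F n 0 + (-t) • eL F n 1 := by
  have e := Winv_h (F := F) ht (eL F n (n - 2 + 1))
  rw [uinv_eL (by omega), show n - 2 + 1 = n - 1 by omega, Matrix.mulVec_add,
    h_eL_last ht (by omega), show n - 2 = n - 1 - 1 by omega, h_eL ht le_rfl (by omega),
    Matrix.mulVec_smul] at e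
  refine smul_right_injective _ (neg_ne_zero.2 (inv_ne_zero ht)) ?_
  dsimp only
  rw [e, smul_add, smul_smul, neg_mul_neg, inv_mul_cancel₀ ht, one_smul]

theorem Winv_eL {i : ℕ} (hi : 1 ≤ i) (hin : i + 1 < n) :
    (((h * u * h⁻¹)⁻¹ : Matrix.symplecticGroup (Fin n) F) : Mat) *ᵥ eL F n i
      = eL F n i + eL F n (i + 1) := by
  have e := Winv_h (F := F) ht (eL F n (n - 1 - i))
  rw [h_eL ht hi (by omega), show n - 1 - i = n - 1 - (i + 1) + 1 by omega, uinv_eL (by omega),
    Matrix.mulVec_add, h_eL ht (i := i + 1) (by omega) hin,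
    show n - 1 - (i + 1) + 1 = n - 1 - i by omega, h_eL ht hi (by omega)] at e
  exact e

end W

/-! ### A transvection as a quotient of two conjugates -/

variable (n) in
/-- product of three transvections acting as a short root element -/
def dd (v w : Fin n ⊕ Fin n → F) (t : F) : Matrix.symplecticGroup (Fin n) F :=
  tv (v + w) t * tv v (-t) * tv w (-t)

theorem dd_mulVec {v w : Vec} (hvw : f v w = 0) (t : F) (x : Vec) :
    (dd n v w t : Mat) *ᵥ x = x + (t * f x w) • v + (t * f x v) • w := by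
  have hwv : f w v = 0 := by rw [sympForm_swap, hvw, neg_zero]
  simp only [dd, mul_mulVec_sp, tv_mulVec, f_add_left, f_add_right, f_smul_left, sympForm_self, hvw, hwv]
  module

theorem dd_conj (A : Matrix.symplecticGroup (Fin n) F) (v w : Vec) (t : F) :
    A * dd n v w t * A⁻¹ = dd n ((A : Mat) *ᵥ v) ((A : Mat) *ᵥ w) t := by
  rw [dd, dd, ← Matrix.mulVec_add, ← tv_conj, ← tv_conj, ← tv_conj]
  group

theorem u_eL_one (hn : 2 ≤ n) : (u : Mat) *ᵥ eL F n 1 = eL F n 1 - eL F n 0 := by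
  rw [u_eL_succ (i := 0) (by omega), u_eL_zero]

theorem quot_odd (hn : 2 ≤ n) {a : F} (h2 : (2 : F) ≠ 0) : ∃ x : Matrix.symplecticGroup (Fin n) F,
    u * x * u⁻¹ = tv (eL F n 0) a * x := by
  have h0 : f (eL F n 0) (eL F n 1) = 0 := by rw [f_eL (by omega)]; simp
  have h1 : f (eL F n 1) (eL F n 0) = 0 := by rw [sympForm_swap, h0, neg_zero]
  refine ⟨dd n (eL F n 0) (eL F n 1) (-(a / 2)), ?_⟩
  rw [dd_conj, u_eL_zero, u_eL_one hn]
  refine sp_ext fun x => ?_
  rw [dd_mulVec (by rw [f_sub_right, h0, sympForm_self, sub_zero]), mul_mulVec_sp, dd_mulVec h0,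
    tv_mulVec]
  simp only [f_add_left, f_sub_right, f_smul_left, sympForm_self, h1]
  match_scalars <;> field_simp <;> ring

theorem quot_even (hn : 3 ≤ n) {a : F} (h2 : (2 : F) = 0) : ∃ x : Matrix.symplecticGroup (Fin n) F,
    u * x * u⁻¹ = tv (eL F n 0) a * x := by
  have h0 : ∀ i j : ℕ, i < n → f (eL F n i) (eL F n j) = 0 := fun i j hi => by rw [f_eL hi]; simp
  refine ⟨tv (eL F n 1) a * dd n (eL F n 0) (eL F n 2) a, ?_⟩
  rw [show u * (tv (eL F n 1) a * dd n (eL F n 0) (eL F n 2) a) * u⁻¹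
      = (u * tv (eL F n 1) a * u⁻¹) * (u * dd n (eL F n 0) (eL F n 2) a * u⁻¹) by group,
    dd_conj, tv_conj, u_eL_zero, u_eL_one (by omega), u_eL_succ (i := 1) (by omega),
    u_eL_one (by omega)]
  refine sp_ext fun x => ?_
  simp only [mul_mulVec_sp]
  rw [dd_mulVec (by simp only [f_sub_right, h0 0 _ (by omega : 0 < n), sub_zero]),
    dd_mulVec (h0 0 2 (by omega)), tv_mulVec, tv_mulVec, tv_mulVec]
  simp only [f_add_left, f_sub_left, f_sub_right, f_smul_left, h0 0 _ (by omega : 0 < n),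
    h0 1 _ (by omega : 1 < n), h0 2 _ (by omega : 2 < n)]
  match_scalars <;>
    first
      | ring1
      | linear_combination (a * (f x (eL F n 0) - f x (eL F n 1))) * h2
      | linear_combination (a * f x (eL F n 0)) * h2
      | linear_combination (-a * f x (eL F n 0)) * h2

theorem quot_two (hn : n = 2) (τ : F) (h2 : (2 : F) = 0) : ∃ x : Matrix.symplecticGroup (Fin n) F,
    u * x * u⁻¹ = tv (eL F n 0) (τ + τ * τ) * x := by
  have e00 : f (eL F n 0) (eL F n 1) = 0 := by rw [f_eL (by omega)]; simp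
  have e10 : f (eL F n 1) (eL F n 0) = 0 := by rw [sympForm_swap, e00, neg_zero]
  have e0r : f (eL F n 0) (eR F n 1) = 0 := by rw [f_eL (by omega)]; simp
  have er0 : f (eR F n 1) (eL F n 0) = 0 := by rw [sympForm_swap, e0r, neg_zero]
  have er1 : f (eR F n 1) (eL F n 1) = 1 := by rw [f_eR (by omega)]; simp
  have e1r : f (eL F n 1) (eR F n 1) = -1 := by rw [sympForm_swap, er1]
  have hur : (u : Mat) *ᵥ eR F n 1 = eR F n 1 + eL F n 1 := by
    rw [u_eR (by omega), eR_of_le (i := 1 + 1) (by omega), if_pos (by omega), add_zero,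
      show n - 1 = 1 by omega]
  refine ⟨tv (eL F n 1) τ * dd n (eL F n 0) (eR F n 1) τ, ?_⟩
  rw [show u * (tv (eL F n 1) τ * dd n (eL F n 0) (eR F n 1) τ) * u⁻¹
      = (u * tv (eL F n 1) τ * u⁻¹) * (u * dd n (eL F n 0) (eR F n 1) τ * u⁻¹) by group,
    dd_conj, tv_conj, u_eL_zero, u_eL_one (by omega), hur]
  refine sp_ext fun x => ?_
  simp only [mul_mulVec_sp]
  rw [dd_mulVec (by rw [f_add_right, e0r, e00, add_zero]), dd_mulVec e0r, tv_mulVec, tv_mulVec,
    tv_mulVec]
  simp only [f_add_left, f_sub_left, f_sub_right, f_add_right, f_smul_left, sympForm_self, e00, e10,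
    e0r, er0, er1, e1r]
  set A := f x (eL F n 0)
  set B := f x (eL F n 1)
  set C := f x (eR F n 1)
  match_scalars <;>
    first
      | ring1
      | linear_combination (τ * B) * h2
      | linear_combination (-τ * B) * h2
      | linear_combination (τ * A) * h2
      | linear_combination (-τ * A) * h2
      | linear_combination (τ * τ * A) * h2
      | linear_combination (-τ * τ * A) * h2
      | linear_combination (0 : F) * h2

/-! ### Generation -/

variable (F n) in
/-- vectors supported on the first `i` planes -/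
def Mi (i : ℕ) : Submodule F (Fin n ⊕ Fin n → F) where
  carrier := {v | ∀ k : Fin n, i ≤ (k : ℕ) → v (.inl k) = 0 ∧ v (.inr k) = 0}
  add_mem' {v w} hv hw := fun k hk => by simp [(hv k hk).1, (hv k hk).2, (hw k hk).1, (hw k hk).2]
  zero_mem' := fun k _ => by simp
  smul_mem' c v hv := fun k hk => by simp [(hv k hk).1, (hv k hk).2]

theorem mem_Mi {i : ℕ} {v : Vec} :
    v ∈ Mi F n i ↔ ∀ k : Fin n, i ≤ (k : ℕ) → v (.inl k) = 0 ∧ v (.inr k) = 0 := Iff.rfl

theorem eL_mem_Mi {i j : ℕ} (h : j < i) : eL F n j ∈ Mi F n i :=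
  fun k hk => ⟨by rw [eL_inl, if_neg (by omega)], rfl⟩

theorem eR_mem_Mi {i j : ℕ} (h : j < i) : eR F n j ∈ Mi F n i :=
  fun k hk => ⟨rfl, by rw [eR_inr, if_neg (by omega)]⟩

theorem eL_ne_zero {i : ℕ} (h : i < n) : eL F n i ≠ 0 := fun e => by
  simpa using congrFun e (.inl ⟨i, h⟩)

theorem eR_ne_zero {i : ℕ} (h : i < n) : eR F n i ≠ 0 := fun e => by
  simpa using congrFun e (.inr ⟨i, h⟩)

theorem Mi_nondeg {i : ℕ} (v : Vec) (hv : v ∈ Mi F n i) (h0 : v ≠ 0) :
    ∃ w ∈ Mi F n i, f v w ≠ 0 := by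
  obtain ⟨s, hs⟩ := Function.ne_iff.1 h0
  rcases s with k | k
  · refine ⟨eR F n k, eR_mem_Mi ?_, ?_⟩
    · by_contra hk; exact hs (hv k (by omega)).1
    · rw [f_eR' k.isLt, neg_ne_zero]; exact hs
  · refine ⟨eL F n k, eL_mem_Mi ?_, ?_⟩
    · by_contra hk; exact hs (hv k (by omega)).2
    · rw [f_eL' k.isLt]; exact hs

theorem Mi_four {i : ℕ} (hi : 2 ≤ i) (hn : 2 ≤ n) (v : Vec) :
    ∃ w ∈ Mi F n i, w ≠ 0 ∧ w ≠ v ∧ f v w = 0 := by
  set A := v (.inr ⟨0, by omega⟩) with hA
  set B := v (.inr ⟨1, by omega⟩) with hB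
  by_cases h : A = 0 ∧ B = 0
  · by_cases hv : v = eL F n 0
    · refine ⟨eL F n 1, eL_mem_Mi (by omega), eL_ne_zero (by omega), fun e => ?_, ?_⟩
      · rw [hv] at e
        have := congrFun e (.inl ⟨0, by omega⟩)
        simp at this
      · rw [f_eL' (by omega)]; exact h.2
    · refine ⟨eL F n 0, eL_mem_Mi (by omega), eL_ne_zero (by omega), Ne.symm hv, ?_⟩
      rw [f_eL' (by omega)]; exact h.1
  · refine ⟨B • eL F n 0 + (-A) • eL F n 1, ?_, fun e => h ⟨?_, ?_⟩, fun e => h ⟨?_, ?_⟩, ?_⟩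
    · exact Submodule.add_mem _ (Submodule.smul_mem _ _ (eL_mem_Mi (by omega)))
        (Submodule.smul_mem _ _ (eL_mem_Mi (by omega)))
    · simpa using congrFun e (.inl ⟨1, by omega⟩)
    · simpa using congrFun e (.inl ⟨0, by omega⟩)
    · have := congrFun e (.inr ⟨0, by omega⟩)
      simpa using this.symm
    · have := congrFun e (.inr ⟨1, by omega⟩)
      simpa using this.symm
    · rw [f_add_right, f_smul_right, f_smul_right, f_eL' (by omega), f_eL' (by omega), ← hA, ← hB]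
      ring

theorem generate [Fintype F] (hn : 2 ≤ n) {t a : F} (ht : t ≠ 0) (ha : a ≠ 0)
    (hgen : ∀ x : F, x ≠ 0 → ∃ k : ℕ, (a * -(t⁻¹ * t⁻¹)) ^ k = x)
    (hc2 : (2 : F) = 0 → t⁻¹ = 1 → ∀ x : F, x = 0 ∨ x = 1)
    (hq : ∃ x : Matrix.symplecticGroup (Fin n) F, u * x * u⁻¹ = tv (eL F n 0) a * x) :
    ∃ g h : Matrix.symplecticGroup (Fin n) F, Subgroup.closure
      ({u, g * u * g⁻¹, h * u * h⁻¹} : Set (Matrix.symplecticGroup (Fin n) F)) = ⊤ := by
  obtain ⟨x, hx⟩ := hq
  refine ⟨x, hEl n t ht, ?_⟩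
  set H := Subgroup.closure ({u, x * u * x⁻¹, hEl n t ht * u * (hEl n t ht)⁻¹} :
    Set (Matrix.symplecticGroup (Fin n) F)) with hH
  set W := hEl n t ht * u * (hEl n t ht)⁻¹ with hWdef
  have hU : u ∈ H := Subgroup.subset_closure (by simp)
  have hW : W ∈ H := Subgroup.subset_closure (by simp [hWdef])
  have hT : tv (eL F n 0) a ∈ H := by
    have e : tv (eL F n 0) a = u * (x * u * x⁻¹)⁻¹ := by
      rw [← mul_inv_eq_iff_eq_mul.2 hx]; group
    rw [e]
    exact mul_mem hU (inv_mem (Subgroup.subset_closure (by simp)))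
  set ε : F := if n ≤ 2 then 1 else 0 with hε
  set z := eR F n 1 + ε • eL F n 1 with hz
  have hUq : (u : Mat) *ᵥ eR F n 0 = eR F n 0 + z := by
    rw [u_eR (by omega), hz, hε, add_assoc]
    congr 2
    by_cases h : n ≤ 2
    · rw [if_pos (by omega), if_pos h, one_smul, show n - 1 = 1 by omega]
    · rw [if_neg (by omega), if_neg h, zero_smul]
  have hbase := fun α β γ δ => base (H := H) (p := eL F n 0) (q := eR F n 0) (e := eL F n 1) (z := z)
    (by rw [f_eR (by omega)]; simp) (by rw [hz, f_add_left, f_smul_left, sympForm_self, f_eR (by omega)]; simp)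
    (by rw [hz, f_eL (by omega)]; simp) (by rw [f_eL (by omega)]; simp)
    (by rw [hz, f_eR (by omega)]; simp) (by rw [f_eR (by omega)]; simp)
    hU hW u_eL_zero hUq (u_eL_one hn) (W_eL_zero ht hn) (Winv_eR_zero ht hn) ha
    (neg_ne_zero.2 (mul_ne_zero (inv_ne_zero ht) (inv_ne_zero ht))) (neg_ne_zero.2 ht) hT hgen
    (fun h2 hc => hc2 h2 (by
      rw [← hc]; field_simp))
    α β γ δ
  have hall : ∀ i, 2 ≤ i → i ≤ n → ∀ v ∈ Mi F n i, Root H v := by
    intro i hi
    induction i, hi using Nat.le_induction with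
    | base =>
      intro _ v hv
      have h := hbase (v (.inl ⟨0, by omega⟩)) (v (.inr ⟨0, by omega⟩))
        (v (.inl ⟨1, by omega⟩) - ε * v (.inr ⟨1, by omega⟩)) (v (.inr ⟨1, by omega⟩))
      convert h using 1
      rw [hz]
      funext s
      rcases s with k | k
      all_goals
        by_cases h0 : (k : ℕ) = 0
        · obtain rfl : k = ⟨0, Nat.lt_of_lt_of_le Nat.zero_lt_two hn⟩ := Fin.ext h0
          simp
        · by_cases h1 : (k : ℕ) = 1
          · obtain rfl : k = ⟨1, Nat.lt_of_lt_of_le Nat.one_lt_two hn⟩ := Fin.ext h1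
            simp; try ring
          · simp [h0, h1, (hv k (by omega)).1, (hv k (by omega)).2]
    | succ i hi ih =>
      intro hin v hv
      have hM := ih (by omega)
      set c : F := if n ≤ i + 1 then 1 else 0 with hc
      have hz1 : ∀ w ∈ Mi F n i, f (eR F n i + c • eL F n i) w = 0 := fun w hw => by
        rw [f_add_left, f_smul_left, f_eR (by omega), f_eL (by omega), (hw ⟨i, by omega⟩ le_rfl).1,
          (hw ⟨i, by omega⟩ le_rfl).2, neg_zero, mul_zero, add_zero]
      have hz2 : ∀ w ∈ Mi F n i, f (eL F n i) w = 0 := fun w hw => by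
        rw [f_eL (by omega), (hw ⟨i, by omega⟩ le_rfl).2, neg_zero]
      have hx1 : Root H (eR F n (i - 1) + (eR F n i + c • eL F n i)) := by
        have h := (hM _ (eR_mem_Mi (j := i - 1) (by omega))).map hU
        rw [u_eR (by omega), show i - 1 + 1 = i by omega, add_assoc] at h
        convert h using 2
        rw [hc]
        congr 1
        by_cases h' : n ≤ i + 1
        · rw [if_pos h', if_pos (by omega), one_smul, show n - 1 = i by omega]
        · rw [if_neg h', if_neg (by omega), zero_smul]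
      have hx2 : Root H (eL F n (i - 1) + eL F n i) := by
        have h := (hM _ (eL_mem_Mi (j := i - 1) (by omega))).map (inv_mem hW)
        rwa [hWdef, Winv_eL ht (by omega) (by omega), show i - 1 + 1 = i by omega] at h
      set α := v (.inr ⟨i, by omega⟩) with hα
      set β := v (.inl ⟨i, by omega⟩) - c * α with hβ
      have hm : v - (α • (eR F n i + c • eL F n i) + β • eL F n i) ∈ Mi F n i := by
        intro k hk
        by_cases hki : (k : ℕ) = i
        · obtain rfl : k = ⟨i, hin⟩ := Fin.ext hki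
          simp [hβ, hα]; ring
        · simp [hki, (hv k (by omega)).1, (hv k (by omega)).2]
      have h := grow hM Mi_nondeg (fun w _ => Mi_four hi hn w)
        (eR_mem_Mi (j := i - 1) (by omega)) (eR_ne_zero (by omega))
        (eL_mem_Mi (j := i - 1) (by omega)) (eL_ne_zero (by omega)) hz1 hz2
        (by rw [f_add_left, f_smul_left, sympForm_self, f_eR (by omega)]; simp) hx1 hx2 hm α β
      rwa [sub_add_cancel] at h
  rw [eq_top_iff, ← closure_tvSet_eq_top, Subgroup.closure_le]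
  rintro A ⟨v, c, -, hA⟩
  have h := hall n hn le_rfl v (fun k hk => absurd k.isLt (by omega)) c
  rwa [show tv v c = A from Subtype.ext hA.symm] at h

end Cfsg.Agent.Classical.SympThreeGen
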