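import Mathlib
import Cfsg.Agent.Lib.Classical.SympThreeGenStd

/-!
# A monomial element, a long root group and a short root family generate the symplectic group
-/

set_option autoImplicit false
set_option linter.unusedSectionVars false

namespace Cfsg.Agent.Classical.SympTwoGen

open Matrix
open Cfsg.Agent.Forms.SympStd
open Cfsg.Agent.Classical.Symplectic
open Cfsg.Agent.Classical.SympThreeGen

variable {F : Type*} [Field F] {m : ℕ}

local notation "Vec" => (Fin m ⊕ Fin m → F)
local notation "Mat" => Matrix (Fin m ⊕ Fin m) (Fin m ⊕ Fin m) F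
local notation "Sp" => symplecticGroup (Fin m) F
local notation "f" => Cfsg.sympForm m F

/-- the cyclic predecessor -/
def prv (i : Fin m) : Fin m := ⟨if (i : ℕ) = 0 then m - 1 else i - 1, by have := i.isLt; split_ifs <;> omega⟩

theorem prv_bijective : Function.Bijective (prv (m := m)) := by
  refine (Finite.injective_iff_bijective).1 fun a b h => ?_
  have ha := a.isLt
  have hb := b.isLt
  simp only [prv, Fin.ext_iff] at h
  ext
  split_ifs at h <;> omega

variable (F m) in
/-- the signed cycle on the `2m` coordinate lines -/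
def nLin : (Fin m ⊕ Fin m → F) →ₗ[F] (Fin m ⊕ Fin m → F) where
  toFun v := Sum.elim
    (fun i => if (i : ℕ) = 0 then - v (.inr (prv i)) else v (.inl (prv i)))
    (fun i => if (i : ℕ) = 0 then v (.inl (prv i)) else v (.inr (prv i)))
  map_add' v w := by funext s; cases s <;> simp <;> split_ifs <;> ring
  map_smul' c v := by funext s; cases s <;> simp

theorem nLin_form (v w : Vec) : f (nLin F m v) (nLin F m w) = f v w := by
  rw [sympForm_eq, sympForm_eq]
  refine Fintype.sum_equiv (Equiv.ofBijective _ prv_bijective) _ _ fun i => ?_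
  simp only [nLin, LinearMap.coe_mk, AddHom.coe_mk, Sum.elim_inl, Sum.elim_inr, Equiv.ofBijective_apply]
  split_ifs <;> ring

variable (F m) in
/-- the monomial element -/
noncomputable def nEl : Matrix.symplecticGroup (Fin m) F :=
  ⟨LinearMap.toMatrix' (nLin F m), mem_sp_iff.2 fun v w => by
    simp only [← Matrix.toLin'_apply, Matrix.toLin'_toMatrix']
    exact nLin_form v w⟩

local notation "𝐧" => nEl F m

theorem nEl_mulVec (v : Vec) : (𝐧 : Mat) *ᵥ v = nLin F m v := by
  simp [nEl, ← Matrix.toLin'_apply]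

theorem n_eL {i : ℕ} (h : i + 1 < m) : (𝐧 : Mat) *ᵥ eL F m i = eL F m (i + 1) := by
  rw [nEl_mulVec]; funext s
  rcases s with k | k <;> have := k.isLt <;> by_cases hk : (k : ℕ) = 0 <;>
    simp [nLin, prv, hk] <;> (try split_ifs) <;> first | (exfalso; omega) | rfl | omega

theorem n_eR {i : ℕ} (h : i + 1 < m) : (𝐧 : Mat) *ᵥ eR F m i = eR F m (i + 1) := by
  rw [nEl_mulVec]; funext s
  rcases s with k | k <;> have := k.isLt <;> by_cases hk : (k : ℕ) = 0 <;>
    simp [nLin, prv, hk] <;> (try split_ifs) <;> first | (exfalso; omega) | rfl | omega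

theorem n_eL_last (hm : 1 ≤ m) : (𝐧 : Mat) *ᵥ eL F m (m - 1) = eR F m 0 := by
  rw [nEl_mulVec]; funext s
  rcases s with k | k <;> have := k.isLt <;> by_cases hk : (k : ℕ) = 0 <;>
    simp [nLin, prv, hk] <;> (try split_ifs) <;> first | (exfalso; omega) | rfl | omega

variable {H : Subgroup (Matrix.symplecticGroup (Fin m) F)}

/-- `r` is the vector of some element of the radical at `z` lying in `H` -/
def InRad (H : Subgroup Sp) (z r : Vec) : Prop := f r z = 0 ∧ ∃ θ, Eich H z r θ

theorem InRad.zero (z : Vec) : InRad H z 0 :=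
  ⟨f_zero_left z, 0, 1, one_mem H, fun x => by simp [f_zero_right]⟩

theorem InRad.add {z r r' : Vec} (h : InRad H z r) (h' : InRad H z r') : InRad H z (r + r') := by
  obtain ⟨hr, θ, h⟩ := h
  obtain ⟨hr', θ', h'⟩ := h'
  exact ⟨by rw [f_add_left, hr, hr', add_zero], _, h.mul hr hr' h'⟩

theorem InRad.neg {z r : Vec} (h : InRad H z r) : InRad H z (-r) := by
  obtain ⟨hr, θ, h⟩ := h
  exact ⟨by rw [f_neg_left, hr, neg_zero], _, h.neg hr⟩

theorem InRad.moved {z r : Vec} (h : InRad H z r) {A : Sp} (hA : A ∈ H)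
    (hz : (A : Mat) *ᵥ z = z) : InRad H z ((A : Mat) *ᵥ r - r) := by
  obtain ⟨hr, θ, he⟩ := h
  have h1 : InRad H z ((A : Mat) *ᵥ r) := by
    refine ⟨?_, θ, he.conj hA hz⟩
    conv_lhs => rw [← hz]
    rw [sympForm_mulVec, hr]
  rw [sub_eq_add_neg]
  exact h1.add (InRad.neg ⟨hr, θ, he⟩)

theorem sum_coords (v : Vec) :
    v = ∑ k : Fin m, (v (.inl k) • eL F m k + v (.inr k) • eR F m k) := by
  funext s
  rw [Finset.sum_apply]
  rcases s with j | j <;> rw [Finset.sum_eq_single j] <;>
    first
      | (intro b _ hb; simp [Fin.val_ne_of_ne (Ne.symm hb)])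
      | simp

theorem eq_top_of_root_radical [Fintype F] {z w : Vec} (hzw : f w z = 1) (hz : Root H z) (hw : Root H w)
    (hrad : ∀ r, f r z = 0 → InRad H z r) : H = ⊤ := by
  have h1 : ∀ v : Vec, f v z = 1 → Root H v := by
    intro v hv
    obtain ⟨-, θ, he⟩ := hrad (v - w) (by rw [f_sub_left, hv, hzw, sub_self])
    have h2 := he.root hw
    rw [hzw, one_smul] at h2
    set s := f w (v - w) + θ * 1 with hs
    have h3 := h2.map (hz (-s))
    rw [tv_mulVec] at h3
    have e : f (w + (v - w) + s • z) z = 1 := by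
      rw [add_sub_cancel, f_add_left, f_smul_left, sympForm_self, mul_zero, add_zero, hv]
    rw [e, mul_one, add_sub_cancel, neg_smul, add_neg_cancel_right] at h3
    exact h3
  have h2 : ∀ v : Vec, f v z ≠ 0 → Root H v := fun v hv => by
    have := (h1 ((f v z)⁻¹ • v) (by rw [f_smul_left, inv_mul_cancel₀ hv])).smul (f v z)
    rwa [smul_smul, mul_inv_cancel₀ hv, one_smul] at this
  have hall : ∀ v : Vec, Root H v := by
    intro v
    by_cases hv0 : v = 0
    · rw [hv0]; exact root_zero
    by_cases hv : f v z ≠ 0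
    · exact h2 v hv
    push Not at hv
    obtain ⟨y, hy⟩ := exists_partner hv0
    obtain ⟨x, hxz, hxv⟩ : ∃ x, f x z ≠ 0 ∧ f x v ≠ 0 := by
      have hyv : f y v ≠ 0 := by
        rw [sympForm_swap, hy]; exact neg_ne_zero.2 one_ne_zero
      by_cases hyz : f y z ≠ 0
      · exact ⟨y, hyz, hyv⟩
      by_cases hwv : f w v ≠ 0
      · exact ⟨w, by rw [hzw]; exact one_ne_zero, hwv⟩
      push Not at hyz hwv
      exact ⟨y + w, by rw [f_add_left, hyz, hzw, zero_add]; exact one_ne_zero,
        by rw [f_add_left, hwv, add_zero]; exact hyv⟩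
    have := (h2 x hxz).add (h2 (v - x) (by rw [f_sub_left, hv, zero_sub]; exact neg_ne_zero.2 hxz))
      (by rw [f_sub_right, sympForm_self, sub_zero]; exact hxv)
    rwa [add_sub_cancel] at this
  rw [eq_top_iff, ← closure_tvSet_eq_top, Subgroup.closure_le]
  rintro A ⟨v, c, -, hA⟩
  rw [show A = tv v c from Subtype.ext hA]
  exact hall v c

theorem eq_top_of_cycle [Fintype F] (hm : 2 ≤ m) (hn : 𝐧 ∈ H) (hz : Root H (eL F m 0))
    (hS : ∀ t : F, dd m (eL F m 0) (eL F m 1) t ∈ H) : H = ⊤ := by
  have hL : ∀ i, i < m → Root H (eL F m i) := by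
    intro i
    induction i with
    | zero => exact fun _ => hz
    | succ i ih =>
      intro hi
      rw [← n_eL (F := F) hi]
      exact (ih (by omega)).map hn
  have hR : ∀ i, i < m → Root H (eR F m i) := by
    intro i
    induction i with
    | zero =>
      intro _
      rw [← n_eL_last (F := F) (by omega : 1 ≤ m)]
      exact (hL (m - 1) (by omega)).map hn
    | succ i ih =>
      intro hi
      rw [← n_eR (F := F) hi]
      exact (ih (by omega)).map hn
  have hdd : ∀ i, i + 1 < m → ∀ t : F, dd m (eL F m i) (eL F m (i + 1)) t ∈ H := by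
    intro i
    induction i with
    | zero => exact fun _ => hS
    | succ i ih =>
      intro hi t
      have := mul_mem (mul_mem hn (ih (by omega) t)) (inv_mem hn)
      rwa [dd_conj, n_eL (by omega), n_eL hi] at this
  have fLL : ∀ i j : ℕ, i < m → f (eL F m i) (eL F m j) = 0 := fun i j hi => by rw [f_eL hi]; simp
  have fRR : ∀ i j : ℕ, i < m → f (eR F m i) (eR F m j) = 0 := fun i j hi => by rw [f_eR hi]; simp
  have fLR : ∀ i j : ℕ, i < m → f (eL F m i) (eR F m j) = if i = j then -1 else 0 := fun i j hi => by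
    rw [f_eL hi, eR_inr]; split_ifs <;> simp
  have fRL : ∀ i j : ℕ, i < m → f (eR F m i) (eL F m j) = if i = j then 1 else 0 := fun i j hi => by
    rw [f_eR hi, eL_inl]
  set z := eL F m 0 with hzdef
  have hchain : ∀ j, 1 ≤ j → j < m → ∀ c : F, InRad H z (c • eL F m j) ∧ InRad H z (c • eR F m j) := by
    intro j hj
    induction j, hj using Nat.le_induction with
    | base =>
      intro hj
      have hL1 : ∀ c : F, InRad H z (c • eL F m 1) := fun c => by
        refine ⟨by rw [f_smul_left, fLL 1 0 hj, mul_zero], 0, _, hS c, fun x => ?_⟩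
        rw [dd_mulVec (fLL 0 1 (by omega)), f_smul_right]
        module
      intro c
      refine ⟨hL1 c, ?_⟩
      have h := (hL1 1).moved (hR 1 hj (-c)) (by
        rw [tv_mulVec, fLR 0 1 (by omega), if_neg zero_ne_one, mul_zero, zero_smul, add_zero])
      rwa [tv_mulVec, one_smul, fLR 1 1 hj, if_pos rfl, neg_mul_neg, mul_one,
        add_sub_cancel_left] at h
    | succ j hj ih =>
      intro hj1
      have hR1 := (ih (by omega) 1).2
      rw [one_smul] at hR1
      have hL1 : ∀ c : F, InRad H z (c • eL F m (j + 1)) := fun c => by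
        have h := hR1.moved (hdd j hj1 c) (by
          rw [dd_mulVec (fLL j (j + 1) (by omega)), fLL 0 (j + 1) (by omega), fLL 0 j (by omega)]
          simp)
        rwa [dd_mulVec (fLL j (j + 1) (by omega)), fRL j (j + 1) (by omega), fRL j j (by omega),
          if_pos rfl, if_neg (by omega), mul_zero, zero_smul, add_zero, mul_one,
          add_sub_cancel_left] at h
      intro c
      refine ⟨hL1 c, ?_⟩
      have h := (hL1 1).moved (hR (j + 1) hj1 (-c)) (by
        rw [tv_mulVec, fLR 0 (j + 1) (by omega), if_neg (by omega), mul_zero, zero_smul, add_zero])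
      rwa [tv_mulVec, one_smul, fLR (j + 1) (j + 1) hj1, if_pos rfl, neg_mul_neg, mul_one,
        add_sub_cancel_left] at h
  refine eq_top_of_root_radical (z := z) (w := eR F m 0) ?_ hz (hR 0 (by omega)) fun r hr => ?_
  · rw [hzdef, fRL 0 0 (by omega), if_pos rfl]
  rw [sum_coords r]
  refine Finset.sum_induction _ (InRad H z) (fun a b => InRad.add) (InRad.zero z) fun k _ => ?_
  by_cases hk : (k : ℕ) = 0
  · have hr0 : r (.inr k) = 0 := by
      rw [hzdef, f_eL' (by omega)] at hr
      rwa [show k = ⟨0, by omega⟩ from Fin.ext hk]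
    rw [hr0, zero_smul, add_zero, hk, ← hzdef]
    refine ⟨by rw [f_smul_left, sympForm_self, mul_zero], 0, _, hz (2 * r (.inl k)), fun x => ?_⟩
    rw [tv_mulVec, f_smul_right]
    module
  · exact (hchain k (by omega) k.isLt _).1.add (hchain k (by omega) k.isLt _).2

end Cfsg.Agent.Classical.SympTwoGen
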