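import Cfsg.Agent.Lib.Classical.Linear

/-!
# Two generators of `SL_{n+1}`

A subgroup containing the root group of `(0, 1)` and the monomial `n+1`-cycle is everything; the
root group lies in the group generated by `h` and `x w`.
-/

set_option autoImplicit false

namespace Cfsg.Agent.Classical.TwoGen

open Matrix Fin.NatCast Fin.CommRing
open Cfsg.Agent.Classical.Linear

variable {K : Type*} [Field K] {n : ℕ}

/-- The signs of the monomial cycle. -/
def sgn (K : Type*) [Field K] (n : ℕ) (i : Fin (n + 1)) : K := if (i : ℕ) = n then (-1) ^ n else 1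

theorem sgn_sq (i : Fin (n + 1)) : sgn K n i * sgn K n i = 1 := by
  simp only [sgn]
  split_ifs
  · rw [← pow_add, Even.neg_one_pow ⟨n, rfl⟩]
  · exact one_mul 1

theorem cycle_smul {w : Matrix.SpecialLinearGroup (Fin (n + 1)) K}
    (hw : (w : Matrix (Fin (n + 1)) (Fin (n + 1)) K) =
      Matrix.of (fun i j => if j.val = i.val + 1 then 1 else if i.val = n ∧ j.val = 0 then (-1) ^ n else 0))
    (v : Fin (n + 1) → K) (i : Fin (n + 1)) : (w • v) i = sgn K n i * v (i + 1) := by
  rw [Matrix.SpecialLinearGroup.smul_def, Matrix.smul_eq_mulVec, hw]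
  simp only [Matrix.mulVec, dotProduct, Matrix.of_apply]
  rw [Finset.sum_eq_single (i + 1)]
  · have hv : ((i + 1 : Fin (n + 1)) : ℕ) = if (i : ℕ) = n then 0 else (i : ℕ) + 1 := by
      rw [Fin.val_add_one]
      simp [Fin.ext_iff]
    simp only [hv, sgn]
    by_cases hi : (i : ℕ) = n <;> simp [hi]
  · intro j _ hj
    rw [if_neg, if_neg, zero_mul]
    · rintro ⟨hi, hj0⟩
      exact hj (Fin.ext (by rw [Fin.val_add_one]; simp [Fin.ext_iff, hi, hj0]))
    · intro hji
      exact hj (Fin.ext (by
        rw [Fin.val_add_one]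
        have := j.isLt
        simp [Fin.ext_iff]
        split_ifs <;> omega))
  · simp

theorem cycle_conj {w : Matrix.SpecialLinearGroup (Fin (n + 1)) K}
    (hw : (w : Matrix (Fin (n + 1)) (Fin (n + 1)) K) =
      Matrix.of (fun i j => if j.val = i.val + 1 then 1 else if i.val = n ∧ j.val = 0 then (-1) ^ n else 0))
    {a b : Fin (n + 1)} (h : a ≠ b) (h' : a - 1 ≠ b - 1) (c : K) :
    w * SpecialLinearGroup.transvection h c * w⁻¹ =
      SpecialLinearGroup.transvection h' (sgn K n (a - 1) * sgn K n (b - 1) * c) := by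
  rw [mul_inv_eq_iff_eq_mul]
  refine eq_of_mulVec fun v i => ?_
  rw [mul_smul, mul_smul, cycle_smul hw, transvection_smul_apply, transvection_smul_apply,
    cycle_smul hw, cycle_smul hw, sub_add_cancel]
  by_cases hi : i = a - 1
  · subst hi
    simp only [sub_add_cancel, ↓reduceIte]
    linear_combination -(sgn K n (a - 1) * c * v b) * sgn_sq (K := K) (b - 1)
  · rw [if_neg hi, if_neg (fun e => hi (by rw [← e, add_sub_cancel_right]))]
    ring

theorem eq_top (hn : 1 ≤ n) {w : Matrix.SpecialLinearGroup (Fin (n + 1)) K}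
    (hw : (w : Matrix (Fin (n + 1)) (Fin (n + 1)) K) =
      Matrix.of (fun i j => if j.val = i.val + 1 then 1 else if i.val = n ∧ j.val = 0 then (-1) ^ n else 0))
    (H : Subgroup (Matrix.SpecialLinearGroup (Fin (n + 1)) K)) (hwH : w ∈ H)
    (h01 : (0 : Fin (n + 1)) ≠ 1) (hroot : ∀ c : K, SpecialLinearGroup.transvection h01 c ∈ H) :
    H = ⊤ := by
  let P : Fin (n + 1) → Fin (n + 1) → Prop := fun a b => ∃ h : a ≠ b,
    ∀ c : K, SpecialLinearGroup.transvection h c ∈ H
  have hstep : ∀ {a b : Fin (n + 1)}, P a b → P (a - 1) (b - 1) := by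
    rintro a b ⟨h, hm⟩
    have h' : a - 1 ≠ b - 1 := fun e => h (sub_left_injective e)
    refine ⟨h', fun c => ?_⟩
    have e := cycle_conj hw h h' (sgn K n (a - 1) * sgn K n (b - 1) * c)
    rw [show sgn K n (a - 1) * sgn K n (b - 1) * (sgn K n (a - 1) * sgn K n (b - 1) * c) = c by
      linear_combination (sgn K n (b - 1) * sgn K n (b - 1) * c) * sgn_sq (K := K) (a - 1) +
        c * sgn_sq (K := K) (b - 1)] at e
    exact e ▸ mul_mem (mul_mem hwH (hm _)) (inv_mem hwH)
  have hbase : ∀ m : ℕ, P (0 - (m : Fin (n + 1))) (1 - (m : Fin (n + 1))) := by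
    intro m
    induction m with
    | zero => rw [Nat.cast_zero, sub_zero, sub_zero]; exact ⟨h01, hroot⟩
    | succ m ih =>
      rw [Nat.cast_succ, sub_add_eq_sub_sub, sub_add_eq_sub_sub]
      exact hstep ih
  have hadj : ∀ i : Fin (n + 1), P i (i + 1) := fun i => by
    have h := hbase ((-i : Fin (n + 1)) : ℕ)
    rwa [Fin.cast_val_eq_self, zero_sub, sub_neg_eq_add, neg_neg, add_comm] at h
  have hd : ∀ d : ℕ, 1 ≤ d → d ≤ n → ∀ i : Fin (n + 1), P i (i + (d : Fin (n + 1))) := by
    intro d hd1
    induction d, hd1 using Nat.le_induction with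
    | base => intro _ i; simpa using hadj i
    | succ d hd1 ih =>
      intro hdn i
      obtain ⟨ha, hA⟩ := ih (by omega) i
      obtain ⟨hb, hB⟩ : P (i + (d : Fin (n + 1))) (i + ((d + 1 : ℕ) : Fin (n + 1))) := by
        rw [Nat.cast_succ, ← add_assoc]; exact hadj _
      have hne : i ≠ i + ((d + 1 : ℕ) : Fin (n + 1)) := fun e => by
        have h := congrArg Fin.val (left_eq_add.1 e)
        rw [Fin.val_natCast, Nat.mod_eq_of_lt (by omega)] at h
        simp at h
      refine ⟨hne, fun c => ?_⟩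
      have := commutator_transvection hne ha hb c 1
      rw [mul_one] at this
      rw [← this, commutatorElement_def]
      exact mul_mem (mul_mem (mul_mem (hA _) (hB _)) (inv_mem (hA _))) (inv_mem (hB _))
  refine eq_top_of_transvection_mem _ fun i j hij c => ?_
  have hne : ((j - i : Fin (n + 1)) : ℕ) ≠ 0 := fun e =>
    hij (sub_eq_zero.1 (Fin.ext e : j - i = 0)).symm
  obtain ⟨_, hm⟩ : P i j := by
    have := hd ((j - i : Fin (n + 1)) : ℕ) (by omega) (by have := (j - i).isLt; omega) i
    rwa [Fin.cast_val_eq_self, add_sub_cancel] at this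
  exact hm c

/-- `u ↦ T(a,b,u)` conjugated by a diagonal matrix. -/
theorem diag_conj {D : Matrix.SpecialLinearGroup (Fin (n + 1)) K} {d : Fin (n + 1) → K}
    (hD : ∀ (v : Fin (n + 1) → K) (i : Fin (n + 1)), (D • v) i = d i * v i)
    {a b : Fin (n + 1)} (h : a ≠ b) (u u' : K) (hu : d a * u = u' * d b) :
    D * SpecialLinearGroup.transvection h u * D⁻¹ = SpecialLinearGroup.transvection h u' := by
  rw [mul_inv_eq_iff_eq_mul]
  refine eq_of_mulVec fun v i => ?_
  rw [mul_smul, mul_smul, hD, transvection_smul_apply, transvection_smul_apply, hD, hD]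
  by_cases hi : i = a
  · subst hi
    simp only [↓reduceIte]
    linear_combination (v b) * hu
  · rw [if_neg hi, if_neg hi]; ring

/-- `c` times sums of squares exhaust a finite field. -/
theorem squares_closure [Fintype K] (c : K) : c ∈ AddSubgroup.closure {x : K | ∃ u : K, x = u * u} := by
  classical
  set A := AddSubgroup.closure {x : K | ∃ u : K, x = u * u}
  by_cases h2 : (2 : K) = 0
  · have : CharP K 2 := CharTwo.of_one_ne_zero_of_two_eq_zero one_ne_zero h2
    obtain ⟨r, hr⟩ := FiniteField.isSquare_of_char_two (ringChar.eq K 2) c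
    exact AddSubgroup.subset_closure ⟨r, hr⟩
  · have h4 : (4 : K) ≠ 0 := by
      rw [show (4 : K) = 2 * 2 by norm_num]; exact mul_ne_zero h2 h2
    rw [show c = (c + 1) / 2 * ((c + 1) / 2) - (c - 1) / 2 * ((c - 1) / 2) by field_simp; ring]
    exact A.sub_mem (AddSubgroup.subset_closure ⟨_, rfl⟩) (AddSubgroup.subset_closure ⟨_, rfl⟩)

end Cfsg.Agent.Classical.TwoGen
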