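import Mathlib
import Cfsg.Agent.Lib.Classical.SympTwoGenCore
import Cfsg.Agent.Lib.Classical.TwoGenExtract
import Cfsg.Agent.Lib.Classical.TwoGen

/-!
# The projective symplectic group is generated by two elements
-/

set_option autoImplicit false
set_option linter.unusedSectionVars false

namespace Cfsg.Agent.Classical.SympTwoGen

open Matrix
open Cfsg.Agent.Forms.SympStd
open Cfsg.Agent.Classical.Symplectic
open Cfsg.Agent.Classical.SympThreeGen
open Cfsg.Agent.Classical.TwoGenExtract

variable {F : Type*} [Field F] {m : ℕ}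

local notation "Vec" => (Fin m ⊕ Fin m → F)
local notation "Mat" => Matrix (Fin m ⊕ Fin m) (Fin m ⊕ Fin m) F
local notation "Sp" => symplecticGroup (Fin m) F
local notation "f" => Cfsg.sympForm m F
local notation "𝐧" => nEl F m

variable (m) in
/-- a diagonal map -/
def diagLin (d : Fin m → Fˣ) : (Fin m ⊕ Fin m → F) →ₗ[F] (Fin m ⊕ Fin m → F) where
  toFun v := Sum.elim (fun i => (d i : F) * v (.inl i)) (fun i => ((d i)⁻¹ : Fˣ) * v (.inr i))
  map_add' v w := by funext s; cases s <;> simp <;> ring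
  map_smul' c v := by funext s; cases s <;> simp <;> ring

theorem diagLin_form (d : Fin m → Fˣ) (v w : Vec) : f (diagLin m d v) (diagLin m d w) = f v w := by
  rw [sympForm_eq, sympForm_eq]
  refine Finset.sum_congr rfl fun i _ => ?_
  simp [diagLin]
  field_simp

/-- the diagonal elements, as a hom -/
noncomputable def diagEl : (Fin m → Fˣ) →* Matrix.symplecticGroup (Fin m) F where
  toFun d := ⟨LinearMap.toMatrix' (diagLin m d), mem_sp_iff.2 fun v w => by
    simp only [← Matrix.toLin'_apply, Matrix.toLin'_toMatrix']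
    exact diagLin_form d v w⟩
  map_one' := by
    refine sp_ext fun v => ?_
    rw [show ((1 : Sp) : Mat) = 1 from rfl, Matrix.one_mulVec]
    simp only [← Matrix.toLin'_apply, Matrix.toLin'_toMatrix']
    funext s; cases s <;> simp [diagLin]
  map_mul' d e := by
    refine sp_ext fun v => ?_
    rw [mul_mulVec_sp]
    simp only [← Matrix.toLin'_apply, Matrix.toLin'_toMatrix']
    funext s; cases s <;> simp [diagLin] <;> ring

theorem diag_mulVec (d : Fin m → Fˣ) (v : Vec) : (diagEl d : Mat) *ᵥ v = diagLin m d v := by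
  simp [diagEl, ← Matrix.toLin'_apply]

theorem diag_eL (d : Fin m → Fˣ) {i : ℕ} (hi : i < m) :
    (diagEl d : Mat) *ᵥ eL F m i = (d ⟨i, hi⟩ : F) • eL F m i := by
  rw [diag_mulVec]; funext s
  rcases s with k | k <;> by_cases hk : (k : ℕ) = i <;> simp [diagLin, hk]
  rw [show k = ⟨i, hi⟩ from Fin.ext hk]

theorem n_diag (d : Fin m → Fˣ) : ∃ d' : Fin m → Fˣ, (∀ i : Fin m,
    d' i = if (i : ℕ) = 0 then (d (prv i))⁻¹ else d (prv i)) ∧ 𝐧 * diagEl d * 𝐧⁻¹ = diagEl d' := by
  refine ⟨_, fun i => rfl, mul_inv_eq_iff_eq_mul.2 (sp_ext fun v => ?_)⟩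
  rw [mul_mulVec_sp, mul_mulVec_sp, diag_mulVec, nEl_mulVec, nEl_mulVec, diag_mulVec]
  funext s
  rcases s with k | k <;> by_cases hk : (k : ℕ) = 0 <;> simp [nLin, diagLin, hk]

theorem dd_smul {v w : Vec} (h : f v w = 0) (a b t : F) :
    dd m (a • v) (b • w) t = dd m v w (a * b * t) := by
  refine sp_ext fun x => ?_
  rw [dd_mulVec (by rw [f_smul_left, f_smul_right, h, mul_zero, mul_zero]), dd_mulVec h, f_smul_right,
    f_smul_right]
  module

theorem dd_add {v w : Vec} (h : f v w = 0) (a b : F) :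
    dd m v w (a + b) = dd m v w a * dd m v w b := by
  have h' : f w v = 0 := by rw [sympForm_swap, h, neg_zero]
  refine sp_ext fun x => ?_
  rw [mul_mulVec_sp, dd_mulVec h, dd_mulVec h, dd_mulVec h]
  simp only [f_add_left, f_smul_left, sympForm_self, h, h']
  module

theorem fLL {i j : ℕ} (hi : i < m) : f (eL F m i) (eL F m j) = 0 := by rw [f_eL hi]; simp

theorem two_gen_large [Fintype F] (hm : 2 ≤ m) (hF : ∃ x : F, x ≠ 0 ∧ x ≠ 1) :
    ∃ a b : Sp, Subgroup.closure ({a, b} : Set Sp) = ⊤ := by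
  obtain ⟨k, hgen, hk1⟩ := exists_generator F
  replace hk1 := hk1 hF
  obtain ⟨p, hp⟩ := CharP.exists F
  obtain ⟨l, hpr, hcard⟩ := FiniteField.card F p
  set d : Fin m → Fˣ := fun i => if (i : ℕ) = 0 then k else 1 with hd
  obtain ⟨d', hd', hnh⟩ := n_diag d
  set h : Sp := diagEl d with hh
  set y : Sp := tv (eL F m 1) 1 with hy
  set Y : F → Sp := fun t => dd m (eL F m 0) (eL F m 1) t with hY
  refine ⟨h * y, Y 1 * 𝐧, ?_⟩
  set H := Subgroup.closure ({h * y, Y 1 * 𝐧} : Set Sp) with hH
  have hcomm : Commute h y := by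
    have := tv_conj h (eL F m 1) 1
    rw [hh, diag_eL _ (show 1 < m by omega), hd] at this
    simp only [one_ne_zero, ↓reduceIte, Units.val_one, one_smul] at this
    exact mul_inv_eq_iff_eq_mul.1 this
  have hhq : h ^ (Fintype.card F) = h := by
    rw [hh, ← map_pow]
    congr 1
    funext i
    exact Units.ext (FiniteField.pow_card _)
  have htvp : ∀ j : ℕ, y ^ j = tv (eL F m 1) (j : F) := fun j => by
    induction j with
    | zero => rw [pow_zero, Nat.cast_zero, Cfsg.Agent.Classical.Symplectic.tv_zero]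
    | succ j ih => rw [pow_succ, ih, hy, Cfsg.Agent.Classical.Symplectic.tv_mul, Nat.cast_succ]
  have hyp : y ^ p = 1 := by rw [htvp, CharP.cast_eq_zero, Cfsg.Agent.Classical.Symplectic.tv_zero]
  obtain ⟨hhH, hyH⟩ := split (H := H) (p := p) (k := l) l.2 hcard.symm hcomm hhq hyp
    (Subgroup.subset_closure (by simp))
  have h01 : f (eL F m 0) (eL F m 1) = 0 := fLL (by omega)
  have hs : ∀ t, h * Y t * h⁻¹ = Y ((k : F) * t) := fun t => by
    simp only [hY, hh]
    rw [dd_conj, diag_eL _ (show 0 < m by omega), diag_eL _ (show 1 < m by omega), dd_smul h01]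
    simp [hd]
  have hs' : ∀ t, diagEl d' * Y t * (diagEl d')⁻¹ = Y ((k : F) * t) := fun t => by
    simp only [hY]
    rw [dd_conj, diag_eL _ (show 0 < m by omega), diag_eL _ (show 1 < m by omega), dd_smul h01, hd', hd']
    simp [hd, prv, show m - 1 ≠ 0 by omega]
  obtain ⟨hall, hn⟩ := steinberg_trick (H := H) (Y := Y) (dd_add h01) hnh
    (by rw [hh, ← map_mul, ← map_mul, mul_comm]) hs hs' hgen hk1 hk1 one_ne_zero hhH
    (Subgroup.subset_closure (by simp))
  refine eq_top_of_cycle hm hn ?_ hall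
  have hz1 : tv (eL F m 0) (1 : F) ∈ H := by
    have h1 := conj_mem (inv_mem hn) hyH
    rwa [inv_mulVec_of_eq (n_eL (by omega))] at h1
  set P := params H (fun c => tv (eL F m 0) c)
    (fun a b => (Cfsg.Agent.Classical.Symplectic.tv_mul _ a b).symm)
  intro c
  refine (AddSubgroup.closure_le P).2 ?_ (Cfsg.Agent.Classical.TwoGen.squares_closure c)
  rintro _ ⟨u, rfl⟩
  by_cases hu : u = 0
  · rw [hu, mul_zero]; exact P.zero_mem
  obtain ⟨j, rfl⟩ := hgen u hu
  have hsc : ∀ t, h * tv (eL F m 0) t * h⁻¹ = tv (eL F m 0) ((k : F) * k * t) := fun t => by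
    rw [tv_conj, hh, diag_eL _ (show 0 < m by omega), tv_smul]
    simp [hd]
  have := family_pow (H := H) (Y := fun c => tv (eL F m 0) c) h hhH hsc hz1 j
  rwa [mul_one, mul_pow] at this

set_option maxHeartbeats 1000000 in
theorem two_gen_small [Fintype F] (hm : 3 ≤ m) (hF : ∀ x : F, x = 0 ∨ x = 1) :
    ∃ a b : Sp, Subgroup.closure ({a, b} : Set Sp) = ⊤ := by
  have h2 : (2 : F) = 0 := (hF 2).resolve_right fun h => by
    have : (1 : F) + 1 = 1 + 0 := by rw [add_zero, one_add_one_eq_two, h]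
    exact one_ne_zero (add_left_cancel this)
  set e0 := eL F m 0 with he0
  set e1 := eL F m 1 with he1
  set e2 := eL F m 2 with he2
  set f0 := eR F m 0 with hf0
  set g : Sp := tv e0 1 * tv f0 1 with hg
  set x : Sp := dd m e1 e2 1 with hx
  refine ⟨g * x, 𝐧, ?_⟩
  set H := Subgroup.closure ({g * x, 𝐧} : Set Sp) with hH
  have f00 : f f0 e0 = 1 := by rw [hf0, he0, f_eR (by omega)]; simp
  have f00' : f e0 f0 = 1 := by
    rw [sympForm_swap, f00]; linear_combination -h2
  have f01 : f e0 e1 = 0 := fLL (by omega)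
  have g01 : f f0 e1 = 0 := by rw [hf0, f_eR (by omega), he1]; simp
  have f02 : f e0 e2 = 0 := fLL (by omega)
  have g02 : f f0 e2 = 0 := by rw [hf0, f_eR (by omega), he2]; simp
  have f12 : f e1 e2 = 0 := fLL (by omega)
  have sw : ∀ u v : Vec, f u v = 0 → f v u = 0 := fun u v h => by rw [sympForm_swap, h, neg_zero]
  have hge : ∀ v : Vec, (g : Mat) *ᵥ v = v + f v f0 • f0 + (f v e0 + f v f0) • e0 := fun v => by
    simp only [hg, mul_mulVec_sp, tv_mulVec, f_add_left, f_smul_left, f00]
    module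
  have ge0 : (g : Mat) *ᵥ e0 = f0 := by
    rw [hge, f00', sympForm_self]
    match_scalars <;> first | ring1 | linear_combination h2
  have gf0 : (g : Mat) *ᵥ f0 = e0 + f0 := by
    rw [hge, f00, sympForm_self]
    module
  have ge1 : (g : Mat) *ᵥ e1 = e1 := by rw [hge, sw _ _ f01, sw _ _ g01]; simp
  have ge2 : (g : Mat) *ᵥ e2 = e2 := by rw [hge, sw _ _ f02, sw _ _ g02]; simp
  have hcomm : Commute g x := by
    have := dd_conj g e1 e2 1
    rw [ge1, ge2] at this
    exact mul_inv_eq_iff_eq_mul.1 this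
  have hg3 : g ^ 3 = 1 := by
    refine sp_ext fun v => ?_
    rw [show ((1 : Sp) : Mat) = 1 from rfl, Matrix.one_mulVec, pow_succ, pow_succ, pow_one]
    simp only [mul_mulVec_sp, hge, f_add_left, f_smul_left, f00, f00', sympForm_self]
    match_scalars <;> grind
  have hx2 : x ^ 2 = 1 := by
    rw [sq, hx, ← dd_add f12, one_add_one_eq_two, h2]
    refine sp_ext fun v => ?_
    rw [dd_mulVec f12, show ((1 : Sp) : Mat) = 1 from rfl, Matrix.one_mulVec]
    simp
  have hb : 𝐧 ∈ H := Subgroup.subset_closure (by simp)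
  have hxH : x ∈ H := by
    have := H.pow_mem (Subgroup.subset_closure (show g * x ∈ ({g * x, 𝐧} : Set Sp) by simp)) 3
    rwa [hcomm.mul_pow, hg3, one_mul, pow_succ, hx2, one_mul] at this
  have hgH : g ∈ H := by
    have := mul_mem (Subgroup.subset_closure (show g * x ∈ ({g * x, 𝐧} : Set Sp) by simp))
      (inv_mem hxH)
    rwa [mul_inv_cancel_right] at this
  have hy : dd m e0 e1 1 ∈ H := by
    have := mul_mem (mul_mem (inv_mem hb) hxH) (inv_mem (inv_mem hb))
    rwa [hx, dd_conj, he1, he2, inv_mulVec_of_eq (n_eL (show 0 + 1 < m by omega)),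
      inv_mulVec_of_eq (n_eL (show 1 + 1 < m by omega))] at this
  have hy1 : dd m f0 e1 1 ∈ H := by
    have := mul_mem (mul_mem hgH hy) (inv_mem hgH)
    rwa [dd_conj, ge0, ge1] at this
  have hy2 : dd m (e0 + f0) e1 1 ∈ H := by
    have := mul_mem (mul_mem hgH hy1) (inv_mem hgH)
    rwa [dd_conj, gf0, ge1] at this
  have htv : tv e1 (1 : F) ∈ H := by
    have e : tv e1 (1 : F) = dd m (e0 + f0) e1 1 * dd m f0 e1 1 * dd m e0 e1 1 := by
      refine sp_ext fun v => ?_
      rw [mul_mulVec_sp, mul_mulVec_sp, dd_mulVec f01, dd_mulVec g01,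
        dd_mulVec (by rw [f_add_left, f01, g01, add_zero]), tv_mulVec]
      simp only [f_add_left, f_add_right, f_smul_left, sympForm_self, f00, f00', f01, g01, sw _ _ f01,
        sw _ _ g01]
      match_scalars <;> grind
    rw [e]
    exact mul_mem (mul_mem hy2 hy1) hy
  have hz : tv e0 (1 : F) ∈ H := by
    have := conj_mem (inv_mem hb) htv
    rwa [he1, inv_mulVec_of_eq (n_eL (show 0 + 1 < m by omega))] at this
  refine eq_top_of_cycle (by omega) hb (fun c => ?_) (fun t => ?_)
  · rcases hF c with rfl | rfl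
    · rw [Cfsg.Agent.Classical.Symplectic.tv_zero]; exact one_mem H
    · exact hz
  · rcases hF t with rfl | rfl
    · rw [TwoGenExtract.family_zero (Y := fun t => dd m (eL F m 0) (eL F m 1) t) (dd_add f01)]
      exact one_mem H
    · exact hy

theorem two_gen_PSp [Fintype F] (m : ℕ) (hm : 2 ≤ m) (hF : m = 2 → 2 < Fintype.card F) :
    ∃ a b : Cfsg.PSp m F, Subgroup.closure ({a, b} : Set (Cfsg.PSp m F)) = ⊤ := by
  have h : ∃ a b : symplecticGroup (Fin m) F,
      Subgroup.closure ({a, b} : Set (symplecticGroup (Fin m) F)) = ⊤ := by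
    by_cases hx : ∃ x : F, x ≠ 0 ∧ x ≠ 1
    · exact two_gen_large hm hx
    · have h01 : ∀ x : F, x = 0 ∨ x = 1 := fun x => by
        by_contra hc
        push Not at hc
        exact hx ⟨x, hc⟩
      refine two_gen_small ?_ h01
      by_contra hc
      have h2 := hF (by omega)
      classical
      have : (Finset.univ : Finset F).card ≤ ({0, 1} : Finset F).card :=
        Finset.card_le_card fun x _ => by simpa using h01 x
      rw [Finset.card_univ, Finset.card_pair zero_ne_one] at this
      omega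
  obtain ⟨a, b, hab⟩ := h
  exact exists_quot _ hab

end Cfsg.Agent.Classical.SympTwoGen
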