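import Mathlib
import Cfsg.Agent.Lib.Classical.UnitaryBasic

/-!
# Centralizers in `SU_{2m}(q)` of elements whose irreducible constituents are dual isotropic halves
-/

set_option autoImplicit false
set_option linter.unusedSectionVars false

namespace Cfsg.Agent.Classical.UnitaryHalfTorus

open Matrix Polynomial
open Cfsg.Agent.Forms Cfsg.Agent.Classical

variable {F : Type*} [Field F] [Fintype F] {q n : ℕ} (hF : Fintype.card F = q ^ 2)

local notation "Vec" => (Fin n → F)
local notation "Mat" => Matrix (Fin n) (Fin n) F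
local notation "H" => Cfsg.hermForm n F q

include hF

theorem adjoint_poly {a b : Mat} (hab : a * b = 1) (ha : ∀ u v, H (a *ᵥ u) (a *ᵥ v) = H u v)
    (P : F[X]) (u w : Vec) :
    H (aeval a P *ᵥ u) w = H u (aeval b (P.map (HermStd.qHom hF)) *ᵥ w) := by
  induction P using Polynomial.induction_on' with
  | add P Q hP hQ =>
    rw [map_add, Polynomial.map_add, map_add, Matrix.add_mulVec, Matrix.add_mulVec,
      Unitary.H_add_left, Unitary.H_add_right hF, hP, hQ]
  | monomial i s =>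
    have hpow : ∀ w, H (a ^ i *ᵥ u) w = H u (b ^ i *ᵥ w) := by
      induction i with
      | zero => intro w; simp
      | succ i ih =>
        intro w
        rw [pow_succ', pow_succ, ← Matrix.mulVec_mulVec, ← Matrix.mulVec_mulVec, ← ih]
        conv_lhs => rw [← Matrix.one_mulVec w, ← hab, ← Matrix.mulVec_mulVec]
        rw [ha]
    rw [Polynomial.map_monomial, aeval_monomial, aeval_monomial, Algebra.algebraMap_eq_smul_one,
      Algebra.algebraMap_eq_smul_one, smul_mul_assoc, one_mul, smul_mul_assoc, one_mul,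
      Matrix.smul_mulVec, Matrix.smul_mulVec, Unitary.H_smul_left, Unitary.H_smul_right,
      HermStd.qHom_apply, Unitary.pow_qq hF, hpow]

/-- Isotropic independent vectors have independent dual vectors. -/
theorem exists_dual {k : ℕ} {w : Fin k → Vec} (hli : LinearIndependent F w)
    (hiso : ∀ i j, H (w i) (w j) = 0) :
    ∃ v : Fin k → Vec, (∀ j i, H (v j) (w i) = if j = i then 1 else 0) ∧
      LinearIndependent F (Sum.elim w v) := by
  classical
  let Φ : Vec →ₗ[F] (Fin k → F) := LinearMap.pi fun i => Unitary.hlin q (w i)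
  have hsurj : Function.Surjective Φ := by
    rw [← LinearMap.range_eq_top]
    by_contra hne
    obtain ⟨f, hf0, hf⟩ := Submodule.exists_dual_map_eq_bot_of_lt_top (lt_top_iff_ne_top.2 hne)
      inferInstance
    have hfΦ : ∀ v, f (Φ v) = 0 := fun v => by
      have : f (Φ v) ∈ (LinearMap.range Φ).map f := ⟨Φ v, ⟨v, rfl⟩, rfl⟩
      rwa [hf, Submodule.mem_bot] at this
    set c : Fin k → F := fun i => f (Pi.single i 1) with hc
    have hfc : ∀ y : Fin k → F, f y = ∑ i, y i * c i := by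
      intro y
      conv_lhs => rw [pi_eq_sum_univ' y]
      rw [map_sum]
      exact Finset.sum_congr rfl fun i _ => by
        rw [map_smul, smul_eq_mul, hc]
    have h0 : ∑ i, (c i ^ q) • w i = 0 := by
      rw [← neg_eq_zero]
      refine Unitary.eq_zero_of_H hF fun v => ?_
      rw [Unitary.H_neg_left, neg_eq_zero, ← Unitary.H_conj hF v, Unitary.H_sum_right hF]
      have : ∑ i, H v ((c i ^ q) • w i) = f (Φ v) := by
        rw [hfc]
        exact Finset.sum_congr rfl fun i _ => by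
          rw [Unitary.H_smul_right, Unitary.pow_qq hF, mul_comm]; rfl
      rw [this, hfΦ, zero_pow (Unitary.q_ne_zero hF)]
    have hc0 : ∀ i, c i = 0 := fun i => by
      have h := Fintype.linearIndependent_iff.1 hli _ h0 i
      exact eq_zero_of_pow_eq_zero h
    exact hf0 (LinearMap.ext fun y => by rw [hfc]; simp [hc0])
  choose v hv using fun j => hsurj (Pi.single j 1)
  have hvw : ∀ j i, H (v j) (w i) = if j = i then 1 else 0 := fun j i => by
    have h := congrFun (hv j) i
    rw [Pi.single_apply] at h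
    simpa [Φ, eq_comm] using h
  refine ⟨v, hvw, ?_⟩
  rw [Fintype.linearIndependent_iff]
  intro g hg
  rw [Fintype.sum_sum_type] at hg
  simp only [Sum.elim_inl, Sum.elim_inr] at hg
  have hr : ∀ i, g (Sum.inr i) = 0 := fun i => by
    have h := congrArg (fun z => H z (w i)) hg
    simp only [Unitary.H_add_left, Unitary.H_sum_left, Unitary.H_smul_left, hiso, hvw,
      Unitary.H_zero_left, mul_zero, Finset.sum_const_zero, zero_add, mul_ite, mul_one,
      Finset.sum_ite_eq', Finset.mem_univ, if_true] at h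
    exact h
  have hl : ∀ i, g (Sum.inl i) = 0 := by
    refine Fintype.linearIndependent_iff.1 hli _ ?_
    simpa [hr] using hg
  exact fun i => i.casesOn hl hr

omit hF

/-- The main structural statement. -/
theorem scalar_power {m : ℕ} (hF : Fintype.card F = q ^ 2) (hn : n = 2 * m) (hm : 2 ≤ m) {r : ℕ}
    (hr : r.Prime) {c : ℕ} [CharP F c]
    (hord : orderOf ((q : ZMod r) ^ 2) = m) (hneg : ∀ i : ℕ, (q : ZMod r) ^ (2 * i) ≠ -(q : ZMod r))
    {a x : Mat} (ha : a ^ r = 1) (ha1 : a ≠ 1) (hc : Commute x a)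
    (hpa : ∀ u v, H (a *ᵥ u) (a *ᵥ v) = H u v) (hpx : ∀ u v, H (x *ᵥ u) (x *ᵥ v) = H u v)
    (hdx : x.det = 1) {j d : ℕ} (hjd : j * d = (q ^ (2 * m) - 1) / (q + 1)) (hd : d ∣ q + 1) :
    ∃ s : F, (x ^ j) ^ c = s • (1 : Mat) := by
  classical
  subst hn
  haveI := Fact.mk hr
  haveI : Fact c.Prime := ⟨CharP.char_is_prime F c⟩
  have hq1 : 1 < q := HermStd.one_lt_q hF
  have hqr : ((q : ℕ) : ZMod r) ≠ 0 := fun h => by
    rw [h, zero_pow two_ne_zero, orderOf_zero] at hord
    omega
  have hcop : c.Coprime r := by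
    obtain ⟨f, -, hf⟩ := FiniteField.card F c
    refine (Nat.coprime_primes Fact.out hr).2 fun e => hqr ?_
    rw [ZMod.natCast_eq_zero_iff, ← e]
    exact (Fact.out : c.Prime).dvd_of_dvd_pow (hF ▸ hf ▸ dvd_pow_self c f.pos.ne')
  obtain ⟨f, -, hf⟩ := FiniteField.card F c
  -- an irreducible constituent of degree m
  have hint : IsIntegral F a := IsIntegral.of_finite F a
  have haeval : aeval a (X ^ r - 1 : F[X]) = 0 := by simp [ha]
  have hdvd : minpoly F a ∣ cyclotomic r F * (X - 1) := by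
    rw [cyclotomic_prime_mul_X_sub_one]; exact minpoly.dvd F a haeval
  obtain ⟨p0, hp0, hp01, hp02⟩ : ∃ p : F[X], Irreducible p ∧ p ∣ minpoly F a ∧ p ∣ cyclotomic r F := by
    by_contra hno
    push Not at hno
    have hco : IsCoprime (minpoly F a) (cyclotomic r F) :=
      isCoprime_of_irreducible_dvd (fun h => minpoly.ne_zero hint h.1) (fun z hz h1 => hno z hz h1)
    have h3 : aeval a (X - 1 : F[X]) = 0 := (minpoly.dvd_iff).1 (hco.dvd_of_dvd_mul_left hdvd)
    exact ha1 (by simpa [sub_eq_zero] using h3)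
  set p := p0 * C p0.leadingCoeff⁻¹ with hpdef
  have hass : Associated p0 p :=
    associated_mul_unit_right _ _ (isUnit_C.2 (IsUnit.mk0 _ (inv_ne_zero (leadingCoeff_ne_zero.2 hp0.ne_zero))))
  have hp : Irreducible p := hass.irreducible hp0
  have hmon : p.Monic := monic_mul_leadingCoeff_inv hp0.ne_zero
  have hp1 : p ∣ minpoly F a := hass.symm.dvd.trans hp01
  have hp2 : p ∣ cyclotomic r F := hass.symm.dvd.trans hp02
  have hdeg : p.natDegree = m := by
    rw [natDegree_of_dvd_cyclotomic_of_irreducible hf hcop hp2 hp, ← orderOf_units,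
      ZMod.coe_unitOfCoprime, ← hf, hF, Nat.cast_pow, hord]
  haveI := Fact.mk hp
  haveI : Module.Finite F (AdjoinRoot p) := (AdjoinRoot.powerBasis hp.ne_zero).finite
  haveI : Finite (AdjoinRoot p) := Module.finite_of_finite F
  have hfin : Module.finrank F (AdjoinRoot p) = m := by
    rw [(AdjoinRoot.powerBasis hp.ne_zero).finrank, AdjoinRoot.powerBasis_dim, hdeg]
  have hKcard : Nat.card (AdjoinRoot p) = q ^ (2 * m) := by
    rw [Module.natCard_eq_pow_finrank (K := F), hfin, Nat.card_eq_fintype_card, hF, pow_mul]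
  set ζ := AdjoinRoot.root p with hζdef
  have hζr : ζ ^ r = 1 := by
    have h : p ∣ X ^ r - 1 := hp2.trans (by rw [← cyclotomic_prime_mul_X_sub_one F r]; exact dvd_mul_right _ _)
    have h2 := AdjoinRoot.mk_eq_zero.2 h
    simpa [sub_eq_zero] using h2
  have hζ1 : ζ ≠ 1 := fun h => by
    have h2 : p ∣ X - C 1 := AdjoinRoot.mk_eq_zero.1 (by simp [← hζdef, h])
    have := natDegree_le_of_dvd h2 (X_sub_C_ne_zero 1)
    rw [natDegree_X_sub_C, hdeg] at this
    omega
  -- the kernel is totally isotropic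
  have hb : a * a ^ (r - 1) = 1 := by rw [← pow_succ', Nat.sub_add_cancel hr.one_le, ha]
  have hnotroot : aeval (ζ ^ (r - 1)) (p.map (HermStd.qHom hF)) ≠ 0 := by
    intro h0
    haveI : CharP (AdjoinRoot p) c := charP_of_injective_algebraMap (algebraMap F (AdjoinRoot p)).injective c
    obtain ⟨i, -, hi⟩ := (Nat.dvd_prime_pow (Fact.out : c.Prime)).1
      (show q ∣ c ^ (f : ℕ) from hf ▸ hF ▸ dvd_pow_self q two_ne_zero)
    have h1 := congrArg (iterateFrobenius (AdjoinRoot p) c i) h0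
    rw [map_zero, aeval_def, eval₂_map, hom_eval₂] at h1
    have hcomp : (iterateFrobenius (AdjoinRoot p) c i).comp
        ((algebraMap F (AdjoinRoot p)).comp (HermStd.qHom hF)) = algebraMap F (AdjoinRoot p) := by
      ext s
      rw [RingHom.comp_apply, RingHom.comp_apply, HermStd.qHom_apply, iterateFrobenius_def, ← hi,
        ← map_pow, HermStd.pow_q_q hF]
    rw [hcomp, iterateFrobenius_def, ← hi, ← pow_mul, ← aeval_def] at h1
    let σ : AdjoinRoot p →ₐ[F] AdjoinRoot p :=
      AdjoinRoot.liftAlgHom p (Algebra.ofId F _) (ζ ^ ((r - 1) * q)) h1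
    obtain ⟨k, hk⟩ := (FiniteField.bijective_frobeniusAlgEquivOfAlgebraic_pow F (AdjoinRoot p)).2
      (AlgEquiv.ofBijective σ (Finite.injective_iff_bijective.1 σ.toRingHom.injective))
    have h2 := congrArg (fun e : AdjoinRoot p ≃ₐ[F] AdjoinRoot p => e ζ) hk
    simp only [AlgEquiv.coe_pow, FiniteField.coe_frobeniusAlgEquivOfAlgebraic, pow_iterate,
      AlgEquiv.ofBijective_apply] at h2
    have hσζ : σ ζ = ζ ^ ((r - 1) * q) := AdjoinRoot.liftAlgHom_root _ _ _ _
    rw [hσζ] at h2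
    have hoζ : orderOf ζ = r := orderOf_eq_prime hζr hζ1
    have h3 := (IsOfFinOrder.pow_eq_pow_iff_modEq (orderOf_pos_iff.1 (hoζ ▸ hr.pos))).1 h2
    rw [hoζ, ← ZMod.natCast_eq_natCast_iff] at h3
    push_cast [hF, Nat.cast_sub hr.one_le] at h3
    rw [ZMod.natCast_self, zero_sub, neg_one_mul, ← pow_mul] at h3
    exact hneg _ h3
  set P1 := (p.map (HermStd.qHom hF)).comp (X ^ (r - 1)) with hP1
  have hP1a : aeval a P1 = aeval (a ^ (r - 1)) (p.map (HermStd.qHom hF)) := by
    rw [hP1, aeval_comp, map_pow, aeval_X]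
  have hcopP : IsCoprime p P1 := by
    rw [hp.coprime_iff_not_dvd]
    intro h
    apply hnotroot
    have h2 : aeval ζ P1 = 0 := by rw [hζdef, AdjoinRoot.aeval_eq]; exact AdjoinRoot.mk_eq_zero.2 h
    rwa [hP1, aeval_comp, map_pow, aeval_X] at h2
  obtain ⟨S, T, hST⟩ := hcopP
  have hkeriso : ∀ u v, aeval a p *ᵥ u = 0 → aeval a p *ᵥ v = 0 → Cfsg.hermForm (2 * m) F q u v = 0 := by
    intro u v hu hv
    have e : aeval a P1 *ᵥ (aeval a T *ᵥ v) = v := by
      have h := congrArg (fun P => aeval a P *ᵥ v) hST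
      simp only [map_add, map_mul, map_one, Matrix.add_mulVec, Matrix.one_mulVec, ← Matrix.mulVec_mulVec,
        hv, Matrix.mulVec_zero, zero_add] at h
      rw [Matrix.mulVec_mulVec, ← map_mul, mul_comm P1 T, map_mul, ← Matrix.mulVec_mulVec]
      exact h
    rw [← e, hP1a, ← adjoint_poly hF hb hpa, hu, Unitary.H_zero_left]
  -- the half W
  obtain ⟨v0, hv0, hv0p⟩ : ∃ v0 : Fin (2 * m) → F, v0 ≠ 0 ∧ aeval a p *ᵥ v0 = 0 := by
    obtain ⟨t, ht⟩ := hp1
    have hne : aeval a t ≠ 0 := fun h0 => by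
      have h1 := natDegree_le_of_dvd (minpoly.dvd F a h0)
        (fun e => minpoly.ne_zero hint (by rw [ht, e, mul_zero]))
      rw [ht, natDegree_mul hp.ne_zero (fun e => minpoly.ne_zero hint (by rw [ht, e, mul_zero])), hdeg] at h1
      omega
    obtain ⟨u, hu⟩ : ∃ u, aeval a t *ᵥ u ≠ 0 := by
      by_contra hall
      push Not at hall
      exact hne (Matrix.toLin'.injective (LinearMap.ext fun u => by simpa using hall u))
    refine ⟨_, hu, ?_⟩
    rw [Matrix.mulVec_mulVec, ← map_mul, ← ht, minpoly.aeval, Matrix.zero_mulVec]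
  let L0 : F[X] →ₗ[F] (Fin (2 * m) → F) :=
    { toFun := fun P => aeval a P *ᵥ v0
      map_add' := fun P Q => by rw [map_add, Matrix.add_mulVec]
      map_smul' := fun s P => by rw [map_smul, Matrix.smul_mulVec, RingHom.id_apply] }
  let e : AdjoinRoot p →ₗ[F] (Fin (2 * m) → F) := L0.comp (AdjoinRoot.modByMonicHom hmon)
  have hemk : ∀ P, e (AdjoinRoot.mk p P) = aeval a P *ᵥ v0 := fun P => by
    show aeval a (AdjoinRoot.modByMonicHom hmon (AdjoinRoot.mk p P)) *ᵥ v0 = _
    rw [AdjoinRoot.modByMonicHom_mk]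
    conv_rhs => rw [← Polynomial.modByMonic_add_div P p]
    rw [map_add, map_mul, Matrix.add_mulVec]
    have : (aeval a p * aeval a (P /ₘ p)) *ᵥ v0 = 0 := by
      rw [← map_mul, mul_comm p, map_mul, ← Matrix.mulVec_mulVec, hv0p, Matrix.mulVec_zero]
    rw [this, add_zero]
  have hemul : ∀ P k, e (AdjoinRoot.mk p P * k) = aeval a P *ᵥ e k := by
    intro P k
    obtain ⟨R, rfl⟩ := AdjoinRoot.mk_surjective k
    rw [← map_mul, hemk, hemk, map_mul, Matrix.mulVec_mulVec]
  have hinj : Function.Injective e := by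
    rw [← LinearMap.ker_eq_bot, LinearMap.ker_eq_bot']
    intro k hk
    by_contra hk0
    obtain ⟨R, hR⟩ := AdjoinRoot.mk_surjective k⁻¹
    have h1 : e (AdjoinRoot.mk p R * k) = v0 := by
      rw [hR, inv_mul_cancel₀ hk0, ← (AdjoinRoot.mk p).map_one, hemk, map_one, Matrix.one_mulVec]
    rw [hemul, hk, Matrix.mulVec_zero] at h1
    exact hv0 h1.symm
  let W : Submodule F (Fin (2 * m) → F) := LinearMap.ker (Matrix.toLin' (aeval a p))
  have hWmem : ∀ u, u ∈ W ↔ aeval a p *ᵥ u = 0 := fun u => by simp [W]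
  have hWe : LinearMap.range e = W := by
    refine Submodule.eq_of_le_of_finrank_le ?_ ?_
    · rintro _ ⟨k, rfl⟩
      obtain ⟨R, rfl⟩ := AdjoinRoot.mk_surjective k
      rw [hWmem, hemk, Matrix.mulVec_mulVec, ← map_mul, mul_comm p, map_mul, ← Matrix.mulVec_mulVec, hv0p,
        Matrix.mulVec_zero]
    · obtain ⟨v, -, hv⟩ := exists_dual hF
        ((Module.finBasis F W).linearIndependent.map' W.subtype W.ker_subtype)
        (fun i j => hkeriso _ _ ((hWmem _).1 (Module.finBasis F W i).2) ((hWmem _).1 (Module.finBasis F W j).2))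
      have h := hv.fintype_card_le_finrank
      rw [Fintype.card_sum, Fintype.card_fin, Module.finrank_fin_fun] at h
      rw [LinearMap.finrank_range_of_inj hinj, hfin]
      omega
  let bK : Module.Basis (Fin m) F (AdjoinRoot p) := Module.finBasisOfFinrankEq F _ hfin
  set w : Fin m → Fin (2 * m) → F := fun i => e (bK i) with hw
  have hwW : ∀ i, w i ∈ W := fun i => hWe ▸ LinearMap.mem_range_self e (bK i)
  have hisoW : ∀ u ∈ W, ∀ v ∈ W, Cfsg.hermForm (2 * m) F q u v = 0 := fun u hu v hv =>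
    hkeriso u v ((hWmem u).1 hu) ((hWmem v).1 hv)
  obtain ⟨v, hvw, hli⟩ := exists_dual hF (w := w) (bK.linearIndependent.map' e (LinearMap.ker_eq_bot.2 hinj))
    (fun i j => hisoW _ (hwW i) _ (hwW j))
  let B : Module.Basis (Fin m ⊕ Fin m) F (Fin (2 * m) → F) :=
    basisOfLinearIndependentOfCardEqFinrank' _ hli (by simp [two_mul])
  have hBl : ∀ i, B (Sum.inl i) = w i := fun i => by simp [B]
  have hBr : ∀ i, B (Sum.inr i) = v i := fun i => by simp [B]
  have hrepr : ∀ (u : Fin (2 * m) → F) (i : Fin m),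
      B.repr u (Sum.inr i) = Cfsg.hermForm (2 * m) F q u (w i) := by
    intro u i
    conv_rhs => rw [← B.sum_repr u]
    rw [Fintype.sum_sum_type, Unitary.H_add_left, Unitary.H_sum_left, Unitary.H_sum_left]
    simp [Unitary.H_smul_left, hBl, hBr, hvw, hisoW _ (hwW _) _ (hwW _)]
  have hperp : ∀ u, (∀ i, Cfsg.hermForm (2 * m) F q u (w i) = 0) → u ∈ W := by
    intro u hu
    rw [← B.sum_repr u, Fintype.sum_sum_type]
    refine W.add_mem (W.sum_mem fun i _ => W.smul_mem _ (hBl i ▸ hwW i)) (W.sum_mem fun i _ => ?_)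
    rw [hrepr, hu, zero_smul]; exact W.zero_mem
  -- x on W
  obtain ⟨k0, hk0⟩ : ∃ k0, e k0 = x *ᵥ v0 := by
    have hcp : Commute x (aeval a p) := by
      refine Algebra.commute_of_mem_adjoin_singleton_of_commute (R := F) ?_ hc
      exact Polynomial.aeval_mem_adjoin_singleton F a
    have : x *ᵥ v0 ∈ LinearMap.range e := by
      rw [hWe, hWmem, Matrix.mulVec_mulVec, ← hcp.eq, ← Matrix.mulVec_mulVec, hv0p, Matrix.mulVec_zero]
    exact this
  have hxe : ∀ k, x *ᵥ e k = e (k * k0) := by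
    intro k
    obtain ⟨R, rfl⟩ := AdjoinRoot.mk_surjective k
    have hcp : Commute x (aeval a R) :=
      Algebra.commute_of_mem_adjoin_singleton_of_commute (R := F) (Polynomial.aeval_mem_adjoin_singleton F a) hc
    rw [hemul, hk0, hemk, Matrix.mulVec_mulVec, Matrix.mulVec_mulVec, hcp.eq]
  -- the determinant
  set A := Algebra.leftMulMatrix bK k0 with hA
  have hxw : ∀ i, x *ᵥ w i = ∑ l, A l i • w l := by
    intro i
    rw [hw]; simp only
    rw [hxe, mul_comm (bK i), ← bK.sum_repr (k0 * bK i), map_sum]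
    exact Finset.sum_congr rfl fun l _ => by rw [map_smul, hA, Algebra.leftMulMatrix_eq_repr_mul]
  set M := LinearMap.toMatrix B B (Matrix.toLin' x) with hM
  have hM11 : M.toBlocks₁₁ = A := by
    ext l i
    rw [Matrix.toBlocks₁₁, Matrix.of_apply, hM, LinearMap.toMatrix_apply, hBl, Matrix.toLin'_apply, hxw,
      map_sum, Finset.sum_apply']
    simp [← hBl, Finsupp.single_apply]
  have hM21 : M.toBlocks₂₁ = 0 := by
    ext l i
    rw [Matrix.toBlocks₂₁, Matrix.of_apply, hM, LinearMap.toMatrix_apply, hBl, Matrix.toLin'_apply, hrepr,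
      Matrix.zero_apply]
    refine hisoW _ ?_ _ (hwW l)
    rw [← hWe]; exact ⟨_, (hxe _).symm⟩
  have hD : (M.toBlocks₂₂)ᵀ * A.map (HermStd.qHom hF) = 1 := by
    ext jj i
    rw [Matrix.mul_apply, Matrix.one_apply, ← hvw jj i]
    conv_rhs => rw [← hpx, hxw, Unitary.H_sum_right hF]
    refine Finset.sum_congr rfl fun l _ => ?_
    rw [Unitary.H_smul_right, Matrix.transpose_apply, Matrix.toBlocks₂₂, Matrix.of_apply, hM,
      LinearMap.toMatrix_apply, hBr, Matrix.toLin'_apply, hrepr, Matrix.map_apply, HermStd.qHom_apply, mul_comm]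
  set ν := Algebra.norm F k0 with hν
  have hAdet : A.det = ν := (Algebra.norm_eq_matrix_det bK k0).symm
  have hdetD : M.toBlocks₂₂.det * ν ^ q = 1 := by
    have h := congrArg Matrix.det hD
    rwa [Matrix.det_mul, Matrix.det_transpose, Matrix.det_one, ← RingHom.mapMatrix_apply,
      ← RingHom.map_det, hAdet, HermStd.qHom_apply] at h
  have hdetM : ν * M.toBlocks₂₂.det = 1 := by
    rw [← hAdet, ← hM11, ← Matrix.det_fromBlocks_zero₂₁ M.toBlocks₁₁ M.toBlocks₁₂, ← hM21,
      Matrix.fromBlocks_toBlocks, hM, LinearMap.det_toMatrix, LinearMap.det_toLin', hdx]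
  have hνq : ν ^ (q - 1) = 1 := by
    have hν0 : ν ≠ 0 := left_ne_zero_of_mul (hdetM.trans_ne one_ne_zero)
    have hD0 : M.toBlocks₂₂.det ≠ 0 := right_ne_zero_of_mul (hdetM.trans_ne one_ne_zero)
    have h : ν ^ q = ν := mul_left_cancel₀ hD0 (by rw [hdetD, mul_comm, hdetM])
    have h2 : ν ^ (q - 1) * ν = 1 * ν := by rw [one_mul, ← pow_succ, Nat.sub_add_cancel hq1.le, h]
    exact mul_right_cancel₀ hν0 h2
  have hk0pow : k0 ^ (j * d) = 1 := by
    have e1 : (q ^ (2 * m) - 1) / (q + 1) = (q ^ (2 * m) - 1) / (q ^ 2 - 1) * (q - 1) := by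
      refine Nat.div_eq_of_eq_mul_left (by omega) ?_
      rw [mul_assoc, show (q - 1) * (q + 1) = q ^ 2 - 1 by
        rw [mul_comm]; simpa using (Nat.sq_sub_sq q 1).symm]
      exact (Nat.div_mul_cancel (by rw [pow_mul]; exact Nat.sub_one_dvd_pow_sub_one (q ^ 2) m)).symm
    have h := FiniteField.algebraMap_norm_eq_pow (K := F) (x := k0)
    rw [hKcard, Nat.card_eq_fintype_card, hF] at h
    rw [hjd, e1, pow_mul, ← h, ← hν, ← map_pow, hνq, map_one]
  -- roots of unity of order d lie in F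
  have hd0 : 0 < d := Nat.pos_of_dvd_of_pos hd (by omega)
  haveI : NeZero d := ⟨hd0.ne'⟩
  obtain ⟨ζd, hζd⟩ : ∃ z : F, IsPrimitiveRoot z d := by
    obtain ⟨u, hu⟩ := IsCyclic.exists_generator (α := Fˣ)
    have ho : orderOf u = (q - 1) * (q + 1) := by
      rw [orderOf_eq_card_of_forall_mem_zpowers hu, Unitary.natCard_units_F hF]
    obtain ⟨t, ht⟩ := hd.trans (dvd_mul_left (q + 1) (q - 1))
    exact ⟨((u ^ t : Fˣ) : F), IsPrimitiveRoot.coe_units_iff.2
      ((ho ▸ IsPrimitiveRoot.orderOf u).pow (Nat.mul_pos (by omega) (by omega)) (ht.trans (mul_comm d t)))⟩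
  obtain ⟨i0, -, hi0⟩ := (hζd.map_of_injective (algebraMap F (AdjoinRoot p)).injective).eq_pow_of_pow_eq_one
    (show (k0 ^ j) ^ d = 1 by rw [← pow_mul, hk0pow])
  set s := ζd ^ i0 with hsdef
  have hk0j : k0 ^ j = algebraMap F (AdjoinRoot p) s := by rw [hsdef, map_pow, hi0]
  have hs : s * s ^ q = 1 := by
    obtain ⟨t, ht⟩ := hd
    rw [← pow_succ', hsdef, ← pow_mul, mul_comm, pow_mul, ht, pow_mul, hζd.pow_eq_one, one_pow, one_pow]
  have hxj : ∀ u ∈ W, (x ^ j) *ᵥ u = s • u := by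
    intro u hu
    obtain ⟨k, rfl⟩ : ∃ k, e k = u := by rw [← hWe] at hu; exact hu
    have hpow : ∀ l, (x ^ l) *ᵥ e k = e (k * k0 ^ l) := by
      intro l
      induction l with
      | zero => simp
      | succ l ih => rw [pow_succ', ← Matrix.mulVec_mulVec, ih, hxe, pow_succ, mul_assoc]
    rw [hpow, hk0j, mul_comm k, ← Algebra.smul_def, map_smul]
  have hpxj : ∀ u v, Cfsg.hermForm (2 * m) F q ((x ^ j) *ᵥ u) ((x ^ j) *ᵥ v) = Cfsg.hermForm (2 * m) F q u v := by
    intro u v
    clear hjd hk0pow hi0 hk0j hxj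
    induction j with
    | zero => simp
    | succ l ih => rw [pow_succ', ← Matrix.mulVec_mulVec, ← Matrix.mulVec_mulVec, hpx, ih]
  set N := x ^ j - s • (1 : Matrix (Fin (2 * m)) (Fin (2 * m)) F) with hN
  have hNW : ∀ u ∈ W, N *ᵥ u = 0 := fun u hu => by
    rw [hN, Matrix.sub_mulVec, hxj u hu, Matrix.smul_mulVec, Matrix.one_mulVec, sub_self]
  have hNimg : ∀ u, N *ᵥ u ∈ W := by
    intro u
    refine hperp _ fun i => ?_
    rw [hN, Matrix.sub_mulVec, Matrix.smul_mulVec, Matrix.one_mulVec, Unitary.H_sub_left, Unitary.H_smul_left]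
    have h := hpxj u (w i)
    rw [hxj _ (hwW i), Unitary.H_smul_right] at h
    have h2 : Cfsg.hermForm (2 * m) F q ((x ^ j) *ᵥ u) (w i) =
        s * (s ^ q * Cfsg.hermForm (2 * m) F q ((x ^ j) *ᵥ u) (w i)) := by rw [← mul_assoc, hs, one_mul]
    rw [h2, h, sub_self]
  have hN2 : N ^ 2 = 0 := Matrix.toLin'.injective (LinearMap.ext fun u => by
    simp [sq, ← Matrix.mulVec_mulVec, hNW _ (hNimg u)])
  refine ⟨s ^ c, ?_⟩
  have hx' : x ^ j = N + s • (1 : Matrix (Fin (2 * m)) (Fin (2 * m)) F) := by rw [hN, sub_add_cancel]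
  haveI : Nonempty (Fin (2 * m)) := ⟨⟨0, by omega⟩⟩
  rw [hx', add_pow_char_of_commute _ ((Commute.one_right N).smul_right s), _root_.smul_pow, one_pow,
    pow_eq_zero_of_le (Fact.out : c.Prime).two_le hN2, zero_add]

end Cfsg.Agent.Classical.UnitaryHalfTorus
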