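import Mathlib
import Cfsg.Agent.Lib.Classical.UnitaryTwoGenMain

/-!
# The projective special unitary group is generated by two elements
-/

set_option autoImplicit false
set_option linter.unusedSectionVars false

namespace Cfsg.Agent.Classical.UnitaryTwoGen

open Cfsg.Agent.Classical.TwoGenExtract

variable {F : Type*} [Field F] [Fintype F] {q : ℕ}

theorem two_gen_PSU (hq : IsPrimePow q) (hF : Fintype.card F = q ^ 2) (n : ℕ) (hn : 3 ≤ n)
    (h32 : n = 3 → q ≠ 2) :
    ∃ a b : Cfsg.PSU n F q, Subgroup.closure ({a, b} : Set (Cfsg.PSU n F q)) = ⊤ := by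
  classical
  obtain ⟨N, rfl⟩ : ∃ N, n = 2 + N := ⟨n - 2, by omega⟩
  have hq2 : 2 ≤ q := hq.two_le
  have hsq : 4 ≤ q ^ 2 := by nlinarith
  obtain ⟨k, hk⟩ := IsCyclic.exists_generator (α := Fˣ)
  have hord : orderOf k = q ^ 2 - 1 := by
    rw [orderOf_eq_card_of_forall_mem_zpowers hk, Nat.card_units, Nat.card_eq_fintype_card, hF]
  have hkj : ∀ j : ℕ, (k : F) ^ j = 1 ↔ q ^ 2 - 1 ∣ j := fun j => by
    rw [← hord, orderOf_dvd_iff_pow_eq_one, ← Units.val_pow_eq_pow_val, Units.val_eq_one]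
  have hk0 : (k : F) ≠ 0 := k.ne_zero
  have hkqq : ((k : F) ^ q) ^ q = k := by
    rw [← pow_mul, ← sq, ← hF, FiniteField.pow_card]
  have hkN : (k : F) ^ (q ^ 2 - 1) = 1 := (hkj _).2 dvd_rfl
  have hk1 : (k : F) ≠ 1 := fun h => by
    have := Nat.le_of_dvd one_pos ((hkj 1).1 (by rw [pow_one, h]))
    omega
  obtain ⟨P⟩ := exists_pair hF (N := N)
  have h32' : ¬ (2 + N = 3 ∧ q = 2) := fun h => h32 h.1 h.2
  suffices ∃ x y : Cfsg.SU (2 + N) F q, Subgroup.closure ({x, y} : Set (Cfsg.SU (2 + N) F q)) = ⊤ by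
    obtain ⟨x, y, hxy⟩ := this
    exact exists_quot _ hxy
  by_cases hq3 : q = 2
  · subst hq3
    have hN : 2 ≤ N := by omega
    have hk3 : (k : F) ^ 3 = 1 := by simpa using hkN
    set d : Fin N → F := fun j => if (j : ℕ) ≤ 1 then (k : F) ^ 2 else 1 with hd
    set b : Fin N := ⟨1, by omega⟩
    have hσ : (finRotate N).symm b = ⟨0, by omega⟩ := by
      rw [Equiv.symm_apply_eq]
      obtain ⟨m, rfl⟩ : ∃ m, N = m + 1 := ⟨N - 1, by omega⟩
      ext
      rw [finRotate_succ_apply, Fin.val_add_one_of_lt' (by simp only; omega)]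
    refine two_gen hF (by omega) h32' P hk0 d (fun j => ?_) ?_ b (fun j hj0 hj => ?_) ?_ ?_
    · simp only [hd]
      split_ifs
      · rw [← pow_mul, show 2 * (2 + 1) = 3 * 2 by rfl, pow_mul, hk3, one_pow]
      · exact one_pow _
    · have hprod : ∏ j, d j = (k : F) ^ 2 * (k : F) ^ 2 := by
        rw [hd, Finset.prod_ite, Finset.prod_const, Finset.prod_const_one, mul_one,
          show (Finset.univ.filter fun j : Fin N => (j : ℕ) ≤ 1) = {⟨0, by omega⟩, ⟨1, by omega⟩} by
            ext j; simp [Fin.ext_iff]; omega,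
          Finset.card_pair (by simp), sq ((k : F) ^ 2)]
      rw [hprod]
      field_simp
      linear_combination hk3
    · simp only [hd, b, le_refl, if_true]
      rw [show j = 1 by omega, pow_one, show (k : F) ^ 2 * k ^ 2 = k ^ 3 * k by ring, hk3, one_mul]
      exact hk1
    · simp only [hd, b, le_refl, if_true]
      rw [show (k : F) ^ 2 * k ^ 2 = k ^ 3 * k by ring, hk3, one_mul]
      exact hk1
    · simp only [hd, hσ, Nat.zero_le, if_true]
      rw [inv_pow, hkqq, sq, ← mul_assoc, inv_mul_cancel₀ hk0, one_mul]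
      exact hk1
  · have hq' : 3 ≤ q := by omega
    set b : Fin N := ⟨0, by omega⟩
    set d : Fin N → F := Function.update (fun _ => 1) b ((k : F) ^ (q - 1)) with hd
    have h2q : (k : F) ^ q * (k : F) ^ (q - 1) = (k : F) ^ (2 * q - 1) := by
      rw [← pow_add]; congr 1; omega
    have hno : ∀ j, 0 < j → j ≤ q - 1 → ¬ q ^ 2 - 1 ∣ (2 * q - 1) * j := by
      intro j hj0 hj hdvd
      have hz : ((q ^ 2 - 1 : ℕ) : ℤ) ∣ 3 * (j : ℤ) := by
        have h1 : ((q ^ 2 - 1 : ℕ) : ℤ) ∣ ((2 * q - 1 : ℕ) : ℤ) * j := by exact_mod_cast hdvd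
        have h2 := dvd_sub (h1.mul_left (2 * (q : ℤ) + 1)) ((dvd_refl ((q ^ 2 - 1 : ℕ) : ℤ)).mul_left (4 * (j : ℤ)))
        have e1 : ((q ^ 2 - 1 : ℕ) : ℤ) = (q : ℤ) ^ 2 - 1 := by
          rw [Nat.cast_sub (show 1 ≤ q ^ 2 by omega)]; push_cast; ring
        have e2 : ((2 * q - 1 : ℕ) : ℤ) = 2 * (q : ℤ) - 1 := by omega
        rw [e1, e2] at h2
        rw [e1]
        rwa [show (2 * (q : ℤ) + 1) * ((2 * (q : ℤ) - 1) * j) - 4 * (j : ℤ) * ((q : ℤ) ^ 2 - 1) = 3 * j by ring] at h2
      have hle := Int.le_of_dvd (by omega) hz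
      have h9 : 3 * q ≤ q ^ 2 := by nlinarith
      omega
    refine two_gen hF (by omega) h32' P hk0 d (fun j => ?_) ?_ b (fun j hj0 hj => ?_) ?_ ?_
    · rw [hd, Function.update_apply]
      split_ifs
      · rw [← pow_mul, show (q - 1) * (q + 1) = q ^ 2 - 1 by
          rw [mul_comm, ← Nat.sq_sub_sq, one_pow], hkN]
      · exact one_pow _
    · rw [hd, Finset.prod_update_of_mem (Finset.mem_univ _), Finset.prod_const_one, mul_one,
        mul_comm (k : F), mul_assoc, ← pow_succ', show q - 1 + 1 = q by omega,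
        inv_mul_cancel₀ (pow_ne_zero _ hk0)]
    · rw [hd, Function.update_self, h2q, ← pow_mul, Ne, hkj]
      exact hno j hj0 hj
    · rw [hd, Function.update_self, h2q, Ne, hkj]
      intro h
      exact hno 1 one_pos (by omega) (by rwa [mul_one])
    · rw [inv_pow, hkqq, hd, Function.update_apply]
      split_ifs
      · intro h
        rw [inv_mul_eq_one₀ hk0] at h
        have e : (k : F) ^ (q - 2) = 1 := by
          have e1 : (k : F) ^ (q - 1) = k ^ (q - 2) * k := by
            rw [← pow_succ]; congr 1; omega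
          rw [e1] at h
          exact mul_right_cancel₀ hk0 (by rw [one_mul]; exact h.symm)
        have h1 := Nat.le_of_dvd (by omega) ((hkj _).1 e)
        have h9 : 3 * q ≤ q ^ 2 := by nlinarith
        omega
      · rw [mul_one, Ne, inv_eq_one]
        exact hk1

end Cfsg.Agent.Classical.UnitaryTwoGen
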