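import Mathlib

/-!
# The exterior square of a four-dimensional space as alternating matrices
-/

set_option autoImplicit false
set_option linter.unusedSimpArgs false

namespace Cfsg.Agent.Classical.Wedge

open Matrix

variable {F : Type*} [Field F]

local notation "Mat4" => Matrix (Fin 4) (Fin 4) F

/-- The alternating matrix with the given six coordinates. -/
def altMat (x : Fin 6 → F) : Mat4 :=
  !![0, x 0, x 1, x 2; -x 0, 0, x 3, x 4; -x 1, -x 3, 0, x 5; -x 2, -x 4, -x 5, 0]

/-- The six coordinates above the diagonal. -/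
def coords (Y : Mat4) : Fin 6 → F := ![Y 0 1, Y 0 2, Y 0 3, Y 1 2, Y 1 3, Y 2 3]

/-- The Pfaffian. -/
def pf (x : Fin 6 → F) : F := x 0 * x 5 - x 1 * x 4 + x 2 * x 3

/-- The complementary coordinates. -/
def dual (x : Fin 6 → F) : Fin 6 → F := ![x 5, -x 4, x 3, x 2, -x 1, x 0]

theorem coords_altMat (x : Fin 6 → F) : coords (altMat x) = x := by
  funext i; fin_cases i <;> simp [coords, altMat]

theorem altMat_injective : Function.Injective (altMat (F := F)) := fun x y h => by
  rw [← coords_altMat x, h, coords_altMat]

theorem altMat_add (x y : Fin 6 → F) : altMat (x + y) = altMat x + altMat y := by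
  ext i j; fin_cases i <;> fin_cases j <;> simp [altMat] <;> ring

theorem altMat_smul (c : F) (x : Fin 6 → F) : altMat (c • x) = c • altMat x := by
  ext i j; fin_cases i <;> fin_cases j <;> simp [altMat]

/-- The action of a matrix on the exterior square. -/
def wedge (g : Mat4) : Module.End F (Fin 6 → F) where
  toFun x := coords (g * altMat x * gᵀ)
  map_add' x y := by
    funext i
    rw [altMat_add, mul_add, add_mul]
    fin_cases i <;> simp [coords]
  map_smul' c x := by
    funext i
    rw [altMat_smul, Matrix.mul_smul, Matrix.smul_mul]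
    fin_cases i <;> simp [coords]

theorem altMat_transpose (x : Fin 6 → F) : (altMat x)ᵀ = -altMat x := by
  ext i j; fin_cases i <;> fin_cases j <;> simp [altMat]

theorem altMat_self (x : Fin 6 → F) (v : Fin 4 → F) : v ⬝ᵥ (altMat x *ᵥ v) = 0 := by
  simp [altMat, dotProduct, Matrix.mulVec, Fin.sum_univ_four]
  ring

theorem altMat_coords (Y : Mat4) (hd : ∀ i, Y i i = 0) (ht : ∀ i j, Y j i = -Y i j) :
    altMat (coords Y) = Y := by
  ext i j
  fin_cases i <;> fin_cases j <;> simp [coords, altMat, hd] <;> exact (ht _ _).symm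

theorem altMat_wedge (g : Mat4) (x : Fin 6 → F) : altMat (wedge g x) = g * altMat x * gᵀ := by
  refine altMat_coords _ (fun i => ?_) (fun i j => ?_)
  · rw [Matrix.mul_assoc]
    have h : (g * (altMat x * gᵀ)) i i = g i ⬝ᵥ (altMat x *ᵥ g i) := rfl
    rw [h, altMat_self]
  · have h : (g * altMat x * gᵀ)ᵀ = -(g * altMat x * gᵀ) := by
      rw [transpose_mul, transpose_mul, transpose_transpose, altMat_transpose, Matrix.neg_mul,
        Matrix.mul_neg, Matrix.mul_assoc]
    exact congrFun (congrFun h i) j

theorem wedge_one : wedge (1 : Mat4) = 1 :=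
  LinearMap.ext fun x => altMat_injective (by rw [altMat_wedge]; simp)

theorem wedge_mul (g h : Mat4) : wedge (g * h) = wedge g * wedge h :=
  LinearMap.ext fun x => altMat_injective (by
    rw [altMat_wedge, Module.End.mul_apply, altMat_wedge, altMat_wedge, transpose_mul]
    simp only [Matrix.mul_assoc])

theorem wedge_smul_one (c : F) (x : Fin 6 → F) : wedge (c • (1 : Mat4)) x = c ^ 2 • x :=
  altMat_injective (by
    rw [altMat_wedge, altMat_smul, transpose_smul, transpose_one, Matrix.smul_mul, Matrix.one_mul,
      Matrix.mul_smul, Matrix.mul_one, smul_smul, sq])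

theorem pf_wedge (g : Mat4) (x : Fin 6 → F) : pf (wedge g x) = g.det * pf x := by
  simp only [pf, wedge, coords, altMat, LinearMap.coe_mk, AddHom.coe_mk]
  simp [Matrix.mul_apply, Matrix.det_succ_row_zero, Fin.sum_univ_succ,
    Fin.succAbove]
  ring

set_option maxHeartbeats 4000000 in
theorem dual_wedge (g : Mat4) (x : Fin 6 → F) :
    gᵀ * altMat (dual (wedge g x)) * g = g.det • altMat (dual x) := by
  ext i j
  fin_cases i <;> fin_cases j <;>
    simp [wedge, dual, coords, altMat, Matrix.mul_apply,
      Matrix.det_succ_row_zero, Fin.sum_univ_succ, Fin.succAbove] <;> ring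

end Cfsg.Agent.Classical.Wedge
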